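/-
An abelian `2`-group whose automorphisms are transitive on involutions is homocyclic.
-/
import Mathlib.GroupTheory.FiniteAbelian.Basic
import Mathlib.GroupTheory.PGroup
import Mathlib.Data.ZMod.Basic

set_option autoImplicit false

namespace Cfsg.Agent.Lib.FpfHeight.Homocyclic

theorem exists_equiv_pow {A : Type*} [CommGroup A] [Finite A] (hA : IsPGroup 2 A)
    (htrans : ∀ x y : A, x ≠ 1 → x ^ 2 = 1 → y ≠ 1 → y ^ 2 = 1 → ∃ φ : MulAut A, φ x = y) :
    ∃ m r : ℕ, Nonempty (A ≃* (Fin r → Multiplicative (ZMod (2 ^ m)))) := by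
  classical
  obtain ⟨ι, _, n, hn1, ⟨e⟩⟩ := CommGroup.equiv_prod_multiplicative_zmod_of_finite A
  have hpow : ∀ i, ∃ m, n i = 2 ^ (m + 1) := by
    intro i
    have hP : IsPGroup 2 ((j : ι) → Multiplicative (ZMod (n j))) := hA.of_equiv e
    obtain ⟨a, ha⟩ := hP (Pi.mulSingle i (Multiplicative.ofAdd 1))
    have h : (Multiplicative.ofAdd (1 : ZMod (n i))) ^ 2 ^ a = 1 := by
      have := congrFun ha i
      simpa using this
    have h2 : n i ∣ 2 ^ a := by
      rw [← ofAdd_nsmul, nsmul_one, ofAdd_eq_one] at h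
      exact (ZMod.natCast_eq_zero_iff _ _).mp h
    obtain ⟨b, -, hb⟩ := (Nat.dvd_prime_pow Nat.prime_two).mp h2
    have hb0 : b ≠ 0 := fun h0 => by have := hn1 i; rw [hb, h0, pow_zero] at this; omega
    exact ⟨b - 1, by rw [hb, Nat.sub_add_cancel (Nat.pos_of_ne_zero hb0)]⟩
  choose m hm using hpow
  have heq : ∀ i j, m i = m j := by
    by_contra hne
    push_neg at hne
    obtain ⟨i, j, hij⟩ : ∃ i j, m i < m j := by
      obtain ⟨i, j, h⟩ := hne
      rcases Nat.lt_or_gt_of_ne h with h | h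
      exacts [⟨i, j, h⟩, ⟨j, i, h⟩]
    let z : ι → ((l : ι) → Multiplicative (ZMod (n l))) := fun l =>
      Pi.mulSingle l ((Multiplicative.ofAdd 1) ^ 2 ^ m l)
    have hz : ∀ l, z l ≠ 1 ∧ z l ^ 2 = 1 := by
      intro l
      constructor
      · intro h
        have h' := congrFun h l
        simp only [z, Pi.mulSingle_eq_same, Pi.one_apply] at h'
        rw [← ofAdd_nsmul, nsmul_one, ofAdd_eq_one, ZMod.natCast_eq_zero_iff, hm l] at h'
        have := Nat.le_of_dvd (by positivity) h'
        rw [pow_succ] at this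
        have : 0 < 2 ^ m l := by positivity
        omega
      · simp only [z]
        rw [← Pi.mulSingle_pow, ← pow_mul, ← pow_succ, ← hm l, ← ofAdd_nsmul, nsmul_one,
          ZMod.natCast_self, ofAdd_zero, Pi.mulSingle_one]
    obtain ⟨φ, hφ⟩ := htrans (e.symm (z j)) (e.symm (z i))
      (fun h => (hz j).1 (by simpa using h)) (by rw [← map_pow, (hz j).2, map_one])
      (fun h => (hz i).1 (by simpa using h)) (by rw [← map_pow, (hz i).2, map_one])
    set u : (l : ι) → Multiplicative (ZMod (n l)) := Pi.mulSingle j (Multiplicative.ofAdd 1)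
    have hroot : (e (φ (e.symm u))) ^ 2 ^ m j = z i := by
      rw [← map_pow, ← map_pow, ← map_pow, ← Pi.mulSingle_pow]
      change e (φ (e.symm (z j))) = z i
      rw [hφ, e.apply_symm_apply]
    refine (hz i).1 ?_
    rw [← hroot]
    refine funext fun l => ?_
    rcases eq_or_ne l i with rfl | hl
    · rw [Pi.pow_apply, Pi.one_apply, ← ofAdd_toAdd ((e (φ (e.symm u))) l), ← ofAdd_nsmul,
        ofAdd_eq_one, nsmul_eq_mul]
      have : ((2 ^ m j : ℕ) : ZMod (n l)) = 0 :=
        (ZMod.natCast_eq_zero_iff _ _).mpr (hm l ▸ pow_dvd_pow 2 hij)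
      rw [this, zero_mul]
    · rw [hroot, Pi.one_apply]
      exact Pi.mulSingle_eq_of_ne hl _
  obtain ⟨M, hM⟩ : ∃ M, ∀ i, n i = 2 ^ M := by
    rcases isEmpty_or_nonempty ι with h | ⟨⟨i₀⟩⟩
    · exact ⟨0, fun i => isEmptyElim i⟩
    · exact ⟨m i₀ + 1, fun i => by rw [hm i, heq i i₀]⟩
  obtain rfl : n = fun _ => 2 ^ M := funext hM
  let f := Fintype.equivFin ι
  exact ⟨M, Fintype.card ι, ⟨e.trans
    { toFun := fun g l => g (f.symm l)
      invFun := fun g l => g (f l)
      left_inv := fun g => funext fun l => by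
        change g (f.symm (f l)) = g l
        rw [f.symm_apply_apply]
      right_inv := fun g => funext fun l => by
        change g (f (f.symm l)) = g l
        rw [f.apply_symm_apply]
      map_mul' := fun _ _ => rfl }⟩⟩

end Cfsg.Agent.Lib.FpfHeight.Homocyclic
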