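/-
Common eigenvectors of a finite commutative family with coprime order, and orbits of characters
under a fixed-point-free operator.
-/
import Mathlib.LinearAlgebra.Eigenspace.Triangularizable
import Mathlib.FieldTheory.IsAlgClosed.Basic
import Mathlib.RingTheory.Artinian.Module
import Mathlib.Algebra.BigOperators.Ring.Finset

set_option autoImplicit false

namespace Cfsg.Agent.Lib.FpfHeight.EigenChar

variable {k : Type*} [Field k] [IsAlgClosed k] {M : Type*} [AddCommGroup M] [Module k M]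
  [FiniteDimensional k M] {Z : Type*} [Group Z]

/-- A commuting family leaving a nonzero subspace invariant has a common eigenvector in it. -/
theorem exists_common_eigenvector (ρ : Z →* Module.End k M)
    (hcomm : ∀ a b, Commute (ρ a) (ρ b)) (W : Submodule k M) (hW : W ≠ ⊥)
    (hWinv : ∀ a, ∀ w ∈ W, ρ a w ∈ W) :
    ∃ (w : M) (μ : Z →* k), w ∈ W ∧ w ≠ 0 ∧ ∀ a, ρ a w = μ a • w := by
  obtain ⟨U, ⟨hUW, hUne, hUinv⟩, hUmin⟩ := exists_minimal_of_wellFoundedLT
    (fun U : Submodule k M => U ≤ W ∧ U ≠ ⊥ ∧ ∀ a, ∀ u ∈ U, ρ a u ∈ U) ⟨W, le_rfl, hW, hWinv⟩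
  haveI : Nontrivial U := Submodule.nontrivial_iff_ne_bot.mpr hUne
  have hscal : ∀ a, ∃ c : k, ∀ u ∈ U, ρ a u = c • u := by
    intro a
    obtain ⟨c, hc⟩ := Module.End.exists_eigenvalue ((ρ a).restrict (hUinv a))
    obtain ⟨v, hv⟩ := hc.exists_hasEigenvector
    refine ⟨c, fun u hu => ?_⟩
    let E : Submodule k M :=
      { carrier := {u | u ∈ U ∧ ρ a u = c • u}
        add_mem' := fun {x y} hx hy => ⟨U.add_mem hx.1 hy.1, by rw [map_add, hx.2, hy.2, smul_add]⟩
        zero_mem' := ⟨U.zero_mem, by simp⟩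
        smul_mem' := fun t x hx => ⟨U.smul_mem t hx.1, by rw [map_smul, hx.2, smul_comm]⟩ }
    have hvE : (v : M) ∈ E :=
      ⟨v.2, congrArg Subtype.val (Module.End.mem_eigenspace_iff.mp hv.1)⟩
    have hne : E ≠ ⊥ := fun h => hv.2 (Subtype.ext (by
      rw [h] at hvE; simpa using hvE))
    have hle := hUmin (y := E) ⟨fun x hx => hUW hx.1, hne, fun b x hx => ⟨hUinv b x hx.1, by
      have h := LinearMap.congr_fun (hcomm a b).eq x
      rw [Module.End.mul_apply, Module.End.mul_apply, hx.2, map_smul] at h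
      exact h⟩⟩ (fun x hx => hx.1)
    exact (hle hu).2
  choose c hc using hscal
  obtain ⟨w, hwU, hw⟩ := Submodule.exists_mem_ne_zero_of_ne_bot hUne
  refine ⟨w, { toFun := c, map_one' := ?_, map_mul' := ?_ }, hUW hwU, hw, fun a => hc a w hwU⟩
  · refine smul_left_injective k hw ?_
    change c 1 • w = (1 : k) • w
    rw [← hc 1 w hwU, map_one, one_smul]; rfl
  · intro a b
    refine smul_left_injective k hw ?_
    change c (a * b) • w = (c a * c b) • w
    rw [← hc _ w hwU, map_mul, Module.End.mul_apply, hc b w hwU, map_smul, hc a w hwU, smul_smul,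
      mul_comm]

variable [Finite Z]

omit [IsAlgClosed k] [FiniteDimensional k M] in
/-- Joint eigenvectors for pairwise distinct characters with zero sum vanish. -/
theorem eq_zero_of_sum_eq_zero (ρ : Z →* Module.End k M) (hcard : (Nat.card Z : k) ≠ 0)
    {ι : Type*} (s : Finset ι) (μ : ι → Z →* k) (w : ι → M) (hw : ∀ i ∈ s, ∀ z, ρ z (w i) = μ i z • w i)
    (hdist : ∀ i ∈ s, ∀ j ∈ s, μ i = μ j → i = j) (hsum : ∑ i ∈ s, w i = 0) :
    ∀ i ∈ s, w i = 0 := by
  classical
  haveI : Fintype Z := Fintype.ofFinite Z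
  intro i₀ hi₀
  have h1 : ∀ z : Z, ∑ i ∈ s, (μ i₀ z⁻¹ * μ i z) • w i = 0 := by
    intro z
    have h := congrArg (fun v => μ i₀ z⁻¹ • ρ z v) hsum
    simp only [map_sum, map_zero, smul_zero, Finset.smul_sum] at h
    rw [← h]
    exact Finset.sum_congr rfl fun i hi => by rw [hw i hi, smul_smul]
  have h2 : ∑ i ∈ s, (∑ z : Z, μ i₀ z⁻¹ * μ i z) • w i = 0 := by
    simp only [Finset.sum_smul]
    rw [Finset.sum_comm]
    exact Finset.sum_eq_zero fun z _ => h1 z
  rw [Finset.sum_eq_single_of_mem i₀ hi₀] at h2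
  · have h3 : ∀ z : Z, μ i₀ z⁻¹ * μ i₀ z = 1 := fun z => by rw [← map_mul, inv_mul_cancel, map_one]
    rw [Finset.sum_congr rfl fun z _ => h3 z, Finset.sum_const, Finset.card_univ,
      ← Nat.card_eq_fintype_card, nsmul_eq_mul, mul_one] at h2
    exact (smul_eq_zero.mp h2).resolve_left hcard
  · intro i hi hne
    have hex : ∃ v, μ i v ≠ μ i₀ v := by
      by_contra h
      push_neg at h
      exact hne (hdist i hi i₀ hi₀ (MonoidHom.ext h))
    obtain ⟨v, hv⟩ := hex
    have hinv : μ i₀ v⁻¹ * μ i₀ v = 1 := by rw [← map_mul, inv_mul_cancel, map_one]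
    set T := ∑ z : Z, μ i₀ z⁻¹ * μ i z with hT
    have h5 : (μ i₀ v⁻¹ * μ i v) * T = T := by
      rw [hT, Finset.mul_sum]
      refine Fintype.sum_bijective (v * ·) (Group.mulLeft_bijective v) _ _ fun u => ?_
      rw [mul_inv_rev, map_mul, map_mul]
      ring
    have hT0 : T = 0 := by
      by_contra hne'
      have h6 : μ i₀ v⁻¹ * μ i v = 1 := (mul_eq_right₀ hne').mp h5
      refine hv ?_
      calc μ i v = (μ i₀ v⁻¹ * μ i₀ v) * μ i v := by rw [hinv, one_mul]
        _ = μ i₀ v * (μ i₀ v⁻¹ * μ i v) := by ring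
        _ = μ i₀ v := by rw [h6, mul_one]
    rw [hT0, zero_smul]

omit [IsAlgClosed k] [FiniteDimensional k M] in
/-- `(a - 1)² u = 0` forces `(a - 1) u = 0` for `a` of order invertible in `k`. -/
theorem eq_of_apply_sub_fixed (a : Module.End k M) {o : ℕ} (ha : a ^ o = 1) (ho : (o : k) ≠ 0)
    (u : M) (h : a (a u - u) = a u - u) : a u = u := by
  have h1 : ∀ i : ℕ, (a ^ i) u = u + (i : k) • (a u - u) := by
    intro i
    induction i with
    | zero => simp
    | succ i ih =>
      rw [pow_succ', Module.End.mul_apply, ih, map_add, map_smul, h, Nat.cast_succ, add_smul,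
        one_smul]
      abel
  have h2 := h1 o
  rw [ha, Module.End.one_apply, left_eq_add] at h2
  exact sub_eq_zero.mp ((smul_eq_zero.mp h2).resolve_left ho)

omit [IsAlgClosed k] [FiniteDimensional k M] in
/-- Powers of an operator carrying joint eigenvectors to joint eigenvectors for the shifted
character. -/
theorem pow_apply_eigen (ρ : Z →* Module.End k M) (s : Module.End k M) (β : MulAut Z)
    (hs : ∀ z, s * ρ z = ρ (β z) * s) {w : M} {μ : Z →* k} (hw : ∀ z, ρ z w = μ z • w) (i : ℕ)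
    (z : Z) : ρ z ((s ^ i) w) = μ ((β ^ i).symm z) • (s ^ i) w := by
  induction i generalizing z with
  | zero =>
    rw [pow_zero, pow_zero]
    exact hw z
  | succ i ih =>
    rw [pow_succ', pow_succ' β]
    obtain ⟨z', rfl⟩ := β.surjective z
    rw [Module.End.mul_apply, ← Module.End.mul_apply, ← hs, Module.End.mul_apply, ih, map_smul]
    congr 2
    rw [MulEquiv.eq_symm_apply, MulAut.mul_apply, MulEquiv.apply_symm_apply]

omit [IsAlgClosed k] [FiniteDimensional k M] in
/-- A character moved by all proper powers of a fixed-point-free operator cannot occur. -/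
theorem exists_fixing_power (ρ : Z →* Module.End k M) (hcard : (Nat.card Z : k) ≠ 0)
    (s : Module.End k M) (β : MulAut Z) (hs : ∀ z, s * ρ z = ρ (β z) * s) {P : ℕ} (hP : 0 < P)
    (hsum : ∑ i ∈ Finset.range P, s ^ i = 0) {w : M} (hw0 : w ≠ 0) {μ : Z →* k}
    (hw : ∀ z, ρ z w = μ z • w) :
    ∃ i, 0 < i ∧ i < P ∧ ∀ z, μ ((β ^ i) z) = μ z := by
  by_contra h
  push_neg at h
  refine hw0 ?_
  have := eq_zero_of_sum_eq_zero ρ hcard (Finset.range P)
    (fun i => μ.comp (β ^ i).symm.toMonoidHom) (fun i => (s ^ i) w)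
    (fun i _ z => pow_apply_eigen ρ s β hs hw i z) ?_ ?_ 0 (Finset.mem_range.mpr hP)
  · simpa using this
  · intro i hi j hj hij
    rw [Finset.mem_range] at hi hj
    by_contra hne
    rcases Nat.lt_or_gt_of_ne hne with hlt | hlt
    · obtain ⟨z, hz⟩ := h (j - i) (by omega) (by omega)
      have h1 := DFunLike.congr_fun hij ((β ^ j) z)
      simp only [MonoidHom.comp_apply, MulEquiv.coe_toMonoidHom, MulEquiv.symm_apply_apply] at h1
      refine hz ?_
      rw [← h1]
      congr 1
      rw [MulEquiv.eq_symm_apply, ← MulAut.mul_apply, ← pow_add, Nat.add_sub_cancel' hlt.le]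
    · obtain ⟨z, hz⟩ := h (i - j) (by omega) (by omega)
      have h1 := DFunLike.congr_fun hij ((β ^ i) z)
      simp only [MonoidHom.comp_apply, MulEquiv.coe_toMonoidHom, MulEquiv.symm_apply_apply] at h1
      refine hz ?_
      rw [h1]
      congr 1
      rw [MulEquiv.eq_symm_apply, ← MulAut.mul_apply, ← pow_add, Nat.add_sub_cancel' hlt.le]
  · have := LinearMap.congr_fun hsum w
    simpa [LinearMap.sum_apply] using this

end Cfsg.Agent.Lib.FpfHeight.EigenChar
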