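/-
Fixed-point-free automorphisms: basics, and an operator form of the lemma that a Frobenius
complement acting without fixed points forces the kernel to act trivially.
-/
import Mathlib.GroupTheory.PGroup
import Mathlib.GroupTheory.FixedPointFree
import Mathlib.GroupTheory.QuotientGroup.Basic
import Mathlib.GroupTheory.Nilpotent
import Mathlib.Algebra.Group.Subgroup.Map
import Mathlib.Algebra.BigOperators.Ring.Finset

set_option autoImplicit false

namespace Cfsg.Agent.Lib.FpfHeight.Basic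

section Operators

variable {S : Type*} [Ring S] {E : Type*} [Group E]

/-- If the sum of the powers of `s` is killed by `T`, every proper power of `s` acts fixed point
freely on `Q` by conjugation and `T` commutes with `Q`, then `|Q| T (x - 1) = 0` for `x` in `Q`. -/
theorem frob_op (φ : E →* S) (Q : Subgroup E) [Finite Q] (s : E) {n : ℕ} (hn : 0 < n)
    (hnorm : ∀ x ∈ Q, s * x * s⁻¹ ∈ Q)
    (hfpf : ∀ i, 0 < i → i < n → ∀ x ∈ Q, s ^ i * x * (s ^ i)⁻¹ = x → x = 1)
    (T : S) (hT : ∀ x ∈ Q, Commute T (φ x))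
    (hN : T * ∑ i ∈ Finset.range n, φ (s ^ i) = 0) :
    ∀ x ∈ Q, (Nat.card Q : S) * (T * (φ x - 1)) = 0 := by
  classical
  have : Fintype Q := Fintype.ofFinite Q
  intro x₀ hx₀
  have hnormi : ∀ (i : ℕ) (x : E), x ∈ Q → s ^ i * x * (s ^ i)⁻¹ ∈ Q := by
    intro i
    induction i with
    | zero => intro x hx; simpa using hx
    | succ i ih =>
      intro x hx
      have := hnorm _ (ih x hx)
      simpa [pow_succ', mul_assoc] using this
  -- conjugating the relation by `x` in `Q`
  have h1 : ∀ x : Q, T * ∑ i ∈ Finset.range n,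
      φ ((x : E) * (s ^ i * (x : E)⁻¹ * (s ^ i)⁻¹)) * φ (s ^ i) = 0 := by
    intro x
    calc T * ∑ i ∈ Finset.range n, φ ((x : E) * (s ^ i * (x : E)⁻¹ * (s ^ i)⁻¹)) * φ (s ^ i)
        = T * (φ x * (∑ i ∈ Finset.range n, φ (s ^ i)) * φ (x : E)⁻¹) := by
          congr 1
          rw [Finset.mul_sum, Finset.sum_mul]
          refine Finset.sum_congr rfl fun i _ => ?_
          simp only [← map_mul]
          congr 1
          group
      _ = φ x * (T * ∑ i ∈ Finset.range n, φ (s ^ i)) * φ (x : E)⁻¹ := by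
          rw [← mul_assoc, ← mul_assoc, (hT x x.2).eq, mul_assoc (φ (x : E))]
      _ = 0 := by rw [hN]; simp
  set P : S := ∑ x : Q, φ x with hP
  have hbij : ∀ i, 0 < i → i < n →
      ∑ x : Q, φ ((x : E) * (s ^ i * (x : E)⁻¹ * (s ^ i)⁻¹)) = P := by
    intro i hi hin
    let g : Q → Q := fun x =>
      ⟨(x : E) * (s ^ i * (x : E)⁻¹ * (s ^ i)⁻¹), Q.mul_mem x.2 (hnormi i _ (Q.inv_mem x.2))⟩
    have hg : Function.Injective g := by
      intro x y hxy
      have e : (x : E) * (s ^ i * (x : E)⁻¹ * (s ^ i)⁻¹) =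
          (y : E) * (s ^ i * (y : E)⁻¹ * (s ^ i)⁻¹) := congrArg Subtype.val hxy
      have : (y : E)⁻¹ * x = 1 := by
        refine hfpf i hi hin _ (Q.mul_mem (Q.inv_mem y.2) x.2) ?_
        have e2 : (y : E)⁻¹ * x =
            (y : E)⁻¹ * ((x : E) * (s ^ i * (x : E)⁻¹ * (s ^ i)⁻¹)) * (s ^ i * x * (s ^ i)⁻¹) := by
          group
        conv_rhs => rw [e2, e]
        group
      exact Subtype.ext (inv_mul_eq_one.mp this).symm
    exact Fintype.sum_bijective g hg.bijective_of_finite _ _ fun x => rfl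
  -- summing over `Q`
  have h2 : T * ∑ i ∈ Finset.range n,
      (∑ x : Q, φ ((x : E) * (s ^ i * (x : E)⁻¹ * (s ^ i)⁻¹))) * φ (s ^ i) = 0 := by
    rw [show (∑ i ∈ Finset.range n,
      (∑ x : Q, φ ((x : E) * (s ^ i * (x : E)⁻¹ * (s ^ i)⁻¹))) * φ (s ^ i)) =
      ∑ x : Q, ∑ i ∈ Finset.range n,
        φ ((x : E) * (s ^ i * (x : E)⁻¹ * (s ^ i)⁻¹)) * φ (s ^ i) by
        rw [Finset.sum_comm]; exact Finset.sum_congr rfl fun i _ => Finset.sum_mul _ _ _]
    rw [Finset.mul_sum]
    exact Finset.sum_eq_zero fun x _ => h1 x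
  obtain ⟨m, rfl⟩ := Nat.exists_eq_succ_of_ne_zero hn.ne'
  rw [Finset.sum_range_succ'] at h2 hN
  have h3 : ∑ i ∈ Finset.range m,
      (∑ x : Q, φ ((x : E) * (s ^ (i + 1) * (x : E)⁻¹ * (s ^ (i + 1))⁻¹))) * φ (s ^ (i + 1)) =
      P * ∑ i ∈ Finset.range m, φ (s ^ (i + 1)) := by
    rw [Finset.mul_sum]
    refine Finset.sum_congr rfl fun i hi => ?_
    rw [hbij (i + 1) (Nat.succ_pos i) (by have := Finset.mem_range.mp hi; omega)]
  rw [h3] at h2
  have hTP : Commute T P := Commute.sum_right _ _ _ fun x _ => hT x x.2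
  have h4 : T * (Nat.card Q : S) - T * P = 0 := by
    have hA : T * ∑ i ∈ Finset.range m, φ (s ^ (i + 1)) = - T := by
      simpa [mul_add, add_eq_zero_iff_eq_neg] using hN
    have hB : T * (P * ∑ i ∈ Finset.range m, φ (s ^ (i + 1))) = - (T * P) := by
      rw [← mul_assoc, hTP.eq, mul_assoc, hA, mul_neg]
    rw [mul_add, hB] at h2
    simpa [Nat.card_eq_fintype_card, sub_eq_add_neg, add_comm] using h2
  have hPx : P * φ x₀ = P := by
    rw [hP, Finset.sum_mul]
    exact Fintype.sum_bijective (fun x : Q => x * ⟨x₀, hx₀⟩)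
      (Equiv.mulRight (⟨x₀, hx₀⟩ : Q)).bijective _ _ fun x => by simp
  calc (Nat.card Q : S) * (T * (φ x₀ - 1))
      = (T * (Nat.card Q : S) - T * P) * (φ x₀ - 1) + T * (P * (φ x₀ - 1)) := by
        rw [sub_mul, mul_assoc T P, sub_add_cancel, ← mul_assoc,
          (Nat.cast_commute (Nat.card Q) T).eq]
    _ = 0 := by rw [h4, zero_mul, mul_sub, mul_one, hPx, sub_self, mul_zero, add_zero]

end Operators

section AbelianOperators

variable {V : Type*} [CommGroup V]

/-- Automorphisms of an abelian group as elements of the ring of its endomorphisms. -/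
def toEnd : MulAut V →* AddMonoid.End (Additive V) where
  toFun e := MonoidHom.toAdditive e.toMonoidHom
  map_one' := rfl
  map_mul' _ _ := rfl

theorem toEnd_apply (e : MulAut V) (v : V) :
    toEnd e (Additive.ofMul v) = Additive.ofMul (e v) := rfl

theorem eq_zero_of_coprime_natCast_mul [Finite V] {k : ℕ} (hk : k.Coprime (Nat.card V))
    {f : AddMonoid.End (Additive V)} (h : (k : AddMonoid.End (Additive V)) * f = 0) : f = 0 := by
  refine AddMonoidHom.ext fun v => ?_
  have h1 : k • f v = 0 := by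
    have := DFunLike.congr_fun h v
    simpa [AddMonoid.End.natCast_apply] using this
  have h2 : Nat.card V • f v = 0 := by
    have : Nat.card (Additive V) = Nat.card V := Nat.card_congr Additive.toMul
    rw [← this]; exact card_nsmul_eq_zero'
  have := Nat.Coprime.gcd_eq_one hk
  have h3 : Nat.gcd k (Nat.card V) • f v = 0 := gcd_nsmul_eq_zero.mpr ⟨h1, h2⟩
  rwa [this, one_nsmul] at h3

/-- An automorphism without nontrivial fixed points: the sum of its powers vanishes. -/
theorem sum_pow_eq_zero (s : MulAut V) {n : ℕ} (hn : s ^ n = 1)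
    (hfpf : ∀ v, s v = v → v = 1) : ∑ i ∈ Finset.range n, toEnd (s ^ i) = 0 := by
  refine AddMonoidHom.ext fun v => ?_
  have h : toEnd s * ∑ i ∈ Finset.range n, toEnd (s ^ i) = ∑ i ∈ Finset.range n, toEnd (s ^ i) := by
    have h1 : toEnd s * ∑ i ∈ Finset.range n, toEnd (s ^ i) =
        ∑ i ∈ Finset.range n, toEnd (s ^ (i + 1)) := by
      rw [Finset.mul_sum]; simp [← pow_succ']
    have h2 := Finset.sum_range_succ (fun i => toEnd (s ^ i)) n
    rw [Finset.sum_range_succ', hn, pow_zero] at h2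
    rw [h1]
    exact add_right_cancel h2
  have h3 := DFunLike.congr_fun h v
  exact congrArg Additive.ofMul (hfpf (Additive.toMul ((∑ i ∈ Finset.range n, toEnd (s ^ i)) v))
    (congrArg Additive.toMul h3))

end AbelianOperators

section Automorphisms

variable {G : Type*} [Group G]

/-- Invariance under `σ` of a subgroup, elementwise. -/
theorem map_eq_of_invariant [Finite G] (σ : MulAut G) {N : Subgroup G}
    (h : ∀ x ∈ N, σ x ∈ N) : N.map (σ : G →* G) = N := by
  refine Subgroup.eq_of_le_of_card_ge ?_ ?_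
  · rintro _ ⟨x, hx, rfl⟩; exact h x hx
  · rw [Subgroup.card_map_of_injective σ.injective]

/-- A fixed-point-free automorphism stays so on a quotient by an invariant subgroup. -/
theorem mem_of_invariant_of_fixed [Finite G] (σ : MulAut G) (hfpf : ∀ g, σ g = g → g = 1)
    {N : Subgroup G} (hN : ∀ x ∈ N, σ x ∈ N) {x : G} (hx : x⁻¹ * σ x ∈ N) : x ∈ N := by
  let f : N → N := fun n => ⟨(n : G)⁻¹ * σ n, N.mul_mem (N.inv_mem n.2) (hN n n.2)⟩
  have hf : Function.Injective f := by
    intro a b hab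
    have e : (a : G)⁻¹ * σ a = (b : G)⁻¹ * σ b := congrArg Subtype.val hab
    have : (a : G) * (b : G)⁻¹ = 1 := by
      refine hfpf _ ?_
      rw [map_mul, map_inv, eq_inv_mul_iff_mul_eq.mp e.symm |>.symm]
      group
    exact Subtype.ext (mul_inv_eq_one.mp this)
  obtain ⟨n, hn⟩ := Finite.surjective_of_injective hf ⟨_, hx⟩
  have e : (n : G)⁻¹ * σ n = x⁻¹ * σ x := congrArg Subtype.val hn
  have : x * (n : G)⁻¹ = 1 := by
    refine hfpf _ ?_
    rw [map_mul, map_inv, eq_inv_mul_iff_mul_eq.mp e.symm |>.symm]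
    group
  rw [mul_inv_eq_one.mp this]
  exact n.2

/-- A fixed-point-free automorphism of `p`-power order forces the order to be prime to `p`. -/
theorem coprime_card_of_fpf [Finite G] {p : ℕ} [Fact p.Prime] (σ : MulAut G) {k : ℕ}
    (hσ : σ ^ p ^ k = 1) (hfpf : ∀ g, σ g = g → g = 1) : p.Coprime (Nat.card G) := by
  have hP : IsPGroup p (Subgroup.zpowers σ) := by
    refine IsPGroup.of_card_dvd_pow (n := k) ?_
    rw [Nat.card_zpowers]
    exact orderOf_dvd_of_pow_eq_one hσ
  have h := hP.card_modEq_card_fixedPoints G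
  have h1 : MulAction.fixedPoints (Subgroup.zpowers σ) G = {1} := by
    refine Set.eq_singleton_iff_unique_mem.mpr ⟨fun a => map_one (a : MulAut G), fun g hg => ?_⟩
    exact hfpf g (hg ⟨σ, Subgroup.mem_zpowers σ⟩)
  rw [h1, Nat.card_coe_set_eq, Set.ncard_singleton] at h
  refine (Nat.Prime.coprime_iff_not_dvd Fact.out).mpr fun hdvd => ?_
  exact Nat.Prime.not_dvd_one (Fact.out : p.Prime)
    (Nat.modEq_zero_iff_dvd.mp (h.symm.trans (Nat.modEq_zero_iff_dvd.mpr hdvd)))

/-- The automorphism induced on the quotient by an invariant normal subgroup. -/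
def quotAut [Finite G] (σ : MulAut G) (N : Subgroup G) [N.Normal]
    (h : ∀ x ∈ N, σ x ∈ N) : MulAut (G ⧸ N) :=
  QuotientGroup.congr N N σ (map_eq_of_invariant σ h)

@[simp] theorem quotAut_mk [Finite G] (σ : MulAut G) (N : Subgroup G) [N.Normal]
    (h : ∀ x ∈ N, σ x ∈ N) (x : G) :
    quotAut σ N h (x : G ⧸ N) = ((σ x : G) : G ⧸ N) := rfl

theorem quotAut_pow [Finite G] (σ : MulAut G) (N : Subgroup G) [N.Normal]
    (h : ∀ x ∈ N, σ x ∈ N) (k : ℕ) (x : G) :
    (quotAut σ N h ^ k) (x : G ⧸ N) = (((σ ^ k) x : G) : G ⧸ N) := by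
  induction k generalizing x with
  | zero => rfl
  | succ k ih => simp [pow_succ, MulAut.mul_apply, ih]

theorem quotAut_pow_eq_one [Finite G] (σ : MulAut G) (N : Subgroup G) [N.Normal]
    (h : ∀ x ∈ N, σ x ∈ N) {k : ℕ} (hk : σ ^ k = 1) : quotAut σ N h ^ k = 1 := by
  refine MulEquiv.ext fun q => ?_
  obtain ⟨x, rfl⟩ := QuotientGroup.mk_surjective q
  rw [quotAut_pow, hk]; rfl

theorem quotAut_fpf [Finite G] (σ : MulAut G) (N : Subgroup G) [N.Normal]
    (h : ∀ x ∈ N, σ x ∈ N) (hfpf : ∀ g, σ g = g → g = 1) :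
    ∀ q, quotAut σ N h q = q → q = 1 := by
  intro q hq
  obtain ⟨x, rfl⟩ := QuotientGroup.mk_surjective q
  rw [quotAut_mk] at hq
  exact (QuotientGroup.eq_one_iff x).mpr
    (mem_of_invariant_of_fixed σ hfpf h (QuotientGroup.eq.mp hq.symm))

/-- A characteristic subgroup is invariant under every automorphism. -/
theorem apply_mem_of_char (σ : MulAut G) (N : Subgroup G) [hN : N.Characteristic] :
    ∀ x ∈ N, σ x ∈ N := fun x hx => by
  have := hN.fixed σ
  rw [← this] at hx; exact hx

/-- If `C` is central-by-nilpotent, it is nilpotent. -/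
theorem isNilpotent_of_le_centralizer {C V : Subgroup G} [V.Normal]
    (hC : C ≤ Subgroup.centralizer (V : Set G))
    (h : Group.IsNilpotent (C.map (QuotientGroup.mk' V))) : Group.IsNilpotent C := by
  refine Subgroup.isNilpotent_of_ker_le_center ((QuotientGroup.mk' V).subgroupMap C) ?_
  intro x hx
  rw [Subgroup.mem_center_iff]
  intro y
  have hxV : (x : G) ∈ V := (QuotientGroup.eq_one_iff _).mp (congrArg Subtype.val hx)
  exact Subtype.ext (Subgroup.mem_centralizer_iff.mp (hC y.2) x hxV).symm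

end Automorphisms

end Cfsg.Agent.Lib.FpfHeight.Basic
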