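/-
A characteristic abelian subgroup of prime power order, and the action of a group on it.
-/
import Mathlib.GroupTheory.Solvable
import Mathlib.GroupTheory.GroupAction.ConjAct
import Cfsg.Agent.Lib.Cores.Basic
import Cfsg.Agent.Lib.FpfHeight.Basic

set_option autoImplicit false

namespace Cfsg.Agent.Lib.FpfHeight.Abelian

open Cfsg.Agent.Lib.FpfHeight.Basic

variable {G : Type*} [Group G]

/-- A nontrivial finite solvable group has a nontrivial characteristic abelian `v`-subgroup. -/
theorem exists_char_abelian [Finite G] [Nontrivial G] (hG : Group.IsSolvable G) :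
    ∃ (v : ℕ) (V : Subgroup G), v.Prime ∧ V.Characteristic ∧ IsMulCommutative V ∧ IsPGroup v V ∧
      V ≠ ⊥ := by
  classical
  have hs : ∃ n, derivedSeries G n = ⊥ := hG.solvable
  have hn0 : Nat.find hs ≠ 0 := fun h => by
    have := Nat.find_spec hs
    rw [h, derivedSeries_zero] at this
    exact top_ne_bot this
  obtain ⟨m, hm⟩ := Nat.exists_eq_succ_of_ne_zero hn0
  set A := derivedSeries G m with hA
  have hAne : A ≠ ⊥ := Nat.find_min hs (by omega)
  have hAc : ∀ a ∈ A, ∀ b ∈ A, a * b = b * a := by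
    intro a ha b hb
    have h1 := Subgroup.commutator_mem_commutator ha hb
    rw [hA, ← derivedSeries_succ, show m + 1 = Nat.find hs by omega, Nat.find_spec hs] at h1
    exact commutatorElement_eq_one_iff_mul_comm.mp (Subgroup.mem_bot.mp h1)
  have hcard : Nat.card A ≠ 1 := fun h => hAne (Subgroup.card_eq_one.mp h)
  obtain ⟨v, hv, hdvd⟩ := Nat.exists_prime_and_dvd hcard
  haveI := Fact.mk hv
  obtain ⟨a, ha⟩ := exists_prime_orderOf_dvd_card' v hdvd
  let V : Subgroup G :=
    { carrier := {x | x ∈ A ∧ ∃ k : ℕ, x ^ v ^ k = 1}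
      one_mem' := ⟨A.one_mem, 0, by simp⟩
      mul_mem' := fun {x y} ⟨hx, k, hk⟩ ⟨hy, l, hl⟩ => ⟨A.mul_mem hx hy, k + l, by
        rw [Commute.mul_pow (hAc x hx y hy), pow_add, pow_mul, hk, one_pow, one_mul,
          Nat.mul_comm, pow_mul, hl, one_pow]⟩
      inv_mem' := fun {x} ⟨hx, k, hk⟩ => ⟨A.inv_mem hx, k, by rw [inv_pow, hk, inv_one]⟩ }
  refine ⟨v, V, hv, ?_, ⟨⟨fun x y => Subtype.ext (hAc x x.2.1 y y.2.1)⟩⟩, ?_, ?_⟩
  · refine Subgroup.characteristic_iff_map_le.mpr fun φ => ?_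
    rintro _ ⟨x, ⟨hx, k, hk⟩, rfl⟩
    refine ⟨?_, k, by simp [← map_pow, hk]⟩
    exact apply_mem_of_char φ A x hx
  · rintro ⟨x, -, k, hk⟩
    exact ⟨k, Subtype.ext hk⟩
  · intro hbot
    have : (a : G) ∈ V := ⟨a.2, 1, by
      rw [pow_one, ← ha]
      exact congrArg Subtype.val (pow_orderOf_eq_one a)⟩
    rw [hbot, Subgroup.mem_bot] at this
    have : a = 1 := Subtype.ext this
    rw [this, orderOf_one] at ha
    exact hv.one_lt.ne ha

/-- The restriction of an automorphism to a characteristic subgroup. -/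
def restrict (V : Subgroup G) [V.Characteristic] : MulAut G →* MulAut V where
  toFun σ :=
    { toFun := fun v => ⟨σ v, apply_mem_of_char σ V v v.2⟩
      invFun := fun v => ⟨σ.symm v, apply_mem_of_char σ.symm V v v.2⟩
      left_inv := fun v => Subtype.ext (σ.symm_apply_apply v)
      right_inv := fun v => Subtype.ext (σ.apply_symm_apply v)
      map_mul' := fun v w => Subtype.ext (map_mul σ (v : G) w) }
  map_one' := rfl
  map_mul' _ _ := rfl

@[simp] theorem coe_restrict (V : Subgroup G) [V.Characteristic] (σ : MulAut G) (v : V) :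
    (restrict V σ v : G) = σ v := rfl

/-- Conjugation commutes with automorphisms in the expected way. -/
theorem restrict_conjNormal (V : Subgroup G) [V.Characteristic] (σ : MulAut G) (g : G) :
    restrict V σ * MulAut.conjNormal g * (restrict V σ)⁻¹ = MulAut.conjNormal (σ g) := by
  rw [mul_inv_eq_iff_eq_mul]
  refine MulEquiv.ext fun v => Subtype.ext ?_
  simp [MulAut.mul_apply]

theorem conjNormal_eq_one_iff (V : Subgroup G) [V.Normal] (g : G) :
    MulAut.conjNormal (H := V) g = 1 ↔ g ∈ Subgroup.centralizer (V : Set G) := by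
  rw [Subgroup.mem_centralizer_iff, MulEquiv.ext_iff]
  refine ⟨fun h v hv => ?_, fun h v => Subtype.ext ?_⟩
  · have := congrArg Subtype.val (h ⟨v, hv⟩)
    simp only [MulAut.conjNormal_apply, MulAut.one_apply] at this
    exact (mul_inv_eq_iff_eq_mul.mp this).symm
  · simp only [MulAut.conjNormal_apply, MulAut.one_apply]
    rw [← h v v.2, mul_inv_cancel_right]

/-- The subgroup of `G` centralizing `V` inside a subgroup that is nilpotent modulo `V` lies in
the Fitting subgroup. -/
theorem inf_centralizer_le_fitting [Finite G] (V : Subgroup G) [V.Normal] (K : Subgroup G)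
    [K.Normal] (hK : Group.IsNilpotent (K.map (QuotientGroup.mk' V))) :
    K ⊓ Subgroup.centralizer (V : Set G) ≤ fittingSubgroup G := by
  refine Cfsg.Agent.Lib.Cores.le_fittingSubgroup ?_
  refine isNilpotent_of_le_centralizer inf_le_right ?_
  exact Cfsg.Agent.Lib.Cores.isNilpotent_of_le (Subgroup.map_mono inf_le_left) hK

/-- The preimage of the `v`-core of `G/V` lies in `F(G)` when `V` is a `v`-group. -/
theorem comap_pCore_le_fitting [Finite G] {v : ℕ} [Fact v.Prime] (V : Subgroup G) [V.Normal]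
    (hV : IsPGroup v V) :
    (pCore v (G ⧸ V)).comap (QuotientGroup.mk' V) ≤ fittingSubgroup G := by
  refine Cfsg.Agent.Lib.Cores.le_fittingSubgroup (IsPGroup.isNilpotent (p := v) ?_)
  rintro ⟨g, hg⟩
  obtain ⟨k, hk⟩ := Cfsg.Agent.Lib.Cores.pCore_isPGroup (G := G ⧸ V) v ⟨_, hg⟩
  have h1 : g ^ v ^ k ∈ V := (QuotientGroup.eq_one_iff _).mp (congrArg Subtype.val hk)
  obtain ⟨l, hl⟩ := hV ⟨_, h1⟩
  refine ⟨k + l, Subtype.ext ?_⟩
  change g ^ v ^ (k + l) = 1
  rw [pow_add, pow_mul]
  exact congrArg Subtype.val hl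

theorem pow_mem_of_mem_comap_pCore [Finite G] {q : ℕ} (V : Subgroup G) [V.Normal] {g : G}
    (hg : g ∈ (pCore q (G ⧸ V)).comap (QuotientGroup.mk' V)) : ∃ k : ℕ, g ^ q ^ k ∈ V := by
  obtain ⟨k, hk⟩ := Cfsg.Agent.Lib.Cores.pCore_isPGroup (G := G ⧸ V) q ⟨_, hg⟩
  exact ⟨k, (QuotientGroup.eq_one_iff _).mp (congrArg Subtype.val hk)⟩

end Cfsg.Agent.Lib.FpfHeight.Abelian
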