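/-
Coprime action of an elementary abelian group of order `p ^ 2` on a group of prime power order:
lifting of fixed points and generation by centralizers.
-/
import Mathlib.GroupTheory.Sylow
import Cfsg.Agent.Lib.FpfHeight.Basic

set_option autoImplicit false

namespace Cfsg.Agent.Lib.FpfHeight.Generation

open scoped IsMulCommutative

open Cfsg.Agent.Lib.FpfHeight.Basic

universe u

/-- A fixed coset of an invariant subgroup of order prime to `p` has a fixed representative. -/
theorem exists_fixed_of_coprime {p : ℕ} [Fact p.Prime] {A G : Type*} [Group A] [Group G]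
    [Finite G] (hA : IsPGroup p A) (α : A →* MulAut G) (N : Subgroup G)
    (hN : ∀ a : A, ∀ n ∈ N, α a n ∈ N) (hcop : p.Coprime (Nat.card N)) (x : G)
    (hx : ∀ a : A, x⁻¹ * α a x ∈ N) : ∃ n ∈ N, ∀ a : A, α a (x * n) = x * n := by
  let act : MulAction A N :=
    { smul := fun a n => ⟨x⁻¹ * α a (x * (n : G)), by
        rw [map_mul, ← mul_assoc]; exact N.mul_mem (hx a) (hN a n n.2)⟩
      one_smul := fun n => Subtype.ext (by
        change x⁻¹ * α 1 (x * (n : G)) = n
        simp)
      mul_smul := fun a b n => Subtype.ext (by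
        change x⁻¹ * α (a * b) (x * (n : G)) = x⁻¹ * α a (x * (x⁻¹ * α b (x * (n : G))))
        simp [MulAut.mul_apply]) }
  have h := hA.card_modEq_card_fixedPoints N
  obtain ⟨n, hn⟩ : (MulAction.fixedPoints A N).Nonempty := by
    by_contra hne
    rw [Set.not_nonempty_iff_eq_empty] at hne
    rw [hne, Nat.card_coe_set_eq, Set.ncard_empty] at h
    exact (Nat.Prime.coprime_iff_not_dvd Fact.out).mp hcop (Nat.modEq_zero_iff_dvd.mp h)
  refine ⟨n, n.2, fun a => ?_⟩
  have h1 : x⁻¹ * α a (x * (n : G)) = n := congrArg Subtype.val (hn a)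
  calc α a (x * (n : G)) = x * (x⁻¹ * α a (x * (n : G))) := by group
    _ = x * n := by rw [h1]

/-- The sum of the powers of `s` is fixed by `s`. -/
theorem apply_sum_pow {V : Type*} [CommGroup V] (s : MulAut V) {n : ℕ} (hn : s ^ n = 1)
    (v : Additive V) :
    s (Additive.toMul ((∑ i ∈ Finset.range n, toEnd (s ^ i)) v)) =
      Additive.toMul ((∑ i ∈ Finset.range n, toEnd (s ^ i)) v) := by
  have h : toEnd s * ∑ i ∈ Finset.range n, toEnd (s ^ i) = ∑ i ∈ Finset.range n, toEnd (s ^ i) := by
    have h1 : toEnd s * ∑ i ∈ Finset.range n, toEnd (s ^ i) =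
        ∑ i ∈ Finset.range n, toEnd (s ^ (i + 1)) := by
      rw [Finset.mul_sum]; simp [← pow_succ']
    have h2 := Finset.sum_range_succ (fun i => toEnd (s ^ i)) n
    rw [Finset.sum_range_succ', hn, pow_zero] at h2
    rw [h1]
    exact add_right_cancel h2
  exact congrArg Additive.toMul (DFunLike.congr_fun h v)

/-- If a power with exponent prime to the order of `a` commutes with `x`, so does `a`. -/
theorem commute_of_pow_commute {E : Type*} [Group E] {p i : ℕ} (hp : p.Prime) {a x : E}
    (ha : a ^ p = 1) (hi : ¬ p ∣ i) (h : Commute (a ^ i) x) : Commute a x := by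
  have hc : (orderOf a).Coprime i :=
    ((hp.coprime_iff_not_dvd).mpr hi).coprime_dvd_left (orderOf_dvd_of_pow_eq_one ha)
  obtain ⟨m, hm⟩ := exists_pow_eq_self_of_coprime hc.symm
  have := h.pow_left m
  rwa [hm] at this

/-- In a group of order `p ^ 2` and exponent `p`, an element and one outside its cyclic subgroup
generate. -/
theorem closure_pair_eq {E : Type*} [Group E] {p : ℕ} (hp : p.Prime) {A : Subgroup E}
    (hpow : ∀ a ∈ A, a ^ p = 1) (hcard : Nat.card A = p ^ 2) {a c : E} (ha : a ∈ A) (hc : c ∈ A)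
    (ha1 : a ≠ 1) (hca : c ∉ Subgroup.zpowers a) : Subgroup.closure {a, c} = A := by
  have : Finite A := Nat.finite_of_card_ne_zero (by rw [hcard]; exact pow_ne_zero _ hp.ne_zero)
  haveI := Fact.mk hp
  have hle : Subgroup.closure {a, c} ≤ A := by
    rw [Subgroup.closure_le]; rintro x (rfl | rfl) <;> assumption
  refine Subgroup.eq_of_le_of_card_ge hle ?_
  have : Finite (Subgroup.closure {a, c}) := Finite.of_injective _ (Subgroup.inclusion_injective hle)
  obtain ⟨k, hk2, hk⟩ := (Nat.dvd_prime_pow hp).mp (hcard ▸ Subgroup.card_dvd_of_le hle)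
  have hlt : Subgroup.zpowers a < Subgroup.closure {a, c} := by
    refine lt_of_le_of_ne (Subgroup.zpowers_le.mpr (Subgroup.subset_closure (Or.inl rfl))) fun h => ?_
    exact hca (h ▸ Subgroup.subset_closure (Or.inr rfl))
  have h1 : p < Nat.card (Subgroup.closure {a, c}) := by
    have hle' := Subgroup.card_le_of_le hlt.le
    rw [Nat.card_zpowers, orderOf_eq_prime (hpow a ha) ha1] at hle'
    refine lt_of_le_of_ne hle' fun h => hlt.ne (Subgroup.eq_of_le_of_card_ge hlt.le ?_)
    rw [Nat.card_zpowers, orderOf_eq_prime (hpow a ha) ha1]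
    exact h.ge
  rw [hcard, hk]
  rcases k with _ | _ | _ | k
  · simp [hk] at h1; exact absurd h1 (by have := hp.one_lt; omega)
  · simp [hk] at h1
  · exact le_rfl
  · omega

theorem sum_end_apply {M ι : Type*} [AddCommGroup M] (s : Finset ι) (f : ι → AddMonoid.End M)
    (v : M) : (∑ i ∈ s, f i) v = ∑ i ∈ s, f i v :=
  map_sum ({ toFun := fun g => g v, map_zero' := rfl, map_add' := fun _ _ => rfl } :
    AddMonoid.End M →+ M) f s

/-- An element outside a given cyclic subgroup exists. -/
theorem exists_not_mem_zpowers {E : Type*} [Group E] {p : ℕ} (hp : p.Prime) {A : Subgroup E}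
    (hpow : ∀ a ∈ A, a ^ p = 1) (hcard : Nat.card A = p ^ 2) {a : E} (ha : a ∈ A) :
    ∃ c ∈ A, c ∉ Subgroup.zpowers a := by
  by_contra h
  push_neg at h
  have : Finite A := Nat.finite_of_card_ne_zero (by rw [hcard]; exact pow_ne_zero _ hp.ne_zero)
  haveI := Fact.mk hp
  have h1 : A = Subgroup.zpowers a := le_antisymm h (Subgroup.zpowers_le.mpr ha)
  have h2 := orderOf_dvd_of_pow_eq_one (hpow a ha)
  rw [← Nat.card_zpowers, ← h1, hcard] at h2
  have := Nat.le_of_dvd hp.pos h2
  nlinarith [hp.one_lt]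

/-- An abelian group is generated by the fixed points of two commuting automorphisms of order `p`
and their combinations. -/
theorem mem_of_fixed_abelian {V : Type*} [CommGroup V] [Finite V] {p : ℕ} (hp : p.Prime)
    (hcop : p.Coprime (Nat.card V)) {a c : MulAut V} (ha : a ^ p = 1) (hc : c ^ p = 1)
    (hac : Commute a c) (Y : Subgroup V)
    (hY : ∀ g ∈ Subgroup.closure {a, c}, g ≠ 1 → ∀ v, g v = v → v ∈ Y)
    (ha1 : ∀ j : ℕ, a * c ^ j ≠ 1) (hc1 : c ≠ 1) (v : V) : v ∈ Y := by
  have hmc : c ∈ Subgroup.closure {a, c} := Subgroup.subset_closure (Or.inr rfl)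
  have hma : a ∈ Subgroup.closure {a, c} := Subgroup.subset_closure (Or.inl rfl)
  set F : ℕ → ℕ → Additive V := fun i j => toEnd ((a * c ^ j) ^ i) (Additive.ofMul v)
  let Y' := Y.toAddSubgroup
  have hrow : ∀ j, ∑ i ∈ Finset.range p, F i j ∈ Y' := by
    intro j
    have hpow : (a * c ^ j) ^ p = 1 := by
      rw [(hac.pow_right j).mul_pow, ha, ← pow_mul, mul_comm j p, pow_mul, hc, one_pow, one_mul]
    have h := apply_sum_pow (a * c ^ j) hpow (Additive.ofMul v)
    rw [show ∑ i ∈ Finset.range p, F i j =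
      (∑ i ∈ Finset.range p, toEnd ((a * c ^ j) ^ i)) (Additive.ofMul v) by
        simp only [F, sum_end_apply]]
    exact hY _ (mul_mem hma (pow_mem hmc j)) (ha1 j) _ h
  have hcol : ∀ i, 0 < i → i < p → ∑ j ∈ Finset.range p, F i j ∈ Y' := by
    intro i hi hip
    have hci : c ^ i ≠ 1 := fun h => hc1 <| orderOf_eq_one_iff.mp <|
      Nat.eq_one_of_dvd_coprimes ((Nat.Prime.coprime_iff_not_dvd hp).mpr
        (Nat.not_dvd_of_pos_of_lt hi hip)) (orderOf_dvd_of_pow_eq_one hc) (orderOf_dvd_of_pow_eq_one h)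
    have hfix := apply_sum_pow (c ^ i) (n := p)
      (by rw [← pow_mul, mul_comm, pow_mul, hc, one_pow]) (Additive.ofMul v)
    set w := Additive.toMul ((∑ j ∈ Finset.range p, toEnd ((c ^ i) ^ j)) (Additive.ofMul v))
    have hw : ∑ j ∈ Finset.range p, F i j = Additive.ofMul ((a ^ i) w) := by
      calc ∑ j ∈ Finset.range p, F i j
          = ∑ j ∈ Finset.range p,
              (toEnd (a ^ i) * toEnd ((c ^ i) ^ j)) (Additive.ofMul v) := by
            refine Finset.sum_congr rfl fun j _ => ?_
            simp only [F]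
            rw [(hac.pow_right j).mul_pow, map_mul, ← pow_mul, mul_comm j i, pow_mul]
        _ = (toEnd (a ^ i) * ∑ j ∈ Finset.range p, toEnd ((c ^ i) ^ j)) (Additive.ofMul v) := by
            rw [Finset.mul_sum, sum_end_apply]
        _ = _ := rfl
    rw [hw]
    change (a ^ i) w ∈ Y
    refine hY (c ^ i) (pow_mem hmc i) hci _ ?_
    rw [← MulAut.mul_apply, ← (hac.pow_pow i i).eq, MulAut.mul_apply, hfix]
  have htot : ∑ j ∈ Finset.range p, ∑ i ∈ Finset.range p, F i j ∈ Y' :=
    Y'.sum_mem fun j _ => hrow j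
  rw [Finset.sum_comm] at htot
  obtain ⟨m, hm⟩ : ∃ m, p = m + 1 := ⟨p - 1, (Nat.succ_pred_eq_of_pos hp.pos).symm⟩
  rw [hm, Finset.sum_range_succ'] at htot
  have h0 : ∑ i ∈ Finset.range m, ∑ j ∈ Finset.range (m + 1), F (i + 1) j ∈ Y' :=
    Y'.sum_mem fun i hi => by
      rw [← hm]
      exact hcol (i + 1) (by omega) (by have := Finset.mem_range.mp hi; omega)
  have hp' : ∑ j ∈ Finset.range (m + 1), F 0 j ∈ Y' := (Y'.add_mem_cancel_left h0).mp htot
  have hvp : v ^ p ∈ Y := by
    simp only [F, pow_zero, map_one, Finset.sum_const, Finset.card_range] at hp'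
    rw [← hm] at hp'
    exact hp'
  obtain ⟨k, hk⟩ := exists_pow_eq_self_of_coprime
    (hcop.coprime_dvd_right (orderOf_dvd_natCard v))
  rw [← hk]
  exact pow_mem hvp k

/-- The action on the quotient by an invariant normal subgroup. -/
def quotHom {A G : Type*} [Group A] [Group G] [Finite G] (α : A →* MulAut G) (N : Subgroup G)
    [N.Normal] (h : ∀ a : A, ∀ x ∈ N, α a x ∈ N) : A →* MulAut (G ⧸ N) where
  toFun a := quotAut (α a) N (h a)
  map_one' := MulEquiv.ext fun q => by
    obtain ⟨x, rfl⟩ := QuotientGroup.mk_surjective q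
    simp
  map_mul' a b := MulEquiv.ext fun q => by
    obtain ⟨x, rfl⟩ := QuotientGroup.mk_surjective q
    simp [MulAut.mul_apply]

/-- A group of prime power order acted on coprimely by an elementary abelian group of order `p^2`
is generated by the centralizers of the nonidentity elements. -/
theorem closure_fixed_eq_top {p r : ℕ} [Fact p.Prime] [Fact r.Prime] {A : Type*} [CommGroup A]
    (hpow : ∀ a : A, a ^ p = 1) (hcard : Nat.card A = p ^ 2) (X : Type u) [Group X] [Finite X]
    (hX : IsPGroup r X) (hcop : p.Coprime (Nat.card X)) (α : A →* MulAut X) :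
    Subgroup.closure {x : X | ∃ a : A, a ≠ 1 ∧ α a x = x} = ⊤ := by
  induction hn : Nat.card X using Nat.strong_induction_on generalizing X with
  | _ n ih =>
  subst hn
  rw [eq_top_iff]
  intro x _
  set Y := Subgroup.closure {x : X | ∃ a : A, a ≠ 1 ∧ α a x = x}
  rcases subsingleton_or_nontrivial X with h | h
  · rw [Subsingleton.elim x 1]; exact one_mem _
  set Z := Subgroup.center X
  have hZ : ∀ a : A, ∀ z ∈ Z, α a z ∈ Z := fun a => apply_mem_of_char (α a) Z
  have hp : p.Prime := Fact.out
  have : Finite A := Nat.finite_of_card_ne_zero (by rw [hcard]; exact pow_ne_zero _ hp.ne_zero)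
  have hAp : IsPGroup p A := IsPGroup.of_card hcard
  have hcopZ : p.Coprime (Nat.card Z) :=
    hcop.coprime_dvd_right (Subgroup.card_subgroup_dvd_card Z)
  -- the centre is generated by fixed elements
  have hZY : Z ≤ Y := by
    intro z hz
    let β : A →* MulAut Z :=
      { toFun := fun a =>
          { toFun := fun v => ⟨α a v, hZ a v v.2⟩
            invFun := fun v => ⟨(α a).symm v, apply_mem_of_char (α a).symm Z v v.2⟩
            left_inv := fun v => Subtype.ext ((α a).symm_apply_apply v)
            right_inv := fun v => Subtype.ext ((α a).apply_symm_apply v)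
            map_mul' := fun v w => Subtype.ext (map_mul (α a) (v : X) w) }
        map_one' := MulEquiv.ext fun v => Subtype.ext (by simp)
        map_mul' := fun a b => MulEquiv.ext fun v => Subtype.ext (by
          simp [MulAut.mul_apply]) }
    by_cases hker : ∃ a : A, a ≠ 1 ∧ β a = 1
    · obtain ⟨a, ha, hb⟩ := hker
      exact Subgroup.subset_closure
        ⟨a, ha, congrArg Subtype.val (DFunLike.congr_fun hb ⟨z, hz⟩)⟩
    · push_neg at hker
      have : Nontrivial A := Finite.one_lt_card_iff_nontrivial.mp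
        (by rw [hcard]; exact Nat.one_lt_pow two_ne_zero hp.one_lt)
      obtain ⟨c, hc⟩ := exists_ne (1 : A)
      obtain ⟨a, -, ha⟩ := exists_not_mem_zpowers hp (A := (⊤ : Subgroup A))
        (fun a _ => hpow a) (by rw [Subgroup.card_top, hcard]) (Subgroup.mem_top c)
      have haj : ∀ j : ℕ, β a * β c ^ j ≠ 1 := fun j => by
        rw [← map_pow, ← map_mul]
        refine hker _ fun h => ha ?_
        rw [mul_eq_one_iff_eq_inv.mp h]
        exact inv_mem (pow_mem (Subgroup.mem_zpowers c) j)
      refine mem_of_fixed_abelian (V := Z) hp hcopZ (a := β a) (c := β c)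
        (by rw [← map_pow, hpow, map_one]) (by rw [← map_pow, hpow, map_one])
        ((Commute.all a c).map β) (Y.subgroupOf Z) ?_ haj (hker c hc) ⟨z, hz⟩
      intro g hg hg1 v hv
      have hgr : g ∈ β.range := by
        refine (Subgroup.closure_le _).mpr ?_ hg
        rintro y (rfl | rfl) <;> exact ⟨_, rfl⟩
      obtain ⟨g₀, rfl⟩ := hgr
      exact Subgroup.subset_closure
        ⟨g₀, fun h => hg1 (by rw [h, map_one]), congrArg Subtype.val hv⟩
  have hlt : Nat.card (X ⧸ Z) < Nat.card X := by
    haveI := hX.center_nontrivial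
    rw [Subgroup.card_eq_card_quotient_mul_card_subgroup Z]
    exact lt_mul_of_one_lt_right Nat.card_pos Finite.one_lt_card
  have htop := ih _ hlt (X ⧸ Z) (hX.to_quotient Z)
    (hcop.coprime_dvd_right (Subgroup.card_quotient_dvd_card Z)) (quotHom α Z hZ) rfl
  have hsub : Subgroup.closure {q : X ⧸ Z | ∃ a : A, a ≠ 1 ∧ quotHom α Z hZ a q = q} ≤
      Y.map (QuotientGroup.mk' Z) := by
    rw [Subgroup.closure_le]
    rintro q ⟨a, ha, hq⟩
    obtain ⟨y, rfl⟩ := QuotientGroup.mk_surjective q
    have hy : y⁻¹ * α a y ∈ Z := QuotientGroup.eq.mp hq.symm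
    have hmem : ∀ b : Subgroup.zpowers a, y⁻¹ * α (b : A) y ∈ Z := by
      intro b
      obtain ⟨m, hm⟩ := (mem_powers_iff_mem_zpowers (x := a) (y := (b : A))).mpr b.2
      rw [← hm]
      clear hm
      change y⁻¹ * α (a ^ m) y ∈ Z
      induction m with
      | zero => simp [Z.one_mem]
      | succ m ihm =>
        have := Z.mul_mem hy (hZ a _ ihm)
        convert this using 1
        rw [pow_succ', map_mul, MulAut.mul_apply, map_mul, map_inv]
        group
    obtain ⟨z, hz, hfix⟩ := exists_fixed_of_coprime (hAp.to_subgroup (Subgroup.zpowers a))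
      (α.comp (Subgroup.zpowers a).subtype) Z (fun b => hZ b) hcopZ y hmem
    refine ⟨y * z, Subgroup.subset_closure ⟨a, ha, hfix ⟨a, Subgroup.mem_zpowers a⟩⟩, ?_⟩
    exact (QuotientGroup.mk'_eq_mk' Z).mpr ⟨z⁻¹, Z.inv_mem hz, by simp⟩
  have hx : (x : X ⧸ Z) ∈ Y.map (QuotientGroup.mk' Z) :=
    hsub (htop ▸ Subgroup.mem_top _)
  have h2 : x ∈ (Y.map (QuotientGroup.mk' Z)).comap (QuotientGroup.mk' Z) := hx
  rwa [Subgroup.comap_map_eq, QuotientGroup.ker_mk', sup_eq_left.mpr hZY] at h2

end Cfsg.Agent.Lib.FpfHeight.Generation
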