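/-
Fixed-point-free automorphisms of order four of solvable groups: the square centralizes G/F(G).
-/
import Mathlib.GroupTheory.Solvable
import Cfsg.Prelude.Def_Solvable
import Cfsg.Agent.Lib.Cores.Basic
import Cfsg.Agent.Lib.FpfHeight.Basic

set_option autoImplicit false

namespace Cfsg.Agent.Lib.FpfHeight.OrderFour

open Cfsg.Agent.Lib.FpfHeight.Basic

/-- Conjugation by `s` as an automorphism of a finite subgroup normalized by it. -/
noncomputable def conjRestrict {E : Type*} [Group E] (s : E) (Q : Subgroup E) [Finite Q]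
    (h : ∀ x ∈ Q, s * x * s⁻¹ ∈ Q) : MulAut Q :=
  MulEquiv.ofBijective
    ({ toFun := fun x => ⟨s * x * s⁻¹, h x x.2⟩
       map_one' := Subtype.ext (by simp)
       map_mul' := fun x y => Subtype.ext (by simp [mul_assoc]) } : Q →* Q)
    (Function.Injective.bijective_of_finite fun x y hxy => by
      have : s * (x : E) * s⁻¹ = s * (y : E) * s⁻¹ := congrArg Subtype.val hxy
      simpa using this)

theorem coe_conjRestrict {E : Type*} [Group E] (s : E) (Q : Subgroup E) [Finite Q]
    (h : ∀ x ∈ Q, s * x * s⁻¹ ∈ Q) (x : Q) :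
    (conjRestrict s Q h x : E) = s * x * s⁻¹ := rfl

theorem eq_one_of_sq_eq_one {E : Type*} [Group E] {Q : Subgroup E} [Finite Q]
    (hodd : Odd (Nat.card Q)) {d : E} (hd : d ∈ Q) (h : d ^ 2 = 1) : d = 1 := by
  have h1 : orderOf d ∣ 2 := orderOf_dvd_of_pow_eq_one h
  have h2 : orderOf d ∣ Nat.card Q := Subgroup.orderOf_dvd_natCard Q hd
  exact orderOf_eq_one_iff.mp
    (Nat.eq_one_of_dvd_coprimes (Nat.coprime_two_left.mpr hodd) h1 h2)

/-- If `s` of order dividing four acts without fixed points on an abelian group `V` and on a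
solvable group `Q` of automorphisms of coprime odd order, then `s ^ 2` centralizes `Q`. -/
theorem sq_commute {V : Type*} [CommGroup V] [Finite V] (s : MulAut V) (hs : s ^ 4 = 1)
    (hV : ∀ v, s v = v → v = 1) :
    ∀ Q : Subgroup (MulAut V), Group.IsSolvable Q → Odd (Nat.card Q) →
      (Nat.card Q).Coprime (Nat.card V) → (∀ x ∈ Q, s * x * s⁻¹ ∈ Q) →
      (∀ x ∈ Q, s * x * s⁻¹ = x → x = 1) → ∀ x ∈ Q, Commute (s ^ 2) x := by
  have : Finite (MulAut V) := Finite.of_injective (fun e : MulAut V => (e : V → V))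
    DFunLike.coe_injective
  intro Q
  induction hm : Nat.card Q using Nat.strong_induction_on generalizing Q with
  | _ m ih =>
  subst hm
  intro hsol hodd hco hnorm hQ
  set τ := s ^ 2 with hτ
  have hττ : τ * τ = 1 := by rw [hτ, ← pow_add]; exact hs
  have hτinv : τ⁻¹ = τ := inv_eq_of_mul_eq_one_right hττ
  have hτnorm : ∀ x ∈ Q, τ * x * τ⁻¹ ∈ Q := by
    intro x hx
    have := hnorm _ (hnorm x hx)
    simpa [hτ, pow_two, mul_assoc] using this
  have hs_inv : ∀ v, τ v = v → s v = v⁻¹ := by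
    intro v hv
    have h1 : s (v * s v) = v * s v := by
      rw [map_mul, show s (s v) = v from (by simpa [hτ, pow_two] using hv), mul_comm]
    exact eq_inv_of_mul_eq_one_right (hV _ h1)
  -- elements of `Q` commuting with `τ` fix the fixed points of `τ`
  have hfix : ∀ d ∈ Q, Commute τ d → ∀ v, τ v = v → d v = v := by
    intro d hd hcd v hv
    let B : Subgroup Q :=
      { carrier := {b : Q | Commute τ (b : MulAut V) ∧ ∀ u, τ u = u → (b : MulAut V) u = u}
        one_mem' := ⟨Commute.one_right _, fun u _ => rfl⟩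
        mul_mem' := fun {a b} ha hb => ⟨ha.1.mul_right hb.1, fun u hu => by
          simp [MulAut.mul_apply, hb.2 u hu, ha.2 u hu]⟩
        inv_mem' := fun {a} ha => ⟨ha.1.inv_right, fun u hu => by
          change (a : MulAut V)⁻¹ u = u
          conv_lhs => rw [← ha.2 u hu]
          exact MulEquiv.symm_apply_apply _ _⟩ }
    have hcomm : ∀ b : MulAut V, Commute τ b → Commute τ (s * b * s⁻¹) := fun b hb =>
      ((Commute.pow_self s 2).mul_right hb).mul_right (Commute.pow_self s 2).inv_right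
    have hBinv : ∀ b ∈ B, conjRestrict s Q hnorm b ∈ B := by
      intro b hb
      refine ⟨hcomm _ hb.1, fun u hu => ?_⟩
      have h1 : τ (s⁻¹ u) = s⁻¹ u := by
        have := DFunLike.congr_fun (Commute.pow_self s 2).inv_right.eq u
        rw [MulAut.mul_apply, MulAut.mul_apply, ← hτ, hu] at this
        exact this
      rw [coe_conjRestrict, MulAut.mul_apply, MulAut.mul_apply, hb.2 _ h1]
      exact MulEquiv.apply_symm_apply _ _
    have hsinv : ∀ u, τ u = u → s⁻¹ u = u⁻¹ := fun u hu => by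
      refine s.injective ?_
      rw [map_inv, hs_inv u hu, inv_inv]
      exact MulEquiv.apply_symm_apply _ _
    have hmem : (⟨d, hd⟩ : Q)⁻¹ * conjRestrict s Q hnorm ⟨d, hd⟩ ∈ B := by
      refine ⟨hcd.inv_right.mul_right (hcomm d hcd), fun u hu => ?_⟩
      change (d⁻¹ * (s * d * s⁻¹)) u = u
      have hdu : τ (d u) = d u := by
        rw [← MulAut.mul_apply, hcd.eq, MulAut.mul_apply, hu]
      simp only [MulAut.mul_apply]
      rw [hsinv u hu, map_inv d, map_inv s, hs_inv (d u) hdu, inv_inv]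
      exact MulEquiv.symm_apply_apply _ _
    have := mem_of_invariant_of_fixed (conjRestrict s Q hnorm)
      (fun x hx => Subtype.ext (hQ x x.2 (congrArg Subtype.val hx))) hBinv hmem
    exact this.2 v hv
  by_cases hab : ∀ x ∈ Q, ∀ y ∈ Q, x * y = y * x
  · let I : Subgroup (MulAut V) :=
      { carrier := {x | x ∈ Q ∧ τ * x * τ⁻¹ = x⁻¹}
        one_mem' := ⟨Q.one_mem, by simp⟩
        mul_mem' := fun {a b} ha hb => ⟨Q.mul_mem ha.1 hb.1, by
          rw [show τ * (a * b) * τ⁻¹ = (τ * a * τ⁻¹) * (τ * b * τ⁻¹) by group, ha.2, hb.2,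
            ← mul_inv_rev, hab b hb.1 a ha.1]⟩
        inv_mem' := fun {a} ha => ⟨Q.inv_mem ha.1, by
          rw [show τ * a⁻¹ * τ⁻¹ = (τ * a * τ⁻¹)⁻¹ by group, ha.2]⟩ }
    have hIle : I ≤ Q := fun x hx => hx.1
    have hIinv : ∀ x ∈ I, s * x * s⁻¹ ∈ I := by
      intro x hx
      refine ⟨hnorm x hx.1, ?_⟩
      calc τ * (s * x * s⁻¹) * τ⁻¹ = s * (τ * x * τ⁻¹) * s⁻¹ := by rw [hτ]; group
        _ = (s * x * s⁻¹)⁻¹ := by rw [hx.2]; group
    intro x hx
    set d := x⁻¹ * (τ * x * τ⁻¹) with hd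
    have hdI : d ∈ I := by
      refine ⟨Q.mul_mem (Q.inv_mem hx) (hτnorm x hx), ?_⟩
      rw [hd, mul_inv_rev, inv_inv, hτinv]
      calc τ * (x⁻¹ * (τ * x * τ)) * τ = (τ * x⁻¹ * τ) * x * (τ * τ) := by group
        _ = (τ * x * τ)⁻¹ * x := by
          rw [hττ, mul_one, mul_inv_rev, mul_inv_rev, hτinv, mul_assoc τ x⁻¹ τ]
    have hN := sum_pow_eq_zero s hs hV
    have h := frob_op toEnd I s (n := 4) (by norm_num) hIinv (fun i hi hi4 y hy hfix' => by
      interval_cases i
      · exact hQ y hy.1 (by simpa using hfix')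
      · refine eq_one_of_sq_eq_one hodd hy.1 ?_
        have : y⁻¹ = y := hy.2.symm.trans hfix'
        rw [pow_two]; conv_lhs => enter [1]; rw [← this]
        simp
      · refine hQ y hy.1 ?_
        have h4 : s ^ 4 * y * (s ^ 4)⁻¹ = y := by simp [hs]
        calc s * y * s⁻¹ = s * (s ^ 3 * y * (s ^ 3)⁻¹) * s⁻¹ := by rw [hfix']
          _ = s ^ 4 * y * (s ^ 4)⁻¹ := by group
          _ = y := h4) 1 (fun _ _ => Commute.one_left _) (by rw [hN, mul_zero]) d hdI
    have hd1 : d = 1 := by
      have := eq_zero_of_coprime_natCast_mul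
        (hco.coprime_dvd_left (Subgroup.card_dvd_of_le hIle)) h
      rw [one_mul, sub_eq_zero] at this
      refine MulEquiv.ext fun v => ?_
      exact congrArg Additive.toMul (DFunLike.congr_fun this (Additive.ofMul v))
    have : τ * x * τ⁻¹ = x := (inv_mul_eq_one.mp hd1).symm
    exact mul_inv_eq_iff_eq_mul.mp this
  · have hQ'lt : ⁅Q, Q⁆ < Q := by
      have : Nontrivial Q := by
        rw [Subgroup.nontrivial_iff_ne_bot]
        rintro rfl
        exact hab (fun x hx y hy => by
          rw [Subgroup.mem_bot.mp hx, Subgroup.mem_bot.mp hy])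
      have h1 := Group.IsSolvable.commutator_lt_top_of_nontrivial Q
      have h2 := (Subgroup.map_lt_map_iff_of_injective Q.subtype_injective).mpr h1
      rwa [Subgroup.map_subtype_commutator, ← MonoidHom.range_eq_map,
        Subgroup.range_subtype] at h2
    have hsolve : ∀ M : Subgroup (MulAut V), M < Q → (∀ x ∈ M, s * x * s⁻¹ ∈ M) →
        ∀ x ∈ M, Commute τ x := by
      intro M hM hMn
      have hlt : Nat.card M < Nat.card Q := by
        have h1 : Nat.card M ≤ Nat.card Q := Subgroup.card_le_of_le hM.le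
        refine h1.lt_of_ne fun e => hM.ne ?_
        exact Subgroup.eq_of_le_of_card_ge hM.le e.ge
      exact ih (Nat.card M) hlt M rfl
        (isSolvable_of_le hM.le hsol) (Odd.of_dvd_nat hodd (Subgroup.card_dvd_of_le hM.le))
        (hco.coprime_dvd_left (Subgroup.card_dvd_of_le hM.le)) hMn
        (fun x hx => hQ x (hM.le hx))
    have hQ'inv : ∀ x ∈ ⁅Q, Q⁆, s * x * s⁻¹ ∈ ⁅Q, Q⁆ := by
      intro x hx
      have h1 : (Q.map (MulAut.conj s).toMonoidHom) ≤ Q := by
        rintro _ ⟨a, ha, rfl⟩; exact hnorm a ha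
      have h2 : (⁅Q, Q⁆).map (MulAut.conj s).toMonoidHom ≤ ⁅Q, Q⁆ := by
        rw [Subgroup.map_commutator]; exact Subgroup.commutator_mono h1 h1
      exact h2 ⟨x, hx, rfl⟩
    let C : Subgroup V :=
      { carrier := {v | ∀ c ∈ ⁅Q, Q⁆, c v = v}
        one_mem' := fun c _ => map_one c
        mul_mem' := fun ha hb c hc => by rw [map_mul, ha c hc, hb c hc]
        inv_mem' := fun ha c hc => by rw [map_inv, ha c hc] }
    have hQC : ∀ y ∈ Q, ∀ v ∈ C, y v ∈ C := by
      intro y hy v hv c hc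
      have hc' : y⁻¹ * c * y ∈ ⁅Q, Q⁆ := by
        have h1 : Q.map (MulAut.conj y⁻¹).toMonoidHom ≤ Q := by
          rintro _ ⟨a, ha, rfl⟩
          exact Q.mul_mem (Q.mul_mem (Q.inv_mem hy) ha) (Q.inv_mem (Q.inv_mem hy))
        have h2 : (⁅Q, Q⁆).map (MulAut.conj y⁻¹).toMonoidHom ≤ ⁅Q, Q⁆ := by
          rw [Subgroup.map_commutator]; exact Subgroup.commutator_mono h1 h1
        simpa [MulAut.conj_apply] using h2 ⟨c, hc, rfl⟩
      have := congrArg y (hv _ hc')
      simpa [MulAut.mul_apply] using this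
    have hsC : ∀ v ∈ C, s v ∈ C := by
      intro v hv c hc
      have hc' : s⁻¹ * c * s ∈ ⁅Q, Q⁆ := by
        have h3 : s⁻¹ = s ^ 3 := inv_eq_of_mul_eq_one_right (by rw [← pow_succ']; exact hs)
        have := hQ'inv _ (hQ'inv _ (hQ'inv c hc))
        have e : s * (s * (s * c * s⁻¹) * s⁻¹) * s⁻¹ = s⁻¹ * c * s := by
          calc s * (s * (s * c * s⁻¹) * s⁻¹) * s⁻¹ = s ^ 3 * c * (s ^ 3)⁻¹ := by
                simp [pow_succ, mul_assoc]
            _ = s⁻¹ * c * s := by rw [← h3, inv_inv]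
        rwa [e] at this
      have := congrArg s (hv _ hc')
      simpa [MulAut.mul_apply] using this
    have hτC : ∀ v, τ v * v ∈ C := by
      intro v c hc
      refine hfix c (hQ'lt.le hc) (hsolve _ hQ'lt hQ'inv c hc) _ ?_
      rw [map_mul, show τ (τ v) = v from (by rw [← MulAut.mul_apply, hττ]; rfl), mul_comm]
    let M : Subgroup (MulAut V) :=
      { carrier := {y | y ∈ Q ∧ ∀ v, y v * v⁻¹ ∈ C}
        one_mem' := ⟨Q.one_mem, fun v => by simp [C.one_mem]⟩
        mul_mem' := fun {a b} ha hb => ⟨Q.mul_mem ha.1 hb.1, fun v => by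
          have := C.mul_mem (ha.2 (b v)) (hb.2 v)
          simpa [MulAut.mul_apply, mul_assoc] using this⟩
        inv_mem' := fun {a} ha => ⟨Q.inv_mem ha.1, fun v => by
          have := C.inv_mem (ha.2 (a⁻¹ v))
          simpa using this⟩ }
    have hMd : ∀ x ∈ Q, x⁻¹ * (τ * x * τ⁻¹) ∈ M := by
      intro x hx
      refine ⟨Q.mul_mem (Q.inv_mem hx) (hτnorm x hx), fun v => ?_⟩
      simp only [MulAut.mul_apply, hτinv]
      have h1 : x (τ v) * x v ∈ C := by rw [← map_mul]; exact hQC x hx _ (hτC v)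
      have h2 : τ (x (τ v)) * (x v)⁻¹ ∈ C := by
        have := C.mul_mem (hτC (x (τ v))) (C.inv_mem h1)
        have e : τ (x (τ v)) * x (τ v) * (x (τ v) * x v)⁻¹ = τ (x (τ v)) * (x v)⁻¹ := by
          rw [mul_inv, mul_assoc, mul_inv_cancel_left]
        rwa [e] at this
      have := hQC _ (Q.inv_mem hx) _ h2
      simpa [map_mul, map_inv] using this
    have hMs : ∀ x ∈ M, s * x * s⁻¹ ∈ M := by
      intro x hx
      refine ⟨hnorm x hx.1, fun v => ?_⟩
      have := hsC _ (hx.2 (s⁻¹ v))
      simpa [MulAut.mul_apply] using this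
    rcases eq_or_lt_of_le (show M ≤ Q from fun x hx => hx.1) with hMQ | hMQ
    · exfalso
      have hQ'1 : ∀ c ∈ ⁅Q, Q⁆, c = 1 := by
        intro c hc
        refine MulEquiv.ext fun v => ?_
        have hu : c v * v⁻¹ ∈ C := (show c ∈ M by rw [hMQ]; exact hQ'lt.le hc).2 v
        set u := c v * v⁻¹ with hu'
        have hpow : ∀ k : ℕ, (c ^ k) v = v * u ^ k := by
          intro k
          induction k with
          | zero => simp
          | succ k ihk =>
            have hk : c (u ^ k) = u ^ k := by rw [map_pow, hu c hc]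
            rw [pow_succ', MulAut.mul_apply, ihk, map_mul, hk, pow_succ', ← mul_assoc,
              show v * u = c v from by rw [hu', mul_comm, inv_mul_cancel_right]]
        have h1 : u ^ Nat.card Q = 1 := by
          have h := hpow (Nat.card Q)
          rw [show c ^ Nat.card Q = 1 from orderOf_dvd_iff_pow_eq_one.mp
            (Subgroup.orderOf_dvd_natCard Q (hQ'lt.le hc))] at h
          simpa using h.symm
        have hu1 : u = 1 := by
          have h2 : u ^ Nat.card V = 1 := pow_card_eq_one'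
          exact orderOf_eq_one_iff.mp (Nat.eq_one_of_dvd_coprimes hco
            (orderOf_dvd_of_pow_eq_one h1) (orderOf_dvd_of_pow_eq_one h2))
        exact mul_inv_eq_one.mp hu1
      exact hab fun x hx y hy =>
        commutatorElement_eq_one_iff_mul_comm.mp
          (hQ'1 _ (Subgroup.commutator_mem_commutator hx hy))
    · intro x hx
      have hd := hMd x hx
      have hc := hsolve M hMQ hMs _ hd
      set d := x⁻¹ * (τ * x * τ⁻¹) with hdd
      have h1 : τ * d * τ⁻¹ = d⁻¹ := by
        rw [hdd, hτinv, mul_inv_rev, mul_inv_rev, mul_inv_rev, inv_inv, hτinv]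
        calc τ * (x⁻¹ * (τ * x * τ)) * τ = τ * x⁻¹ * τ * x * (τ * τ) := by group
          _ = τ * (x⁻¹ * τ) * x := by rw [hττ, mul_one, mul_assoc τ x⁻¹ τ]
      have h2 : τ * d * τ⁻¹ = d := by rw [hc.eq, mul_inv_cancel_right]
      have hd1 : d = 1 := by
        refine eq_one_of_sq_eq_one hodd hd.1 ?_
        rw [pow_two]; nth_rewrite 1 [← h2]
        rw [h1, inv_mul_cancel]
      exact mul_inv_eq_iff_eq_mul.mp (inv_mul_eq_one.mp hd1).symm
where
  isSolvable_of_le {E : Type _} [Group E] {H K : Subgroup E} (h : H ≤ K)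
      (hK : Group.IsSolvable K) : Group.IsSolvable H :=
    Group.isSolvable_of_isSolvable_injective (Subgroup.inclusion_injective h)

end Cfsg.Agent.Lib.FpfHeight.OrderFour
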