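/-
The core lemma for Fitting height two under a fixed-point-free elementary abelian group of
operators of order `p ^ 2`, in operator form.
-/
import Cfsg.Agent.Lib.FpfHeight.Basic
import Cfsg.Agent.Lib.FpfHeight.OrderFour
import Cfsg.Agent.Lib.FpfHeight.Generation

set_option autoImplicit false

namespace Cfsg.Agent.Lib.FpfHeight.FourGroup

open Cfsg.Agent.Lib.FpfHeight.Basic Cfsg.Agent.Lib.FpfHeight.Generation

variable {V : Type*} [CommGroup V]

/-- The standing hypotheses: `A` of order `p ^ 2` normalizes the `r`-group `R` and the `q`-group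
`Q`, which normalizes `R`; centralizers of nonidentity elements of `A` behave as in a group with
a fixed-point-free `A` and nilpotent centralizers. -/
structure Data (p q r : ℕ) (A R Q : Subgroup (MulAut V)) : Prop where
  comm : ∀ a ∈ A, ∀ b ∈ A, Commute a b
  pow : ∀ a ∈ A, a ^ p = 1
  card : Nat.card A = p ^ 2
  normR : ∀ a ∈ A, ∀ y ∈ R, a * y * a⁻¹ ∈ R
  normQ : ∀ a ∈ A, ∀ x ∈ Q, a * x * a⁻¹ ∈ Q
  normQR : ∀ x ∈ Q, ∀ y ∈ R, x * y * x⁻¹ ∈ R
  grpR : IsPGroup r R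
  grpQ : IsPGroup q Q
  copR : p.Coprime (Nat.card R)
  copQ : p.Coprime (Nat.card Q)
  copQR : (Nat.card Q).Coprime (Nat.card R)
  copRV : (Nat.card R).Coprime (Nat.card V)
  commQR : ∀ a ∈ A, a ≠ 1 → ∀ x ∈ Q, ∀ y ∈ R, Commute a x → Commute a y → Commute x y
  fixRV : ∀ a ∈ A, a ≠ 1 → ∀ y ∈ R, Commute a y → ∀ v, a v = v → y v = v
  fpfR : ∀ y ∈ R, (∀ a ∈ A, Commute a y) → y = 1
  fpfQ : ∀ x ∈ Q, (∀ a ∈ A, Commute a x) → x = 1

variable {p q r : ℕ} {A R Q : Subgroup (MulAut V)}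

theorem Data.mono [Finite V] (d : Data p q r A R Q) {R₁ Q₁ : Subgroup (MulAut V)} (hR : R₁ ≤ R)
    (hQ : Q₁ ≤ Q) (hAR : ∀ a ∈ A, ∀ y ∈ R₁, a * y * a⁻¹ ∈ R₁)
    (hAQ : ∀ a ∈ A, ∀ x ∈ Q₁, a * x * a⁻¹ ∈ Q₁)
    (hQR : ∀ x ∈ Q₁, ∀ y ∈ R₁, x * y * x⁻¹ ∈ R₁) : Data p q r A R₁ Q₁ where
  comm := d.comm
  pow := d.pow
  card := d.card
  normR := hAR
  normQ := hAQ
  normQR := hQR
  grpR := d.grpR.to_le hR
  grpQ := d.grpQ.to_le hQ
  copR := d.copR.coprime_dvd_right (Subgroup.card_dvd_of_le hR)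
  copQ := d.copQ.coprime_dvd_right (Subgroup.card_dvd_of_le hQ)
  copQR := (d.copQR.coprime_dvd_left (Subgroup.card_dvd_of_le hQ)).coprime_dvd_right
    (Subgroup.card_dvd_of_le hR)
  copRV := d.copRV.coprime_dvd_left (Subgroup.card_dvd_of_le hR)
  commQR := fun a ha h1 x hx y hy => d.commQR a ha h1 x (hQ hx) y (hR hy)
  fixRV := fun a ha h1 y hy => d.fixRV a ha h1 y (hR hy)
  fpfR := fun y hy => d.fpfR y (hR hy)
  fpfQ := fun x hx => d.fpfQ x (hQ hx)

/-- The elements fixed by `T` from the right. -/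
def rfix (T : AddMonoid.End (Additive V)) : Subgroup (MulAut V) where
  carrier := {w | T * toEnd w = T}
  one_mem' := by simp
  mul_mem' := fun {a b} ha hb => by
    change T * toEnd (a * b) = T
    rw [map_mul, ← mul_assoc, ha, hb]
  inv_mem' := fun {a} ha => by
    change T * toEnd a⁻¹ = T
    conv_lhs => rw [← show T * toEnd a = T from ha]
    rw [mul_assoc, ← map_mul, mul_inv_cancel, map_one, mul_one]

theorem mem_rfix {T : AddMonoid.End (Additive V)} {w : MulAut V} :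
    w ∈ rfix T ↔ T * (toEnd w - 1) = 0 := by
  rw [mul_sub, mul_one, sub_eq_zero]; exact Iff.rfl

theorem toEnd_injective : Function.Injective (toEnd : MulAut V → AddMonoid.End (Additive V)) :=
  fun a b h => MulEquiv.ext fun v => congrArg Additive.toMul (DFunLike.congr_fun h (Additive.ofMul v))

theorem commute_sub_one {a b : MulAut V} (h : Commute a b) :
    Commute (toEnd a - 1) (toEnd b - 1) :=
  ((h.map toEnd).sub_left (Commute.one_left _)).sub_right (Commute.one_right _)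

/-- `T (e - 1)² = 0` forces `T (e - 1) = 0` for `e` of order prime to the abelian group. -/
theorem mul_sub_one_eq_zero [Finite V] {e : MulAut V} {k : ℕ} (hk : e ^ k = 1)
    (hcop : k.Coprime (Nat.card V)) (T : AddMonoid.End (Additive V))
    (h : T * (toEnd e - 1) * (toEnd e - 1) = 0) : T * (toEnd e - 1) = 0 := by
  have h1 : ∀ m : ℕ, T * toEnd (e ^ m) = T + (m : AddMonoid.End (Additive V)) * (T * (toEnd e - 1)) := by
    intro m
    induction m with
    | zero => simp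
    | succ m ih =>
      rw [pow_succ, map_mul, ← mul_assoc, ih]
      have h2 : T * (toEnd e - 1) * toEnd e = T * (toEnd e - 1) := by
        rw [mul_sub (T * (toEnd e - 1)), mul_one, sub_eq_zero] at h
        exact h
      rw [add_mul, mul_assoc, h2, Nat.cast_succ, add_mul, one_mul, mul_sub, mul_one]
      abel
  have h3 := h1 k
  rw [hk, map_one, mul_one, left_eq_add] at h3
  exact eq_zero_of_coprime_natCast_mul hcop h3

/-- An element fixing the fixed points of `a` annihilates the commutators with an `a`-invariant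
group of coprime order on which `a` has no fixed points. -/
theorem ann_of_fpf [Finite V] {p : ℕ} (hp : p.Prime) {a y : MulAut V} (ha : a ^ p = 1)
    (hy : ∀ v, a v = v → y v = v) (Z : Subgroup (MulAut V))
    (hcop : (Nat.card Z).Coprime (Nat.card V)) (hZ : ∀ z ∈ Z, a * z * a⁻¹ ∈ Z)
    (hZy : ∀ z ∈ Z, Commute y z) (hfpf : ∀ z ∈ Z, Commute a z → z = 1) :
    ∀ z ∈ Z, (toEnd y - 1) * (toEnd z - 1) = 0 := by
  have : Finite (MulAut V) := Finite.of_injective (fun e : MulAut V => (e : V → V))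
    DFunLike.coe_injective
  intro z hz
  have hN : (toEnd y - 1) * ∑ i ∈ Finset.range p, toEnd (a ^ i) = 0 := by
    rw [sub_mul, one_mul, sub_eq_zero]
    refine AddMonoidHom.ext fun v => ?_
    set w := (∑ i ∈ Finset.range p, toEnd (a ^ i)) v with hw
    change toEnd y w = w
    have h1 := hy _ (apply_sum_pow a ha v)
    exact congrArg Additive.ofMul h1
  have h1 := frob_op toEnd Z a hp.pos hZ (by
    intro i hi hip x hx hfix
    refine hfpf x hx (commute_of_pow_commute hp ha (Nat.not_dvd_of_pos_of_lt hi hip) ?_)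
    exact mul_inv_eq_iff_eq_mul.mp hfix) (toEnd y - 1)
    (fun x hx => ((hZy x hx).map toEnd).sub_left (Commute.one_left _)) hN z hz
  exact eq_zero_of_coprime_natCast_mul hcop h1

theorem mul_eq_zero_of_neg_mul_eq_zero {S : Type*} [Ring S] {a b : S} (h : -a * b = 0) :
    a * b = 0 := by
  rwa [neg_mul, neg_eq_zero] at h

/-- The commutator of `g` with an element of `R` normalized by it. -/
theorem comm_mem {E : Type*} [Group E] {R : Subgroup E} {g y : E} (hy : y ∈ R)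
    (hg : ∀ z ∈ R, g * z * g⁻¹ ∈ R) : g * y * g⁻¹ * y⁻¹ ∈ R :=
  R.mul_mem (hg y hy) (R.inv_mem hy)

theorem commute_iff_comm_eq_one {E : Type*} [Group E] {g y : E} :
    Commute g y ↔ g * y * g⁻¹ * y⁻¹ = 1 := by
  rw [mul_inv_eq_one, mul_inv_eq_iff_eq_mul]; rfl

/-- Conjugation by powers, when the commutator commutes with `g`. -/
theorem eq_one_of_commute_comm {E : Type*} [Group E] {g y w : E} {k : ℕ} (hk : g ^ k = 1)
    (hw : g * y * g⁻¹ * y⁻¹ = w) (hc : Commute g w) : w ^ k = 1 := by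
  have h : ∀ m : ℕ, g ^ m * y * (g ^ m)⁻¹ = w ^ m * y := by
    intro m
    induction m with
    | zero => simp
    | succ m ih =>
      calc g ^ (m + 1) * y * (g ^ (m + 1))⁻¹ = g * (g ^ m * y * (g ^ m)⁻¹) * g⁻¹ := by
            rw [pow_succ']; group
        _ = (g * w ^ m) * y * g⁻¹ := by rw [ih]; group
        _ = (w ^ m * g) * y * g⁻¹ := by rw [(hc.pow_right m).eq]
        _ = w ^ m * (g * y * g⁻¹) := by group
        _ = w ^ (m + 1) * y := by
            rw [show g * y * g⁻¹ = w * y from mul_inv_eq_iff_eq_mul.mp hw, pow_succ, mul_assoc]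
  have := h k
  rw [hk] at this
  simpa using this.symm

theorem Data.pow_ne_one_ne (hp : p.Prime) (d : Data p q r A R Q) {a c : MulAut V} (ha : a ∈ A)
    (hc : c ∈ A) (ha1 : a ≠ 1) (hca : c ∉ Subgroup.zpowers a) (x : MulAut V) (hax : Commute a x)
    (hcx : Commute c x) : ∀ b ∈ A, Commute b x := by
  intro b hb
  have hle : Subgroup.closure {a, c} ≤ Subgroup.centralizer {x} := by
    rw [Subgroup.closure_le]
    rintro z (rfl | rfl)
    · exact Subgroup.mem_centralizer_singleton_iff.mpr hax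
    · exact Subgroup.mem_centralizer_singleton_iff.mpr hcx
  rw [closure_pair_eq hp d.pow d.card ha hc ha1 hca] at hle
  exact Subgroup.mem_centralizer_singleton_iff.mp (hle hb)

/-- A subgroup containing all elements of `X` that commute with some nonidentity element of `A`
contains `X`. -/
theorem le_of_fixed_le [Finite V] (hp : p.Prime) {s : ℕ} (hs : s.Prime) (d : Data p q r A R Q)
    {X Y : Subgroup (MulAut V)} (hX : IsPGroup s X) (hcop : p.Coprime (Nat.card X))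
    (hAX : ∀ a ∈ A, ∀ x ∈ X, a * x * a⁻¹ ∈ X)
    (h : ∀ a ∈ A, a ≠ 1 → ∀ x ∈ X, Commute a x → x ∈ Y) : X ≤ Y := by
  have : Finite (MulAut V) := Finite.of_injective (fun e : MulAut V => (e : V → V))
    DFunLike.coe_injective
  haveI := Fact.mk hp
  haveI := Fact.mk hs
  haveI : IsMulCommutative A := ⟨⟨fun a b => Subtype.ext (d.comm a a.2 b b.2)⟩⟩
  open scoped IsMulCommutative in
  let α : A →* MulAut X :=
    { toFun := fun a => OrderFour.conjRestrict (a : MulAut V) X (hAX a a.2)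
      map_one' := MulEquiv.ext fun x => Subtype.ext (by simp [OrderFour.coe_conjRestrict])
      map_mul' := fun a b => MulEquiv.ext fun x => Subtype.ext (by
        simp [OrderFour.coe_conjRestrict, MulAut.mul_apply, mul_assoc]) }
  open scoped IsMulCommutative in
  have htop := closure_fixed_eq_top (fun a : A => Subtype.ext (d.pow a a.2)) d.card X hX hcop α
  intro x hx
  have h1 : (⟨x, hx⟩ : X) ∈ Y.subgroupOf X := by
    refine (Subgroup.closure_le _).mpr ?_ (htop.ge (Subgroup.mem_top (⟨x, hx⟩ : X)))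
    rintro y ⟨a, ha, hay⟩
    refine h a a.2 (fun e => ha (Subtype.ext e)) y y.2 ?_
    exact mul_inv_eq_iff_eq_mul.mp (congrArg Subtype.val hay)
  exact h1

theorem Data.invA (d : Data p q r A R Q) : ∀ a ∈ A, ∀ y ∈ R, a⁻¹ * y * a ∈ R := fun a ha y hy => by
  simpa using d.normR a⁻¹ (A.inv_mem ha) y hy

theorem Data.invQ (d : Data p q r A R Q) : ∀ x ∈ Q, ∀ y ∈ R, x⁻¹ * y * x ∈ R := fun x hx y hy => by
  simpa using d.normQR x⁻¹ (Q.inv_mem hx) y hy

/-- The centre of `R`, as a subgroup of the ambient group, is invariant. -/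
theorem centre_inv {E : Type*} [Group E] {R : Subgroup E} {g : E}
    (hg : ∀ y ∈ R, g * y * g⁻¹ ∈ R) (hg' : ∀ y ∈ R, g⁻¹ * y * g ∈ R) :
    ∀ z ∈ R ⊓ Subgroup.centralizer (R : Set E), g * z * g⁻¹ ∈ R ⊓ Subgroup.centralizer (R : Set E) := by
  intro z hz
  refine ⟨hg z hz.1, Subgroup.mem_centralizer_iff.mpr fun y hy => ?_⟩
  have h := Subgroup.mem_centralizer_iff.mp hz.2 _ (hg' y hy)
  calc y * (g * z * g⁻¹) = g * ((g⁻¹ * y * g) * z) * g⁻¹ := by group
    _ = g * (z * (g⁻¹ * y * g)) * g⁻¹ := by rw [h]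
    _ = g * z * g⁻¹ * y := by group

/-- For abelian `R` normalized by `g`, the commutator map with `g`. -/
def comHom {R : Subgroup (MulAut V)} (hRc : ∀ y ∈ R, ∀ z ∈ R, Commute y z) (g : MulAut V)
    (hg : ∀ y ∈ R, g * y * g⁻¹ ∈ R) : R →* MulAut V where
  toFun y := g * y * g⁻¹ * (y : MulAut V)⁻¹
  map_one' := by simp
  map_mul' y z := by
    change g * (y * z : MulAut V) * g⁻¹ * ((y : MulAut V) * z)⁻¹ = _
    rw [mul_inv_rev]
    have h := hRc _ (comm_mem z.2 hg) _ (R.inv_mem y.2)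
    calc g * (y * z : MulAut V) * g⁻¹ * ((z : MulAut V)⁻¹ * (y : MulAut V)⁻¹)
        = g * y * g⁻¹ * ((g * z * g⁻¹ * (z : MulAut V)⁻¹) * (y : MulAut V)⁻¹) := by group
      _ = g * y * g⁻¹ * ((y : MulAut V)⁻¹ * (g * z * g⁻¹ * (z : MulAut V)⁻¹)) := by rw [h.eq]
      _ = _ := by group

theorem hQc_lemma [Finite V] (hp : p.Prime) (d : Data p q r A R Q) {b : MulAut V} (hbA : b ∈ A)
    (hb1 : b ≠ 1) (hbQ : ∀ x ∈ Q, Commute b x) {c : MulAut V} (hc : c ∈ A)
    (hcb : c ∉ Subgroup.zpowers b) {x : MulAut V} (hx : x ∈ Q) :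
    ∃ x₁ ∈ Q, x = x₁⁻¹ * (c * x₁ * c⁻¹) := by
  have : Finite (MulAut V) := Finite.of_injective (fun e : MulAut V => (e : V → V))
    DFunLike.coe_injective
  let f : Q → Q := fun u => ⟨(u : MulAut V)⁻¹ * (c * u * c⁻¹),
    Q.mul_mem (Q.inv_mem u.2) (d.normQ c hc u u.2)⟩
  have hinj : Function.Injective f := by
    intro u w huw
    have e : (u : MulAut V)⁻¹ * (c * u * c⁻¹) = (w : MulAut V)⁻¹ * (c * w * c⁻¹) :=
      congrArg Subtype.val huw
    have hcu : Commute c ((u : MulAut V) * (w : MulAut V)⁻¹) := by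
      refine mul_inv_eq_iff_eq_mul.mp ?_
      calc c * ((u : MulAut V) * (w : MulAut V)⁻¹) * c⁻¹
          = u * ((u : MulAut V)⁻¹ * (c * u * c⁻¹)) * (c * (w : MulAut V)⁻¹ * c⁻¹) := by group
        _ = u * ((w : MulAut V)⁻¹ * (c * w * c⁻¹)) * (c * (w : MulAut V)⁻¹ * c⁻¹) := by rw [e]
        _ = _ := by group
    have := d.fpfQ _ (Q.mul_mem u.2 (Q.inv_mem w.2))
      (d.pow_ne_one_ne hp hbA hc hb1 hcb _ (hbQ _ (Q.mul_mem u.2 (Q.inv_mem w.2))) hcu)
    exact Subtype.ext (mul_inv_eq_one.mp this)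
  obtain ⟨u, hu⟩ := Finite.surjective_of_injective hinj ⟨x, hx⟩
  exact ⟨u, u.2, (congrArg Subtype.val hu).symm⟩


/-- The fundamental annihilation for abelian `R`. -/
theorem key_lemma [Finite V] (hp : p.Prime) (d : Data p q r A R Q)
    (hRc : ∀ y ∈ R, ∀ z ∈ R, Commute y z) :
    ∀ g : MulAut V, g ^ p = 1 → (∀ y ∈ R, g * y * g⁻¹ ∈ R) →
      ∀ e ∈ R, (∀ v, g v = v → e v = v) → ∀ z ∈ R,
      (toEnd e - 1) * (toEnd (g * z * g⁻¹ * z⁻¹) - 1) = 0 := by
  intro g hgp hg e he hev z hz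
  set f := comHom hRc g hg with hf
  refine ann_of_fpf hp hgp hev f.range ?_ ?_ ?_ ?_ _ ⟨⟨z, hz⟩, rfl⟩
  · refine d.copRV.coprime_dvd_left (Subgroup.card_dvd_of_le ?_)
    rintro _ ⟨y, rfl⟩; exact comm_mem y.2 hg
  · rintro _ ⟨y, rfl⟩
    refine ⟨⟨g * y * g⁻¹, hg y y.2⟩, ?_⟩
    change g * (g * y * g⁻¹) * g⁻¹ * (g * y * g⁻¹)⁻¹ = g * (g * y * g⁻¹ * (y : MulAut V)⁻¹) * g⁻¹
    group
  · rintro _ ⟨y, rfl⟩; exact hRc e he _ (comm_mem y.2 hg)
  · rintro _ ⟨y, rfl⟩ hc
    rw [← orderOf_eq_one_iff]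
    exact Nat.eq_one_of_dvd_coprimes d.copR
      (orderOf_dvd_of_pow_eq_one (eq_one_of_commute_comm hgp rfl hc))
      (Subgroup.orderOf_dvd_natCard R (comm_mem y.2 hg))

theorem swap_lemma (hRc : ∀ y ∈ R, ∀ z ∈ R, Commute y z) {u w : MulAut V} (hu : u ∈ R) (hw : w ∈ R)
    (h : (toEnd u - 1) * (toEnd w - 1) = 0) : (toEnd w - 1) * (toEnd u - 1) = 0 := by
  rwa [(commute_sub_one (hRc w hw u hu)).eq]

theorem Data.sq_lemma [Finite V] (d : Data p q r A R Q) {w : MulAut V} (hw : w ∈ R)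
    (h : (toEnd w - 1) * (toEnd w - 1) = 0) : w = 1 := by
  have h1 := mul_sub_one_eq_zero (orderOf_dvd_iff_pow_eq_one.mp
    (Subgroup.orderOf_dvd_natCard R hw)) d.copRV 1 (by rw [one_mul]; exact h)
  rw [one_mul, sub_eq_zero] at h1
  exact toEnd_injective (h1.trans (map_one _).symm)

/-- For abelian `R`, the group `Q` maps each centralizer to itself. -/
theorem centralizer_inv [Finite V] (hp : p.Prime) (hr : r.Prime) (d : Data p q r A R Q)
    (hRc : ∀ y ∈ R, ∀ z ∈ R, Commute y z) {b : MulAut V} (hbA : b ∈ A)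
    (hbQ : ∀ x ∈ Q, Commute b x) (hbR : ∀ y ∈ R, Commute b y → y = 1)
    (hpowb : ∀ (c : MulAut V), c ∈ Subgroup.zpowers b → c ≠ 1 → ∀ z, Commute c z → Commute b z)
    {c : MulAut V} (hc : c ∈ A) (hc1 : c ≠ 1) (hcb : c ∉ Subgroup.zpowers b) {x : MulAut V}
    (hx : x ∈ Q) {e' : MulAut V} (he' : e' ∈ R) (hce' : Commute c e') :
    Commute c (x * e' * x⁻¹) := by
  have : Finite (MulAut V) := Finite.of_injective (fun e : MulAut V => (e : V → V))
    DFunLike.coe_injective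
  have hRinvA := d.invA
  have hRinvQ := d.invQ
  have key := key_lemma hp d hRc
  have hswap := @swap_lemma V _ R hRc
  have hsq : ∀ w ∈ R, (toEnd w - 1) * (toEnd w - 1) = 0 → w = 1 := fun w hw h => d.sq_lemma hw h
  set u := x * e' * x⁻¹ with hu
  have huR : u ∈ R := d.normQR x hx e' he'
  -- `u` annihilates the other centralizers
  have hann : ∀ f ∈ A, f ≠ 1 → f ∉ Subgroup.zpowers c → f ∉ Subgroup.zpowers b →
      ∀ e ∈ R, Commute f e → (toEnd u - 1) * (toEnd e - 1) = 0 := by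
    intro f hfA hf1 hfc hfb e he hfe
    set T := (toEnd u - 1) * (toEnd e - 1) with hT
    set K := rfix T with hK
    let S : Submonoid (MulAut V) :=
      { carrier := {g | (∀ y ∈ R, g * y * g⁻¹ ∈ R) ∧ ∀ y ∈ R, g * y * g⁻¹ * y⁻¹ ∈ K}
        one_mem' := ⟨fun y hy => by simpa using hy, fun y hy => by simp [K.one_mem]⟩
        mul_mem' := fun {g h} hg hh => ⟨fun y hy => by
            simpa [mul_assoc] using hg.1 _ (hh.1 y hy), fun y hy => by
            have := K.mul_mem (hg.2 _ (hh.1 y hy)) (hh.2 y hy)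
            simpa [mul_assoc] using this⟩ }
    set g₁ := x * c * x⁻¹ with hg₁
    have hg₁p : g₁ ^ p = 1 := by rw [hg₁, conj_pow, d.pow c hc]; group
    have hg₁R : ∀ y ∈ R, g₁ * y * g₁⁻¹ ∈ R := by
      intro y hy
      have := d.normQR x hx _ (d.normR c hc _ (hRinvQ x hx y hy))
      simpa [hg₁, mul_assoc] using this
    have hufix : ∀ v, g₁ v = v → u v = v := by
      intro v hv
      have h1 : c (x⁻¹ v) = x⁻¹ v := by
        refine x.injective ?_
        conv_rhs => rw [show x (x⁻¹ v) = v from MulEquiv.apply_symm_apply _ _]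
        simpa [hg₁, MulAut.mul_apply] using hv
      have h2 := d.fixRV c hc hc1 e' he' hce' _ h1
      rw [hu, MulAut.mul_apply, MulAut.mul_apply, h2]
      exact MulEquiv.apply_symm_apply _ _
    have hS1 : g₁ ∈ S := by
      refine ⟨hg₁R, fun y hy => ?_⟩
      have h0 := key g₁ hg₁p hg₁R u huR hufix y hy
      rw [hK, mem_rfix, hT, mul_assoc,
        (commute_sub_one (hRc e he _ (comm_mem hy hg₁R))).eq, ← mul_assoc, h0, zero_mul]
    have hS2 : f ∈ S := by
      refine ⟨d.normR f hfA, fun y hy => ?_⟩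
      have h0 := key f (d.pow f hfA) (d.normR f hfA) e he (d.fixRV f hfA hf1 e he hfe) y hy
      rw [hK, mem_rfix, hT, mul_assoc, h0, mul_zero]
    -- some element of `S` has `A`-part `b`
    obtain ⟨i, j, hij⟩ : ∃ i j : ℕ, c ^ i * f ^ j = b := by
      have hb' : b ∈ Subgroup.closure {c, f} :=
        (closure_pair_eq hp d.pow d.card hc hfA hc1 hfc).symm ▸ hbA
      clear_value S
      have key2 : ∀ g ∈ Subgroup.closure {c, f}, ∃ i j : ℕ, c ^ i * f ^ j = g := by
        intro g hg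
        have hord : ∀ a : MulAut V, a ^ p = 1 → a⁻¹ = a ^ (p - 1) := fun a ha => by
          refine inv_eq_of_mul_eq_one_right ?_
          rw [← pow_succ', Nat.sub_add_cancel hp.one_le, ha]
        induction hg using Subgroup.closure_induction with
        | mem a ha =>
          rcases ha with rfl | rfl
          · exact ⟨1, 0, by simp⟩
          · exact ⟨0, 1, by simp⟩
        | one => exact ⟨0, 0, by simp⟩
        | mul a a' _ _ ha ha' =>
          obtain ⟨i, j, rfl⟩ := ha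
          obtain ⟨k, l, rfl⟩ := ha'
          refine ⟨i + k, j + l, ?_⟩
          rw [pow_add, pow_add, mul_assoc (c ^ i), mul_assoc (c ^ i), ← mul_assoc (f ^ j),
            ((d.comm f hfA c hc).pow_pow j k).eq, mul_assoc]
        | inv a _ ha =>
          obtain ⟨i, j, rfl⟩ := ha
          refine ⟨(p - 1) * i, (p - 1) * j, ?_⟩
          rw [mul_inv_rev, ← inv_pow, ← inv_pow, hord c (d.pow c hc), hord f (d.pow f hfA),
            ← pow_mul, ← pow_mul, ((d.comm f hfA c hc).pow_pow _ _).eq]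
      exact key2 b hb'
    set g := g₁ ^ i * f ^ j with hg
    have hgS : g ∈ S := S.mul_mem (S.pow_mem hS1 i) (S.pow_mem hS2 j)
    set z := g * b⁻¹ with hz
    have hzQ : z ∈ Q := by
      have h1 : g₁ ^ i * (c ^ i)⁻¹ ∈ Q := by
        rw [hg₁, conj_pow]
        have := Q.mul_mem hx (d.normQ _ (A.pow_mem hc i) _ (Q.inv_mem hx))
        simpa [mul_assoc] using this
      have h2 : z = g₁ ^ i * (c ^ i)⁻¹ := by rw [hz, hg, ← hij]; group
      rwa [h2]
    have hbS : b ∈ S := by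
      have hcomm : Commute z b := (hbQ z hzQ).symm
      have h1 : g ^ Nat.card Q = b ^ Nat.card Q := by
        rw [show g = z * b by rw [hz, inv_mul_cancel_right], hcomm.mul_pow,
          orderOf_dvd_iff_pow_eq_one.mp (Subgroup.orderOf_dvd_natCard Q hzQ), one_mul]
      obtain ⟨m, hm⟩ := exists_pow_eq_self_of_coprime
        ((d.copQ.symm.coprime_dvd_right (orderOf_dvd_of_pow_eq_one (d.pow b hbA))))
      rw [← hm, ← h1]
      exact S.pow_mem (S.pow_mem hgS _) m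
    have hRK : ∀ y ∈ R, y ∈ K := by
      intro y hy
      let fb : R → R := fun w => ⟨comHom hRc b (d.normR b hbA) w, comm_mem w.2 (d.normR b hbA)⟩
      have hinj : Function.Injective fb := by
        intro w w' h
        have e : comHom hRc b (d.normR b hbA) w = comHom hRc b (d.normR b hbA) w' :=
          congrArg Subtype.val h
        have hk : comHom hRc b (d.normR b hbA) (w * w'⁻¹) = 1 := by
          rw [map_mul, map_inv, e, mul_inv_cancel]
        have := hbR _ (w * w'⁻¹).2 (commute_iff_comm_eq_one.mpr hk)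
        exact mul_inv_eq_one.mp (Subtype.ext this)
      obtain ⟨w, hw⟩ := Finite.surjective_of_injective hinj ⟨y, hy⟩
      have := hbS.2 w w.2
      rwa [show b * w * b⁻¹ * (w : MulAut V)⁻¹ = y from congrArg Subtype.val hw] at this
    have h1 := mem_rfix.mp (hRK e he)
    exact mul_sub_one_eq_zero (orderOf_dvd_iff_pow_eq_one.mp
      (Subgroup.orderOf_dvd_natCard R he)) d.copRV _ h1
  set w := c * u * c⁻¹ * u⁻¹ with hwdef
  have hwR : w ∈ R := comm_mem huR (d.normR c hc)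
  have hRw : R ≤ rfix (toEnd w - 1) := by
    refine le_of_fixed_le hp hr d d.grpR d.copR d.normR fun f hfA hf1 e he hfe => ?_
    rw [mem_rfix]
    refine hswap he hwR ?_
    by_cases hfb : f ∈ Subgroup.zpowers b
    · rw [hbR e he (hpowb f hfb hf1 e hfe), map_one, sub_self, zero_mul]
    by_cases hfc : f ∈ Subgroup.zpowers c
    · obtain ⟨i, rfl⟩ := (mem_powers_iff_mem_zpowers (x := c) (y := f)).mpr hfc
      have hce : Commute c e := commute_of_pow_commute hp (d.pow c hc)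
        (fun hdvd => hf1 (orderOf_dvd_iff_pow_eq_one.mp
          ((orderOf_dvd_of_pow_eq_one (d.pow c hc)).trans hdvd))) hfe
      exact key c (d.pow c hc) (d.normR c hc) e he (d.fixRV c hc hc1 e he hce) u huR
    have h1 : u ∈ rfix (toEnd e - 1) :=
      mem_rfix.mpr (hswap huR he (hann f hfA hf1 hfc hfb e he hfe))
    have hem : c⁻¹ * e * c ∈ R := hRinvA c hc e he
    have hfe' : Commute f (c⁻¹ * e * c) :=
      (((d.comm f hfA c hc).inv_right).mul_right hfe).mul_right (d.comm f hfA c hc)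
    have h2 : c * u * c⁻¹ ∈ rfix (toEnd e - 1) := by
      rw [mem_rfix]
      refine hswap (d.normR c hc u huR) he ?_
      have e1 : toEnd (c * u * c⁻¹) - 1 = toEnd c * (toEnd u - 1) * toEnd c⁻¹ := by
        rw [mul_sub, sub_mul, mul_one, ← map_mul, ← map_mul, ← map_mul, mul_inv_cancel, map_one]
      have e2 : toEnd e - 1 = toEnd c * (toEnd (c⁻¹ * e * c) - 1) * toEnd c⁻¹ := by
        rw [mul_sub, sub_mul, mul_one, ← map_mul, ← map_mul, ← map_mul, mul_inv_cancel, map_one,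
          mul_assoc, mul_inv_cancel_right, mul_inv_cancel_left]
      have e3 : toEnd c⁻¹ * toEnd c = 1 := by rw [← map_mul, inv_mul_cancel, map_one]
      rw [e1, e2]
      generalize c⁻¹ * e * c = e₁ at hem hfe' ⊢
      simp only [mul_assoc]
      rw [← mul_assoc (toEnd c⁻¹) (toEnd c), e3, one_mul, ← mul_assoc (toEnd u - 1),
        hann f hfA hf1 hfc hfb _ hem hfe', zero_mul, mul_zero]
    exact mem_rfix.mp ((rfix (toEnd e - 1)).mul_mem h2 ((rfix (toEnd e - 1)).inv_mem h1))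
  exact commute_iff_comm_eq_one.mpr (hsq w hwR (mem_rfix.mp (hRw hwR)))

/-- For abelian `R`, either `b` has no fixed points on `R` or `Q` centralizes `R`. -/
theorem fixed_free_of_ne [Finite V] (d : Data p q r A R Q)
    (hRc : ∀ y ∈ R, ∀ z ∈ R, Commute y z) {b : MulAut V} (hbA : b ∈ A)
    (hbQ : ∀ x ∈ Q, Commute b x) (hQb : ∀ y ∈ R, Commute b y → ∀ x ∈ Q, Commute x y)
    (hsmallR : ∀ R₁ < R, (∀ a ∈ A, ∀ y ∈ R₁, a * y * a⁻¹ ∈ R₁) →
      (∀ x ∈ Q, ∀ y ∈ R₁, x * y * x⁻¹ ∈ R₁) → ∀ x ∈ Q, ∀ y ∈ R₁, Commute x y)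
    (hne : ¬ ∀ x ∈ Q, ∀ y ∈ R, Commute x y) :
    ∀ y ∈ R, Commute b y → y = 1 := by
  have : Finite (MulAut V) := Finite.of_injective (fun e : MulAut V => (e : V → V))
    DFunLike.coe_injective
  set f := comHom hRc b (d.normR b hbA)
  have hle : f.range ≤ R := by rintro _ ⟨y, rfl⟩; exact comm_mem y.2 (d.normR b hbA)
  rcases eq_or_lt_of_le hle with hfR | hflt
  · intro y hy hby
    have hcard : Nat.card f.range = Nat.card R := by rw [hfR]
    have hker : f.ker = ⊥ := by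
      have h1 := Subgroup.card_eq_card_quotient_mul_card_subgroup f.ker
      rw [Nat.card_congr (QuotientGroup.quotientKerEquivRange f).toEquiv, hcard] at h1
      exact Subgroup.card_eq_one.mp
        (mul_left_cancel₀ Nat.card_pos.ne' (h1.symm.trans (mul_one _).symm))
    have : (⟨y, hy⟩ : R) ∈ f.ker := commute_iff_comm_eq_one.mp hby
    rw [hker, Subgroup.mem_bot] at this
    exact congrArg Subtype.val this
  · exfalso
    have hinvA : ∀ a ∈ A, ∀ w ∈ f.range, a * w * a⁻¹ ∈ f.range := by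
      rintro a ha _ ⟨y, rfl⟩
      refine ⟨⟨a * y * a⁻¹, d.normR a ha y y.2⟩, ?_⟩
      change b * (a * y * a⁻¹) * b⁻¹ * (a * y * a⁻¹)⁻¹ = a * (b * y * b⁻¹ * (y : MulAut V)⁻¹) * a⁻¹
      calc b * (a * y * a⁻¹) * b⁻¹ * (a * y * a⁻¹)⁻¹
          = (b * a) * y * (b * a)⁻¹ * (a * (y : MulAut V)⁻¹ * a⁻¹) := by group
        _ = (a * b) * y * (a * b)⁻¹ * (a * (y : MulAut V)⁻¹ * a⁻¹) := by rw [(d.comm b hbA a ha).eq]
        _ = _ := by group
    have hinvQ : ∀ a ∈ Q, ∀ w ∈ f.range, a * w * a⁻¹ ∈ f.range := by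
      rintro a ha _ ⟨y, rfl⟩
      refine ⟨⟨a * y * a⁻¹, d.normQR a ha y y.2⟩, ?_⟩
      change b * (a * y * a⁻¹) * b⁻¹ * (a * y * a⁻¹)⁻¹ = a * (b * y * b⁻¹ * (y : MulAut V)⁻¹) * a⁻¹
      calc b * (a * y * a⁻¹) * b⁻¹ * (a * y * a⁻¹)⁻¹
          = (b * a) * y * (b * a)⁻¹ * (a * (y : MulAut V)⁻¹ * a⁻¹) := by group
        _ = (a * b) * y * (a * b)⁻¹ * (a * (y : MulAut V)⁻¹ * a⁻¹) := by rw [(hbQ a ha).eq]
        _ = _ := by group
    refine hne fun x hx y hy => ?_
    -- the restriction of the commutator map to its image is bijective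
    let g : f.range → f.range := fun w => ⟨f ⟨w, hle w.2⟩, _, rfl⟩
    have hg : Function.Injective g := by
      intro u w huw
      have e : f ⟨u, hle u.2⟩ = f ⟨w, hle w.2⟩ := congrArg Subtype.val huw
      have hk : f (⟨u, hle u.2⟩ * (⟨w, hle w.2⟩ : R)⁻¹) = 1 := by
        rw [map_mul, map_inv, e, mul_inv_cancel]
      set z := (u : MulAut V) * (w : MulAut V)⁻¹
      have hbz : Commute b z := commute_iff_comm_eq_one.mpr hk
      obtain ⟨y₀, hy₀⟩ : z ∈ f.range := f.range.mul_mem u.2 (f.range.inv_mem w.2)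
      have h1 := eq_one_of_commute_comm (d.pow b hbA) (w := z) hy₀ hbz
      have h2 : orderOf z = 1 := Nat.eq_one_of_dvd_coprimes d.copR
        (orderOf_dvd_of_pow_eq_one h1)
        (Subgroup.orderOf_dvd_natCard R (R.mul_mem (hle u.2) (R.inv_mem (hle w.2))))
      exact Subtype.ext (mul_inv_eq_one.mp (orderOf_eq_one_iff.mp h2))
    obtain ⟨w, hw⟩ := Finite.surjective_of_injective hg ⟨f ⟨y, hy⟩, _, rfl⟩
    have e : f ⟨w, hle w.2⟩ = f ⟨y, hy⟩ := congrArg Subtype.val hw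
    have hcb : Commute b (y * (w : MulAut V)⁻¹) := commute_iff_comm_eq_one.mpr <| by
      have : f (⟨y, hy⟩ * (⟨w, hle w.2⟩ : R)⁻¹) = 1 := by
        rw [map_mul, map_inv, e, mul_inv_cancel]
      exact this
    have h3 := hQb _ (R.mul_mem hy (R.inv_mem (hle w.2))) hcb x hx
    have h4 := hsmallR _ hflt hinvA hinvQ x hx w w.2
    simpa using h3.mul_right h4

/-- The abelian case. -/
theorem commute_of_abelian [Finite V] (hp : p.Prime) (hr : r.Prime) (d : Data p q r A R Q)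
    {b : MulAut V} (hbA : b ∈ A) (hb1 : b ≠ 1) (hbQ : ∀ x ∈ Q, Commute b x)
    (hQb : ∀ y ∈ R, Commute b y → ∀ x ∈ Q, Commute x y)
    (hpowb : ∀ (c : MulAut V), c ∈ Subgroup.zpowers b → c ≠ 1 → ∀ z, Commute c z → Commute b z)
    (hsmallR : ∀ R₁ < R, (∀ a ∈ A, ∀ y ∈ R₁, a * y * a⁻¹ ∈ R₁) →
      (∀ x ∈ Q, ∀ y ∈ R₁, x * y * x⁻¹ ∈ R₁) → ∀ x ∈ Q, ∀ y ∈ R₁, Commute x y)
    (hRc : ∀ y ∈ R, ∀ z ∈ R, Commute y z) : ∀ x ∈ Q, ∀ y ∈ R, Commute x y := by
  by_contra hne
  have : Finite (MulAut V) := Finite.of_injective (fun e : MulAut V => (e : V → V))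
    DFunLike.coe_injective
  have hRinvA := d.invA
  have hRinvQ := d.invQ
  have hbR := fixed_free_of_ne d hRc hbA hbQ hQb hsmallR hne
  refine hne fun x hx y hy => Subgroup.mem_centralizer_singleton_iff.mp ?_ |>.symm
  refine le_of_fixed_le hp hr d d.grpR d.copR d.normR (Y := Subgroup.centralizer {x})
    (fun c hc hc1 e he hce => Subgroup.mem_centralizer_singleton_iff.mpr ?_) hy
  refine Commute.eq (Commute.symm ?_)
  by_cases hcb : c ∈ Subgroup.zpowers b
  · exact hQb e he (hpowb c hcb hc1 e hce) x hx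
  set D := R ⊓ Subgroup.centralizer {c} with hDdef
  have hmemD : ∀ {z}, z ∈ D ↔ z ∈ R ∧ Commute c z := fun {z} => by
    rw [hDdef, Subgroup.mem_inf, Subgroup.mem_centralizer_singleton_iff]
    exact and_congr_right' ⟨fun h => h.symm, fun h => h.symm.eq⟩
  rcases eq_or_lt_of_le (inf_le_left : D ≤ R) with hDR | hDlt
  · exfalso
    refine hne fun x' hx' y' hy' => ?_
    obtain ⟨x₁, hx₁, rfl⟩ := hQc_lemma hp d hbA hb1 hbQ hc hcb hx'
    have hcR : ∀ z ∈ R, Commute c z := fun z hz => (hmemD.mp (hDR.ge hz)).2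
    have h1 := (hcR (x₁ * y' * x₁⁻¹) (d.normQR x₁ hx₁ y' hy')).eq
    have h1' : Commute (x₁⁻¹ * c * x₁) y' := by
      change x₁⁻¹ * c * x₁ * y' = y' * (x₁⁻¹ * c * x₁)
      calc x₁⁻¹ * c * x₁ * y' = x₁⁻¹ * (c * (x₁ * y' * x₁⁻¹)) * x₁ := by group
        _ = x₁⁻¹ * ((x₁ * y' * x₁⁻¹) * c) * x₁ := by rw [h1]
        _ = y' * (x₁⁻¹ * c * x₁) := by group
    have := h1'.mul_left (hcR y' hy').inv_left
    rwa [show x₁⁻¹ * c * x₁ * c⁻¹ = x₁⁻¹ * (c * x₁ * c⁻¹) by group] at this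
  · refine hsmallR D hDlt ?_ ?_ x hx e (hmemD.mpr ⟨he, hce⟩)
    · intro a ha z hz
      obtain ⟨hzR, hzc⟩ := hmemD.mp hz
      exact hmemD.mpr ⟨d.normR a ha z hzR,
        ((d.comm c hc a ha).mul_right hzc).mul_right (d.comm c hc a ha).inv_right⟩
    · intro x' hx' z hz
      obtain ⟨hzR, hzc⟩ := hmemD.mp hz
      exact hmemD.mpr ⟨d.normQR x' hx' z hzR, centralizer_inv hp hr d hRc hbA hbQ hbR hpowb hc hc1 hcb hx' hzR hzc⟩

/-- The nonabelian case. -/
theorem commute_of_nonabelian [Finite V] (hp : p.Prime) (hr : r.Prime) (d : Data p q r A R Q)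
    {b : MulAut V} (hbA : b ∈ A) (hb1 : b ≠ 1) (hbQ : ∀ x ∈ Q, Commute b x)
    (hQb : ∀ y ∈ R, Commute b y → ∀ x ∈ Q, Commute x y)
    (hpowb : ∀ (c : MulAut V), c ∈ Subgroup.zpowers b → c ≠ 1 → ∀ z, Commute c z → Commute b z)
    (hsmallR : ∀ R₁ < R, (∀ a ∈ A, ∀ y ∈ R₁, a * y * a⁻¹ ∈ R₁) →
      (∀ x ∈ Q, ∀ y ∈ R₁, x * y * x⁻¹ ∈ R₁) → ∀ x ∈ Q, ∀ y ∈ R₁, Commute x y)
    (hnotM : ∀ M : Subgroup (MulAut V), (∀ x ∈ Q, ∀ y ∈ R, x * y * x⁻¹ * y⁻¹ ∈ M) → R ≤ M)
    (hZlt : R ⊓ Subgroup.centralizer (R : Set (MulAut V)) < R) :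
    ∀ x ∈ Q, ∀ y ∈ R, Commute x y := by
  by_contra hne
  have : Finite (MulAut V) := Finite.of_injective (fun e : MulAut V => (e : V → V))
    DFunLike.coe_injective
  have hRinvA := d.invA
  have hRinvQ := d.invQ
  haveI := Fact.mk hr
  set Z := R ⊓ Subgroup.centralizer (R : Set (MulAut V)) with hZdef
  have hZA : ∀ g : MulAut V, (∀ y ∈ R, g * y * g⁻¹ ∈ R) → (∀ y ∈ R, g⁻¹ * y * g ∈ R) →
      ∀ z ∈ Z, g * z * g⁻¹ ∈ Z := fun g hg hg' => centre_inv hg hg'
  have hQZ : ∀ x ∈ Q, ∀ z ∈ Z, Commute x z := hsmallR Z hZlt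
    (fun a ha => hZA a (d.normR a ha) (hRinvA a ha))
    (fun x hx => hZA x (d.normQR x hx) (hRinvQ x hx))
  have hZne : Z ≠ ⊥ := by
    have hRne : R ≠ ⊥ := fun h => hne fun x _ y hy => by
      rw [h, Subgroup.mem_bot] at hy
      rw [hy]; exact Commute.one_right x
    haveI : Nontrivial R := (Subgroup.nontrivial_iff_ne_bot R).mpr hRne
    haveI := d.grpR.center_nontrivial
    obtain ⟨z, hz1⟩ := exists_ne (1 : Subgroup.center R)
    intro h
    have hzZ : ((z : R) : MulAut V) ∈ Z := ⟨(z : R).2, Subgroup.mem_centralizer_iff.mpr fun y hy =>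
      congrArg Subtype.val (Subgroup.mem_center_iff.mp z.2 ⟨y, hy⟩)⟩
    rw [h, Subgroup.mem_bot] at hzZ
    exact hz1 (Subtype.ext (Subtype.ext hzZ))
  -- some `c` fixes a nonidentity central element
  obtain ⟨c, hc, hc1, z₀, hz₀, hcz₀, hz₀1⟩ :
      ∃ c ∈ A, c ≠ 1 ∧ ∃ z ∈ Z, Commute c z ∧ z ≠ 1 := by
    by_contra h
    push_neg at h
    refine hZne (le_bot_iff.mp (le_of_fixed_le hp hr d (d.grpR.to_le inf_le_left)
      (d.copR.coprime_dvd_right (Subgroup.card_dvd_of_le inf_le_left))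
      (fun a ha => hZA a (d.normR a ha) (hRinvA a ha)) (Y := ⊥) fun a ha ha1 z hz hzc => ?_))
    exact Subgroup.mem_bot.mpr (h a ha ha1 z hz hzc)
  let Z0 : Subgroup (MulAut V) := Z ⊓ Subgroup.centralizer {c}
  have hmemZ0 : ∀ {z}, z ∈ Z0 ↔ z ∈ Z ∧ Commute c z := fun {z} => by
    rw [Subgroup.mem_inf, Subgroup.mem_centralizer_singleton_iff]
    exact and_congr_right' ⟨fun h => h.symm, fun h => h.symm.eq⟩
  let M : Subgroup (MulAut V) :=
    { carrier := {y | y ∈ R ∧ ∀ z ∈ Z0, (toEnd y - 1) * (toEnd z - 1) = 0}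
      one_mem' := ⟨R.one_mem, fun z _ => by simp⟩
      mul_mem' := fun {y y'} hy hy' => ⟨R.mul_mem hy.1 hy'.1, fun z hz => by
        rw [show toEnd (y * y') - 1 = toEnd y * (toEnd y' - 1) + (toEnd y - 1) by
          rw [map_mul, mul_sub, mul_one]; abel, add_mul, mul_assoc, hy'.2 z hz, mul_zero,
          hy.2 z hz, zero_add]⟩
      inv_mem' := fun {y} hy => ⟨R.inv_mem hy.1, fun z hz => by
        have e : toEnd y⁻¹ * (toEnd y - 1) = -(toEnd y⁻¹ - 1) := by
          rw [mul_sub, mul_one, ← map_mul, inv_mul_cancel, map_one, neg_sub]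
        have h0 : (-(toEnd y⁻¹ - 1)) * (toEnd z - 1) = 0 := by
          rw [← e, mul_assoc, hy.2 z hz, mul_zero]
        exact mul_eq_zero_of_neg_mul_eq_zero h0⟩ }
  -- invariance of `M`
  have hMinv : ∀ g : MulAut V, (∀ y ∈ R, g * y * g⁻¹ ∈ R) →
      (∀ z ∈ Z0, g⁻¹ * z * g ∈ Z0) → ∀ y ∈ M, g * y * g⁻¹ ∈ M := by
    intro g hg hgz y hy
    refine ⟨hg y hy.1, fun z hz => ?_⟩
    have e1 : toEnd (g * y * g⁻¹) - 1 = toEnd g * (toEnd y - 1) * toEnd g⁻¹ := by
      rw [mul_sub, sub_mul, mul_one, ← map_mul, ← map_mul, ← map_mul, mul_inv_cancel, map_one]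
    have e2 : toEnd g⁻¹ * (toEnd z - 1) = (toEnd (g⁻¹ * z * g) - 1) * toEnd g⁻¹ := by
      rw [mul_sub, sub_mul, mul_one, one_mul, ← map_mul, ← map_mul, mul_inv_cancel_right]
    rw [e1, mul_assoc, e2, ← mul_assoc, mul_assoc (toEnd g), hy.2 _ (hgz z hz), mul_zero,
      zero_mul]
  have hMA : ∀ a ∈ A, ∀ y ∈ M, a * y * a⁻¹ ∈ M := fun a ha => hMinv a (d.normR a ha)
    fun z hz => by
      obtain ⟨hzZ, hzc⟩ := hmemZ0.mp hz
      have hzinv := hZA a⁻¹ (d.normR _ (A.inv_mem ha)) (hRinvA _ (A.inv_mem ha)) z hzZ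
      rw [inv_inv] at hzinv
      refine hmemZ0.mpr ⟨hzinv, ?_⟩
      exact (((d.comm c hc a ha).inv_right).mul_right hzc).mul_right (d.comm c hc a ha)
  have hMQ : ∀ x ∈ Q, ∀ y ∈ M, x * y * x⁻¹ ∈ M := fun x hx => hMinv x (d.normQR x hx)
    fun z hz => by
      rw [mul_assoc, ← (hQZ x hx z (hmemZ0.mp hz).1).eq, ← mul_assoc, inv_mul_cancel, one_mul]
      exact hz
  have hMR : ∀ x ∈ R, ∀ y ∈ M, x * y * x⁻¹ ∈ M := fun x hx =>
    hMinv x (fun y hy => R.mul_mem (R.mul_mem hx hy) (R.inv_mem hx)) fun z hz => by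
      rw [mul_assoc, ← Subgroup.mem_centralizer_iff.mp (hmemZ0.mp hz).1.2 x hx, ← mul_assoc,
        inv_mul_cancel, one_mul]
      exact hz
  -- `M` contains the centralizers away from `c`
  have hMmem : ∀ a ∈ A, a ≠ 1 → a ∉ Subgroup.zpowers c → ∀ y ∈ R, Commute a y → y ∈ M := by
    intro a ha ha1 hac y hy hay
    refine ⟨hy, ann_of_fpf hp (d.pow a ha) (d.fixRV a ha ha1 y hy hay) Z0 ?_ ?_ ?_ ?_⟩
    · exact d.copRV.coprime_dvd_left
        (Subgroup.card_dvd_of_le ((inf_le_left).trans inf_le_left))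
    · intro z hz
      obtain ⟨hzZ, hzc⟩ := hmemZ0.mp hz
      exact hmemZ0.mpr ⟨hZA a (d.normR a ha) (hRinvA a ha) z hzZ,
        ((d.comm c hc a ha).mul_right hzc).mul_right (d.comm c hc a ha).inv_right⟩
    · intro z hz
      exact Subgroup.mem_centralizer_iff.mp (hmemZ0.mp hz).1.2 y hy
    · intro z hz haz
      exact d.fpfR z (hmemZ0.mp hz).1.1
        (d.pow_ne_one_ne hp hc ha hc1 hac z (hmemZ0.mp hz).2 haz)
  have hMlt : M < R := by
    refine lt_of_le_of_ne (fun y hy => hy.1) fun h => hz₀1 ?_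
    have hz₀R : z₀ ∈ M := h.symm ▸ hz₀.1
    have h1 := hz₀R.2 z₀ (hmemZ0.mpr ⟨hz₀, hcz₀⟩)
    have h2 := mul_sub_one_eq_zero (orderOf_dvd_iff_pow_eq_one.mp
      (Subgroup.orderOf_dvd_natCard R hz₀.1)) d.copRV 1 (by rw [one_mul]; exact h1)
    rw [one_mul, sub_eq_zero] at h2
    exact toEnd_injective (h2.trans (map_one _).symm)
  have hQM := hsmallR M hMlt hMA hMQ
  have hcpow : ∀ a ∈ Subgroup.zpowers c, a ≠ 1 → ∀ z, Commute a z → Commute c z := by
    intro a ha ha1 z hz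
    obtain ⟨i, rfl⟩ := (mem_powers_iff_mem_zpowers (x := c) (y := a)).mpr ha
    exact commute_of_pow_commute hp (d.pow c hc) (fun hdvd => ha1
      (orderOf_dvd_iff_pow_eq_one.mp ((orderOf_dvd_of_pow_eq_one (d.pow c hc)).trans hdvd))) hz
  by_cases hcb : c ∈ Subgroup.zpowers b
  · refine hne fun x hx y hy => Subgroup.mem_centralizer_singleton_iff.mp ?_ |>.symm
    refine le_of_fixed_le hp hr d d.grpR d.copR d.normR (Y := Subgroup.centralizer {x})
      (fun a ha ha1 e he hae => Subgroup.mem_centralizer_singleton_iff.mpr ?_) hy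
    refine Commute.eq (Commute.symm ?_)
    by_cases hac : a ∈ Subgroup.zpowers c
    · exact hQb e he (hpowb c hcb hc1 e (hcpow a hac ha1 e hae)) x hx
    · exact hQM x hx e (hMmem a ha ha1 hac e he hae)
  -- `c` acts trivially modulo `M`
  let T : Subgroup (MulAut V) :=
    { carrier := {y | y ∈ R ∧ c * y * c⁻¹ * y⁻¹ ∈ M}
      one_mem' := ⟨R.one_mem, by simp [M.one_mem]⟩
      mul_mem' := fun {y y'} hy hy' => ⟨R.mul_mem hy.1 hy'.1, by
        have h1 := M.mul_mem hy.2 (hMR y hy.1 _ hy'.2)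
        simpa [mul_assoc] using h1⟩
      inv_mem' := fun {y} hy => ⟨R.inv_mem hy.1, by
        have h1 := hMR _ (R.inv_mem hy.1) _ (M.inv_mem hy.2)
        simpa [mul_assoc] using h1⟩ }
  have hRT : R ≤ T := by
    refine le_of_fixed_le hp hr d d.grpR d.copR d.normR fun a ha ha1 e he hae => ⟨he, ?_⟩
    by_cases hac : a ∈ Subgroup.zpowers c
    · rw [commute_iff_comm_eq_one.mp (hcpow a hac ha1 e hae)]
      exact M.one_mem
    · have hem := hMmem a ha ha1 hac e he hae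
      exact M.mul_mem (hMA c hc e hem) (M.inv_mem hem)
  have hle : R ≤ M := by
    refine hnotM M fun x hx y hy => ?_
    obtain ⟨x₁, hx₁, rfl⟩ := hQc_lemma hp d hbA hb1 hbQ hc hcb hx
    set y₁ := c⁻¹ * y * c with hy₁
    have hy₁R : y₁ ∈ R := hRinvA c hc y hy
    have h1 : x₁⁻¹ * (c * (x₁ * y₁ * x₁⁻¹) * c⁻¹ * (x₁ * y₁ * x₁⁻¹)⁻¹) * x₁ ∈ M := by
      simpa using hMQ x₁⁻¹ (Q.inv_mem hx₁) _ (hRT (d.normQR x₁ hx₁ y₁ hy₁R)).2
    have h2 : c * y₁ * c⁻¹ * y₁⁻¹ ∈ M := (hRT hy₁R).2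
    have := M.mul_mem h1 (M.inv_mem h2)
    convert this using 1
    rw [hy₁]
    group
  exact hMlt.not_ge hle

/-- The core lemma: `Q` centralizes `R`. -/
theorem commute [Finite V] (hp : p.Prime) (hq : q.Prime) (hr : r.Prime) :
    ∀ R Q : Subgroup (MulAut V), Data p q r A R Q → ∀ x ∈ Q, ∀ y ∈ R, Commute x y := by
  have : Finite (MulAut V) := Finite.of_injective (fun e : MulAut V => (e : V → V))
    DFunLike.coe_injective
  haveI := Fact.mk hr
  intro R Q
  induction hn : Nat.card R + Nat.card Q using Nat.strong_induction_on generalizing R Q with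
  | _ n ih =>
  subst hn
  intro d
  have hA1 : ∀ {a b : MulAut V}, a ∈ A → b ∈ A → a * b * a⁻¹ = b := fun {a b} ha hb => by
    rw [(d.comm a ha b hb).eq, mul_inv_cancel_right]
  -- proper invariant subgroups are centralized
  have hsmallR : ∀ R₁ < R, (∀ a ∈ A, ∀ y ∈ R₁, a * y * a⁻¹ ∈ R₁) →
      (∀ x ∈ Q, ∀ y ∈ R₁, x * y * x⁻¹ ∈ R₁) → ∀ x ∈ Q, ∀ y ∈ R₁, Commute x y := by
    intro R₁ hlt hA hQ
    refine ih _ ?_ R₁ Q rfl (d.mono hlt.le le_rfl hA d.normQ hQ)
    refine Nat.add_lt_add_right ((Subgroup.card_le_of_le hlt.le).lt_of_ne fun e => hlt.ne ?_) _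
    exact Subgroup.eq_of_le_of_card_ge hlt.le e.ge
  by_cases hb : ∃ b ∈ A, b ≠ 1 ∧ ∀ x ∈ Q, Commute b x
  swap
  · push_neg at hb
    intro x hx y hy
    refine (Subgroup.mem_centralizer_singleton_iff.mp
      (le_of_fixed_le hp hq d d.grpQ d.copQ d.normQ (Y := Subgroup.centralizer {y}) ?_ hx))
    intro a ha ha1 z hz haz
    obtain ⟨w, hw, hwa⟩ := hb a ha ha1
    have hlt : Q ⊓ Subgroup.centralizer {a} < Q := by
      refine lt_of_le_of_ne inf_le_left fun e => hwa ?_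
      exact (Subgroup.mem_centralizer_singleton_iff.mp ((e.ge hw).2)).symm
    have hA : ∀ b ∈ A, ∀ u ∈ Q ⊓ Subgroup.centralizer {a},
        b * u * b⁻¹ ∈ Q ⊓ Subgroup.centralizer {a} := by
      intro b hb u hmem
      obtain ⟨hu, hu'⟩ := hmem
      refine ⟨d.normQ b hb u hu, Subgroup.mem_centralizer_singleton_iff.mpr ?_⟩
      have h1 : Commute u a := Subgroup.mem_centralizer_singleton_iff.mp hu'
      exact ((d.comm b hb a ha).mul_left h1).mul_left (d.comm b hb a ha).inv_left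
    refine Subgroup.mem_centralizer_singleton_iff.mpr
      (ih _ ?_ R _ rfl (d.mono le_rfl hlt.le d.normR hA fun u hu => d.normQR u hu.1) z ?_ y hy)
    · refine Nat.add_lt_add_left ((Subgroup.card_le_of_le hlt.le).lt_of_ne fun e => hlt.ne ?_) _
      exact Subgroup.eq_of_le_of_card_ge hlt.le e.ge
    · exact ⟨hz, Subgroup.mem_centralizer_singleton_iff.mpr haz.symm.eq⟩
  obtain ⟨b, hbA, hb1, hbQ⟩ := hb
  -- `Q` centralizes whatever `b` centralizes
  have hQb : ∀ y ∈ R, Commute b y → ∀ x ∈ Q, Commute x y := fun y hy hby x hx =>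
    d.commQR b hbA hb1 x hx y hy (hbQ x hx) hby
  have hpowb : ∀ (c : MulAut V), c ∈ Subgroup.zpowers b → c ≠ 1 → ∀ z, Commute c z → Commute b z := by
    intro c hc hc1 z hz
    obtain ⟨i, rfl⟩ := (mem_powers_iff_mem_zpowers (x := b) (y := c)).mpr hc
    refine commute_of_pow_commute hp (d.pow b hbA) (fun hdvd => hc1 ?_) hz
    exact orderOf_dvd_iff_pow_eq_one.mp ((orderOf_dvd_of_pow_eq_one (d.pow b hbA)).trans hdvd)
  by_contra hne
  -- `R = [Q, R]`
  have hcomR : ⁅Q, R⁆ = R := by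
    have hle : ⁅Q, R⁆ ≤ R := by
      rw [Subgroup.commutator_le]
      intro x hx y hy
      exact comm_mem hy fun z hz => d.normQR x hx z hz
    by_contra hlt
    refine hne fun x hx y hy => ?_
    have hc := hsmallR _ (lt_of_le_of_ne hle hlt) ?_ ?_ x hx _
      (Subgroup.commutator_mem_commutator hx hy)
    · have h1 : (x * y * x⁻¹ * y⁻¹) ^ Nat.card Q = 1 := eq_one_of_commute_comm
        (orderOf_dvd_iff_pow_eq_one.mp (Subgroup.orderOf_dvd_natCard Q hx)) rfl hc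
      rw [commute_iff_comm_eq_one, ← orderOf_eq_one_iff]
      exact Nat.eq_one_of_dvd_coprimes d.copQR (orderOf_dvd_of_pow_eq_one h1)
        (Subgroup.orderOf_dvd_natCard R (comm_mem hy fun z hz => d.normQR x hx z hz))
    · intro a ha w hw
      have h2 : (⁅Q, R⁆).map (MulAut.conj a).toMonoidHom ≤ ⁅Q, R⁆ := by
        rw [Subgroup.map_commutator]
        refine Subgroup.commutator_mono ?_ ?_
        · rintro _ ⟨u, hu, rfl⟩; exact d.normQ a ha u hu
        · rintro _ ⟨u, hu, rfl⟩; exact d.normR a ha u hu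
      exact h2 ⟨w, hw, rfl⟩
    · intro a ha w hw
      have h2 : (⁅Q, R⁆).map (MulAut.conj a).toMonoidHom ≤ ⁅Q, R⁆ := by
        rw [Subgroup.map_commutator]
        refine Subgroup.commutator_mono ?_ ?_
        · rintro _ ⟨u, hu, rfl⟩; exact Q.mul_mem (Q.mul_mem ha hu) (Q.inv_mem ha)
        · rintro _ ⟨u, hu, rfl⟩; exact d.normQR a ha u hu
      exact h2 ⟨w, hw, rfl⟩
  -- elements with all commutators with `Q` in a subgroup `M`
  have hnotM : ∀ M : Subgroup (MulAut V), (∀ x ∈ Q, ∀ y ∈ R, x * y * x⁻¹ * y⁻¹ ∈ M) → R ≤ M := by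
    intro M hM
    refine le_of_eq_of_le hcomR.symm ?_
    rw [Subgroup.commutator_le]
    exact hM
  refine hne ?_
  rcases eq_or_lt_of_le (inf_le_left : R ⊓ Subgroup.centralizer (R : Set (MulAut V)) ≤ R) with
    hZR | hZlt
  · refine commute_of_abelian hp hr d hbA hb1 hbQ hQb hpowb hsmallR fun y hy z hz => ?_
    rw [← hZR] at hz
    exact Subgroup.mem_centralizer_iff.mp hz.2 y hy
  · exact commute_of_nonabelian hp hr d hbA hb1 hbQ hQb hpowb hsmallR hnotM hZlt

end Cfsg.Agent.Lib.FpfHeight.FourGroup
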