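/-
A solvable group with a fixed-point-free elementary abelian operator group of order `p ^ 2`
is nilpotent modulo its Fitting subgroup.
-/
import Mathlib.GroupTheory.Nilpotent
import Mathlib.Data.Nat.Factorization.Basic
import Cfsg.Agent.Lib.FpfHeight.Abelian
import Cfsg.Agent.Lib.FpfHeight.FourGroup

set_option autoImplicit false

namespace Cfsg.Agent.Lib.FpfHeight.FourGroupFitting

open Cfsg.Agent.Lib.FpfHeight.Basic Cfsg.Agent.Lib.FpfHeight.Abelian
  Cfsg.Agent.Lib.FpfHeight.Generation Cfsg.Agent.Lib.FpfHeight.FourGroup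
open scoped IsMulCommutative

universe u

section General

variable {G : Type u} [Group G] [Finite G]

/-- Containment of the preimage of `F(G/V)` may be tested on the preimages of the `q`-cores. -/
theorem comap_fitting_le (V D : Subgroup G) [V.Normal] (hVD : V ≤ D)
    (h : ∀ q : ℕ, q.Prime → (pCore q (G ⧸ V)).comap (QuotientGroup.mk' V) ≤ D) :
    (fittingSubgroup (G ⧸ V)).comap (QuotientGroup.mk' V) ≤ D := by
  intro x hx
  have h1 : fittingSubgroup (G ⧸ V) ≤ D.map (QuotientGroup.mk' V) := by
    rw [Cfsg.Agent.Lib.Cores.fittingSubgroup_eq_iSup_pCore]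
    refine iSup_le fun q => ?_
    rw [← Subgroup.map_comap_eq_self_of_surjective (QuotientGroup.mk'_surjective V)
      (pCore (q : ℕ) (G ⧸ V))]
    exact Subgroup.map_mono (h q q.2)
  have h2 : x ∈ (D.map (QuotientGroup.mk' V)).comap (QuotientGroup.mk' V) := h1 hx
  rwa [Subgroup.comap_map_eq, QuotientGroup.ker_mk', sup_eq_left.mpr hVD] at h2

theorem card_quotient_lt (V : Subgroup G) (hV : V ≠ ⊥) : Nat.card (G ⧸ V) < Nat.card G := by
  rw [Subgroup.card_eq_card_quotient_mul_card_subgroup V]
  exact lt_mul_of_one_lt_right Nat.card_pos ((Subgroup.one_lt_card_iff_ne_bot V).mpr hV)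

theorem apply_mem_comap_char {V : Subgroup G} [V.Normal] (σ : MulAut G) (hV : ∀ x ∈ V, σ x ∈ V)
    (C : Subgroup (G ⧸ V)) [C.Characteristic] :
    ∀ x ∈ C.comap (QuotientGroup.mk' V), σ x ∈ C.comap (QuotientGroup.mk' V) :=
  fun x hx => apply_mem_of_char (quotAut σ V hV) C _ hx

/-- A group of `p`-power order of automorphisms without common fixed points has order prime to
`p`. -/
theorem coprime_card_of_fpf_group {p : ℕ} [Fact p.Prime] {A : Type*} [Group A] (hA : IsPGroup p A)
    (α : A →* MulAut G) (hfpf : ∀ g, (∀ a, α a g = g) → g = 1) : p.Coprime (Nat.card G) := by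
  let act : MulAction A G :=
    { smul := fun a g => α a g
      one_smul := fun g => by change α 1 g = g; simp
      mul_smul := fun a b g => by change α (a * b) g = α a (α b g); simp [MulAut.mul_apply] }
  have h := hA.card_modEq_card_fixedPoints G
  have h1 : MulAction.fixedPoints A G = {1} := by
    refine Set.eq_singleton_iff_unique_mem.mpr ⟨fun a => map_one (α a), fun g hg => hfpf g hg⟩
  rw [h1, Nat.card_coe_set_eq, Set.ncard_singleton] at h
  refine (Nat.Prime.coprime_iff_not_dvd Fact.out).mpr fun hdvd => ?_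
  exact Nat.Prime.not_dvd_one (Fact.out : p.Prime)
    (Nat.modEq_zero_iff_dvd.mp (h.symm.trans (Nat.modEq_zero_iff_dvd.mpr hdvd)))

/-- Coprime order elements of a nilpotent finite group commute. -/
theorem commute_of_nilpotent (hG : Group.IsNilpotent G) {q r : ℕ} (hq : q.Prime) (hr : r.Prime)
    (hqr : q ≠ r) {x y : G} {k l : ℕ} (hx : x ^ q ^ k = 1) (hy : y ^ r ^ l = 1) : Commute x y := by
  haveI := Fact.mk hq
  haveI := Fact.mk hr
  have h : ∀ {s : ℕ} [Fact s.Prime] {z : G} {m : ℕ}, z ^ s ^ m = 1 →
      ∃ P : Sylow s G, (P : Subgroup G).Normal ∧ z ∈ (P : Subgroup G) := by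
    intro s _ z m hz
    have hz' : IsPGroup s (Subgroup.zpowers z) := by
      refine IsPGroup.of_card_dvd_pow (n := m) ?_
      rw [Nat.card_zpowers]
      exact orderOf_dvd_of_pow_eq_one hz
    obtain ⟨P, hP⟩ := hz'.exists_le_sylow
    exact ⟨P, inferInstance, hP (Subgroup.mem_zpowers z)⟩
  obtain ⟨P, hP, hxP⟩ := h hx
  obtain ⟨R, hR, hyR⟩ := h hy
  exact Subgroup.commute_of_normal_of_disjoint (P : Subgroup G) (R : Subgroup G) hP hR
    (IsPGroup.disjoint_of_ne q r hqr _ _ P.isPGroup' R.isPGroup') x y hxP hyR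

/-- An element with image of `r`-power order may be replaced by an `r`-element among its powers. -/
theorem exists_pgroup_preimage {H : Type*} [Group H] {r : ℕ} (hr : r.Prime) (f : G →* H) (h : G)
    {k : ℕ} (hk : f h ^ r ^ k = 1) :
    ∃ n ∈ Subgroup.zpowers h, (∃ j : ℕ, n ^ r ^ j = 1) ∧ f n = f h := by
  set o := orderOf h with ho
  set m := ordCompl[r] o with hm
  have hco : m.Coprime (orderOf (f h)) :=
    (((Nat.coprime_ordCompl hr (orderOf_pos h).ne').pow_left k).coprime_dvd_left
      (orderOf_dvd_of_pow_eq_one hk)).symm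
  obtain ⟨s, hs⟩ := exists_pow_eq_self_of_coprime hco
  refine ⟨(h ^ m) ^ s, pow_mem (pow_mem (Subgroup.mem_zpowers h) m) s, ⟨o.factorization r, ?_⟩,
    by rw [map_pow, map_pow, hs]⟩
  rw [← pow_mul, ← pow_mul, show m * (s * r ^ o.factorization r) = o * s by
    rw [mul_left_comm, mul_comm m, hm, Nat.ordProj_mul_ordCompl_eq_self, mul_comm],
    pow_mul, pow_orderOf_eq_one, one_pow]

/-- A solvable group with a fixed-point-free automorphism of prime order is nilpotent. -/
theorem isNilpotent_of_fpf_prime (G : Type u) [Group G] [Finite G] (hG : Group.IsSolvable G)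
    {p : ℕ} (hp : p.Prime) (σ : MulAut G) (hσ : σ ^ p = 1) (hfpf : ∀ g, σ g = g → g = 1) :
    Group.IsNilpotent G := by
  induction hn : Nat.card G using Nat.strong_induction_on generalizing G with
  | _ n ih =>
  subst hn
  rcases subsingleton_or_nontrivial G with h | h
  · infer_instance
  obtain ⟨v, V, hv, hVc, hVa, hVp, hVne⟩ := exists_char_abelian hG
  haveI := Fact.mk hv
  haveI := hVc
  haveI := hVa
  have hVinv := apply_mem_of_char σ V
  have hnil := ih _ (card_quotient_lt V hVne) (G ⧸ V) inferInstance (quotAut σ V hVinv)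
    (quotAut_pow_eq_one σ V hVinv hσ) (quotAut_fpf σ V hVinv hfpf) rfl
  rw [← Cfsg.Agent.Lib.Cores.fittingSubgroup_eq_top_iff] at hnil ⊢
  rw [eq_top_iff]
  refine le_trans ?_ (comap_fitting_le V (fittingSubgroup G)
    (Cfsg.Agent.Lib.Cores.le_fittingSubgroup hVp.isNilpotent) fun q hq => ?_)
  · rw [hnil, Subgroup.comap_top]
  haveI := Fact.mk hq
  by_cases hqv : q = v
  · rw [hqv]; exact comap_pCore_le_fitting V hVp
  set L := (pCore q (G ⧸ V)).comap (QuotientGroup.mk' V) with hL
  have hLσ : ∀ x ∈ L, σ x ∈ L := apply_mem_comap_char σ hVinv _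
  set ψ : G →* MulAut V := MulAut.conjNormal with hψ
  set s := restrict V σ with hs
  have : Finite (MulAut V) := Finite.of_injective (fun e : MulAut V => (e : V → V))
    DFunLike.coe_injective
  have hQp : IsPGroup q (L.map ψ) := by
    rintro ⟨_, y, hy, rfl⟩
    obtain ⟨k, hk⟩ := pow_mem_of_mem_comap_pCore V hy
    refine ⟨k, Subtype.ext ?_⟩
    change ψ y ^ _ = 1
    rw [← map_pow, conjNormal_eq_one_iff, Subgroup.mem_centralizer_iff]
    intro w hw
    exact congrArg Subtype.val (mul_comm (⟨w, hw⟩ : V) ⟨_, hk⟩)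
  have hC : ∀ y ∈ L ⊓ Subgroup.centralizer (V : Set G),
      σ y ∈ L ⊓ Subgroup.centralizer (V : Set G) := by
    intro y hy
    refine ⟨hLσ y hy.1, ?_⟩
    change σ y ∈ Subgroup.centralizer (V : Set G)
    rw [← conjNormal_eq_one_iff, ← restrict_conjNormal V σ,
      (conjNormal_eq_one_iff V y).mpr hy.2, mul_one, mul_inv_cancel]
  have hnorm : ∀ z ∈ L.map ψ, s * z * s⁻¹ ∈ L.map ψ := by
    rintro _ ⟨y, hy, rfl⟩; rw [restrict_conjNormal]; exact ⟨_, hLσ y hy, rfl⟩
  have hQfpf : ∀ z ∈ L.map ψ, Commute s z → z = 1 := by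
    rintro _ ⟨y, hy, rfl⟩ he
    have he' : s * ψ y * s⁻¹ = ψ y := mul_inv_eq_iff_eq_mul.mpr he
    rw [restrict_conjNormal] at he'
    have h1 : y⁻¹ * σ y ∈ L ⊓ Subgroup.centralizer (V : Set G) := by
      refine ⟨L.mul_mem (L.inv_mem hy) (hLσ y hy), ?_⟩
      change y⁻¹ * σ y ∈ Subgroup.centralizer (V : Set G)
      rw [← conjNormal_eq_one_iff, map_mul, map_inv, he', inv_mul_cancel]
    exact (conjNormal_eq_one_iff V y).mpr (mem_of_invariant_of_fixed σ hfpf hC h1).2
  have hsp : s ^ p = 1 := by rw [hs, ← map_pow, hσ, map_one]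
  have hsV : ∀ w, s w = w → w = 1 := fun w hw => Subtype.ext (hfpf w (congrArg Subtype.val hw))
  intro x hx
  have h1 := frob_op toEnd (L.map ψ) s hp.pos hnorm (by
    intro i hi hip z hz hfix
    exact hQfpf z hz (commute_of_pow_commute hp hsp (Nat.not_dvd_of_pos_of_lt hi hip)
      (mul_inv_eq_iff_eq_mul.mp hfix))) 1 (fun _ _ => Commute.one_left _)
    (by rw [sum_pow_eq_zero s hsp hsV, mul_zero]) (ψ x) ⟨x, hx, rfl⟩
  have h2 := eq_zero_of_coprime_natCast_mul (IsPGroup.coprime_card_of_ne _ _ hqv _ _ hQp hVp) h1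
  rw [one_mul, sub_eq_zero] at h2
  refine inf_centralizer_le_fitting V L ?_ ⟨hx, ?_⟩
  · rw [hL, Subgroup.map_comap_eq_self_of_surjective (QuotientGroup.mk'_surjective V)]
    exact (Cfsg.Agent.Lib.Cores.pCore_isPGroup _).isNilpotent
  · exact (conjNormal_eq_one_iff V x).mp (toEnd_injective (h2.trans (map_one _).symm))

end General

section Operators

variable {p : ℕ} {A : Type*} [CommGroup A]

/-- The centralizer of a nonidentity operator is nilpotent. -/
theorem isNilpotent_fixed (hp : p.Prime) (hpow : ∀ a : A, a ^ p = 1) (hcard : Nat.card A = p ^ 2)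
    {G : Type u} [Group G] [Finite G] (hG : Group.IsSolvable G) (α : A →* MulAut G)
    (hfpf : ∀ g, (∀ a, α a g = g) → g = 1) {a : A} (ha : a ≠ 1) :
    Group.IsNilpotent ((α a : G →* G).eqLocus (MonoidHom.id G)) := by
  set C := (α a : G →* G).eqLocus (MonoidHom.id G)
  obtain ⟨c, -, hc⟩ := exists_not_mem_zpowers hp (A := (⊤ : Subgroup A))
    (fun a _ => hpow a) (by rw [Subgroup.card_top, hcard]) (Subgroup.mem_top a)
  have hC : ∀ (b : A) (x : G), x ∈ C → α b x ∈ C := by
    intro b x hx
    change α a (α b x) = α b x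
    rw [← MulAut.mul_apply, ← map_mul, mul_comm, map_mul, MulAut.mul_apply]
    exact congrArg (α b) hx
  let σ : MulAut C :=
    { toFun := fun x => ⟨α c x, hC c x x.2⟩
      invFun := fun x => ⟨α c⁻¹ x, hC c⁻¹ x x.2⟩
      left_inv := fun x => Subtype.ext (by
        change α c⁻¹ (α c (x : G)) = (x : G)
        rw [← MulAut.mul_apply, ← map_mul, inv_mul_cancel, map_one]; rfl)
      right_inv := fun x => Subtype.ext (by
        change α c (α c⁻¹ (x : G)) = (x : G)
        rw [← MulAut.mul_apply, ← map_mul, mul_inv_cancel, map_one]; rfl)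
      map_mul' := fun x y => Subtype.ext (map_mul (α c) (x : G) y) }
  have hpowσ : ∀ (i : ℕ) (x : C), ((σ ^ i) x : G) = α (c ^ i) x := by
    intro i
    induction i with
    | zero => intro x; simp
    | succ i ih =>
      intro x
      rw [pow_succ', MulAut.mul_apply, pow_succ', map_mul, MulAut.mul_apply, ← ih]
      rfl
  refine isNilpotent_of_fpf_prime C inferInstance hp σ
    (MulEquiv.ext fun x => Subtype.ext (by rw [hpowσ, hpow, map_one]; rfl)) fun x hx => ?_
  refine Subtype.ext (hfpf x fun b => ?_)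
  let S : Subgroup A :=
    { carrier := {b | α b (x : G) = x}
      one_mem' := by simp
      mul_mem' := fun {u w} hu hw => by
        change α (u * w) (x : G) = x
        rw [map_mul, MulAut.mul_apply, hw, hu]
      inv_mem' := fun {u} hu => by
        change α u⁻¹ (x : G) = x
        conv_lhs => rw [← show α u (x : G) = x from hu]
        rw [← MulAut.mul_apply, ← map_mul, inv_mul_cancel, map_one]; rfl }
  have hle : Subgroup.closure {a, c} ≤ S := by
    rw [Subgroup.closure_le]
    rintro z (rfl | rfl)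
    · exact x.2
    · exact congrArg Subtype.val hx
  rw [closure_pair_eq hp (A := (⊤ : Subgroup A)) (fun a _ => hpow a)
    (by rw [Subgroup.card_top, hcard]) (Subgroup.mem_top a) (Subgroup.mem_top c) ha hc] at hle
  exact hle (Subgroup.mem_top b)

/-- A Sylow subgroup invariant under a group of operators of order prime to `G`. -/
theorem exists_invariant_sylow (hA : IsPGroup p A) [Fact p.Prime] {G : Type u} [Group G] [Finite G]
    (α : A →* MulAut G) (hcop : p.Coprime (Nat.card G)) (q : ℕ) [Fact q.Prime] :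
    ∃ P : Sylow q G, ∀ a, ∀ x ∈ (P : Subgroup G), α a x ∈ (P : Subgroup G) := by
  let act : MulAction A (Sylow q G) :=
    { smul := fun a P => P.mapSurjective (f := (α a : G →* G)) (α a).surjective
      one_smul := fun P => Sylow.ext (by
        change (P : Subgroup G).map (α 1 : G →* G) = P
        rw [map_one]; exact Subgroup.map_id _)
      mul_smul := fun a b P => Sylow.ext (by
        change (P : Subgroup G).map (α (a * b) : G →* G) =
          ((P : Subgroup G).map (α b : G →* G)).map (α a : G →* G)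
        rw [Subgroup.map_map, map_mul]; rfl) }
  have h := hA.card_modEq_card_fixedPoints (Sylow q G)
  obtain ⟨P, hP⟩ : (MulAction.fixedPoints A (Sylow q G)).Nonempty := by
    by_contra hne
    rw [Set.not_nonempty_iff_eq_empty] at hne
    rw [hne, Nat.card_coe_set_eq, Set.ncard_empty] at h
    obtain ⟨P⟩ : Nonempty (Sylow q G) := inferInstance
    exact (Nat.Prime.coprime_iff_not_dvd Fact.out).mp hcop
      ((Nat.modEq_zero_iff_dvd.mp h).trans (P.card_dvd_index.trans (Subgroup.index_dvd_card _)))
  refine ⟨P, fun a x hx => ?_⟩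
  have h1 : (P : Subgroup G).map (α a : G →* G) = P := congrArg Sylow.toSubgroup (hP a)
  exact h1 ▸ Subgroup.mem_map_of_mem _ hx

/-- A solvable group with fixed-point-free operators `C_p × C_p` is nilpotent modulo `F(G)`. -/
theorem isNilpotent_quotient_fitting (hp : p.Prime) (hpow : ∀ a : A, a ^ p = 1)
    (hcard : Nat.card A = p ^ 2) (G : Type u) [Group G] [Finite G] (hG : Group.IsSolvable G)
    (α : A →* MulAut G) (hfpf : ∀ g, (∀ a, α a g = g) → g = 1) :
    Group.IsNilpotent (G ⧸ fittingSubgroup G) := by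
  induction hn : Nat.card G using Nat.strong_induction_on generalizing G with
  | _ n ih =>
  subst hn
  rcases subsingleton_or_nontrivial G with h | h
  · infer_instance
  obtain ⟨v, V, hv, hVc, hVa, hVp, hVne⟩ := exists_char_abelian hG
  haveI := Fact.mk hv
  haveI := Fact.mk hp
  haveI := hVc
  haveI := hVa
  haveI : Finite A := Nat.finite_of_card_ne_zero (by rw [hcard]; exact pow_ne_zero _ hp.ne_zero)
  have hAp : IsPGroup p A := IsPGroup.of_card hcard
  have hpG := coprime_card_of_fpf_group hAp α hfpf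
  have hVinv : ∀ a : A, ∀ x ∈ V, α a x ∈ V := fun a => apply_mem_of_char (α a) V
  -- lifting of fixed points
  have hlift : ∀ (B : Subgroup A) (N : Subgroup G) (x : G), (∀ a : A, ∀ n ∈ N, α a n ∈ N) →
      (∀ a ∈ B, x⁻¹ * α a x ∈ N) → ∃ n ∈ N, ∀ a ∈ B, α a (x * n) = x * n := by
    intro B N x hN hx
    obtain ⟨n, hn, hfix⟩ := exists_fixed_of_coprime (hAp.to_subgroup B) (α.comp B.subtype) N
      (fun a => hN a) (hpG.coprime_dvd_right (Subgroup.card_subgroup_dvd_card N)) x
      (fun a => hx a a.2)
    exact ⟨n, hn, fun a ha => hfix ⟨a, ha⟩⟩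
  have hqfpf : ∀ q : G ⧸ V, (∀ a, quotHom α V hVinv a q = q) → q = 1 := by
    intro q hq
    obtain ⟨x, rfl⟩ := QuotientGroup.mk_surjective q
    obtain ⟨n, hn, hfix⟩ := hlift ⊤ V x hVinv fun a _ => QuotientGroup.eq.mp (hq a).symm
    have := hfpf _ fun a => hfix a (Subgroup.mem_top a)
    exact (QuotientGroup.eq_one_iff x).mpr (eq_inv_of_mul_eq_one_left this ▸ V.inv_mem hn)
  have hnil := ih _ (card_quotient_lt V hVne) (G ⧸ V) inferInstance (quotHom α V hVinv) hqfpf rfl
  set F' := fittingSubgroup (G ⧸ V) with hF'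
  set K := F'.comap (QuotientGroup.mk' V) with hK
  set F := fittingSubgroup G with hF
  rw [Group.isNilpotent_of_finite_tfae.out 0 3 rfl rfl]
  intro q hq P'
  obtain ⟨Q, hQinv⟩ := exists_invariant_sylow hAp α hpG q
  set π := QuotientGroup.mk' F with hπ
  have hπs : Function.Surjective π := QuotientGroup.mk'_surjective F
  set P := Q.mapSurjective (f := π) hπs with hP
  suffices hnormal : (P : Subgroup (G ⧸ F)).Normal by
    haveI := Sylow.unique_of_normal P hnormal
    rwa [Subsingleton.elim P' P]
  -- `Q K` is normal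
  have hQK : ((Q : Subgroup G) ⊔ K).Normal := by
    set f := (QuotientGroup.mk' F').comp (QuotientGroup.mk' V) with hf
    have hfs : Function.Surjective f :=
      (QuotientGroup.mk'_surjective F').comp (QuotientGroup.mk'_surjective V)
    have hker : f.ker = K := by
      ext x
      rw [MonoidHom.mem_ker, hK, Subgroup.mem_comap]
      exact QuotientGroup.eq_one_iff _
    have h1 : ((Q : Subgroup G).map f).Normal := by
      have := Group.isNilpotent_of_finite_tfae.out 0 3 rfl rfl |>.mp hnil q hq
        (Q.mapSurjective (f := f) hfs)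
      rwa [Sylow.coe_mapSurjective] at this
    have h2 := h1.comap f
    rwa [Subgroup.comap_map_eq, hker] at h2
  -- the image of `K` normalizes the image of `Q`
  have key : ∀ x ∈ (Q : Subgroup G), ∀ k ∈ K,
      k * x * k⁻¹ ∈ (Q : Subgroup G) ⊔ F := by
    have hle : K ≤
        Subgroup.normalizer (((P : Subgroup (G ⧸ F)).comap π : Subgroup G) : Set G) := by
      set P₀ := (P : Subgroup (G ⧸ F)).comap π with hP₀
      have hVF : V ≤ F := Cfsg.Agent.Lib.Cores.le_fittingSubgroup hVp.isNilpotent
      have hFP : F ≤ P₀ := by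
        intro x hx
        rw [hP₀, Subgroup.mem_comap, hπ, QuotientGroup.mk'_apply, (QuotientGroup.eq_one_iff x).mpr hx]
        exact one_mem _
      refine comap_fitting_le V _ ((hVF.trans hFP).trans Subgroup.le_normalizer) fun r hr => ?_
      haveI := Fact.mk hr
      set L := (pCore r (G ⧸ V)).comap (QuotientGroup.mk' V) with hL
      by_cases hrv : r = v
      · rw [hL, hrv]
        exact ((comap_pCore_le_fitting V hVp).trans hFP).trans Subgroup.le_normalizer
      by_cases hrq : r = q
      · refine le_trans ?_ Subgroup.le_normalizer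
        rw [hP₀, ← Subgroup.map_le_iff_le_comap]
        haveI : (L.map π).Normal := Subgroup.Normal.map inferInstance _ hπs
        refine le_trans (Cfsg.Agent.Lib.Cores.le_pCore (p := q) ?_)
          (Cfsg.Agent.Lib.Cores.pCore_le_sylow P)
        rintro ⟨_, y, hy, rfl⟩
        obtain ⟨k, hk⟩ := pow_mem_of_mem_comap_pCore V hy
        refine ⟨k, Subtype.ext ?_⟩
        change π y ^ q ^ k = 1
        rw [← map_pow, ← hrq]
        exact (QuotientGroup.eq_one_iff _).mpr (hVF hk)
      -- the essential case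
      set ψ : G →* MulAut V := MulAut.conjNormal with hψ
      have : Finite (MulAut V) := Finite.of_injective (fun e : MulAut V => (e : V → V))
        DFunLike.coe_injective
      set Ā := (((restrict V).comp α).range : Subgroup (MulAut V)) with hĀ
      have hLinv : ∀ a : A, ∀ y ∈ L, α a y ∈ L := fun a => apply_mem_comap_char (α a) (hVinv a) _
      have hconj : ∀ (a : A) (g : G),
          restrict V (α a) * ψ g * (restrict V (α a))⁻¹ = ψ (α a g) := fun a g =>
        restrict_conjNormal V (α a) g
      -- fixed preimages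
      have himage : ∀ (M : Subgroup G), (∀ a : A, ∀ y ∈ M, α a y ∈ M) → ∀ (B : Subgroup A),
          ∀ g ∈ M, (∀ a ∈ B, Commute (restrict V (α a)) (ψ g)) →
          ∃ g' ∈ M, ψ g' = ψ g ∧ ∀ a ∈ B, α a g' = g' := by
        intro M hM B g hg hc
        set N := M ⊓ Subgroup.centralizer (V : Set G) with hN
        have hNinv : ∀ a : A, ∀ n ∈ N, α a n ∈ N := by
          intro a n hn
          refine ⟨hM a n hn.1, ?_⟩
          change α a n ∈ Subgroup.centralizer (V : Set G)
          rw [← conjNormal_eq_one_iff, ← restrict_conjNormal V (α a),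
            (conjNormal_eq_one_iff V n).mpr hn.2, mul_one, mul_inv_cancel]
        obtain ⟨n, hn, hfix⟩ := hlift B N g hNinv fun a ha => by
          refine ⟨M.mul_mem (M.inv_mem hg) (hM a g hg), ?_⟩
          change g⁻¹ * α a g ∈ Subgroup.centralizer (V : Set G)
          rw [← conjNormal_eq_one_iff, map_mul, map_inv, ← hconj a g]
          change (ψ g)⁻¹ * (restrict V (α a) * ψ g * (restrict V (α a))⁻¹) = 1
          rw [(hc a ha).eq, mul_inv_cancel_right, inv_mul_cancel]
        refine ⟨g * n, M.mul_mem hg hn.1, ?_, hfix⟩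
        rw [map_mul, hψ, (conjNormal_eq_one_iff V n).mpr hn.2, mul_one]
      set Rb := L.map ψ with hRb
      set Qb := (Q : Subgroup G).map ψ with hQb
      have hRp : IsPGroup r Rb := by
        rintro ⟨_, y, hy, rfl⟩
        obtain ⟨k, hk⟩ := pow_mem_of_mem_comap_pCore V hy
        refine ⟨k, Subtype.ext ?_⟩
        change ψ y ^ _ = 1
        rw [← map_pow, conjNormal_eq_one_iff, Subgroup.mem_centralizer_iff]
        intro w hw
        exact congrArg Subtype.val (mul_comm (⟨w, hw⟩ : V) ⟨_, hk⟩)
      have hQp : IsPGroup q Qb := Q.isPGroup'.map ψ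
      have hcom : ∀ x ∈ Qb, ∀ y ∈ Rb, Commute x y := by
        by_cases hker : ∃ a : A, a ≠ 1 ∧ restrict V (α a) = 1
        · -- an operator acting trivially on `V`
          obtain ⟨a, ha, hker⟩ := hker
          suffices hR1 : ∀ y ∈ Rb, y = 1 from fun x _ y hy => by
            rw [hR1 y hy]; exact Commute.one_right x
          intro _ hy
          obtain ⟨g, hg, rfl⟩ := hy
          obtain ⟨g', hg', hgg, hfix⟩ := himage L hLinv (Subgroup.zpowers a) g hg fun b hb => by
            obtain ⟨i, rfl⟩ := (mem_powers_iff_mem_zpowers (x := a) (y := b)).mpr hb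
            change Commute (restrict V (α (a ^ i))) (ψ g)
            rw [map_pow, map_pow, hker, one_pow]
            exact Commute.one_left _
          have ha' := hfix a (Subgroup.mem_zpowers a)
          obtain ⟨k, hk⟩ := hRp ⟨_, g', hg', rfl⟩
          obtain ⟨n, hn, ⟨j, hnj⟩, hfn⟩ := exists_pgroup_preimage hr ψ g' (congrArg Subtype.val hk)
          have hnC : α a n = n := by
            have : Subgroup.zpowers g' ≤ (α a : G →* G).eqLocus (MonoidHom.id G) :=
              Subgroup.zpowers_le.mpr ha'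
            exact this hn
          rw [← hgg, ← hfn]
          refine (conjNormal_eq_one_iff V n).mpr (Subgroup.mem_centralizer_iff.mpr fun w hw => ?_)
          have hwC : α a w = w :=
            congrArg Subtype.val (DFunLike.congr_fun hker (⟨w, hw⟩ : V))
          obtain ⟨l, hl⟩ := hVp ⟨w, hw⟩
          exact congrArg Subtype.val (commute_of_nilpotent
            (isNilpotent_fixed hp hpow hcard hG α hfpf ha) hv hr (Ne.symm hrv) (x := ⟨w, hwC⟩)
            (y := ⟨n, hnC⟩) (k := l) (l := j) (Subtype.ext (congrArg Subtype.val hl :))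
            (Subtype.ext hnj)).eq
        push_neg at hker
        have hinj : Function.Injective ((restrict V).comp α) := by
          rw [← MonoidHom.ker_eq_bot_iff, Subgroup.eq_bot_iff_forall]
          intro a ha
          by_contra hne
          exact hker a hne ha
        have hne1 : ∀ {a : A}, restrict V (α a) ≠ 1 → a ≠ 1 := fun {a} h e => h (by simp [e])
        refine FourGroup.commute hp hq.out hr Rb Qb (A := Ā) ?_
        refine
          { comm := ?_, pow := ?_, card := ?_, normR := ?_, normQ := ?_, normQR := ?_,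
            grpR := hRp, grpQ := hQp, copR := ?_, copQ := ?_, copQR := ?_, copRV := ?_,
            commQR := ?_, fixRV := ?_, fpfR := ?_, fpfQ := ?_ }
        · rintro _ ⟨a, rfl⟩ _ ⟨b, rfl⟩
          exact (Commute.all a b).map ((restrict V).comp α)
        · rintro _ ⟨a, rfl⟩
          rw [← map_pow, hpow, map_one]
        · rw [hĀ, ← Nat.card_congr (MonoidHom.ofInjective hinj).toEquiv, hcard]
        · rintro _ ⟨a, rfl⟩ _ ⟨y, hy, rfl⟩
          exact ⟨α a y, hLinv a y hy, (hconj a y).symm⟩
        · rintro _ ⟨a, rfl⟩ _ ⟨y, hy, rfl⟩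
          exact ⟨α a y, hQinv a y hy, (hconj a y).symm⟩
        · rintro _ ⟨x, _, rfl⟩ _ ⟨y, hy, rfl⟩
          exact ⟨x * y * x⁻¹, Subgroup.Normal.conj_mem inferInstance y hy x, by simp⟩
        · exact hpG.coprime_dvd_right
            ((Subgroup.card_map_dvd L ψ).trans (Subgroup.card_subgroup_dvd_card L))
        · exact hpG.coprime_dvd_right
            ((Subgroup.card_map_dvd (Q : Subgroup G) ψ).trans (Subgroup.card_subgroup_dvd_card _))
        · exact IsPGroup.coprime_card_of_ne q r (Ne.symm hrq) _ _ hQp hRp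
        · exact IsPGroup.coprime_card_of_ne r v hrv _ _ hRp hVp
        · rintro _ ⟨a, rfl⟩ ha _ ⟨g, hg, rfl⟩ _ ⟨h, hh, rfl⟩ hag hah
          have ha1 := hne1 ha
          have hB : ∀ {z : G}, Commute (restrict V (α a)) (ψ z) → ∀ b ∈ Subgroup.zpowers a,
              Commute (restrict V (α b)) (ψ z) := by
            intro z hz b hb
            obtain ⟨i, rfl⟩ := (mem_powers_iff_mem_zpowers (x := a) (y := b)).mpr hb
            change Commute (restrict V (α (a ^ i))) (ψ z)
            rw [map_pow, map_pow]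
            exact hz.pow_left i
          obtain ⟨g', hg', hgg, hgfix⟩ := himage _ hQinv (Subgroup.zpowers a) g hg (hB hag)
          obtain ⟨h', hh', hhh, hhfix⟩ := himage L hLinv (Subgroup.zpowers a) h hh (hB hah)
          obtain ⟨k, hk⟩ := hRp ⟨_, h', hh', rfl⟩
          obtain ⟨n, hn, ⟨j, hnj⟩, hfn⟩ := exists_pgroup_preimage hr ψ h' (congrArg Subtype.val hk)
          have hnC : α a n = n := by
            have : Subgroup.zpowers h' ≤ (α a : G →* G).eqLocus (MonoidHom.id G) :=
              Subgroup.zpowers_le.mpr (hhfix a (Subgroup.mem_zpowers a))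
            exact this hn
          obtain ⟨l, hl⟩ := Q.isPGroup' ⟨g', hg'⟩
          have hc : Commute g' n := congrArg Subtype.val (commute_of_nilpotent
            (isNilpotent_fixed hp hpow hcard hG α hfpf ha1) hq.out hr (Ne.symm hrq)
            (x := ⟨g', hgfix a (Subgroup.mem_zpowers a)⟩) (y := ⟨n, hnC⟩) (k := l) (l := j)
            (Subtype.ext (congrArg Subtype.val hl :)) (Subtype.ext hnj)).eq
          rw [← hgg, ← hhh, ← hfn]
          exact hc.map ψ
        · rintro _ ⟨a, rfl⟩ ha _ ⟨h, hh, rfl⟩ hah w hw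
          have ha1 := hne1 ha
          obtain ⟨h', hh', hhh, hhfix⟩ := himage L hLinv (Subgroup.zpowers a) h hh (by
            intro b hb
            obtain ⟨i, rfl⟩ := (mem_powers_iff_mem_zpowers (x := a) (y := b)).mpr hb
            change Commute (restrict V (α (a ^ i))) (ψ h)
            rw [map_pow, map_pow]
            exact Commute.pow_left hah i)
          obtain ⟨k, hk⟩ := hRp ⟨_, h', hh', rfl⟩
          obtain ⟨n, hn, ⟨j, hnj⟩, hfn⟩ := exists_pgroup_preimage hr ψ h' (congrArg Subtype.val hk)
          have hnC : α a n = n := by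
            have : Subgroup.zpowers h' ≤ (α a : G →* G).eqLocus (MonoidHom.id G) :=
              Subgroup.zpowers_le.mpr (hhfix a (Subgroup.mem_zpowers a))
            exact this hn
          have hwC : α a (w : G) = w := congrArg Subtype.val hw
          obtain ⟨l, hl⟩ := hVp w
          have hc : Commute n (w : G) := congrArg Subtype.val (commute_of_nilpotent
            (isNilpotent_fixed hp hpow hcard hG α hfpf ha1) hr hv hrv
            (x := ⟨n, hnC⟩) (y := ⟨w, hwC⟩) (k := j) (l := l) (Subtype.ext hnj)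
            (Subtype.ext (congrArg Subtype.val hl :))).eq
          rw [← hhh, ← hfn]
          refine Subtype.ext ?_
          rw [hψ, MulAut.conjNormal_apply, hc.eq, mul_inv_cancel_right]
        · rintro _ ⟨h, hh, rfl⟩ hall
          obtain ⟨h', -, hhh, hfix⟩ := himage L hLinv ⊤ h hh fun a _ => hall _ ⟨a, rfl⟩
          rw [← hhh, hfpf h' fun a => hfix a (Subgroup.mem_top a), map_one]
        · rintro _ ⟨h, hh, rfl⟩ hall
          obtain ⟨h', -, hhh, hfix⟩ := himage _ hQinv ⊤ h hh fun a _ => hall _ ⟨a, rfl⟩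
          rw [← hhh, hfpf h' fun a => hfix a (Subgroup.mem_top a), map_one]
      have hsmall : ∀ k ∈ L, ∀ x ∈ (Q : Subgroup G), x * k * x⁻¹ * k⁻¹ ∈ F := by
        intro k hk x hx
        refine inf_centralizer_le_fitting V L ?_ ⟨L.mul_mem
          (Subgroup.Normal.conj_mem inferInstance k hk x) (L.inv_mem hk), ?_⟩
        · rw [hL, Subgroup.map_comap_eq_self_of_surjective (QuotientGroup.mk'_surjective V)]
          exact (Cfsg.Agent.Lib.Cores.pCore_isPGroup _).isNilpotent
        · change x * k * x⁻¹ * k⁻¹ ∈ Subgroup.centralizer (V : Set G)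
          rw [← conjNormal_eq_one_iff, map_mul, map_mul, map_mul, map_inv, map_inv,
            (hcom _ ⟨x, hx, rfl⟩ _ ⟨k, hk, rfl⟩).eq]
          change ψ k * ψ x * (ψ x)⁻¹ * (ψ k)⁻¹ = 1
          group
      intro k hk
      have hmap : ∀ z ∈ (P : Subgroup (G ⧸ F)), π k * z * (π k)⁻¹ ∈ (P : Subgroup (G ⧸ F)) := by
        intro z hz
        obtain ⟨x, hx, rfl⟩ := hz
        refine ⟨x, hx, ?_⟩
        have h1 : π (x * k * x⁻¹ * k⁻¹) = 1 := (QuotientGroup.eq_one_iff _).mpr (hsmall k hk x hx)
        simp only [map_mul, map_inv] at h1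
        have h2 : π x * π k = π k * π x :=
          mul_inv_eq_iff_eq_mul.mp (mul_inv_eq_one.mp h1)
        rw [← h2, mul_inv_cancel_right]
      rw [Subgroup.mem_normalizer_iff_map_conj_eq]
      refine map_eq_of_invariant (MulAut.conj k) fun z hz => ?_
      rw [hP₀, Subgroup.mem_comap] at hz ⊢
      simpa using hmap _ hz
    intro x hx k hk
    have h1 : k ∈ Subgroup.normalizer (((P : Subgroup (G ⧸ F)).comap π : Subgroup G) : Set G) := by
      exact hle hk
    have h2 := (Subgroup.mem_normalizer_iff.mp h1 x).mp ⟨x, hx, rfl⟩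
    rwa [hP, Sylow.coe_mapSurjective, Subgroup.comap_map_eq, hπ, QuotientGroup.ker_mk'] at h2
  set N := ((Q : Subgroup G) ⊔ K).map π with hN
  haveI : N.Normal := hQK.map _ hπs
  have hPN : (P : Subgroup (G ⧸ F)) ≤ N := by
    rw [hP, Sylow.coe_mapSurjective]
    exact Subgroup.map_mono le_sup_left
  have hNle : N ≤ Subgroup.normalizer ((P : Subgroup (G ⧸ F)) : Set (G ⧸ F)) := by
    rw [hN, Subgroup.map_sup, sup_le_iff]
    refine ⟨by rw [hP, Sylow.coe_mapSurjective]; exact Subgroup.le_normalizer, ?_⟩
    rintro _ ⟨k, hk, rfl⟩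
    rw [Subgroup.mem_normalizer_iff_map_conj_eq]
    refine map_eq_of_invariant (MulAut.conj (π k)) fun z hz => ?_
    obtain ⟨x, hx, rfl⟩ := hz
    have h1 := Subgroup.mem_map_of_mem π (key x hx k hk)
    rw [Subgroup.map_sup, hπ, QuotientGroup.map_mk'_self, sup_bot_eq] at h1
    simpa [hP, hπ] using h1
  have : Subgroup.normalizer ((P : Subgroup (G ⧸ F)) : Set (G ⧸ F)) ⊔ N = ⊤ :=
    Sylow.normalizer_sup_eq_top' P hPN
  rw [sup_eq_left.mpr hNle] at this
  exact Subgroup.normalizer_eq_top_iff.mp this

end Operators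

end Cfsg.Agent.Lib.FpfHeight.FourGroupFitting
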