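/-
A group `Q` acting with a scalar normal subgroup `R` and nondegenerate commutator pairing on
`Q/R`, normalized by an operator `s` of order `P` semiregular on `Q/R`: if `s` has no nonzero
fixed vector then `|Q/R| = N²`, `N + 1 ≤ P` and `P ∣ N² - 1`.
-/
import Mathlib.LinearAlgebra.Eigenspace.Semisimple
import Mathlib.LinearAlgebra.Eigenspace.Triangularizable
import Mathlib.LinearAlgebra.Semisimple
import Mathlib.FieldTheory.IsAlgClosed.Basic
import Mathlib.GroupTheory.GroupAction.Quotient
import Mathlib.Algebra.Order.Chebyshev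
import Mathlib.LinearAlgebra.Dual.Lemmas

set_option autoImplicit false

namespace Cfsg.Agent.Lib.FpfHeight.Extraspecial

open Module

section

variable {k : Type*} [Field k] {Q : Type*} [Group Q]

/-- The commutator as an element of a subgroup containing all commutators. -/
def comEl {R : Subgroup Q} (hc : ∀ u y : Q, u * y * u⁻¹ * y⁻¹ ∈ R) (u y : Q) : R :=
  ⟨u * y * u⁻¹ * y⁻¹, hc u y⟩

/-- Hypotheses on the group, the automorphism and the character. -/
structure Setup (R : Subgroup Q) (β : MulAut Q) (μ : R →* k) (P : ℕ) : Prop where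
  comm : ∀ u y : Q, u * y * u⁻¹ * y⁻¹ ∈ R
  nondeg : ∀ y ∉ R, ∃ u, μ (comEl comm u y) ≠ 1
  ne_top : R ≠ ⊤
  inv : ∀ r ∈ R, β r ∈ R
  fix : ∀ r : R, μ ⟨β r, inv r r.2⟩ = μ r
  pow : β ^ P = 1
  semireg : ∀ i, 0 < i → i < P → ∀ y : Q, y⁻¹ * (β ^ i) y ∈ R → y ∈ R
  cast_card : (Nat.card Q : k) ≠ 0

variable {R : Subgroup Q} {β : MulAut Q} {μ : R →* k} {P : ℕ}
variable {M : Type*} [AddCommGroup M] [Module k M]
variable {M' : Type*} [AddCommGroup M'] [Module k M']

/-- `R` acts by the scalars `μ`. -/
def IsScalar (μ : R →* k) (ρ : Q →* Module.End k M) : Prop := ∀ r : R, ρ r = μ r • 1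

theorem mu_ne_zero (μ : R →* k) (r : R) : μ r ≠ 0 := fun h => by
  have := map_mul μ r r⁻¹
  rw [mul_inv_cancel, map_one, h, zero_mul] at this
  exact one_ne_zero this

theorem rho_mul_inv (ρ : Q →* Module.End k M) (y : Q) : ρ y * ρ y⁻¹ = 1 := by
  rw [← map_mul, mul_inv_cancel, map_one]

theorem rho_inv_mul (ρ : Q →* Module.End k M) (y : Q) : ρ y⁻¹ * ρ y = 1 := by
  rw [← map_mul, inv_mul_cancel, map_one]

theorem rho_apply_inv_apply (ρ : Q →* Module.End k M) (y : Q) (v : M) : ρ y (ρ y⁻¹ v) = v :=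
  LinearMap.congr_fun (rho_mul_inv ρ y) v

theorem smul_rho_inj [Nontrivial M] (ρ : Q →* Module.End k M) (y : Q) {a b : k}
    (h : a • ρ y = b • ρ y) : a = b := by
  obtain ⟨v, hv⟩ := exists_ne (0 : M)
  have h1 := LinearMap.congr_fun h (ρ y⁻¹ v)
  rw [LinearMap.smul_apply, LinearMap.smul_apply, rho_apply_inv_apply] at h1
  exact (smul_left_injective k hv) h1

theorem Setup.conj_eq (S : Setup R β μ P) {ρ : Q →* Module.End k M} (hρ : IsScalar μ ρ) (u y : Q) :
    ρ (u * y) = μ (comEl S.comm u y) • ρ (y * u) := by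
  have h : u * y = (comEl S.comm u y : Q) * (y * u) := by simp [comEl, mul_assoc]
  rw [h, map_mul ρ (comEl S.comm u y : Q), hρ, smul_mul_assoc, one_mul]

theorem Setup.mu_com_mul_left [Nontrivial M] (S : Setup R β μ P) {ρ : Q →* Module.End k M}
    (hρ : IsScalar μ ρ) (u v y : Q) :
    μ (comEl S.comm (u * v) y) = μ (comEl S.comm u y) * μ (comEl S.comm v y) := by
  refine smul_rho_inj ρ (y * (u * v)) ?_
  rw [← S.conj_eq hρ, mul_assoc, map_mul ρ u, S.conj_eq hρ v y, mul_smul_comm, ← map_mul,
    ← mul_assoc u y v, map_mul ρ (u * y), S.conj_eq hρ u y, smul_mul_assoc, ← map_mul, smul_smul,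
    mul_assoc y u v, mul_comm]

theorem Setup.mu_com_mul_right [Nontrivial M] (S : Setup R β μ P) {ρ : Q →* Module.End k M}
    (hρ : IsScalar μ ρ) (u y z : Q) :
    μ (comEl S.comm u (y * z)) = μ (comEl S.comm u y) * μ (comEl S.comm u z) := by
  refine smul_rho_inj ρ (y * z * u) ?_
  rw [← S.conj_eq hρ, ← mul_assoc, map_mul ρ (u * y), S.conj_eq hρ u y, smul_mul_assoc, ← map_mul,
    mul_assoc y u z, map_mul ρ y, S.conj_eq hρ u z, mul_smul_comm, ← map_mul, smul_smul,
    ← mul_assoc y z u]

variable [Finite Q] [R.Normal]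

/-- The linear map from coefficient functions on `Q/R` to endomorphisms. -/
noncomputable def combo (R : Subgroup Q) [R.Normal] [Fintype (Q ⧸ R)] (ρ : Q →* Module.End k M) :
    (Q ⧸ R → k) →ₗ[k] Module.End k M where
  toFun a := ∑ c, a c • ρ c.out
  map_add' a b := by simp [add_smul, Finset.sum_add_distrib]
  map_smul' t a := by simp [Finset.smul_sum, smul_smul]

theorem combo_apply [Fintype (Q ⧸ R)] (ρ : Q →* Module.End k M) (a : Q ⧸ R → k) :
    combo R ρ a = ∑ c, a c • ρ c.out := rfl

/-- Every element of the image is a multiple of the image of a representative. -/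
theorem Setup.rho_eq_smul (_S : Setup R β μ P) {ρ : Q →* Module.End k M} (hρ : IsScalar μ ρ)
    (y : Q) : ∃ t : k, t ≠ 0 ∧ ρ y = t • ρ (y : Q ⧸ R).out := by
  obtain ⟨r, hr⟩ := QuotientGroup.mk_out_eq_mul R y
  refine ⟨(μ r)⁻¹, inv_ne_zero (mu_ne_zero μ r), ?_⟩
  rw [hr, map_mul, hρ, mul_smul_comm, mul_one, smul_smul, inv_mul_cancel₀ (mu_ne_zero μ r),
    one_smul]

theorem Setup.combo_injective [Nontrivial M] [Fintype (Q ⧸ R)] (S : Setup R β μ P)
    {ρ : Q →* Module.End k M} (hρ : IsScalar μ ρ) : Function.Injective (combo R ρ) := by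
  haveI : Fintype Q := Fintype.ofFinite Q
  classical
  refine (injective_iff_map_eq_zero _).mpr fun a ha => funext fun c₀ => ?_
  rw [combo_apply] at ha
  have h1 : ∀ u : Q, ∑ c, (a c * μ (comEl S.comm u c.out)) • ρ c.out = 0 := by
    intro u
    calc ∑ c, (a c * μ (comEl S.comm u c.out)) • ρ c.out
        = ρ u * (∑ c, a c • ρ c.out) * ρ u⁻¹ := by
          rw [Finset.mul_sum, Finset.sum_mul]
          refine Finset.sum_congr rfl fun c _ => ?_
          rw [mul_smul_comm, ← map_mul, S.conj_eq hρ, map_mul, smul_mul_assoc, smul_mul_assoc,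
            mul_assoc, rho_mul_inv, mul_one, smul_smul]
      _ = 0 := by rw [ha]; simp
  have h2 : ∑ u : Q, μ (comEl S.comm u c₀.out⁻¹) •
      ∑ c, (a c * μ (comEl S.comm u c.out)) • ρ c.out = 0 :=
    Finset.sum_eq_zero fun u _ => by rw [h1, smul_zero]
  simp only [Finset.smul_sum, smul_smul] at h2
  rw [Finset.sum_comm] at h2
  simp only [← Finset.sum_smul] at h2
  rw [Finset.sum_eq_single c₀] at h2
  · have h3 : ∀ u : Q, μ (comEl S.comm u c₀.out⁻¹) * (a c₀ * μ (comEl S.comm u c₀.out)) = a c₀ := by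
      intro u
      rw [mul_left_comm, ← S.mu_com_mul_right hρ, inv_mul_cancel]
      have h4 : comEl S.comm u 1 = 1 := Subtype.ext (by simp [comEl])
      rw [h4, map_one, mul_one]
    rw [Finset.sum_congr rfl fun u _ => h3 u, Finset.sum_const, Finset.card_univ,
      ← Nat.card_eq_fintype_card, nsmul_eq_mul] at h2
    have h5 : (Nat.card Q : k) * a c₀ = 0 :=
      smul_rho_inj ρ c₀.out (h2.trans (zero_smul k _).symm)
    exact (mul_eq_zero.mp h5).resolve_left S.cast_card
  · intro c _ hc
    have hmem : c₀.out⁻¹ * c.out ∉ R := by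
      rw [← QuotientGroup.eq, QuotientGroup.out_eq', QuotientGroup.out_eq']
      exact hc.symm
    obtain ⟨v, hv⟩ := S.nondeg _ hmem
    have h3 : ∑ u : Q, μ (comEl S.comm u c₀.out⁻¹) * (a c * μ (comEl S.comm u c.out)) = 0 := by
      have h4 : ∀ u : Q, μ (comEl S.comm u c₀.out⁻¹) * (a c * μ (comEl S.comm u c.out)) =
          a c * μ (comEl S.comm u (c₀.out⁻¹ * c.out)) := fun u => by
        rw [mul_left_comm, ← S.mu_com_mul_right hρ]
      rw [Finset.sum_congr rfl fun u _ => h4 u, ← Finset.mul_sum]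
      refine mul_eq_zero_of_right _ ?_
      set T := ∑ u : Q, μ (comEl S.comm u (c₀.out⁻¹ * c.out))
      have h5 : μ (comEl S.comm v (c₀.out⁻¹ * c.out)) * T = T := by
        rw [Finset.mul_sum]
        refine Fintype.sum_bijective (v * ·) (Group.mulLeft_bijective v) _ _ fun u => ?_
        rw [S.mu_com_mul_left hρ]
      by_contra hT
      exact hv ((mul_eq_right₀ hT).mp h5)
    rw [h3, zero_smul]
  · simp

/-- The intertwining average of a linear map. -/
noncomputable def avg [Fintype (Q ⧸ R)] (ρ₁ : Q →* Module.End k M) (ρ₂ : Q →* Module.End k M')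
    (f : M →ₗ[k] M') : M →ₗ[k] M' :=
  ∑ c : Q ⧸ R, (ρ₂ c.out).comp (f.comp (ρ₁ c.out⁻¹))

theorem avg_comm [Fintype (Q ⧸ R)] {ρ₁ : Q →* Module.End k M} {ρ₂ : Q →* Module.End k M'}
    (h₁ : IsScalar μ ρ₁) (h₂ : IsScalar μ ρ₂) (f : M →ₗ[k] M') (y : Q) :
    (ρ₂ y).comp (avg (R := R) ρ₁ ρ₂ f) = (avg (R := R) ρ₁ ρ₂ f).comp (ρ₁ y) := by
  refine LinearMap.ext fun m => ?_
  simp only [avg, LinearMap.comp_apply, LinearMap.coe_sum, Finset.sum_apply, map_sum]
  refine Fintype.sum_bijective ((y : Q ⧸ R) * ·) (Group.mulLeft_bijective _) _ _ fun c => ?_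
  obtain ⟨r, hr⟩ := QuotientGroup.mk_out_eq_mul R (y * c.out)
  have h0 : ((y : Q ⧸ R) * c).out = y * c.out * r := by
    rw [← hr, QuotientGroup.mk_mul, QuotientGroup.out_eq']
  rw [h0]
  have e1 : ρ₁ (y * c.out * (r : Q))⁻¹ (ρ₁ y m) = (μ r)⁻¹ • ρ₁ c.out⁻¹ m := by
    rw [mul_inv_rev, mul_inv_rev, map_mul, Module.End.mul_apply, ← Subgroup.coe_inv, h₁, map_inv,
      map_mul, Module.End.mul_apply, LinearMap.smul_apply, Module.End.one_apply,
      ← LinearMap.comp_apply (ρ₁ y⁻¹) (ρ₁ y), ← Module.End.mul_eq_comp, rho_inv_mul,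
      Module.End.one_apply]
  rw [e1, map_smul, map_smul, map_mul, map_mul, h₂, Module.End.mul_apply, Module.End.mul_apply,
    LinearMap.smul_apply, Module.End.one_apply, map_smul, map_smul, smul_smul,
    inv_mul_cancel₀ (mu_ne_zero μ r), one_smul]

theorem avg_smulRight [Fintype (Q ⧸ R)] (ρ₁ : Q →* Module.End k M)
    (ρ₂ : Q →* Module.End k M') (φ : M →ₗ[k] k) (a : M') (b : M) :
    avg (R := R) ρ₁ ρ₂ (φ.smulRight a) b = combo R ρ₂ (fun c => φ (ρ₁ c.out⁻¹ b)) a := by
  simp [avg, combo_apply, LinearMap.sum_apply]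

omit [Finite Q] [R.Normal] in
theorem exists_dual_ne {b : M} (hb : b ≠ 0) : ∃ φ : M →ₗ[k] k, φ b ≠ 0 := by
  by_contra h
  push_neg at h
  exact hb ((Module.forall_dual_apply_eq_zero_iff k b).mp h)

/-- A functional annihilating the inverse representatives applied to a vector annihilates it. -/
theorem Setup.dual_eq_zero (S : Setup R β μ P) {ρ₁ : Q →* Module.End k M} (h₁ : IsScalar μ ρ₁)
    {φ : M →ₗ[k] k} {b : M} (h : ∀ c : Q ⧸ R, φ (ρ₁ c.out⁻¹ b) = 0) : φ b = 0 := by
  obtain ⟨t, ht, e⟩ := S.rho_eq_smul h₁ ((1 : Q ⧸ R).out⁻¹)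
  have hmk : (((1 : Q ⧸ R).out⁻¹ : Q) : Q ⧸ R) = 1 := by
    rw [QuotientGroup.mk_inv, QuotientGroup.out_eq', inv_one]
  rw [hmk] at e
  obtain ⟨r, hr⟩ := QuotientGroup.mk_out_eq_mul R (1 : Q)
  have h1 := h 1
  rw [QuotientGroup.mk_one, one_mul] at hr
  rw [hr, ← Subgroup.coe_inv, h₁, LinearMap.smul_apply, Module.End.one_apply, map_smul,
    smul_eq_mul] at h1
  exact (mul_eq_zero.mp h1).resolve_left (mu_ne_zero μ _)

theorem Setup.exists_intertwiner [Nontrivial M] [Nontrivial M'] (S : Setup R β μ P)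
    {ρ₁ : Q →* Module.End k M} {ρ₂ : Q →* Module.End k M'} (h₁ : IsScalar μ ρ₁)
    (h₂ : IsScalar μ ρ₂) :
    ∃ T : M →ₗ[k] M', T ≠ 0 ∧ ∀ y, (ρ₂ y).comp T = T.comp (ρ₁ y) := by
  haveI := Fintype.ofFinite (Q ⧸ R)
  by_contra hT
  push_neg at hT
  have h0 : ∀ f : M →ₗ[k] M', avg (R := R) ρ₁ ρ₂ f = 0 := by
    intro f
    by_contra hne
    obtain ⟨y, hy⟩ := hT _ hne
    exact hy (avg_comm h₁ h₂ f y)
  obtain ⟨b, hb⟩ := exists_ne (0 : M)
  obtain ⟨φ, hφ⟩ := exists_dual_ne (k := k) hb
  have hz : combo R ρ₂ (fun c => φ (ρ₁ c.out⁻¹ b)) = 0 := LinearMap.ext fun a => by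
    rw [← avg_smulRight, h0]
    simp
  have := S.combo_injective h₂ (hz.trans (map_zero _).symm)
  exact hφ (S.dual_eq_zero h₁ fun c => congrFun this c)

/-- Irreducibility in elementary form. -/
def IsIrred (ρ : Q →* Module.End k M) : Prop :=
  ∀ W : Submodule k M, (∀ y, ∀ w ∈ W, ρ y w ∈ W) → W = ⊥ ∨ W = ⊤

theorem Setup.combo_surjective [Nontrivial M] [IsAlgClosed k] [FiniteDimensional k M]
    [Fintype (Q ⧸ R)] (S : Setup R β μ P)
    {ρ : Q →* Module.End k M} (hρ : IsScalar μ ρ) (hirr : IsIrred ρ) :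
    Function.Surjective (combo R ρ) := by
  classical
  have hscalar : ∀ f : Module.End k M, ∃ κ : k, avg (R := R) ρ ρ f = κ • 1 := by
    intro f
    obtain ⟨κ, hκ⟩ := Module.End.exists_eigenvalue (avg (R := R) ρ ρ f)
    refine ⟨κ, ?_⟩
    rcases hirr (Module.End.eigenspace (avg (R := R) ρ ρ f) κ) (fun y w hw => by
        rw [Module.End.mem_eigenspace_iff] at hw ⊢
        have := LinearMap.congr_fun (avg_comm hρ hρ f y) w
        simp only [LinearMap.comp_apply] at this
        rw [← this, hw, map_smul]) with h | h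
    · exact absurd h (Module.End.hasEigenvalue_iff.mp hκ)
    · refine LinearMap.ext fun v => ?_
      have hv : v ∈ Module.End.eigenspace (avg (R := R) ρ ρ f) κ := h ▸ Submodule.mem_top
      simpa [Module.End.mem_eigenspace_iff] using hv
  choose κ hκ using hscalar
  have hκadd : ∀ f g, κ (f + g) = κ f + κ g := fun f g => by
    refine smul_rho_inj ρ 1 ?_
    rw [map_one, ← hκ, add_smul, ← hκ, ← hκ]
    simp [avg, LinearMap.add_comp, LinearMap.comp_add, Finset.sum_add_distrib]
  have hκsmul : ∀ (t : k) f, κ (t • f) = t * κ f := fun t f => by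
    refine smul_rho_inj ρ 1 ?_
    rw [map_one, ← hκ, ← smul_smul, ← hκ]
    simp [avg, LinearMap.smul_comp, LinearMap.comp_smul, Finset.smul_sum]
  let Ψ : (M →ₗ[k] k) →ₗ[k] (M →ₗ[k] k) :=
    { toFun := fun φ =>
        { toFun := fun a => κ (φ.smulRight a)
          map_add' := fun a b => by
            rw [← hκadd]
            congr 1
            exact LinearMap.ext fun x => by simp
          map_smul' := fun t a => by
            rw [RingHom.id_apply, smul_eq_mul, ← hκsmul]
            congr 1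
            exact LinearMap.ext fun x => smul_comm _ _ _ }
      map_add' := fun φ ψ => LinearMap.ext fun a => by
        simp only [LinearMap.coe_mk, AddHom.coe_mk, LinearMap.add_apply]
        rw [← hκadd]
        congr 1
        exact LinearMap.ext fun x => by simp [add_smul]
      map_smul' := fun t φ => LinearMap.ext fun a => by
        simp only [LinearMap.coe_mk, AddHom.coe_mk, RingHom.id_apply, LinearMap.smul_apply,
          smul_eq_mul]
        rw [← hκsmul]
        congr 1
        exact LinearMap.ext fun x => by simp [smul_smul] }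
  have hX : ∀ (φ : M →ₗ[k] k) (b : M),
      combo R ρ (fun c => φ (ρ c.out⁻¹ b)) = (Ψ φ).smulRight b := fun φ b => LinearMap.ext fun a => by
    rw [← avg_smulRight, hκ]
    rfl
  have hinj : Function.Injective Ψ := (injective_iff_map_eq_zero Ψ).mpr fun φ hφ =>
    LinearMap.ext fun b => by
      have h1 := hX φ b
      rw [hφ, LinearMap.zero_smulRight] at h1
      have := S.combo_injective hρ (h1.trans (map_zero _).symm)
      exact S.dual_eq_zero hρ fun c => congrFun this c
  have hsurj : Function.Surjective Ψ := LinearMap.surjective_of_injective hinj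
  rw [← LinearMap.range_eq_top, eq_top_iff]
  intro f _
  set bas := Module.finBasis k M
  have hf : f = ∑ i, (bas.coord i).smulRight (f (bas i)) := LinearMap.ext fun x => by
    conv_lhs => rw [← bas.sum_repr x]
    rw [map_sum]
    simp [map_smul, LinearMap.sum_apply]
  rw [hf]
  refine Submodule.sum_mem _ fun i _ => ?_
  obtain ⟨φ, hφ⟩ := hsurj (bas.coord i)
  exact ⟨_, (hX φ (f (bas i))).trans (by rw [hφ])⟩

/-- The count of orbits of `β` on `Q/R`. -/
theorem exists_reps [Fintype (Q ⧸ R)] (hne : R ≠ ⊤) (hpowP : β ^ P = 1)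
    (hsemi : ∀ i, 0 < i → i < P → ∀ y : Q, y⁻¹ * (β ^ i) y ∈ R → y ∈ R) (hP : 0 < P)
    (βq : MulAut (Q ⧸ R)) (hβq : ∀ y : Q, βq (y : Q ⧸ R) = ((β y : Q) : Q ⧸ R)) :
    ∃ reps : Finset (Q ⧸ R), (∀ a : Q ⧸ R → k, (∀ c, a c = 0 → a (βq c) = 0) →
        (∀ c, a (βq c) = 0 → a c = 0) → (∀ c ∈ reps, a c = 0) → a = 0) ∧
      Nat.card (Q ⧸ R) + P = 1 + P * reps.card := by
  classical
  have hpow : ∀ (i : ℕ) (y : Q), (βq ^ i) (y : Q ⧸ R) = (((β ^ i) y : Q) : Q ⧸ R) := by
    intro i
    induction i with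
    | zero => intro y; rfl
    | succ i ih => intro y; simp [pow_succ, MulAut.mul_apply, hβq, ih]
  have hP1 : βq ^ P = 1 := MulEquiv.ext fun c => by
    obtain ⟨y, rfl⟩ := QuotientGroup.mk_surjective c
    rw [hpow, hpowP]; rfl
  have hfix : ∀ i, 0 < i → i < P → ∀ c : Q ⧸ R, (βq ^ i) c = c → c = 1 := by
    intro i hi hiP c hc
    obtain ⟨y, rfl⟩ := QuotientGroup.mk_surjective c
    rw [hpow] at hc
    exact (QuotientGroup.eq_one_iff y).mpr (hsemi i hi hiP y (QuotientGroup.eq.mp hc.symm))
  obtain ⟨y₁, hy₁⟩ : ∃ y, y ∉ R := by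
    by_contra h
    push_neg at h
    exact hne (eq_top_iff.mpr fun x _ => h x)
  have horder : orderOf βq = P := by
    refine le_antisymm (orderOf_le_of_pow_eq_one hP hP1) (not_lt.mp fun hlt => hy₁ ?_)
    rw [← QuotientGroup.eq_one_iff]
    refine hfix _ (orderOf_pos_iff.mpr (isOfFinOrder_iff_pow_eq_one.mpr ⟨P, hP, hP1⟩)) hlt _ ?_
    rw [pow_orderOf_eq_one]; rfl
  set G := Subgroup.zpowers βq
  set Ω := Quotient (MulAction.orbitRel G (Q ⧸ R))
  haveI : Fintype Ω := Fintype.ofFinite Ω
  haveI : Finite G := Nat.finite_of_card_ne_zero (by rw [Nat.card_zpowers, horder]; omega)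
  refine ⟨Finset.univ.image (fun ω : Ω => ω.out), ?_, ?_⟩
  · intro a h1 h2 h0
    funext c
    let T : Subgroup (MulAut (Q ⧸ R)) :=
      { carrier := {g | ∀ c, a c = 0 ↔ a (g c) = 0}
        one_mem' := fun c => Iff.rfl
        mul_mem' := fun {g g'} hg hg' c => (hg' c).trans (hg (g' c))
        inv_mem' := fun {g} hg c => by
          have h := (hg (g⁻¹ c)).symm
          rwa [show g (g⁻¹ c) = c from MulEquiv.apply_symm_apply g c] at h }
    have hle : G ≤ T := Subgroup.zpowers_le.mpr fun c => ⟨h1 c, h2 c⟩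
    obtain ⟨⟨g, hg⟩, hgc⟩ : c ∈ MulAction.orbit G (Quotient.mk'' c : Ω).out := by
      have h := Quotient.out_eq' (Quotient.mk'' c : Ω)
      rw [Quotient.eq''] at h
      exact MulAction.mem_orbit_symm.mp h
    rw [← hgc]
    exact (hle hg _).mp (h0 _ (Finset.mem_image_of_mem _ (Finset.mem_univ _)))
  · have hcardreps : (Finset.univ.image (fun ω : Ω => ω.out)).card = Fintype.card Ω := by
      rw [Finset.card_image_of_injective _ Quotient.out_injective, Finset.card_univ]
    rw [hcardreps]
    have horb : ∀ c : Q ⧸ R, Nat.card (MulAction.orbit G c) = if c = 1 then 1 else P := by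
      intro c
      split
      · subst c
        have : MulAction.orbit G (1 : Q ⧸ R) = {1} := by
          refine Set.eq_singleton_iff_unique_mem.mpr ⟨MulAction.mem_orbit_self _, ?_⟩
          rintro _ ⟨g, rfl⟩
          exact map_one (g : MulAut (Q ⧸ R))
        rw [this, Nat.card_coe_set_eq, Set.ncard_singleton]
      · next hc =>
        rw [Nat.card_congr (MulAction.orbitEquivQuotientStabilizer G c)]
        have hst : MulAction.stabilizer G c = ⊥ := by
          rw [Subgroup.eq_bot_iff_forall]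
          rintro ⟨g, hg⟩ hgc
          obtain ⟨i, hi, rfl⟩ : ∃ i, i < P ∧ βq ^ i = g := by
            obtain ⟨i, rfl⟩ := (mem_powers_iff_mem_zpowers (x := βq) (y := g)).mpr hg
            exact ⟨i % P, Nat.mod_lt _ hP, by rw [← horder, pow_mod_orderOf]⟩
          rcases Nat.eq_zero_or_pos i with rfl | hi0
          · exact Subtype.ext (pow_zero _)
          · exact absurd (hfix i hi0 hi c hgc) hc
        rw [hst, ← Subgroup.index, Subgroup.index_bot, Nat.card_zpowers, horder]
    set ω₁ : Ω := Quotient.mk'' (1 : Q ⧸ R)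
    have hsum : Nat.card (Q ⧸ R) = ∑ ω : Ω, if ω = ω₁ then 1 else P := by
      rw [Nat.card_congr (MulAction.selfEquivSigmaOrbits G (Q ⧸ R)), Nat.card_sigma]
      refine Finset.sum_congr rfl fun ω _ => ?_
      rw [horb]
      refine if_congr ?_ rfl rfl
      constructor
      · intro h
        rw [← Quotient.out_eq' ω, h]
      · intro h
        have h' : (Quotient.mk'' ω.out : Ω) = Quotient.mk'' (1 : Q ⧸ R) := by
          rw [Quotient.out_eq']; exact h
        rw [Quotient.eq''] at h'
        obtain ⟨g, hg⟩ := MulAction.mem_orbit_iff.mp h'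
        rw [← hg]
        exact map_one (g : MulAut (Q ⧸ R))
    rw [hsum, ← Finset.add_sum_erase _ _ (Finset.mem_univ ω₁), if_pos rfl,
      Finset.sum_congr rfl fun ω hω => if_neg (Finset.ne_of_mem_erase hω), Finset.sum_const,
      Finset.card_erase_of_mem (Finset.mem_univ ω₁), Finset.card_univ, smul_eq_mul, add_assoc]
    congr 1
    have hpos : 0 < Fintype.card Ω := Fintype.card_pos_iff.mpr ⟨ω₁⟩
    obtain ⟨m, hm⟩ : ∃ m, Fintype.card Ω = m + 1 := ⟨_, (Nat.succ_pred_eq_of_pos hpos).symm⟩
    rw [hm, Nat.add_sub_cancel]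
    ring

end

section Main

variable {k : Type*} [Field k] [IsAlgClosed k] {Q : Type*} [Group Q] [Finite Q] {R : Subgroup Q}
  [R.Normal] {β : MulAut Q} {μ : R →* k} {P : ℕ}
  {M : Type*} [AddCommGroup M] [Module k M] [FiniteDimensional k M]

/-- The inequality for an irreducible module: without fixed vectors, `N + 1 ≤ P`. -/
theorem Setup.bound_of_irred [Nontrivial M] (S : Setup R β μ P) (hPk : (P : k) ≠ 0) (hP : 0 < P)
    {ρ : Q →* Module.End k M} (hρ : IsScalar μ ρ) (hirr : IsIrred ρ) (e : Module.End k M)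
    (he : ∀ y, e * ρ y = ρ (β y) * e) (heP : e ^ P = 1) (hfix : ∀ v, e v = v → v = 0)
    (N : ℕ) (hN : N = Module.finrank k M) :
    Nat.card (Q ⧸ R) = N * N ∧ N + 1 ≤ P ∧ P ∣ N * N - 1 := by
  classical
  haveI := Fintype.ofFinite (Q ⧸ R)
  let eqv := LinearEquiv.ofBijective (combo R ρ)
    ⟨S.combo_injective hρ, S.combo_surjective hρ hirr⟩
  have hcard : Nat.card (Q ⧸ R) = N * N := by
    rw [hN, Nat.card_eq_fintype_card, ← Module.finrank_linearMap k k M M,
      ← eqv.finrank_eq, Module.finrank_pi]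
  have hmapR : R.map (β : Q →* Q) = R := by
    refine Subgroup.eq_of_le_of_card_ge ?_ ?_
    · rintro _ ⟨x, hx, rfl⟩; exact S.inv x hx
    · rw [Subgroup.card_map_of_injective β.injective]
  set βq : MulAut (Q ⧸ R) := QuotientGroup.congr R R β hmapR with hβq
  obtain ⟨reps, hreps, hcount⟩ := exists_reps (k := k) S.ne_top S.pow S.semireg hP βq fun y => rfl
  refine ⟨hcard, ?_, ?_⟩
  swap
  · refine ⟨reps.card - 1, ?_⟩
    have : reps.card ≠ 0 := fun h => by
      have hpos : 0 < Nat.card (Q ⧸ R) := Nat.card_pos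
      rw [h, mul_zero, add_zero] at hcount
      omega
    obtain ⟨j, hj⟩ := Nat.exists_eq_succ_of_ne_zero this
    rw [hj, hcard] at hcount
    rw [hj, Nat.succ_sub_one]
    have h2 : P * (j + 1) = P * j + P := by ring
    rw [Nat.succ_eq_add_one, h2] at hcount
    omega
  -- the centralizer of `e` in the endomorphism ring
  let C : Submodule k (Module.End k M) :=
    LinearMap.ker (LinearMap.mulLeft k e - LinearMap.mulRight k e)
  have hmemC : ∀ X, X ∈ C ↔ e * X = X * e := fun X => by
    simp [C, sub_eq_zero]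
  have hupper : Module.finrank k C ≤ reps.card := by
    let g : C →ₗ[k] (reps → k) :=
      { toFun := fun X c => eqv.symm (X : Module.End k M) c
        map_add' := fun X Y => funext fun c => by simp
        map_smul' := fun t X => funext fun c => by simp }
    have hg : Function.Injective g := by
      refine (injective_iff_map_eq_zero g).mpr fun X hX => ?_
      set a := eqv.symm (X : Module.End k M) with ha
      have hXa : (X : Module.End k M) = ∑ c, a c • ρ c.out := (eqv.apply_symm_apply _).symm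
      have hcomm : ∀ c, ∃ t : k, t ≠ 0 ∧ ρ (β c.out) = t • ρ (βq c).out := by
        intro c
        have h := S.rho_eq_smul hρ (β c.out)
        rwa [show ((β c.out : Q) : Q ⧸ R) = βq c by
          conv_rhs => rw [← QuotientGroup.out_eq' c]
          rfl] at h
      choose t ht ht' using hcomm
      set b : Q ⧸ R → k := fun c => a (βq.symm c) * t (βq.symm c)
      have heq : combo R ρ b * e = combo R ρ a * e := by
        have h1 : e * (X : Module.End k M) = (X : Module.End k M) * e := (hmemC _).mp X.2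
        rw [hXa] at h1
        rw [combo_apply, combo_apply, ← h1, Finset.mul_sum, Finset.sum_mul]
        refine (Fintype.sum_bijective βq βq.bijective _ _ fun c => ?_).symm
        rw [mul_smul_comm, he, ht', smul_mul_assoc, smul_mul_assoc, smul_smul]
        simp [b]
      have hab : b = a := by
        refine S.combo_injective hρ ?_
        have := congrArg (· * e ^ (P - 1)) heq
        simp only [mul_assoc] at this
        rwa [← pow_succ', Nat.sub_add_cancel hP, heP, mul_one, mul_one] at this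
      have hrel : ∀ c, a (βq c) = a c * t c := fun c => by
        conv_lhs => rw [← hab]
        simp [b]
      have : a = 0 := hreps a (fun c hc => by rw [hrel, hc, zero_mul])
        (fun c hc => by
          rw [hrel] at hc
          exact (mul_eq_zero.mp hc).resolve_right (ht c))
        fun c hc => congrFun hX ⟨c, hc⟩
      refine Subtype.ext ?_
      rw [hXa, this]
      simp
    have := LinearMap.finrank_le_finrank_of_injective hg
    simpa using this
  -- eigenspaces
  have hsep : (Polynomial.X ^ P - 1 : Polynomial k).Separable := by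
    have := Polynomial.separable_X_pow_sub_C (n := P) (1 : k) hPk one_ne_zero
    simpa using this
  have hss : e.IsSemisimple :=
    Module.End.isSemisimple_of_squarefree_aeval_eq_zero hsep.squarefree (by simp [heP])
  set Sv : Finset k := (Polynomial.nthRootsFinset P (1 : k)).erase 1 with hSv
  have hsupp : ∀ t : k, t ∉ Sv → Module.End.eigenspace e t = ⊥ := by
    intro t ht
    rw [Submodule.eq_bot_iff]
    intro v hv
    rw [Module.End.mem_eigenspace_iff] at hv
    by_contra hne
    have hpow : ∀ i : ℕ, (e ^ i) v = t ^ i • v := by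
      intro i
      induction i with
      | zero => simp
      | succ i ih => rw [pow_succ', Module.End.mul_apply, ih, map_smul, hv, smul_smul, pow_succ]
    have h1 := hpow P
    rw [heP, Module.End.one_apply] at h1
    have ht1 : t ^ P = 1 := smul_left_injective k hne (h1.symm.trans (one_smul k v).symm)
    refine ht ?_
    rw [hSv, Finset.mem_erase, Polynomial.mem_nthRootsFinset hP]
    refine ⟨fun h => hne (hfix v (by rw [hv, h, one_smul])), ht1⟩
  let E : Sv → Submodule k M := fun t => Module.End.eigenspace e (t : k)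
  have hindep : iSupIndep E := (Module.End.eigenspaces_iSupIndep e).comp Subtype.val_injective
  have htop : ⨆ t, E t = ⊤ := by
    refine le_antisymm le_top (hss.iSup_eigenspace_eq_top ▸ iSup_le fun t => ?_)
    by_cases ht : t ∈ Sv
    · exact le_iSup_of_le ⟨t, ht⟩ le_rfl
    · rw [hsupp t ht]; exact bot_le
  have hint : DirectSum.IsInternal E :=
    DirectSum.isInternal_submodule_of_iSupIndep_of_iSup_eq_top hindep htop
  let e0 := LinearEquiv.ofBijective (DirectSum.coeLinearMap E) hint
  have hdim : ∑ t, Module.finrank k (E t) = N := by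
    rw [hN, ← e0.finrank_eq, Module.finrank_directSum]
  let F : ((t : Sv) → Module.End k (E t)) →ₗ[k] Module.End k M :=
    { toFun := fun f => (e0.toLinearMap.comp (DirectSum.lmap f)).comp e0.symm.toLinearMap
      map_add' := fun f g => by
        refine LinearMap.ext fun x => ?_
        simp only [LinearMap.comp_apply, LinearMap.add_apply, LinearEquiv.coe_coe]
        rw [← map_add e0]
        refine congrArg e0 (DFinsupp.ext fun t => ?_)
        rw [DirectSum.add_apply, DirectSum.lmap_apply, DirectSum.lmap_apply, DirectSum.lmap_apply]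
        rfl
      map_smul' := fun c f => by
        refine LinearMap.ext fun x => ?_
        simp only [LinearMap.comp_apply, LinearMap.smul_apply, LinearEquiv.coe_coe,
          RingHom.id_apply]
        rw [← map_smul e0]
        refine congrArg e0 (DFinsupp.ext fun t => ?_)
        rw [DirectSum.smul_apply, DirectSum.lmap_apply, DirectSum.lmap_apply]
        rfl }
  have hFE : ∀ f t (u : E t), F f (u : M) = ((f t u : E t) : M) := by
    intro f t u
    have h1 : e0.symm (u : M) = DirectSum.lof k Sv (fun t => E t) t u := by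
      rw [LinearEquiv.symm_apply_eq]
      exact (DirectSum.coeLinearMap_of E t u).symm
    change e0 (DirectSum.lmap f (e0.symm (u : M))) = _
    rw [h1, DirectSum.lmap_lof]
    exact DirectSum.coeLinearMap_of E t (f t u)
  have hFinj : Function.Injective F := fun f g h => funext fun t => LinearMap.ext fun u =>
    Subtype.ext (by rw [← hFE f t u, ← hFE g t u, h])
  have hFC : ∀ f, F f ∈ C := by
    intro f
    rw [hmemC]
    have hle : ∀ t, E t ≤ LinearMap.ker (e * F f - F f * e) := by
      intro t u hu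
      rw [LinearMap.mem_ker, LinearMap.sub_apply, Module.End.mul_apply, Module.End.mul_apply,
        sub_eq_zero]
      have hu' : e u = (t : k) • u := Module.End.mem_eigenspace_iff.mp hu
      rw [hFE f t ⟨u, hu⟩, hu', map_smul, hFE f t ⟨u, hu⟩]
      exact Module.End.mem_eigenspace_iff.mp (f t ⟨u, hu⟩).2
    have h1 : LinearMap.ker (e * F f - F f * e) = ⊤ := top_unique (htop ▸ iSup_le hle)
    exact sub_eq_zero.mp (LinearMap.ker_eq_top.mp h1)
  have hlower : ∑ t, Module.finrank k (E t) ^ 2 ≤ Module.finrank k C := by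
    have h := LinearMap.finrank_le_finrank_of_injective
      (f := F.codRestrict C hFC) (fun a b h => hFinj (congrArg Subtype.val h))
    rw [Module.finrank_pi_fintype] at h
    refine le_of_eq_of_le (Finset.sum_congr rfl fun t _ => ?_) h
    rw [Module.finrank_linearMap, sq]
  have hSle : Sv.card + 1 ≤ P := by
    have h1 : (1 : k) ∈ Polynomial.nthRootsFinset P (1 : k) := by
      rw [Polynomial.mem_nthRootsFinset hP, one_pow]
    rw [hSv, Finset.card_erase_add_one h1, Polynomial.nthRootsFinset_def]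
    exact (Multiset.toFinset_card_le _).trans (Polynomial.card_nthRoots P 1)
  have hCS : N ^ 2 ≤ Sv.card * ∑ t, Module.finrank k (E t) ^ 2 := by
    have h := sq_sum_le_card_mul_sum_sq (s := (Finset.univ : Finset Sv))
      (f := fun t => Module.finrank k (E t))
    rw [hdim, Finset.card_univ, Fintype.card_coe] at h
    exact h
  have hNpos : 0 < N := hN ▸ Module.finrank_pos
  obtain ⟨m, hm⟩ : ∃ m, P = m + 1 := ⟨P - 1, (Nat.sub_add_cancel hP).symm⟩
  have h1 : N ^ 2 ≤ m * reps.card :=
    hCS.trans (Nat.mul_le_mul (by omega) (hlower.trans hupper))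
  rw [hcard, hm] at hcount
  rw [hm]
  by_contra hlt
  push_neg at hlt
  have h2 : m + 1 ≤ N := by omega
  nlinarith

/-- Without fixed vectors, `N + 1 ≤ P`. -/
theorem Setup.bound [Nontrivial M] (S : Setup R β μ P) (hPk : (P : k) ≠ 0) (hP : 0 < P) {ρ : Q →* Module.End k M}
    (hρ : IsScalar μ ρ) (s : Module.End k M) (hs : ∀ y, s * ρ y = ρ (β y) * s) (hsP : s ^ P = 1)
    (hfix : ∀ v, s v = v → v = 0) :
    ∃ N, Nat.card (Q ⧸ R) = N * N ∧ N + 1 ≤ P ∧ P ∣ N * N - 1 := by
  classical
  obtain ⟨U, ⟨hUinv, hUne⟩, hUmin⟩ := exists_minimal_of_wellFoundedLT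
    (fun W : Submodule k M => (∀ y, ∀ w ∈ W, ρ y w ∈ W) ∧ W ≠ ⊥)
    ⟨⊤, fun _ _ _ => Submodule.mem_top, top_ne_bot⟩
  haveI : Nontrivial U := Submodule.nontrivial_iff_ne_bot.mpr hUne
  let ρU : Q →* Module.End k U :=
    { toFun := fun y => (ρ y).restrict (hUinv y)
      map_one' := LinearMap.ext fun u => Subtype.ext (by simp [LinearMap.restrict_apply])
      map_mul' := fun y z => LinearMap.ext fun u => Subtype.ext (by
        simp [LinearMap.restrict_apply]) }
  have hρUc : ∀ y (u : U), (ρU y u : M) = ρ y u := fun y u => rfl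
  have hρU : IsScalar μ ρU := fun r => LinearMap.ext fun u => Subtype.ext (by
    rw [hρUc, hρ]; rfl)
  have hirr : IsIrred ρU := by
    intro W hW
    rcases eq_or_ne W ⊥ with h | h
    · exact Or.inl h
    refine Or.inr ?_
    have hle := hUmin (y := W.map U.subtype) ⟨fun y w hw => by
        obtain ⟨u, hu, rfl⟩ := hw
        exact ⟨ρU y u, hW y u hu, hρUc y u⟩,
      fun h0 => h (Submodule.map_injective_of_injective U.subtype_injective (h0.trans (Submodule.map_bot _).symm))⟩
      (Submodule.map_subtype_le U W)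
    rw [eq_top_iff]
    intro u _
    obtain ⟨w, hw, hwu⟩ := hle u.2
    rwa [Subtype.ext hwu] at hw
  have hρβ : IsScalar μ (ρU.comp β.toMonoidHom) := fun r => by
    have h := hρU ⟨β r, S.inv r r.2⟩
    rw [S.fix] at h
    exact h
  obtain ⟨T, hT0, hT⟩ := S.exists_intertwiner hρU hρβ
  have hTinj : Function.Injective T := by
    rw [← LinearMap.ker_eq_bot]
    refine (hirr _ fun y w hw => ?_).resolve_right fun h => hT0 (LinearMap.ker_eq_top.mp h)
    rw [LinearMap.mem_ker] at hw ⊢
    have := LinearMap.congr_fun (hT y) w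
    simp only [LinearMap.comp_apply] at this
    rw [← this, hw, map_zero]
  let Te := LinearEquiv.ofBijective T ⟨hTinj, LinearMap.surjective_of_injective hTinj⟩
  have hTy : ∀ y (u : U), T (ρU y u) = ρU (β y) (T u) := fun y u =>
    (LinearMap.congr_fun (hT y) u).symm
  let H : Submodule k (U →ₗ[k] M) :=
    { carrier := {f | ∀ y u, f (ρU y u) = ρ y (f u)}
      add_mem' := fun {f g} hf hg y u => by
        simp only [LinearMap.add_apply, hf y u, hg y u, map_add]
      zero_mem' := fun y u => by simp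
      smul_mem' := fun t f hf y u => by
        simp only [LinearMap.smul_apply, hf y u, map_smul] }
  haveI : Nontrivial H := ⟨⟨⟨U.subtype, fun y u => hρUc y u⟩, 0, fun h => by
    obtain ⟨u, hu⟩ := exists_ne (0 : U)
    have h' := LinearMap.congr_fun (congrArg Subtype.val h) u
    exact hu (Subtype.ext (by simpa using h'))⟩⟩
  have hs1 : s ^ (P - 1) * s = 1 := by rw [← pow_succ, Nat.sub_add_cancel hP, hsP]
  let L : Module.End k H :=
    { toFun := fun f => ⟨(s.comp (f : U →ₗ[k] M)).comp Te.symm.toLinearMap, fun y u => by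
        obtain ⟨u', rfl⟩ : ∃ u', T u' = u := ⟨Te.symm u, Te.apply_symm_apply u⟩
        obtain ⟨y', rfl⟩ := β.surjective y
        rw [← hTy]
        simp only [LinearMap.comp_apply, LinearEquiv.coe_coe]
        rw [show Te.symm (T (ρU y' u')) = ρU y' u' from Te.symm_apply_apply _,
          show Te.symm (T u') = u' from Te.symm_apply_apply _, f.2 y' u']
        exact LinearMap.congr_fun (hs y') _⟩
      map_add' := fun f g => by
        refine Subtype.ext (LinearMap.ext fun u => ?_)
        simp
      map_smul' := fun t f => by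
        refine Subtype.ext (LinearMap.ext fun u => ?_)
        simp }
  obtain ⟨c, hc⟩ := Module.End.exists_eigenvalue L
  obtain ⟨f, hf⟩ := hc.exists_hasEigenvector
  have hfc : ∀ u, s ((f : U →ₗ[k] M) u) = c • (f : U →ₗ[k] M) (T u) := by
    intro u
    have h := LinearMap.congr_fun
      (congrArg Subtype.val (Module.End.mem_eigenspace_iff.mp hf.1)) (T u)
    simpa [L, show Te.symm (T u) = u from Te.symm_apply_apply u] using h
  have hfinj : Function.Injective (f : U →ₗ[k] M) := by
    rw [← LinearMap.ker_eq_bot]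
    refine (hirr _ fun y w hw => ?_).resolve_right fun h =>
      hf.2 (Subtype.ext (LinearMap.ker_eq_top.mp h))
    rw [LinearMap.mem_ker] at hw ⊢
    rw [f.2 y w, hw, map_zero]
  set e : Module.End k U := c • T with he_def
  have hse : ∀ u, s ((f : U →ₗ[k] M) u) = (f : U →ₗ[k] M) (e u) := fun u => by
    rw [hfc, he_def, LinearMap.smul_apply, map_smul]
  have hepow : ∀ (i : ℕ) u, (s ^ i) ((f : U →ₗ[k] M) u) = (f : U →ₗ[k] M) ((e ^ i) u) := by
    intro i
    induction i with
    | zero => intro u; simp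
    | succ i ih =>
      intro u
      rw [pow_succ, Module.End.mul_apply, hse, ih, pow_succ, Module.End.mul_apply]
  refine ⟨Module.finrank k U, S.bound_of_irred hPk hP hρU hirr e (fun y => LinearMap.ext fun u => ?_)
    (LinearMap.ext fun u => hfinj (by rw [← hepow, hsP]; rfl))
    (fun u hu => hfinj ?_) _ rfl⟩
  · simp only [Module.End.mul_apply, he_def, LinearMap.smul_apply, hTy, map_smul]
  · rw [map_zero]
    exact hfix _ (by rw [hse, hu])

end Main

end Cfsg.Agent.Lib.FpfHeight.Extraspecial
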