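/-
An anisotropic quadratic map `W → V` of elementary abelian `2`-groups, a `2`-group `E` and a group
`L` of odd order, both trivial on `V`, with `L = [L, E]`, normalized by a group transitive on the
nonzero elements of `V`: if the image of `E` on `W` has more than two elements then `L` is trivial
on `W`.
-/
import Mathlib.GroupTheory.PGroup
import Mathlib.GroupTheory.GroupAction.Quotient
import Mathlib.Algebra.Group.Subgroup.Pointwise
import Mathlib.GroupTheory.Commutator.Basic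
import Cfsg.Agent.Lib.Coprime.Generation

set_option autoImplicit false

namespace Cfsg.Agent.Lib.FpfHeight.AnisoQuadratic

open Subgroup (centralizer zpowers normalizer)

section Helpers

variable {W : Type*} [AddCommGroup W]

theorem aut_one_apply (w : W) : (1 : W ≃ₗ[ℤ] W) w = w := rfl

theorem eq_self_of_sub_fixed (f : (W ≃ₗ[ℤ] W)) {o : ℕ} (ho : Odd o) (hf : f ^ o = 1)
    (h2 : ∀ w : W, w + w = 0) {w : W} (h : f (f w - w) = f w - w) : f w = w := by
  have h1 : ∀ i : ℕ, (f ^ i) w = w + i • (f w - w) := by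
    intro i
    induction i with
    | zero => simp
    | succ i ih =>
      rw [pow_succ', LinearEquiv.mul_apply, ih, map_add, map_nsmul, h, succ_nsmul]
      abel
  obtain ⟨j, hj⟩ := ho
  have h3 := h1 o
  rw [hf, aut_one_apply, left_eq_add, hj, succ_nsmul, two_mul, add_nsmul, ← nsmul_add, h2,
    nsmul_zero, zero_add, sub_eq_zero] at h3
  exact h3

theorem fixed_of_sq_fixed (f : (W ≃ₗ[ℤ] W)) {o : ℕ} (ho : Odd o) (hf : f ^ o = 1) {w : W}
    (h : f (f w) = w) : f w = w := by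
  obtain ⟨j, hj⟩ := ho
  have h1 : ∀ i : ℕ, (f ^ (2 * i)) w = w := by
    intro i
    induction i with
    | zero => rfl
    | succ i ih =>
      rw [mul_add, mul_one, pow_add, LinearEquiv.mul_apply, pow_two, LinearEquiv.mul_apply, h, ih]
  have h2 := h1 (j + 1)
  rw [show 2 * (j + 1) = o + 1 by omega, pow_succ, hf, one_mul] at h2
  exact h2

end Helpers

variable {W V : Type*} [AddCommGroup W] [AddCommGroup V] [Finite W]
variable {Γ : Type*} [Group Γ] [Finite Γ] [DistribMulAction Γ W] [DistribMulAction Γ V]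

/-- The main lemma. -/
theorem trivial_of_transitive (hW : ∀ w : W, w + w = 0) (hV : ∀ a : V, a + a = 0)
    (q : W → V) (B : W →+ W →+ V) (hq : ∀ x y, q (x + y) = q x + q y + B x y)
    (hqa : ∀ x, q x = 0 → x = 0) (hqg : ∀ (g : Γ) (w : W), q (g • w) = g • q w)
    (L E Y : Subgroup Γ) (hL : Odd (Nat.card L)) (hE : IsPGroup 2 E)
    (hLV : ∀ l ∈ L, ∀ a : V, l • a = a) (hEV : ∀ e ∈ E, ∀ a : V, e • a = a)
    (hEL : E ≤ normalizer (L : Set Γ)) (hYE : Y ≤ normalizer (E : Set Γ))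
    (hYL : Y ≤ normalizer (L : Set Γ)) (hgen : L ≤ ⁅L, E⁆)
    (htrans : ∀ a b : V, a ≠ 0 → b ≠ 0 → ∃ y ∈ Y, y • a = b)
    (hthree : ∀ e ∈ E, (∃ w : W, e • w ≠ w) →
      ∃ e' ∈ E, (∃ w : W, e' • w ≠ w) ∧ ∃ w : W, e' • w ≠ e • w) :
    ∀ l ∈ L, ∀ w : W, l • w = w := by
  have hnegW : ∀ w : W, -w = w := fun w => neg_eq_of_add_eq_zero_left (hW w)
  have hnegV : ∀ a : V, -a = a := fun a => neg_eq_of_add_eq_zero_left (hV a)
  have hq0 : q 0 = 0 := by
    have h := hq 0 0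
    simp only [add_zero, map_zero] at h
    rw [hV] at h
    exact h
  have hsymm : ∀ x y, B x y = B y x := fun x y => by
    have h := hq x y
    rw [add_comm x, hq y x, add_comm (q y) (q x)] at h
    exact (add_left_cancel h).symm
  have hBg : ∀ (g : Γ) x y, B (g • x) (g • y) = g • B x y := fun g x y => by
    have h := hqg g (x + y)
    rw [smul_add, hq, hq, hqg, hqg, smul_add, smul_add] at h
    exact add_left_cancel h
  have hBadd : ∀ x y, B x y = 0 → q (x + y) = q x + q y := fun x y h => by rw [hq, h, add_zero]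
  -- the fixed space of `E` and the space of commutators
  let U : AddSubgroup W :=
    { carrier := {w | ∀ e ∈ E, e • w = w}
      add_mem' := fun {a b} ha hb e he => by rw [smul_add, ha e he, hb e he]
      zero_mem' := fun e _ => smul_zero e
      neg_mem' := fun {a} ha e he => by rw [smul_neg, ha e he] }
  let C : AddSubgroup W := AddSubgroup.closure {x | ∃ e ∈ E, ∃ w : W, e • w - w = x}
  have hconjE : ∀ y ∈ Y, ∀ e ∈ E, y * e * y⁻¹ ∈ E ∧ y⁻¹ * e * y ∈ E := fun y hy e he =>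
    ⟨(Subgroup.mem_normalizer_iff.mp (hYE hy) e).mp he,
      by
      have h := (Subgroup.mem_normalizer_iff.mp ((normalizer (E : Set Γ)).inv_mem (hYE hy)) e).mp he
      rwa [inv_inv] at h⟩
  have hconjL : ∀ y ∈ Y, ∀ l ∈ L, y * l * y⁻¹ ∈ L ∧ y⁻¹ * l * y ∈ L := fun y hy l hl =>
    ⟨(Subgroup.mem_normalizer_iff.mp (hYL hy) l).mp hl,
      by
      have h := (Subgroup.mem_normalizer_iff.mp ((normalizer (L : Set Γ)).inv_mem (hYL hy)) l).mp hl
      rwa [inv_inv] at h⟩
  have hUY : ∀ y ∈ Y, ∀ u ∈ U, y • u ∈ U := fun y hy u hu e he => by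
    have h := hu _ (hconjE y hy e he).2
    rw [mul_smul, mul_smul, inv_smul_eq_iff] at h
    exact h
  have hCY : ∀ y ∈ Y, ∀ x ∈ C, y • x ∈ C := by
    intro y hy x hx
    have hle : C ≤ C.comap (DistribSMul.toAddMonoidHom W y) := by
      refine (AddSubgroup.closure_le _).mpr ?_
      rintro _ ⟨e, he, w, rfl⟩
      refine AddSubgroup.subset_closure ⟨y * e * y⁻¹, (hconjE y hy e he).1, y • w, ?_⟩
      rw [DistribSMul.toAddMonoidHom_apply, smul_sub, mul_smul, mul_smul, inv_smul_smul]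
    exact hle hx
  have hperp0 : ∀ x ∈ C, ∀ u ∈ U, B x u = 0 := by
    intro x hx u hu
    have hle : C ≤ (B.flip u).ker := by
      refine (AddSubgroup.closure_le _).mpr ?_
      rintro _ ⟨e, he, w, rfl⟩
      change B (e • w - w) u = 0
      rw [map_sub, AddMonoidHom.sub_apply, sub_eq_zero]
      conv_lhs => rw [← hu e he]
      rw [hBg, hEV e he]
    exact hle hx
  -- everything is trivial when `C` is
  intro l₀ hl₀ w₀
  by_cases hC0 : ∀ x ∈ C, x = 0
  · let Ker : Subgroup Γ := (DistribMulAction.toModuleAut ℤ W : Γ →* (W ≃ₗ[ℤ] W)).ker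
    have hEK : E ≤ Ker := fun e he => LinearEquiv.ext fun w =>
      sub_eq_zero.mp (hC0 _ (AddSubgroup.subset_closure ⟨e, he, w, rfl⟩))
    have hle : ⁅L, E⁆ ≤ Ker := (Subgroup.commutator_mono le_rfl hEK).trans
      (Subgroup.commutator_le_right _ _)
    exact DFunLike.congr_fun (hle (hgen hl₀)) w₀
  push_neg at hC0
  obtain ⟨x₀, hx₀, hx₀0⟩ := hC0
  -- a common fixed point in `C`
  obtain ⟨u₀, hu₀U, hu₀C, hu₀0⟩ : ∃ u ∈ U, u ∈ C ∧ u ≠ 0 := by
    have hCE : ∀ e ∈ E, ∀ x ∈ C, e • x ∈ C := by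
      intro e he x hx
      have h : e • x = (e • x - x) + x := (sub_add_cancel _ _).symm
      rw [h]
      exact C.add_mem (AddSubgroup.subset_closure ⟨e, he, x, rfl⟩) hx
    let _act : MulAction E C :=
      { smul := fun e c => ⟨(e : Γ) • (c : W), hCE e e.2 c c.2⟩
        one_smul := fun c => Subtype.ext (one_smul Γ (c : W))
        mul_smul := fun e f c => Subtype.ext (mul_smul (e : Γ) f (c : W)) }
    have h0 : (0 : C) ∈ MulAction.fixedPoints E C := fun e => Subtype.ext (smul_zero (e : Γ))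
    have hdvd : 2 ∣ Nat.card C := by
      have : addOrderOf (⟨x₀, hx₀⟩ : C) = 2 := addOrderOf_eq_prime
        (by rw [two_nsmul]; exact Subtype.ext (hW x₀)) (fun h => hx₀0 (congrArg Subtype.val h))
      exact this ▸ addOrderOf_dvd_natCard _
    haveI : Fact (Nat.Prime 2) := ⟨Nat.prime_two⟩
    obtain ⟨b, hb, hb0⟩ := hE.exists_fixed_point_of_prime_dvd_card_of_fixed_point C hdvd h0
    exact ⟨b, fun e he => congrArg Subtype.val (hb ⟨e, he⟩), b.2,
      fun h => hb0 (Subtype.ext h.symm)⟩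
  -- `q` maps `U ⊓ C` onto `V`
  have hsurj : ∀ a : V, ∃ u, u ∈ U ∧ u ∈ C ∧ q u = a := by
    intro a
    rcases eq_or_ne a 0 with rfl | ha
    · exact ⟨0, U.zero_mem, C.zero_mem, hq0⟩
    obtain ⟨y, hy, hya⟩ := htrans (q u₀) a (fun h => hu₀0 (hqa _ h)) ha
    exact ⟨y • u₀, hUY y hy u₀ hu₀U, hCY y hy u₀ hu₀C, (hqg y u₀).trans hya⟩
  have hperp : ∀ w, (∀ u, u ∈ U → u ∈ C → B w u = 0) → w ∈ U ∧ w ∈ C := by
    intro w hw
    obtain ⟨u, huU, huC, hqu⟩ := hsurj (q w)
    have h : w + u = 0 := hqa _ (by rw [hBadd _ _ (hw u huU huC), hqu, hV])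
    rw [eq_neg_of_add_eq_zero_left h, hnegW]
    exact ⟨huU, huC⟩
  have hUC : ∀ u ∈ U, u ∈ C := fun u hu =>
    (hperp u fun v _ hvC => (hsymm u v).trans (hperp0 v hvC u hu)).2
  have hCU : ∀ x ∈ C, x ∈ U := fun x hx => (hperp x fun v hvU _ => hperp0 x hx v hvU).1
  have hδ : ∀ e ∈ E, ∀ w : W, e • w - w ∈ U := fun e he w =>
    hCU _ (AddSubgroup.subset_closure ⟨e, he, w, rfl⟩)
  have hinjU : ∀ u ∈ U, ∀ u' ∈ U, q u = q u' → u = u' := fun u hu u' hu' h => by
    have h0 : u + u' = 0 := hqa _ (by rw [hBadd _ _ (hperp0 u (hUC u hu) u' hu'), h, hV])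
    rw [eq_neg_of_add_eq_zero_left h0, hnegW]
  -- the images in the automorphism group of `W`
  set ψ : Γ →* (W ≃ₗ[ℤ] W) := DistribMulAction.toModuleAut ℤ W with hψ
  haveI : Finite (W ≃ₗ[ℤ] W) :=
    Finite.of_injective (fun f : W ≃ₗ[ℤ] W => (f : W → W)) DFunLike.coe_injective
  set A := E.map ψ with hA
  set K := L.map ψ with hK
  have hAU : ∀ f ∈ A, ∀ u ∈ U, f u = u := by
    rintro _ ⟨e, he, rfl⟩ u hu; exact hu e he
  have hAδ : ∀ f ∈ A, ∀ w : W, f w - w ∈ U := by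
    rintro _ ⟨e, he, rfl⟩ w; exact hδ e he w
  have hAcomm : ∀ f ∈ A, ∀ g ∈ A, f * g = g * f := fun f hf g hg => LinearEquiv.ext fun w => by
    rw [LinearEquiv.mul_apply, LinearEquiv.mul_apply]
    calc f (g w) = f (w + (g w - w)) := by rw [add_sub_cancel]
      _ = f w + (g w - w) := by rw [map_add, hAU f hf _ (hAδ g hg w)]
      _ = g w + (f w - w) := by abel
      _ = g (w + (f w - w)) := by rw [map_add, hAU g hg _ (hAδ f hf w)]
      _ = g (f w) := by rw [add_sub_cancel]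
  have hAsq : ∀ f ∈ A, f * f = 1 := fun f hf => LinearEquiv.ext fun w => by
    rw [LinearEquiv.mul_apply, aut_one_apply]
    calc f (f w) = f (w + (f w - w)) := by rw [add_sub_cancel]
      _ = f w + (f w - w) := by rw [map_add, hAU f hf _ (hAδ f hf w)]
      _ = w + ((f w - w) + (f w - w)) := by abel
      _ = w := by rw [hW, add_zero]
  haveI : IsMulCommutative A := ⟨⟨fun x y => Subtype.ext (hAcomm x x.2 y y.2)⟩⟩
  have hKodd : Odd (Nat.card K) := Odd.of_dvd_nat hL (Subgroup.card_map_dvd L ψ)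
  have hKo : ∀ k ∈ K, k ^ Nat.card K = 1 := fun k hk =>
    congrArg Subtype.val (pow_card_eq_one' (x := (⟨k, hk⟩ : K)))
  have hKq : ∀ k ∈ K, ∀ x y, B (k x) (k y) = B x y := by
    rintro _ ⟨l, hl, rfl⟩ x y
    exact (hBg l x y).trans (hLV l hl _)
  have hAK : A ≤ normalizer (K : Set (W ≃ₗ[ℤ] W)) :=
    (Subgroup.map_mono hEL).trans (Subgroup.le_normalizer_map ψ)
  have hcop : (Nat.card A).Coprime (Nat.card K) := by
    haveI : Fact (Nat.Prime 2) := ⟨Nat.prime_two⟩
    obtain ⟨m, hm⟩ := IsPGroup.iff_card.mp (hE.map ψ)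
    rw [hA, hm]
    exact (Nat.coprime_two_left.mpr hKodd).pow_left m
  have hgen' := Cfsg.Agent.Lib.Coprime.iSup_centralizer_cyclic_quotient_eq hAK hcop
  -- a commutator `c` of an element centralizing a hyperplane `H` is inverted by the outside `a`
  have facts : ∀ (H : Subgroup (W ≃ₗ[ℤ] W)) (a k : (W ≃ₗ[ℤ] W)), H ≤ A → a ∈ A →
      H ⊔ zpowers a = A → k ∈ K → k ∈ centralizer (H : Set (W ≃ₗ[ℤ] W)) → k * a ≠ a * k →
      a ∉ H ∧ ∃ c ∈ K, c ≠ 1 ∧ (∀ w, a (c w) = c.symm (a w)) ∧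
        (∀ b ∈ H, ∀ w, b (c w) = c (b w)) := by
    intro H a k hH ha _ hk hkH hne
    refine ⟨fun haH => hne (Subgroup.mem_centralizer_iff.mp hkH a haH).symm,
      k * a * k⁻¹ * a⁻¹, ?_, ?_, ?_, ?_⟩
    · rw [mul_assoc k, mul_assoc k]
      exact K.mul_mem hk ((Subgroup.mem_normalizer_iff.mp (hAK ha) k⁻¹).mp (K.inv_mem hk))
    · intro h
      rw [mul_inv_eq_one, mul_inv_eq_iff_eq_mul] at h
      exact hne h
    · intro w
      have hinv : a⁻¹ = a := inv_eq_of_mul_eq_one_right (hAsq a ha)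
      have : a * (k * a * k⁻¹ * a⁻¹) = (k * a * k⁻¹ * a⁻¹)⁻¹ * a := by
        rw [mul_inv_rev, mul_inv_rev, mul_inv_rev, inv_inv, inv_inv, hinv]
        simp only [mul_assoc, hAsq a ha, mul_one]
      exact DFunLike.congr_fun this w
    · intro b hb w
      have h1 : Commute b k := Subgroup.mem_centralizer_iff.mp hkH b hb
      have h2 : Commute b a := hAcomm b (hH hb) a ha
      exact DFunLike.congr_fun (((h1.mul_right h2).mul_right h1.inv_right).mul_right h2.inv_right).eq w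
  -- special vectors
  let IsData : Subgroup (W ≃ₗ[ℤ] W) → (W ≃ₗ[ℤ] W) → (W ≃ₗ[ℤ] W) → Prop := fun H a c =>
    H ≤ A ∧ a ∈ A ∧ a ∉ H ∧ H ⊔ zpowers a = A ∧ c ∈ K ∧ c ≠ 1 ∧
      (∀ w, a (c w) = c.symm (a w)) ∧ (∀ b ∈ H, ∀ w, b (c w) = c (b w))
  let IsSpecial : Subgroup (W ≃ₗ[ℤ] W) → W → Prop := fun H u =>
    ∃ a c w, IsData H a c ∧ u = a (c w - w) - (c w - w) ∧ u ≠ 0
  -- each datum gives a special vector
  have hexists : ∀ H a c, IsData H a c → ∃ u, IsSpecial H u := by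
    intro H a c hd
    by_contra h
    push_neg at h
    obtain ⟨hH, ha, haH, hsup, hc, hc1, hac, hbc⟩ := hd
    have hfix : ∀ w, a (c w - w) = c w - w := fun w => by
      by_contra hne
      exact h _ ⟨a, c, w, ⟨hH, ha, haH, hsup, hc, hc1, hac, hbc⟩, rfl, sub_ne_zero.mpr hne⟩
    refine hc1 (LinearEquiv.ext fun w => eq_self_of_sub_fixed c hKodd (hKo c hc) hW ?_)
    refine fixed_of_sq_fixed c hKodd (hKo c hc) ?_
    have h1 : c (c w - w) = c (c w) - c w := map_sub c _ _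
    have h2 := hfix (c w)
    rw [← h1, hac, hfix] at h2
    rw [← (LinearEquiv.symm_apply_eq c).mp h2]
  -- `c` fixes the commutators of its hyperplane
  have hcR : ∀ H a c, IsData H a c → ∀ b ∈ H, ∀ w, c (b w - w) = b w - w := by
    rintro H a c ⟨hH, ha, -, -, hc, -, hac, hbc⟩ b hb w
    refine fixed_of_sq_fixed c hKodd (hKo c hc) ?_
    have h1 : c (b w - w) ∈ U := by
      rw [map_sub, ← hbc b hb]; exact hAδ b (hH hb) _
    have h2 := hac (b w - w)
    rw [hAU a ha _ h1, hAU a ha _ (hAδ b (hH hb) w)] at h2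
    rw [h2, LinearEquiv.apply_symm_apply]
  have hsup_cases : ∀ (H : Subgroup (W ≃ₗ[ℤ] W)) (a : (W ≃ₗ[ℤ] W)), H ≤ A → a ∈ A →
      H ⊔ zpowers a = A → ∀ f ∈ A, f ∈ H ∨ ∃ b ∈ H, f = a * b := by
    intro H a hH ha hsup f hf
    let S : Subgroup (W ≃ₗ[ℤ] W) :=
      { carrier := {f | f ∈ H ∨ ∃ b ∈ H, f = a * b}
        one_mem' := Or.inl H.one_mem
        mul_mem' := by
          rintro x y (hx | ⟨b, hb, rfl⟩) (hy | ⟨d, hd, rfl⟩)
          · exact Or.inl (H.mul_mem hx hy)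
          · exact Or.inr ⟨x * d, H.mul_mem hx hd, by
              rw [← mul_assoc, hAcomm x (hH hx) a ha, mul_assoc]⟩
          · exact Or.inr ⟨b * y, H.mul_mem hb hy, mul_assoc a b y⟩
          · refine Or.inl ?_
            rw [mul_assoc, ← mul_assoc b, hAcomm b (hH hb) a ha, mul_assoc a b d, ← mul_assoc,
              hAsq a ha, one_mul]
            exact H.mul_mem hb hd
        inv_mem' := by
          rintro x (hx | ⟨b, hb, rfl⟩)
          · exact Or.inl (H.inv_mem hx)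
          · exact Or.inr ⟨b⁻¹, H.inv_mem hb, by
              rw [mul_inv_rev, inv_eq_of_mul_eq_one_right (hAsq a ha),
                hAcomm _ (hH (H.inv_mem hb)) a ha]⟩ }
    have hle : A ≤ S := by
      rw [← hsup]
      refine sup_le (fun x hx => Or.inl hx) (Subgroup.zpowers_le.mpr ?_)
      exact Or.inr ⟨1, H.one_mem, (mul_one a).symm⟩
    exact hle hf
  -- vectors special for another hyperplane are fixed
  have hfixother : ∀ H a c, IsData H a c → ∀ H' u, IsSpecial H' u → H' ≠ H → c u = u := by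
    rintro H a c hd H' u ⟨a', c', w', ⟨hH', ha', haH', hsup', hc', hc1', hac', hbc'⟩, rfl, -⟩ hne
    obtain ⟨hH, ha, haH, hsup, hc, -, -, -⟩ := id hd
    obtain ⟨b, hbH, hbH'⟩ : ∃ b ∈ H, b ∉ H' := by
      by_contra h
      push_neg at h
      refine hne (le_antisymm ?_ h)
      intro x hx
      rcases hsup_cases H a hH ha hsup x (hH' hx) with h1 | ⟨d, hd', rfl⟩
      · exact h1
      · exfalso
        have hcopy : a ∈ H' := by
          have := H'.mul_mem hx (H'.inv_mem (h d hd'))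
          rwa [mul_inv_cancel_right] at this
        refine haH' ?_
        have hAH' : A ≤ H' := by
          rw [← hsup]
          exact sup_le h (Subgroup.zpowers_le.mpr hcopy)
        exact hAH' ha'
    rcases hsup_cases H' a' hH' ha' hsup' b (hH hbH) with h1 | ⟨d, hd', hb⟩
    · exact absurd h1 hbH'
    have hd2 : d (c' w' - w') = c' w' - w' := by
      have hr : d (c' w' - w') - (c' w' - w') = c' (d w' - w') - (d w' - w') := by
        rw [map_sub, hbc' d hd', map_sub]; abel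
      rw [← sub_eq_zero, hr, hcR H' a' c' ⟨hH', ha', haH', hsup', hc', hc1', hac', hbc'⟩ d hd' w',
        sub_self]
    have hab : a' (c' w' - w') = b (c' w' - w') := by rw [hb, LinearEquiv.mul_apply, hd2]
    rw [hab]
    exact hcR H a c hd b hbH _
  -- special vectors lie in the image of `c - 1`, away from its fixed points
  have hnotfix : ∀ H u, IsSpecial H u → ∃ a c, IsData H a c ∧ c u ≠ u := by
    rintro H u ⟨a, c, w, hd, rfl, hu⟩
    refine ⟨a, c, hd, fun hcu => hu ?_⟩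
    obtain ⟨hH, ha, haH, hsup, hc, -, hac, -⟩ := id hd
    have h1 : a (c w - w) = c.symm (a w) - a w := by rw [map_sub, hac]
    have h2 : ∃ z, a (c w - w) - (c w - w) = c z - z := by
      refine ⟨-c.symm (a w) - w, ?_⟩
      rw [h1, map_sub, map_neg, LinearEquiv.apply_symm_apply]
      abel
    obtain ⟨z, hz⟩ := h2
    rw [hz] at hcu ⊢
    rw [eq_self_of_sub_fixed c hKodd (hKo c hc) hW hcu, sub_self]
  -- special vectors are permuted transitively
  have hsplY : ∀ H u, IsSpecial H u → ∀ y ∈ Y, ∃ H', IsSpecial H' (y • u) := by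
    rintro H u ⟨a, c, w, ⟨hH, ha, haH, hsup, hc, hc1, hac, hbc⟩, rfl, hu⟩ y hy
    set φ : (W ≃ₗ[ℤ] W) →* (W ≃ₗ[ℤ] W) := (MulAut.conj (ψ y)).toMonoidHom with hφ
    have hAmap : A.map φ = A := by
      refine le_antisymm ?_ ?_
      · rintro _ ⟨_, ⟨e, he, rfl⟩, rfl⟩
        exact ⟨y * e * y⁻¹, (hconjE y hy e he).1, by simp [hφ]⟩
      · rintro _ ⟨e, he, rfl⟩
        exact ⟨_, ⟨y⁻¹ * e * y, (hconjE y hy e he).2, rfl⟩, by simp [hφ, mul_assoc]⟩
    have hφinj : Function.Injective φ := (MulAut.conj (ψ y)).injective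
    have hφapp : ∀ (f : (W ≃ₗ[ℤ] W)) (z : W), φ f (y • z) = y • f z := fun f z => by
      change ψ y (f ((ψ y)⁻¹ (ψ y z))) = _
      rw [← LinearEquiv.mul_apply (ψ y)⁻¹ (ψ y), inv_mul_cancel, aut_one_apply]
      rfl
    refine ⟨H.map φ, φ a, φ c, y • w, ⟨hAmap ▸ Subgroup.map_mono hH,
      hAmap ▸ Subgroup.mem_map_of_mem φ ha, ?_, ?_, ?_, fun h => hc1 (hφinj (h.trans (map_one φ).symm)),
      ?_, ?_⟩, ?_, ?_⟩
    · rintro ⟨d, hd, hde⟩
      exact haH (hφinj hde ▸ hd)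
    · rw [← MonoidHom.map_zpowers, ← Subgroup.map_sup, hsup, hAmap]
    · obtain ⟨l, hl, rfl⟩ := hc
      exact ⟨y * l * y⁻¹, (hconjL y hy l hl).1, by simp [hφ]⟩
    · intro z
      obtain ⟨z, rfl⟩ := MulAction.surjective y z
      rw [hφapp, hφapp, hφapp, hac]
      refine (LinearEquiv.eq_symm_apply (φ c)).mpr ?_
      rw [hφapp, LinearEquiv.apply_symm_apply]
    · rintro _ ⟨b, hb, rfl⟩ z
      obtain ⟨z, rfl⟩ := MulAction.surjective y z
      rw [hφapp, hφapp, hφapp, hφapp, hbc b hb]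
    · rw [hφapp, ← smul_sub, hφapp, ← smul_sub]
    · rwa [smul_ne_zero_iff_ne]
  have hsplU : ∀ H u, IsSpecial H u → u ∈ U := by
    rintro H u ⟨a, c, w, ⟨-, ha, -⟩, rfl, -⟩
    exact hAδ a ha _
  -- there is only one hyperplane
  have huniq : ∀ H₁ u₁ H₂ u₂, IsSpecial H₁ u₁ → IsSpecial H₂ u₂ → H₁ = H₂ := by
    intro H₁ u₁ H₂ u₂ h₁ h₂
    by_contra hne
    obtain ⟨a₁, c₁, hd₁, hc₁⟩ := hnotfix H₁ u₁ h₁
    obtain ⟨a₂, c₂, hd₂, hc₂⟩ := hnotfix H₂ u₂ h₂
    have h12 : c₁ u₂ = u₂ := hfixother _ _ _ hd₁ _ _ h₂ (Ne.symm hne)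
    have h21 : c₂ u₁ = u₁ := hfixother _ _ _ hd₂ _ _ h₁ hne
    have hsumne : q (u₁ + u₂) ≠ 0 := fun h => hc₁ (by
      rw [eq_neg_of_add_eq_zero_left (hqa _ h), hnegW]; exact h12)
    have hU1 := hsplU _ _ h₁
    obtain ⟨y, hy, hy'⟩ := htrans (q u₁) (q (u₁ + u₂))
      (fun h => hc₁ (by rw [hqa _ h, map_zero])) hsumne
    obtain ⟨H₃, h₃⟩ := hsplY H₁ u₁ h₁ y hy
    have h3eq : y • u₁ = u₁ + u₂ :=
      hinjU _ (hUY y hy _ hU1) _ (U.add_mem hU1 (hsplU _ _ h₂)) ((hqg y u₁).trans hy')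
    rw [h3eq] at h₃
    have e1 : H₃ = H₁ := by
      by_contra h
      have := hfixother _ _ _ hd₁ _ _ h₃ h
      rw [map_add, h12, add_left_inj] at this
      exact hc₁ this
    have e2 : H₃ = H₂ := by
      by_contra h
      have := hfixother _ _ _ hd₂ _ _ h₃ h
      rw [map_add, h21, add_right_inj] at this
      exact hc₂ this
    exact hne (e1.symm.trans e2)
  -- commutators of `L` with `E`
  have hKA : ∀ (R : AddSubgroup W), (∀ r ∈ R, r ∈ U) → (∀ k ∈ K, ∀ r ∈ R, k r ∈ R) →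
      ∀ k ∈ K, ∀ r ∈ R, k r = r := by
    rintro R hRU hRK _ ⟨l, hl, rfl⟩ r hr
    have hRE : ∀ e ∈ E, ∀ r ∈ R, e • r = r := fun e he r hr => hRU r hr e he
    let N : Subgroup Γ :=
      { carrier := {g | ∀ r ∈ R, g • r = r}
        one_mem' := fun r _ => one_smul Γ r
        mul_mem' := fun {g h} hg hh r hr => by rw [mul_smul, hh r hr, hg r hr]
        inv_mem' := fun {g} hg r hr => by rw [inv_smul_eq_iff, hg r hr] }
    have hle : ⁅L, E⁆ ≤ N := by
      rw [Subgroup.commutator_le]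
      intro g hg e he r hr
      have hg' : g⁻¹ • r ∈ R := hRK _ ⟨g⁻¹, L.inv_mem hg, rfl⟩ r hr
      rw [commutatorElement_def, mul_smul, mul_smul, mul_smul, hRE _ (E.inv_mem he) r hr,
        hRE e he _ hg', smul_inv_smul]
    exact hle (hgen hl) r hr
  suffices hKtriv : ∀ k ∈ K, k = 1 from DFunLike.congr_fun (hKtriv _ ⟨l₀, hl₀, rfl⟩) w₀
  -- all centralizers centralize a fixed element `b`
  obtain ⟨b, hbA, hb1, hbK⟩ : ∃ b ∈ A, b ≠ 1 ∧ ∀ k ∈ K, b * k = k * b := by
    by_cases hsp : ∃ H₀ u₀, IsSpecial H₀ u₀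
    · obtain ⟨H₀, u₀, h₀⟩ := hsp
      obtain ⟨a₀, c₀, hd₀, -⟩ := hnotfix _ _ h₀
      obtain ⟨hH₀, ha₀, ha₀H, hsup₀, -⟩ := hd₀
      have hH₀ne : H₀ ≠ ⊥ := by
        intro h
        rw [h, bot_sup_eq] at hsup₀
        obtain ⟨e, he, hea⟩ : a₀ ∈ A := ha₀
        have hne : ∃ w : W, e • w ≠ w := by
          by_contra hh
          push_neg at hh
          refine ha₀H ?_
          rw [show a₀ = 1 from hea ▸ LinearEquiv.ext hh]
          exact H₀.one_mem
        obtain ⟨e', he', ⟨w₁, hw₁⟩, ⟨w₂, hw₂⟩⟩ := hthree e he hne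
        have hmem : ψ e' ∈ zpowers a₀ := hsup₀ ▸ Subgroup.mem_map_of_mem ψ he'
        obtain ⟨i, hi⟩ := Subgroup.mem_zpowers_iff.mp hmem
        have ha2 : a₀ * a₀ = 1 := hAsq a₀ ⟨e, he, hea⟩
        rcases Int.even_or_odd' i with ⟨j, rfl | rfl⟩
        · rw [zpow_mul, zpow_two, ha2, one_zpow] at hi
          exact hw₁ (DFunLike.congr_fun hi.symm w₁)
        · rw [zpow_add_one, zpow_mul, zpow_two, ha2, one_zpow, one_mul, ← hea] at hi
          exact hw₂ (DFunLike.congr_fun hi.symm w₂)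
      obtain ⟨b, hb, hb1⟩ := H₀.bot_or_exists_ne_one.resolve_left hH₀ne
      refine ⟨b, hH₀ hb, hb1, ?_⟩
      have hle : K ≤ centralizer {b} := by
        conv_lhs => rw [← hgen']
        refine iSup₂_le fun H hH k hk => ?_
        obtain ⟨hHA, a, ha, hsup⟩ := hH
        rw [Subgroup.mem_centralizer_iff]
        intro d hd
        rw [Set.mem_singleton_iff.mp hd]
        have hkH := Subgroup.mem_centralizer_iff.mp hk.2
        rcases hsup_cases H a hHA ha hsup b (hH₀ hb) with h1 | ⟨d', hd', rfl⟩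
        · exact hkH b h1
        by_cases hka : k * a = a * k
        · exact ((Commute.mul_left (show Commute a k from hka.symm) (hkH d' hd')).eq)
        obtain ⟨haH, c, hc, hc1, hac, hbc⟩ := facts H a k hHA ha hsup hk.1 hk.2 hka
        obtain ⟨u, hu⟩ := hexists H a c ⟨hHA, ha, haH, hsup, hc, hc1, hac, hbc⟩
        refine absurd ?_ haH
        have := H.mul_mem (huniq H u H₀ u₀ hu h₀ ▸ hb : a * d' ∈ H) (H.inv_mem hd')
        rwa [mul_inv_cancel_right] at this
      exact fun k hk => Subgroup.mem_centralizer_iff.mp (hle hk) b rfl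
    · push_neg at hsp
      obtain ⟨b, hb, hb1⟩ : ∃ b ∈ A, b ≠ 1 := by
        by_contra h
        push_neg at h
        refine hx₀0 ?_
        have hle : C ≤ ⊥ := by
          refine (AddSubgroup.closure_le _).mpr ?_
          rintro _ ⟨e, he, w, rfl⟩
          exact AddSubgroup.mem_bot.mpr (sub_eq_zero.mpr
            (DFunLike.congr_fun (h _ ⟨e, he, rfl⟩) w))
        exact AddSubgroup.mem_bot.mp (hle hx₀)
      refine ⟨b, hb, hb1, ?_⟩
      have hle : K ≤ centralizer (A : Set (W ≃ₗ[ℤ] W)) := by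
        conv_lhs => rw [← hgen']
        refine iSup₂_le fun H hH k hk => ?_
        obtain ⟨hHA, a, ha, hsup⟩ := hH
        rw [← hsup, Subgroup.mem_centralizer_iff]
        intro f hf
        have hle : H ⊔ zpowers a ≤ centralizer {k} := by
          refine sup_le (fun x hx => Subgroup.mem_centralizer_iff.mpr fun y hy => ?_)
            (Subgroup.zpowers_le.mpr (Subgroup.mem_centralizer_iff.mpr fun y hy => ?_))
          · rw [Set.mem_singleton_iff.mp hy]
            exact (Subgroup.mem_centralizer_iff.mp hk.2 x hx).symm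
          · rw [Set.mem_singleton_iff.mp hy]
            by_contra hka
            obtain ⟨haH, c, hc, hc1, hac, hbc⟩ := facts H a k hHA ha hsup hk.1 hk.2 hka
            obtain ⟨u, hu⟩ := hexists H a c ⟨hHA, ha, haH, hsup, hc, hc1, hac, hbc⟩
            exact hsp H u hu
        exact (Subgroup.mem_centralizer_iff.mp (hle hf) k rfl).symm
      exact fun k hk => Subgroup.mem_centralizer_iff.mp (hle hk) b hb
  -- the commutators of `b` are fixed by `K`, so all of `U` is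
  let F : AddSubgroup W :=
    { carrier := {u | u ∈ U ∧ ∀ k ∈ K, k u = u}
      add_mem' := fun {x y} hx hy => ⟨U.add_mem hx.1 hy.1, fun k hk => by
        rw [map_add, hx.2 k hk, hy.2 k hk]⟩
      zero_mem' := ⟨U.zero_mem, fun k _ => map_zero k⟩
      neg_mem' := fun {x} hx => ⟨U.neg_mem hx.1, fun k hk => by rw [map_neg, hx.2 k hk]⟩ }
  obtain ⟨r, hrF, hr0⟩ : ∃ r ∈ F, r ≠ 0 := by
    obtain ⟨w, hw⟩ : ∃ w, b w ≠ w := by
      by_contra h; push_neg at h; exact hb1 (LinearEquiv.ext h)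
    refine ⟨b w - w, ⟨hAδ b hbA w, fun k hk => ?_⟩, sub_ne_zero.mpr hw⟩
    refine hKA ((b.toLinearMap.toAddMonoidHom - AddMonoidHom.id W).range) ?_ ?_ k hk _ ⟨w, rfl⟩
    · rintro _ ⟨z, rfl⟩; exact hAδ b hbA z
    · rintro k hk _ ⟨z, rfl⟩
      refine ⟨k z, ?_⟩
      change b (k z) - k z = k (b z - z)
      rw [map_sub, ← LinearEquiv.mul_apply b k, hbK k hk, LinearEquiv.mul_apply]
  have hFY : ∀ y ∈ Y, ∀ u ∈ F, y • u ∈ F := by
    intro y hy u hu
    refine ⟨hUY y hy u hu.1, ?_⟩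
    rintro _ ⟨l, hl, rfl⟩
    have h : (y⁻¹ * l * y) • u = u := hu.2 _ ⟨_, (hconjL y hy l hl).2, rfl⟩
    rw [mul_smul, mul_smul, inv_smul_eq_iff] at h
    exact h
  have hUF : ∀ u ∈ U, ∀ k ∈ K, k u = u := by
    intro u hu k hk
    rcases eq_or_ne u 0 with rfl | hu0
    · exact map_zero k
    obtain ⟨y, hy, hy'⟩ := htrans (q r) (q u) (fun h => hr0 (hqa _ h)) (fun h => hu0 (hqa _ h))
    rw [← hinjU _ (hUY y hy r hrF.1) u hu ((hqg y r).trans hy')]
    exact (hFY y hy r hrF).2 k hk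
  intro k hk
  refine LinearEquiv.ext fun w => eq_self_of_sub_fixed k hKodd (hKo k hk) hW ?_
  refine hUF _ (hperp _ fun u hu _ => ?_).1 k hk
  rw [map_sub, AddMonoidHom.sub_apply]
  conv_lhs => enter [1, 2]; rw [← hUF u hu k hk]
  rw [hKq k hk, sub_self]

end Cfsg.Agent.Lib.FpfHeight.AnisoQuadratic
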