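/-
Arithmetic for fixed-point-free automorphisms of `p`-power order.
-/
import Mathlib.NumberTheory.Multiplicity
import Mathlib.RingTheory.Int.Basic
import Mathlib.Data.Nat.GCD.Basic

set_option autoImplicit false

namespace Cfsg.Agent.Lib.FpfHeight.Arith

/-- A proper nonzero exponent below a prime power generates the exponent `p ^ (e - 1)`. -/
theorem exists_mul_mod_eq {p : ℕ} (hp : p.Prime) {e i : ℕ} (hi : 0 < i) (hie : i < p ^ e) :
    ∃ a, i * a % p ^ e = p ^ (e - 1) := by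
  obtain ⟨j, hj, hg⟩ := (Nat.dvd_prime_pow hp).mp (Nat.gcd_dvd_right i (p ^ e))
  have hlt : Nat.gcd i (p ^ e) < p ^ e := lt_of_le_of_lt (Nat.gcd_le_left _ hi) hie
  have hje : j < e := (Nat.pow_lt_pow_iff_right hp.one_lt).mp (hg ▸ hlt)
  obtain ⟨a, -, ha⟩ := Nat.exists_mul_mod_eq_gcd hlt
  refine ⟨a * p ^ (e - 1 - j), ?_⟩
  rw [← mul_assoc, Nat.mul_mod, ha, hg, ← Nat.mul_mod_mod, Nat.mod_mod]
  rw [Nat.mul_mod_mod, ← pow_add, Nat.add_sub_cancel' (by omega)]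
  exact Nat.mod_eq_of_lt (Nat.pow_lt_pow_right hp.one_lt (by omega))

/-- Powers of two congruent to `1` modulo a power of a Fermat prime power. -/
theorem two_mul_dvd_of_dvd_two_pow_sub_one {p e f m d : ℕ} (hp : p.Prime) (hp2 : p ≠ 2)
    (hm : 0 < m) (he : 0 < e) (hpe : p ^ e = 2 ^ m + 1) (hd : 0 < d)
    (hdvd : p ^ (e + f) ∣ 2 ^ d - 1) : 2 * m * p ^ f ∣ d := by
  have hsq : 2 ^ (2 * m) - 1 = (2 ^ m - 1) * p ^ e := by
    rw [hpe, show 2 ^ (2 * m) = (2 ^ m) ^ 2 by rw [← pow_mul, Nat.mul_comm]]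
    rw [show (1 : ℕ) = 1 ^ 2 by norm_num, Nat.sq_sub_sq]
    norm_num [Nat.mul_comm]
  have hg : p ^ e ∣ 2 ^ Nat.gcd (2 * m) d - 1 := by
    rw [← Nat.pow_sub_one_gcd_pow_sub_one]
    exact Nat.dvd_gcd ⟨2 ^ m - 1, by rw [hsq, Nat.mul_comm]⟩
      ((pow_dvd_pow p (Nat.le_add_right e f)).trans hdvd)
  have hdiv : 2 * m ∣ d := by
    by_contra hnd
    obtain ⟨c, hc⟩ := Nat.gcd_dvd_left (2 * m) d
    have hc1 : c ≠ 1 := fun h => hnd (by
      rw [h, mul_one] at hc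
      rw [hc]; exact Nat.gcd_dvd_right _ _)
    have hg0 : 0 < Nat.gcd (2 * m) d := Nat.gcd_pos_of_pos_right _ hd
    have hc0 : c ≠ 0 := fun h => by rw [h, mul_zero] at hc; omega
    have hle : Nat.gcd (2 * m) d ≤ m := by
      have : Nat.gcd (2 * m) d * 2 ≤ Nat.gcd (2 * m) d * c := Nat.mul_le_mul_left _ (by omega)
      omega
    have h1 : 2 ^ Nat.gcd (2 * m) d ≤ 2 ^ m := Nat.pow_le_pow_right (by norm_num) hle
    have h2 : 1 < 2 ^ Nat.gcd (2 * m) d := Nat.one_lt_two_pow hg0.ne'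
    have h3 := Nat.le_of_dvd (by omega) hg
    omega
  obtain ⟨t, rfl⟩ := hdiv
  refine mul_dvd_mul_left _ ?_
  haveI := Fact.mk hp
  have ht : t ≠ 0 := by rintro rfl; simp at hd
  have h2m : 2 < 2 ^ m + 1 := by
    have : 1 < 2 ^ m := Nat.one_lt_two_pow hm.ne'
    omega
  have hnd : ¬ p ∣ 2 ^ m - 1 := fun h => by
    have hpd : p ∣ 2 ^ m + 1 := hpe ▸ dvd_pow_self p he.ne'
    have h4 := Nat.dvd_sub hpd h
    rw [show 2 ^ m + 1 - (2 ^ m - 1) = 2 by omega] at h4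
    exact hp2 ((Nat.prime_dvd_prime_iff_eq hp Nat.prime_two).mp h4)
  have hne : 2 ^ m - 1 ≠ 0 := fun h => hnd (by rw [h]; exact dvd_zero p)
  have hlte := padicValNat.pow_sub_pow (p := p) (x := 2 ^ (2 * m)) (y := 1)
    (hp.odd_of_ne_two hp2) (Nat.one_lt_two_pow (by omega))
    (by rw [hsq]; exact dvd_mul_of_dvd_right (dvd_pow_self p he.ne') _)
    (by
      intro h
      exact hp2 ((Nat.prime_dvd_prime_iff_eq hp Nat.prime_two).mp (hp.dvd_of_dvd_pow h))) ht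
  rw [one_pow, hsq, padicValNat.mul hne (pow_ne_zero _ hp.ne_zero),
    padicValNat.eq_zero_of_not_dvd hnd, padicValNat.prime_pow, zero_add, ← pow_mul] at hlte
  have hne' : 2 ^ (2 * m * t) - 1 ≠ 0 := by
    have : 1 < 2 ^ (2 * m * t) := Nat.one_lt_two_pow hd.ne'
    omega
  have h5 := (padicValNat_dvd_iff_le hne').mp hdvd
  exact (padicValNat_dvd_iff_le ht).mpr (by omega)

end Cfsg.Agent.Lib.FpfHeight.Arith
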