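/-
The idempotents of a finite abelian subgroup of a group represented in an algebra.
-/
import Mathlib

set_option autoImplicit false
set_option linter.unusedSectionVars false

namespace Cfsg.Agent.Lib.FpfHeight.CharLayer

open Subgroup

variable {k : Type*} [Field k] {X : Type*} [Group X] {E : Type*} [Ring E] [Algebra k E]

section Twist

variable {Z : Subgroup X}

/-- The action of the normalizer on characters. -/
noncomputable def twist (g : normalizer (Z : Set X)) (χ : Z →* kˣ) : Z →* kˣ :=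
  χ.comp (Z.normalizerMonoidHom g⁻¹).toMonoidHom

theorem twist_apply (g : normalizer (Z : Set X)) (χ : Z →* kˣ) (z : Z) :
    twist g χ z = χ (Z.normalizerMonoidHom g⁻¹ z) := rfl

end Twist

section Single

variable (Z : Subgroup X) [Fintype Z]

/-- The idempotent belonging to a linear character of `Z`. -/
noncomputable def eproj (ρ : X →* E) (χ : Z →* kˣ) : E :=
  (Nat.card Z : k)⁻¹ • ∑ z : Z, ((χ z⁻¹ : kˣ) : k) • ρ z

variable {Z} (ρ : X →* E)

theorem eproj_mul (χ : Z →* kˣ) (z : Z) : eproj Z ρ χ * ρ z = ((χ z : kˣ) : k) • eproj Z ρ χ := by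
  simp only [eproj, smul_mul_assoc, Finset.sum_mul, ← map_mul]
  rw [smul_comm, Finset.smul_sum (r := ((χ z : kˣ) : k))]
  congr 1
  refine Fintype.sum_equiv (Equiv.mulRight z) _ _ fun w => ?_
  simp only [smul_smul, Equiv.coe_mulRight, ← Units.val_mul, ← map_mul, Subgroup.coe_mul]
  congr 3
  group

theorem mul_eproj (χ : Z →* kˣ) (z : Z) : ρ z * eproj Z ρ χ = ((χ z : kˣ) : k) • eproj Z ρ χ := by
  simp only [eproj, mul_smul_comm, Finset.mul_sum, ← map_mul]
  rw [smul_comm, Finset.smul_sum (r := ((χ z : kˣ) : k))]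
  congr 1
  refine Fintype.sum_equiv (Equiv.mulLeft z) _ _ fun w => ?_
  simp only [smul_smul, Equiv.coe_mulLeft, ← Units.val_mul, Subgroup.coe_mul]
  congr 2
  rw [← map_mul χ, mul_inv_rev]
  simp [mul_comm]

theorem eproj_mul_eproj (hZ : (Nat.card Z : k) ≠ 0) (χ μ : Z →* kˣ) [Decidable (χ = μ)] :
    eproj Z ρ χ * eproj Z ρ μ = if χ = μ then eproj Z ρ μ else 0 := by
  classical
  conv_lhs => rw [eproj]
  simp only [smul_mul_assoc, Finset.sum_mul, mul_eproj, smul_smul, ← Finset.sum_smul]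
  have e : ∑ z : Z, ((χ z⁻¹ : kˣ) : k) * ((μ z : kˣ) : k) =
      if χ = μ then (Nat.card Z : k) else 0 := by
    let f : Z →* k := (Units.coeHom k).comp (χ⁻¹ * μ)
    have hf : f = 1 ↔ χ = μ := by
      constructor
      · intro h
        refine MonoidHom.ext fun z => ?_
        have := Units.val_eq_one.mp (show (((χ⁻¹ * μ) z : kˣ) : k) = 1 from DFunLike.congr_fun h z)
        simpa [inv_mul_eq_one] using this
      · rintro rfl
        ext z
        simp [f]
    have := sum_hom_units f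
    rw [show (∑ z : Z, ((χ z⁻¹ : kˣ) : k) * ((μ z : kˣ) : k)) = ∑ z, f z from
      Finset.sum_congr rfl fun z _ => by simp [f], this]
    simp only [hf, Nat.card_eq_fintype_card]
    split_ifs <;> simp
  rw [e]
  split_ifs
  · rw [inv_mul_cancel₀ hZ, one_smul]
  · rw [mul_zero, zero_smul]

theorem eproj_self (hZ : (Nat.card Z : k) ≠ 0) (χ : Z →* kˣ) :
    eproj Z ρ χ * eproj Z ρ χ = eproj Z ρ χ := by
  classical
  rw [eproj_mul_eproj ρ hZ, if_pos rfl]

theorem eproj_orth (hZ : (Nat.card Z : k) ≠ 0) {χ μ : Z →* kˣ} (h : χ ≠ μ) :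
    eproj Z ρ χ * eproj Z ρ μ = 0 := by
  classical
  rw [eproj_mul_eproj ρ hZ, if_neg h]

/-- Conjugation carries idempotents to idempotents. -/
theorem mul_eproj_of_conj {χ μ : Z →* kˣ} (g : normalizer (Z : Set X))
    (h : ∀ z : Z, μ (Z.normalizerMonoidHom g z) = χ z) :
    ρ g * eproj Z ρ χ = eproj Z ρ μ * ρ g := by
  simp only [eproj, mul_smul_comm, smul_mul_assoc, Finset.mul_sum, Finset.sum_mul, ← map_mul]
  congr 1
  refine Fintype.sum_equiv (Z.normalizerMonoidHom g).toEquiv _ _ fun z => ?_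
  have hv : ((Z.normalizerMonoidHom g z : Z) : X) = (g : X) * z * (g : X)⁻¹ := rfl
  simp only [MulEquiv.toEquiv_eq_coe, MulEquiv.coe_toEquiv]
  rw [map_inv μ, h, map_inv χ, hv, inv_mul_cancel_right]

theorem mul_eproj_twist (χ : Z →* kˣ) (g : normalizer (Z : Set X)) :
    ρ g * eproj Z ρ χ = eproj Z ρ (twist g χ) * ρ g :=
  mul_eproj_of_conj ρ g fun z => by
    rw [twist_apply, ← MulAut.mul_apply, ← map_mul, inv_mul_cancel, map_one, MulAut.one_apply]

theorem twist_ne_zero {χ : Z →* kˣ} (g : normalizer (Z : Set X)) (h : eproj Z ρ χ ≠ 0) :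
    eproj Z ρ (twist g χ) ≠ 0 := by
  intro h0
  refine h ?_
  calc eproj Z ρ χ = ρ (g : X)⁻¹ * (ρ g * eproj Z ρ χ) := by
        rw [← mul_assoc, ← map_mul, inv_mul_cancel, map_one, one_mul]
    _ = 0 := by rw [mul_eproj_twist, h0, zero_mul, mul_zero]

/-- A vanishing sum over a group of operators makes the stabiliser of a character have vanishing
sum on the corresponding component. -/
theorem eproj_mul_sum_stab_eq_zero (hZ : (Nat.card Z : k) ≠ 0) (A : Subgroup X) [Fintype A]
    (hA : A ≤ normalizer (Z : Set X)) (hT : ∑ a : A, ρ (a : X) = 0) (χ : Z →* kˣ)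
    [DecidablePred fun a : A => twist ⟨(a : X), hA a.2⟩ χ = χ] :
    eproj Z ρ χ * ∑ a ∈ Finset.univ.filter (fun a : A => twist ⟨(a : X), hA a.2⟩ χ = χ),
      ρ (a : X) = 0 := by
  classical
  have h : eproj Z ρ χ * (∑ a : A, ρ (a : X)) * eproj Z ρ χ = 0 := by rw [hT, mul_zero, zero_mul]
  rw [Finset.mul_sum, Finset.sum_mul] at h
  rw [Finset.mul_sum, Finset.sum_filter]
  refine Eq.trans (Finset.sum_congr rfl fun a _ => ?_) h
  have e := mul_eproj_twist ρ χ ⟨(a : X), hA a.2⟩
  rw [mul_assoc, e, ← mul_assoc]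
  split_ifs with hfix
  · rw [hfix, eproj_self ρ hZ]
  · rw [eproj_orth ρ hZ (Ne.symm hfix), zero_mul]

end Single

section Complete

variable {Z : Subgroup X} [Fintype Z] [IsMulCommutative Z] (ρ : X →* E) [IsSepClosed k]

open scoped IsMulCommutative

/-- The idempotents add up to one. -/
theorem sum_eproj [Fintype (Z →* kˣ)] (hZ : (Nat.card Z : k) ≠ 0) :
    ∑ χ : Z →* kˣ, eproj Z ρ χ = 1 := by
  classical
  haveI : NeZero ((Monoid.exponent Z : ℕ) : k) := ⟨fun h => hZ (by
    obtain ⟨c, hc⟩ := Group.exponent_dvd_nat_card (G := Z)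
    rw [hc, Nat.cast_mul, h, zero_mul])⟩
  have e : ∀ z : Z, ∑ χ : Z →* kˣ, ((χ z⁻¹ : kˣ) : k) = if z = 1 then (Nat.card Z : k) else 0 := by
    intro z
    let f : (Z →* kˣ) →* k :=
      { toFun := fun χ => ((χ z⁻¹ : kˣ) : k)
        map_one' := rfl
        map_mul' := fun _ _ => Units.val_mul _ _ }
    have hf : f = 1 ↔ z = 1 := by
      constructor
      · intro h
        by_contra hz
        obtain ⟨χ, hχ⟩ := CommGroup.exists_apply_ne_one_of_hasEnoughRootsOfUnity Z k
          (inv_ne_one.mpr hz)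
        exact hχ (Units.val_eq_one.mp (DFunLike.congr_fun h χ))
      · rintro rfl
        ext χ
        simp [f]
    rw [show (∑ χ : Z →* kˣ, ((χ z⁻¹ : kˣ) : k)) = ∑ χ, f χ from rfl, sum_hom_units f]
    simp only [hf, ← Nat.card_eq_fintype_card,
      CommGroup.card_monoidHom_of_hasEnoughRootsOfUnity Z k]
    split_ifs <;> simp
  simp only [eproj, ← Finset.smul_sum]
  rw [Finset.sum_comm]
  simp only [← Finset.sum_smul, e, ite_smul, zero_smul, Finset.sum_ite_eq', Finset.mem_univ,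
    if_true, smul_smul, inv_mul_cancel₀ hZ, one_smul]
  exact map_one ρ

/-- The occurring characters separate what `ρ` separates. -/
theorem exists_occurs_apply_ne_one (hZ : (Nat.card Z : k) ≠ 0) {z : Z}
    (hz : ρ (z : X) ≠ 1) : ∃ χ : Z →* kˣ, eproj Z ρ χ ≠ 0 ∧ χ z ≠ 1 := by
  classical
  haveI : Finite (Z →* kˣ) := by
    haveI : NeZero ((Monoid.exponent Z : ℕ) : k) := ⟨fun h => hZ (by
      obtain ⟨c, hc⟩ := Group.exponent_dvd_nat_card (G := Z)
      rw [hc, Nat.cast_mul, h, zero_mul])⟩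
    exact Nat.finite_of_card_ne_zero
      (by rw [CommGroup.card_monoidHom_of_hasEnoughRootsOfUnity Z k]; exact Nat.card_pos.ne')
  haveI := Fintype.ofFinite (Z →* kˣ)
  by_contra hall
  push Not at hall
  apply hz
  rw [← mul_one (ρ (z : X)), ← sum_eproj ρ hZ, Finset.mul_sum]
  refine Finset.sum_congr rfl fun χ _ => ?_
  rw [mul_eproj]
  by_cases h : eproj Z ρ χ = 0
  · rw [h, smul_zero]
  · rw [hall χ h, Units.val_one, one_smul]

end Complete

end Cfsg.Agent.Lib.FpfHeight.CharLayer
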