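/-
Automorphisms of an elementary abelian group as operators over an algebraically closed field.
-/
import Mathlib.Data.ZMod.Basic
import Mathlib.Algebra.Module.ZMod
import Mathlib.Algebra.Field.ZMod
import Mathlib.LinearAlgebra.Dual.Lemmas
import Mathlib.LinearAlgebra.FreeModule.Basic
import Mathlib.LinearAlgebra.Basis.VectorSpace
import Mathlib.RingTheory.TensorProduct.Maps
import Mathlib.LinearAlgebra.FiniteDimensional.Defs
import Mathlib.RingTheory.TensorProduct.Finite
import Mathlib.LinearAlgebra.TensorProduct.Basic
import Mathlib.FieldTheory.IsAlgClosed.AlgebraicClosure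
import Cfsg.Agent.Lib.FpfHeight.Basic

set_option autoImplicit false

namespace Cfsg.Agent.Lib.FpfHeight.ScalarExt

open Cfsg.Agent.Lib.FpfHeight.Basic
open scoped TensorProduct

universe u

variable (v : ℕ) [Fact v.Prime] (A : Type u) [AddCommGroup A] [Module (ZMod v) A]
variable (k : Type*) [Field k] [Algebra (ZMod v) k]

/-- Additive endomorphisms are linear over the prime field. -/
def endZ : AddMonoid.End A →+* Module.End (ZMod v) A where
  toFun f := AddMonoidHom.toZModLinearMap v f
  map_one' := rfl
  map_mul' _ _ := rfl
  map_zero' := rfl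
  map_add' _ _ := rfl

/-- Additive endomorphisms extended to `k ⊗ A`. -/
noncomputable def extEnd : AddMonoid.End A →+* Module.End k (k ⊗[ZMod v] A) where
  toFun f := (endZ v A f).baseChange k
  map_one' := by
    refine TensorProduct.AlgebraTensorModule.ext fun c a => ?_
    rw [LinearMap.baseChange_tmul]; rfl
  map_mul' f g := by
    refine TensorProduct.AlgebraTensorModule.ext fun c a => ?_
    rw [Module.End.mul_apply, LinearMap.baseChange_tmul, LinearMap.baseChange_tmul,
      LinearMap.baseChange_tmul]
    rfl
  map_zero' := by simp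
  map_add' f g := by simp

theorem extEnd_injective : Function.Injective (extEnd v A k) := by
  intro f g h
  refine AddMonoidHom.ext fun a => sub_eq_zero.mp ?_
  refine (Module.forall_dual_apply_eq_zero_iff (ZMod v) (f a - g a)).mp fun φ => ?_
  have h1 := congrArg (fun t : k ⊗[ZMod v] A => TensorProduct.rid (ZMod v) k (φ.lTensor k t))
    (LinearMap.congr_fun h ((1 : k) ⊗ₜ[ZMod v] a))
  simp only [extEnd, RingHom.coe_mk, MonoidHom.coe_mk, OneHom.coe_mk, LinearMap.baseChange_tmul,
    LinearMap.lTensor_tmul, TensorProduct.rid_tmul, Algebra.smul_def, mul_one] at h1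
  have h2 := (algebraMap (ZMod v) k).injective h1
  rw [map_sub, sub_eq_zero]
  exact h2

theorem exists_rep_aux [Finite A] :
    ∃ (M : Type u) (_ : AddCommGroup M) (_ : Module (AlgebraicClosure (ZMod v)) M)
      (_ : FiniteDimensional (AlgebraicClosure (ZMod v)) M)
      (L : AddMonoid.End A →+* Module.End (AlgebraicClosure (ZMod v)) M), Function.Injective L := by
  exact ⟨AlgebraicClosure (ZMod v) ⊗[ZMod v] A, inferInstance, inferInstance, inferInstance,
    extEnd v A _, extEnd_injective v A _⟩

omit [Module (ZMod v) A] in
/-- Endomorphisms of an elementary abelian group act faithfully on a finite-dimensional space over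
an algebraically closed field of the same characteristic. -/
theorem exists_rep [Finite A] (h : ∀ a : A, v • a = 0) :
    ∃ (M : Type u) (_ : AddCommGroup M) (_ : Module (AlgebraicClosure (ZMod v)) M)
      (_ : FiniteDimensional (AlgebraicClosure (ZMod v)) M)
      (L : AddMonoid.End A →+* Module.End (AlgebraicClosure (ZMod v)) M), Function.Injective L :=
  @exists_rep_aux v _ A _ (AddCommGroup.zmodModule h) _

theorem exists_rep_rank_aux [Finite A] :
    ∃ (M : Type u) (_ : AddCommGroup M) (_ : Module (AlgebraicClosure (ZMod v)) M)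
      (_ : FiniteDimensional (AlgebraicClosure (ZMod v)) M)
      (L : AddMonoid.End A →+* Module.End (AlgebraicClosure (ZMod v)) M), Function.Injective L ∧
      ∀ (f : AddMonoid.End A) (B : AddSubgroup A) (r : ℕ), (∀ a, f a ∈ B) → Nat.card B ≤ v ^ r →
        Module.finrank (AlgebraicClosure (ZMod v)) (LinearMap.range (L f)) ≤ r := by
  refine ⟨AlgebraicClosure (ZMod v) ⊗[ZMod v] A, inferInstance, inferInstance, inferInstance,
    extEnd v A _, extEnd_injective v A _, fun f B r hfB hB => ?_⟩
  set B' : Submodule (ZMod v) A := AddSubgroup.toZModSubmodule v B with hB'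
  have hcomp : endZ v A f = B'.subtype.comp ((endZ v A f).codRestrict B' fun a => hfB a) :=
    (LinearMap.subtype_comp_codRestrict _ _ _).symm
  have h1 : LinearMap.range (extEnd v A (AlgebraicClosure (ZMod v)) f) ≤
      LinearMap.range (B'.subtype.baseChange (AlgebraicClosure (ZMod v))) := by
    change LinearMap.range ((endZ v A f).baseChange _) ≤ _
    rw [hcomp, LinearMap.baseChange_comp]
    exact LinearMap.range_comp_le_range _ _
  refine (Submodule.finrank_mono h1).trans ((LinearMap.finrank_range_le _).trans ?_)
  rw [Module.finrank_baseChange]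
  have hcard : v ^ Module.finrank (ZMod v) B' ≤ v ^ r := by
    have h := Module.natCard_eq_pow_finrank (K := ZMod v) (V := B')
    rw [Nat.card_zmod] at h
    rw [← h]; exact hB
  exact (Nat.pow_le_pow_iff_right (Fact.out : v.Prime).one_lt).mp hcard

omit [Module (ZMod v) A] in
/-- `exists_rep` with control of ranks by the orders of images. -/
theorem exists_rep_rank [Finite A] (h : ∀ a : A, v • a = 0) :
    ∃ (M : Type u) (_ : AddCommGroup M) (_ : Module (AlgebraicClosure (ZMod v)) M)
      (_ : FiniteDimensional (AlgebraicClosure (ZMod v)) M)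
      (L : AddMonoid.End A →+* Module.End (AlgebraicClosure (ZMod v)) M), Function.Injective L ∧
      ∀ (f : AddMonoid.End A) (B : AddSubgroup A) (r : ℕ), (∀ a, f a ∈ B) → Nat.card B ≤ v ^ r →
        Module.finrank (AlgebraicClosure (ZMod v)) (LinearMap.range (L f)) ≤ r :=
  @exists_rep_rank_aux v _ A _ (AddCommGroup.zmodModule h) _

end Cfsg.Agent.Lib.FpfHeight.ScalarExt
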