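/-
A `q`-group with a fixed-point-free automorphism of odd prime power order `p ^ n`, acting faithfully
and compatibly on an elementary abelian group where the operator has no fixed points, is centralized
by the automorphism of order `p`.
-/
import Mathlib.GroupTheory.Commutator.Basic
import Mathlib.GroupTheory.Nilpotent
import Mathlib.GroupTheory.Abelianization.Defs
import Cfsg.Agent.Lib.FpfHeight.Arith
import Cfsg.Agent.Lib.FpfHeight.EigenChar
import Cfsg.Agent.Lib.FpfHeight.Extraspecial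
import Cfsg.Agent.Lib.FpfHeight.ScalarExt
import Cfsg.Agent.Lib.Cores.Basic

set_option autoImplicit false

namespace Cfsg.Agent.Lib.FpfHeight.OddPower

open Cfsg.Agent.Lib.FpfHeight

universe u w

section Helpers

variable {Q : Type u} [Group Q]

/-- The restriction of an automorphism to an invariant subgroup. -/
noncomputable def subAut [Finite Q] (β : MulAut Q) (H : Subgroup Q) (h : ∀ y ∈ H, β y ∈ H) :
    MulAut H :=
  MulEquiv.ofBijective ((β.toMonoidHom.comp H.subtype).codRestrict H (fun y => h y y.2))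
    (Finite.injective_iff_bijective.mp fun _ _ e =>
      Subtype.ext (β.injective (congrArg Subtype.val e)))

theorem coe_subAut_pow [Finite Q] (β : MulAut Q) (H : Subgroup Q) (h : ∀ y ∈ H, β y ∈ H) (i : ℕ)
    (y : H) : (((subAut β H h) ^ i) y : Q) = (β ^ i) (y : Q) := by
  induction i generalizing y with
  | zero => rfl
  | succ i ih => rw [pow_succ, pow_succ, MulAut.mul_apply, MulAut.mul_apply, ih]; rfl

theorem pow_invariant (β : MulAut Q) {H : Subgroup Q} (h : ∀ y ∈ H, β y ∈ H) (i : ℕ) :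
    ∀ y ∈ H, (β ^ i) y ∈ H := by
  induction i with
  | zero => exact fun y hy => hy
  | succ i ih => intro y hy; rw [pow_succ', MulAut.mul_apply]; exact h _ (ih y hy)

theorem pow_apply_fixed {α : MulAut Q} {y : Q} (h : α y = y) (a : ℕ) : (α ^ a) y = y := by
  induction a with
  | zero => rfl
  | succ a ih => rw [pow_succ, MulAut.mul_apply, h, ih]

theorem pow_apply_mul {α : MulAut Q} {y c : Q} (h1 : α y = y * c) (h2 : α c = c) (a : ℕ) :
    (α ^ a) y = y * c ^ a := by
  induction a with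
  | zero => simp
  | succ a ih => rw [pow_succ', MulAut.mul_apply, ih, map_mul, map_pow, h1, h2, mul_assoc, ← pow_succ']

theorem pow_inv_mul_mem (α : MulAut Q) {R : Subgroup Q} (hR : ∀ r ∈ R, α r ∈ R) {y : Q}
    (h : y⁻¹ * α y ∈ R) (a : ℕ) : y⁻¹ * (α ^ a) y ∈ R := by
  induction a with
  | zero => simp [R.one_mem]
  | succ a ih =>
    rw [pow_succ', MulAut.mul_apply]
    have h1 := R.mul_mem h (hR _ ih)
    rwa [map_mul, map_inv, mul_assoc, mul_inv_cancel_left] at h1

theorem eq_one_of_pow_eq_one {q p : ℕ} [Fact q.Prime] (hp : p.Prime) (hqp : q ≠ p)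
    (hQ : IsPGroup q Q) {c : Q} (h : c ^ p = 1) : c = 1 := by
  obtain ⟨a, ha⟩ := hQ c
  have h1 := Nat.dvd_gcd (orderOf_dvd_of_pow_eq_one ha) (orderOf_dvd_of_pow_eq_one h)
  have h2 : Nat.gcd (q ^ a) p = 1 :=
    Nat.Coprime.pow_left a ((Nat.coprime_primes Fact.out hp).mpr hqp)
  rw [h2, Nat.dvd_one] at h1
  exact orderOf_eq_one_iff.mp h1

/-- Commutators inside a central subgroup are multiplicative. -/
theorem com_mul (hc : ∀ u y : Q, u * y * u⁻¹ * y⁻¹ ∈ Subgroup.center Q) (u y z : Q) :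
    u * (y * z) * u⁻¹ * (y * z)⁻¹ = (u * y * u⁻¹ * y⁻¹) * (u * z * u⁻¹ * z⁻¹) := by
  have h1 : u * (y * z) * u⁻¹ * (y * z)⁻¹ =
      (u * y * u⁻¹ * y⁻¹) * (y * (u * z * u⁻¹ * z⁻¹) * y⁻¹) := by group
  rw [h1, Subgroup.mem_center_iff.mp (hc u z) y, mul_inv_cancel_right]

end Helpers

section Abelian

variable {Q : Type u} [Group Q] [Finite Q] {V : Type w} [CommGroup V] [Finite V]

/-- The abelian case. -/
theorem fixed_of_commutative {q p n : ℕ} [Fact q.Prime] (hp : p.Prime) (hqp : q ≠ p)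
    (hQ : IsPGroup q Q) (hQV : (Nat.card Q).Coprime (Nat.card V))
    (β : MulAut Q) (hβ : β ^ p ^ n = 1) (hn : 0 < n)
    (φ : Q →* MulAut V) (hφ : Function.Injective φ) (s : MulAut V)
    (hs : ∀ y, s * φ y * s⁻¹ = φ (β y)) (hsP : s ^ p ^ n = 1) (hsf : ∀ w, s w = w → w = 1)
    (hcomm : ∀ a b : Q, a * b = b * a) : ∀ y, (β ^ p ^ (n - 1)) y = y := by
  set x := β ^ p ^ (n - 1) with hx
  have hxp : x ^ p = 1 := by rw [hx, ← pow_mul, ← pow_succ, Nat.sub_add_cancel hn, hβ]
  let T : Q →* Q :=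
    { toFun := fun a => x a * a⁻¹
      map_one' := by simp
      map_mul' := fun a b => by
        rw [map_mul, mul_inv_rev, hcomm b⁻¹ a⁻¹, mul_assoc, mul_assoc, ← mul_assoc (x b),
          hcomm (x b) a⁻¹, mul_assoc] }
  have hxβ : ∀ a, x (β a) = β (x a) := fun a => by
    rw [← MulAut.mul_apply, ← MulAut.mul_apply, hx, ← pow_succ, ← pow_succ']
  have hsi : ∀ (i : ℕ) (a : Q), s ^ i * φ a * (s ^ i)⁻¹ = φ ((β ^ i) a) := by
    intro i
    induction i with
    | zero => intro a; simp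
    | succ i ih =>
      intro a
      rw [pow_succ' β, MulAut.mul_apply, ← hs, ← ih, pow_succ']
      group
  intro y
  have hTy : T y = 1 := by
    refine hφ (MulEquiv.ext fun w => congrArg Additive.toMul
      (DFunLike.congr_fun (?_ : Basic.toEnd (φ (T y)) = Basic.toEnd (φ 1)) (Additive.ofMul w)))
    rw [map_one, map_one, ← sub_eq_zero]
    refine Basic.eq_zero_of_coprime_natCast_mul
      (k := Nat.card (T.range.map φ)) (Nat.Coprime.coprime_dvd_left ?_ hQV) ?_
    · exact (Subgroup.card_map_dvd _ φ).trans (Subgroup.card_subgroup_dvd_card _)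
    have h := Basic.frob_op (Basic.toEnd (V := V)) (T.range.map φ) s (n := p ^ n)
      (pow_pos hp.pos n)
      (by
        rintro _ ⟨_, ⟨a, rfl⟩, rfl⟩
        refine ⟨T (β a), ⟨β a, rfl⟩, ?_⟩
        rw [hs]
        exact congrArg φ (show x (β a) * (β a)⁻¹ = β (x a * a⁻¹) by rw [map_mul, map_inv, hxβ]))
      (by
        rintro i hi hin _ ⟨_, ⟨a, rfl⟩, rfl⟩ he
        rw [hsi] at he
        have he' : (β ^ i) (T a) = T a := hφ he
        obtain ⟨c, hc⟩ := Arith.exists_mul_mod_eq hp hi hin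
        have hxT : x (T a) = T a := by
          rw [hx, ← hc, ← pow_eq_pow_mod _ hβ, pow_mul]
          exact pow_apply_fixed he' c
        have h1 : x a = a * T a := by rw [hcomm a]; exact (inv_mul_cancel_right (x a) a).symm
        have h2 := pow_apply_mul h1 hxT p
        rw [hxp, MulAut.one_apply, left_eq_mul] at h2
        rw [eq_one_of_pow_eq_one hp hqp hQ h2, map_one])
      1 (fun _ _ => Commute.one_left _) (by rw [one_mul, Basic.sum_pow_eq_zero s hsP hsf])
      (φ (T y)) ⟨T y, ⟨y, rfl⟩, rfl⟩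
    rwa [one_mul] at h
  exact mul_inv_eq_one.mp hTy

end Abelian

section Linear

variable {k : Type*} [Field k] {M : Type*} [AddCommGroup M] [Module k M]

/-- The joint eigenspace of a character. -/
def eigSub {Z : Type*} [Group Z] (ρ : Z →* Module.End k M) (μ : Z →* k) : Submodule k M :=
  ⨅ z, Module.End.eigenspace (ρ z) (μ z)

theorem mem_eigSub {Z : Type*} [Group Z] {ρ : Z →* Module.End k M} {μ : Z →* k} {w : M} :
    w ∈ eigSub ρ μ ↔ ∀ z, ρ z w = μ z • w := by
  simp [eigSub, Submodule.mem_iInf]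

/-- The representation on an invariant subspace. -/
def resRep {Q : Type*} [Group Q] (ρ : Q →* Module.End k M) (W : Submodule k M)
    (h : ∀ y, ∀ w ∈ W, ρ y w ∈ W) : Q →* Module.End k W where
  toFun y := (ρ y).restrict (h y)
  map_one' := LinearMap.ext fun u => Subtype.ext (by simp [LinearMap.restrict_apply])
  map_mul' y z := LinearMap.ext fun u => Subtype.ext (by simp [LinearMap.restrict_apply])

theorem pow_semiconj {Q : Type*} [Group Q] {ρ : Q →* Module.End k M} {S : Module.End k M}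
    {β : MulAut Q} (hS : ∀ y, S * ρ y = ρ (β y) * S) (i : ℕ) (y : Q) :
    S ^ i * ρ y = ρ ((β ^ i) y) * S ^ i := by
  induction i generalizing y with
  | zero => simp
  | succ i ih => rw [pow_succ, pow_succ, MulAut.mul_apply, mul_assoc, hS, ← mul_assoc, ih, mul_assoc]

theorem apply_sum_pow_fixed {S : Module.End k M} {N : ℕ} (hS : S ^ N = 1) (w : M) :
    S ((∑ i ∈ Finset.range N, S ^ i) w) = (∑ i ∈ Finset.range N, S ^ i) w := by
  have h := LinearMap.congr_fun (mul_geom_sum S N) w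
  rw [hS, sub_self, LinearMap.zero_apply, Module.End.mul_apply, LinearMap.sub_apply,
    Module.End.one_apply, sub_eq_zero] at h
  exact h

theorem char_pow_apply {Z : Type*} [Group Z] {α : MulAut Z} {μ : Z →* k}
    (h : ∀ z, μ (α z) = μ z) (a : ℕ) (z : Z) : μ ((α ^ a) z) = μ z := by
  induction a generalizing z with
  | zero => rfl
  | succ a ih => rw [pow_succ, MulAut.mul_apply, ih, h]

end Linear

section Core

variable {Q : Type u} [Group Q] [Finite Q] {k : Type*} [Field k] [IsAlgClosed k]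
variable {M : Type*} [AddCommGroup M] [Module k M] [FiniteDimensional k M]

open Subgroup (center)

/-- The minimal nonabelian case cannot occur. -/
theorem core {q p n : ℕ} [Fact q.Prime] (hp : p.Prime) (hp2 : p ≠ 2)
    (hn : 0 < n) (hQ : IsPGroup q Q) (hqk : (q : k) ≠ 0) (hpk : (p : k) ≠ 0)
    (β : MulAut Q) (hβ : β ^ p ^ n = 1) (hβf : ∀ y, β y = y → y = 1)
    (hcom : ∀ u y : Q, u * y * u⁻¹ * y⁻¹ ∈ center Q)
    (hb : ∀ H : Subgroup Q, (∀ y ∈ H, β y ∈ H) → H ≠ ⊤ → H ≤ center Q)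
    (hc : ∀ y, y⁻¹ * (β ^ p ^ (n - 1)) y ∈ center Q → y ∈ center Q)
    (ρ : Q →* Module.End k M) (hρ : Function.Injective ρ) (S : Module.End k M)
    (hS : ∀ y, S * ρ y = ρ (β y) * S) (hsum : ∑ i ∈ Finset.range (p ^ n), S ^ i = 0)
    (hSP : S ^ p ^ n = 1) (u₀ y₀ : Q) (hne : u₀ * y₀ * u₀⁻¹ * y₀⁻¹ ≠ 1) : False := by
  classical
  set x := β ^ p ^ (n - 1) with hx
  set Z := center Q with hZdef
  have hfixM : ∀ w : M, S w = w → w = 0 := by
    intro w hw
    have hi : ∀ i : ℕ, (S ^ i) w = w := fun i => by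
      induction i with
      | zero => rfl
      | succ i ih => rw [pow_succ, Module.End.mul_apply, hw, ih]
    have h := LinearMap.congr_fun hsum w
    rw [LinearMap.sum_apply, Finset.sum_congr rfl fun i _ => hi i, Finset.sum_const,
      Finset.card_range, LinearMap.zero_apply, ← Nat.cast_smul_eq_nsmul k, Nat.cast_pow] at h
    exact (smul_eq_zero.mp h).resolve_left (pow_ne_zero _ hpk)
  have hcardsub : ∀ H : Subgroup Q, (Nat.card H : k) ≠ 0 := fun H => by
    obtain ⟨a, ha⟩ := IsPGroup.iff_card.mp (hQ.to_subgroup H)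
    rw [ha, Nat.cast_pow]
    exact pow_ne_zero _ hqk
  have hZinv : ∀ y ∈ Z, β y ∈ Z := Basic.apply_mem_of_char β Z
  set βZ := subAut β Z hZinv with hβZ
  have hβZP : βZ ^ p ^ n = 1 := MulEquiv.ext fun z => Subtype.ext (by
    rw [hβZ, coe_subAut_pow, hβ]; rfl)
  set ρZ : Z →* Module.End k M := ρ.comp Z.subtype with hρZ
  have hSZ : ∀ z : Z, S * ρZ z = ρZ (βZ z) * S := fun z => hS z
  -- a joint eigenvector of the center
  let comZ : Q → Q → Z := fun u y => ⟨u * y * u⁻¹ * y⁻¹, hcom u y⟩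
  set z₀ : Z := comZ u₀ y₀ with hz₀
  have hzcomm : ∀ (z : Z) (y : Q), ρ (z : Q) * ρ y = ρ y * ρ (z : Q) := fun z y => by
    rw [← map_mul, ← map_mul, Subgroup.mem_center_iff.mp z.2 y]
  obtain ⟨w₀, lam, hw₀W, hw₀, hlam⟩ := EigenChar.exists_common_eigenvector ρZ
    (fun a b => hzcomm a b) (LinearMap.range (ρZ z₀ - 1))
    (by
      intro h
      rw [LinearMap.range_eq_bot, sub_eq_zero, ← map_one ρ] at h
      exact hne (hρ h))
    (by
      rintro a _ ⟨u, rfl⟩
      refine ⟨ρZ a u, ?_⟩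
      rw [LinearMap.sub_apply, LinearMap.sub_apply, Module.End.one_apply, Module.End.one_apply,
        map_sub]
      exact congrArg (· - _) (LinearMap.congr_fun (hzcomm z₀ a) u))
  have hlz : lam z₀ ≠ 1 := by
    intro h1
    obtain ⟨u, hu⟩ := hw₀W
    rw [LinearMap.sub_apply, Module.End.one_apply] at hu
    have h2 := hlam z₀
    rw [h1, one_smul, ← hu] at h2
    have h3 := EigenChar.eq_of_apply_sub_fixed (ρZ z₀) (o := Nat.card Z)
      (by rw [← map_pow, pow_card_eq_one', map_one]) (hcardsub Z) u h2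
    exact hw₀ (by rw [← hu, h3, sub_self])
  -- the stabilizer of the character
  let St : ℕ → Prop := fun i => ∀ z : Z, lam ((βZ ^ i) z) = lam z
  have hStmul : ∀ a c, St a → St (a * c) := fun a c ha z => by
    rw [pow_mul]; exact char_pow_apply ha c z
  have hStcancel : ∀ a b, St (a + b) → St a → St b := fun a b hab ha z => by
    have h := hab z
    rw [pow_add, MulAut.mul_apply, ha] at h
    exact h
  have hex : ∃ i, 0 < i ∧ St i := ⟨p ^ n, pow_pos hp.pos n, fun z => by rw [hβZP]; rfl⟩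
  obtain ⟨hj0, hStj⟩ := Nat.find_spec hex
  have hjmin : ∀ i, 0 < i → i < Nat.find hex → ¬ St i := fun i hi hlt h =>
    Nat.find_min hex hlt ⟨hi, h⟩
  set j := Nat.find hex
  have hjdvd : j ∣ p ^ n := by
    refine Nat.dvd_of_mod_eq_zero (Nat.eq_zero_of_not_pos fun hpos =>
      hjmin _ hpos (Nat.mod_lt _ hj0) (hStcancel (j * (p ^ n / j)) _ ?_ (hStmul j _ hStj)))
    rw [Nat.div_add_mod]
    intro z; rw [hβZP]; rfl
  obtain ⟨f, hfn, hjf⟩ := (Nat.dvd_prime_pow hp).mp hjdvd
  have hf : f < n := by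
    refine lt_of_le_of_ne hfn fun hfn' => ?_
    obtain ⟨i, hi, hiP, hif⟩ := EigenChar.exists_fixing_power ρZ (hcardsub Z) S βZ hSZ
      (pow_pos hp.pos n) hsum hw₀ hlam
    exact hjmin i hi (by rw [hjf, hfn']; exact hiP) hif
  set P := p ^ (n - f) with hP
  have hjP : j * P = p ^ n := by rw [hjf, hP, ← pow_add, Nat.add_sub_cancel' hf.le]
  have hjx : j * p ^ (n - f - 1) = p ^ (n - 1) := by
    rw [hjf, ← pow_add]; congr 1; omega
  set β' := β ^ j with hβ'
  set S' := S ^ j with hS'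
  have hβ'P : β' ^ P = 1 := by rw [hβ', ← pow_mul, hjP, hβ]
  have hS'P : S' ^ P = 1 := by rw [hS', ← pow_mul, hjP, hSP]
  have hxβ' : ∀ y, x (β' y) = β' (x y) := fun y => by
    rw [hx, hβ', ← MulAut.mul_apply, ← MulAut.mul_apply, ← pow_add, ← pow_add, Nat.add_comm]
  -- the eigenspace of the character
  set W := eigSub ρZ lam with hWdef
  have hWQ : ∀ y, ∀ w ∈ W, ρ y w ∈ W := by
    intro y w hw
    rw [hWdef, mem_eigSub] at hw ⊢
    intro z
    have h := LinearMap.congr_fun (hzcomm z y) w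
    rw [Module.End.mul_apply, Module.End.mul_apply] at h
    rw [← map_smul, ← hw z]
    exact h
  have hlamj : ∀ z : Z, lam ((βZ ^ j) z) = lam z := hStj
  have hWS : ∀ w ∈ W, S' w ∈ W := by
    intro w hw
    rw [hWdef, mem_eigSub] at hw ⊢
    intro z
    obtain ⟨z', rfl⟩ := (βZ ^ j).surjective z
    have h := LinearMap.congr_fun (pow_semiconj hSZ j z') w
    rw [Module.End.mul_apply, Module.End.mul_apply, hw, map_smul] at h
    rw [hlamj]; exact h.symm
  have hWfix : ∀ w ∈ W, S' w = w → w = 0 := by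
    intro w hw hSw
    rw [hWdef, mem_eigSub] at hw
    have hu : (∑ i ∈ Finset.range j, S ^ i) w = 0 := by
      refine hfixM _ ?_
      have h := LinearMap.congr_fun (mul_geom_sum S j) w
      rw [Module.End.mul_apply, LinearMap.sub_apply, LinearMap.sub_apply, Module.End.one_apply,
        Module.End.one_apply, ← hS', hSw, sub_self, sub_eq_zero] at h
      exact h
    have h0 := EigenChar.eq_zero_of_sum_eq_zero ρZ (hcardsub Z) (Finset.range j)
      (fun i => lam.comp (βZ ^ i).symm.toMonoidHom) (fun i => (S ^ i) w)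
      (fun i _ z => EigenChar.pow_apply_eigen ρZ S βZ hSZ hw i z) ?_
      (by rw [← LinearMap.sum_apply]; exact hu) 0 (Finset.mem_range.mpr hj0)
    · simpa using h0
    · have key : ∀ a b, a < b → b < j →
          lam.comp (βZ ^ a).symm.toMonoidHom ≠ lam.comp (βZ ^ b).symm.toMonoidHom := by
        intro a b hab hbj heq
        refine hjmin (b - a) (by omega) (by omega) fun z => ?_
        have h1 := DFunLike.congr_fun heq ((βZ ^ b) z)
        simp only [MonoidHom.comp_apply, MulEquiv.coe_toMonoidHom,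
          MulEquiv.symm_apply_apply] at h1
        rw [← h1]
        congr 1
        rw [MulEquiv.eq_symm_apply, ← MulAut.mul_apply, ← pow_add, Nat.add_sub_cancel' hab.le]
      intro a ha b hb' heq
      rw [Finset.mem_range] at ha hb'
      rcases lt_trichotomy a b with h | h | h
      · exact absurd heq (key a b h hb')
      · exact h
      · exact absurd heq.symm (key b a h ha)
  -- the radical of the commutator pairing
  have hcmul : ∀ u y z, comZ u (y * z) = comZ u y * comZ u z := fun u y z =>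
    Subtype.ext (com_mul hcom u y z)
  have hc1 : ∀ u, comZ u 1 = 1 := fun u => Subtype.ext (by simp [comZ])
  let R : Subgroup Q :=
    { carrier := {y | ∀ u, lam (comZ u y) = 1}
      one_mem' := fun u => by rw [hc1, map_one]
      mul_mem' := fun {a b} ha hb u => by rw [hcmul, map_mul, ha, hb, one_mul]
      inv_mem' := fun {a} ha u => by
        have h := congrArg lam (hcmul u a a⁻¹)
        rw [mul_inv_cancel, hc1, map_mul, ha, one_mul, map_one] at h
        exact h.symm }
  have hZR : Z ≤ R := fun z hz u => by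
    rw [show comZ u z = 1 from Subtype.ext (by simp [comZ, Subgroup.mem_center_iff.mp hz u]), map_one]
  haveI : R.Normal := ⟨fun r hr y => by
    have h : y * r * y⁻¹ = (y * r * y⁻¹ * r⁻¹) * r := by group
    rw [h]; exact R.mul_mem (hZR (hcom y r)) hr⟩
  have hy₀ : y₀ ∉ R := fun h => hlz (h u₀)
  have hRtop : R ≠ ⊤ := fun h => hy₀ (h ▸ Subgroup.mem_top y₀)
  have hRinv : ∀ y ∈ R, β' y ∈ R := by
    intro y hy u
    obtain ⟨u', rfl⟩ := β'.surjective u
    have h : comZ (β' u') (β' y) = (βZ ^ j) (comZ u' y) := Subtype.ext (by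
      rw [hβZ, coe_subAut_pow, ← hβ']; simp [comZ])
    rw [h, hlamj]; exact hy u'
  set β'R := subAut β' R hRinv with hβ'R
  have hβ'RP : β'R ^ P = 1 := MulEquiv.ext fun r => Subtype.ext (by
    rw [hβ'R, coe_subAut_pow, hβ'P]; rfl)
  have hcommR : ∀ u, ∀ r ∈ R, ∀ w ∈ W, ρ u (ρ r w) = ρ r (ρ u w) := by
    intro u r hr w hw
    have h : u * r = (comZ u r : Q) * (r * u) := by simp [comZ, mul_assoc]
    rw [← Module.End.mul_apply, ← map_mul, h, map_mul, Module.End.mul_apply,
      ← Module.End.mul_apply (ρ r) (ρ u), ← map_mul]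
    have h2 := (mem_eigSub.mp (hWQ (r * u) w hw)) (comZ u r)
    rw [hr u, one_smul] at h2
    exact h2
  have hW0 : w₀ ∈ W := mem_eigSub.mpr hlam
  set ρW := (resRep ρ W hWQ).comp R.subtype with hρW
  obtain ⟨w₁, μ, -, hw₁, hμw⟩ := EigenChar.exists_common_eigenvector ρW
    (fun a b => LinearMap.ext fun w => Subtype.ext (hcommR a b b.2 w w.2)) ⊤
    (fun h => by
      have hm : (⟨w₀, hW0⟩ : W) ∈ (⊤ : Submodule k W) := Submodule.mem_top
      rw [h, Submodule.mem_bot] at hm
      exact hw₀ (congrArg Subtype.val hm))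
    (fun _ _ _ => Submodule.mem_top)
  have hμZ : ∀ z : Z, μ ⟨z, hZR z.2⟩ = lam z := fun z => by
    refine smul_left_injective k (fun h => hw₁ (Subtype.ext h) : (w₁ : M) ≠ 0) ?_
    change μ _ • (w₁ : M) = lam z • (w₁ : M)
    rw [← mem_eigSub.mp w₁.2 z]
    exact (congrArg Subtype.val (hμw ⟨z, hZR z.2⟩)).symm
  set S'W : Module.End k W := S'.restrict hWS with hS'W
  have hS'Wpow : ∀ (i : ℕ) (w : W), ((S'W ^ i) w : M) = (S' ^ i) (w : M) := by
    intro i
    induction i with
    | zero => intro w; rfl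
    | succ i ih => intro w; rw [pow_succ, pow_succ, Module.End.mul_apply, Module.End.mul_apply, ih]; rfl
  have hsumW : ∑ i ∈ Finset.range P, S'W ^ i = 0 := LinearMap.ext fun w => Subtype.ext <| by
    refine hWfix _ ((∑ i ∈ Finset.range P, S'W ^ i) w).2 ?_
    have h := apply_sum_pow_fixed (S := S'W) (N := P)
      (LinearMap.ext fun w => Subtype.ext (by rw [hS'Wpow, hS'P]; rfl)) w
    exact congrArg Subtype.val h
  obtain ⟨i, hi, hiP, hif⟩ := EigenChar.exists_fixing_power ρW (hcardsub R) S'W β'R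
    (fun r => LinearMap.ext fun w => Subtype.ext
      (LinearMap.congr_fun (pow_semiconj hS j r) (w : M))) (pow_pos hp.pos _) hsumW hw₁ hμw
  obtain ⟨a, ha⟩ := Arith.exists_mul_mod_eq hp hi hiP
  have hμx : ∀ r : R, μ ((β'R ^ p ^ (n - f - 1)) r) = μ r := fun r => by
    rw [← ha, ← pow_eq_pow_mod _ hβ'RP, pow_mul]
    exact char_pow_apply hif a r
  have hxR : ∀ r ∈ R, x r ∈ R := fun r hr => by
    have h := pow_invariant β' hRinv (p ^ (n - f - 1)) r hr
    rwa [hβ', ← pow_mul, hjx] at h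
  have hcoex : ∀ r : R, (((β'R ^ p ^ (n - f - 1)) r : R) : Q) = x r := fun r => by
    rw [hβ'R, coe_subAut_pow, hβ', ← pow_mul, hjx]
  -- commutators with `x` fill `R` modulo the center
  set xq := Basic.quotAut x Z (Basic.apply_mem_of_char x Z) with hxq
  have hxqf : ∀ c, xq c = c → c = 1 := by
    intro c
    obtain ⟨y, rfl⟩ := QuotientGroup.mk_surjective c
    intro he
    rw [hxq, Basic.quotAut_mk] at he
    exact (QuotientGroup.eq_one_iff y).mpr (hc y (QuotientGroup.eq.mp he.symm))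
  have hxqinj : Function.Injective fun c => c⁻¹ * xq c := by
    intro c d hcd
    simp only at hcd
    refine mul_inv_eq_one.mp (hxqf _ ?_)
    rw [map_mul, map_inv, eq_inv_mul_iff_mul_eq.mp hcd.symm |>.symm]
    group
  have hsurjR : ∀ r ∈ R, ∃ a ∈ R, ((a : Q ⧸ Z))⁻¹ * xq a = (r : Q ⧸ Z) := by
    intro r hr
    set R' := R.map (QuotientGroup.mk' Z) with hR'
    let g : R' → R' := fun c => ⟨(c : Q ⧸ Z)⁻¹ * xq c, by
      obtain ⟨_, a, ha, rfl⟩ := c
      refine R'.mul_mem (R'.inv_mem ⟨a, ha, rfl⟩) ⟨x a, hxR a ha, ?_⟩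
      rfl⟩
    obtain ⟨⟨_, a, ha, rfl⟩, hc'⟩ := Finite.surjective_of_injective (f := g)
      (fun c d h => Subtype.ext (hxqinj (congrArg Subtype.val h))) ⟨r, r, hr, rfl⟩
    exact ⟨a, ha, congrArg Subtype.val hc'⟩
  have hμβ : ∀ r : R, μ (β'R r) = μ r := by
    intro r
    obtain ⟨a, ha, hr'⟩ := hsurjR r r.2
    rw [hxq, Basic.quotAut_mk, ← QuotientGroup.mk_inv, ← QuotientGroup.mk_mul,
      QuotientGroup.eq] at hr'
    set z : Z := ⟨_, hr'⟩ with hz
    set a' : R := ⟨a, ha⟩
    have hr2 : r = a'⁻¹ * (β'R ^ p ^ (n - f - 1)) a' * ⟨z, hZR z.2⟩ := Subtype.ext (by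
      simp only [Subgroup.coe_mul, Subgroup.coe_inv, hcoex, hz, a']
      group)
    have hz' : β'R ⟨z, hZR z.2⟩ = ⟨((βZ ^ j) z : Q), hZR ((βZ ^ j) z).2⟩ := Subtype.ext (by
      rw [hβZ, coe_subAut_pow, ← hβ']; rfl)
    have hcm : β'R ((β'R ^ p ^ (n - f - 1)) a') = (β'R ^ p ^ (n - f - 1)) (β'R a') := by
      rw [← MulAut.mul_apply, ← MulAut.mul_apply, ← pow_succ, ← pow_succ']
    have hone : ∀ b : R, μ (b⁻¹ * (β'R ^ p ^ (n - f - 1)) b) = 1 := fun b => by
      rw [map_mul, hμx, ← map_mul, inv_mul_cancel, map_one]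
    conv_rhs => rw [hr2, map_mul, hone, one_mul, hμZ]
    conv_lhs => rw [hr2, map_mul β'R, map_mul β'R, map_inv β'R, hcm, hz', map_mul μ, hone, one_mul, hμZ, hlamj]
  -- apply the extraspecial bound
  set U := eigSub (ρ.comp R.subtype) μ with hUdef
  have hUW : U ≤ W := fun w hw => by
    rw [hUdef, mem_eigSub] at hw
    exact mem_eigSub.mpr fun z => (hw ⟨z, hZR z.2⟩).trans (by rw [hμZ])
  have hUQ : ∀ y, ∀ w ∈ U, ρ y w ∈ U := by
    intro y w hw
    have hwW := hUW hw
    rw [hUdef, mem_eigSub] at hw ⊢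
    intro r
    have h1 : ρ (r : Q) w = μ r • w := hw r
    change ρ (r : Q) (ρ y w) = μ r • ρ y w
    rw [← map_smul, ← h1]
    exact (hcommR y r r.2 w hwW).symm
  have hUS : ∀ w ∈ U, S' w ∈ U := by
    intro w hw
    rw [hUdef, mem_eigSub] at hw ⊢
    intro r
    obtain ⟨r', rfl⟩ := β'R.surjective r
    have h := LinearMap.congr_fun (pow_semiconj hS j r') w
    rw [Module.End.mul_apply, Module.End.mul_apply] at h
    have h1 : ρ (r' : Q) w = μ r' • w := hw r'
    rw [h1, map_smul] at h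
    rw [hμβ]; exact h.symm
  haveI : Nontrivial U := ⟨⟨⟨w₁, mem_eigSub.mpr fun r => congrArg Subtype.val (hμw r)⟩, 0,
    fun h => hw₁ (Subtype.ext (congrArg (fun u : U => (u : M)) h))⟩⟩
  have hRcom : ∀ u y : Q, u * y * u⁻¹ * y⁻¹ ∈ R := fun u y => hZR (hcom u y)
  have hsemi : ∀ i, 0 < i → i < P → ∀ y : Q, y⁻¹ * (β' ^ i) y ∈ R → y ∈ R := by
    intro i hi hiP y hy
    obtain ⟨a, ha⟩ := Arith.exists_mul_mod_eq hp hi hiP
    have h1 := pow_inv_mul_mem (β' ^ i) (pow_invariant β' hRinv i) hy a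
    rw [← pow_mul, pow_eq_pow_mod _ hβ'P, ha, hβ', ← pow_mul, hjx] at h1
    obtain ⟨b, hb', hb2⟩ := hsurjR _ h1
    have h2 : ((b : Q ⧸ Z)) = (y : Q ⧸ Z) := hxqinj (hb2.trans (by
      rw [QuotientGroup.mk_mul, QuotientGroup.mk_inv]; rfl))
    have h3 := hZR (QuotientGroup.eq.mp h2)
    rw [← mul_inv_cancel_left b y]
    exact R.mul_mem hb' h3
  have hsetup : Extraspecial.Setup R β' μ P :=
    { comm := hRcom
      nondeg := fun y hy => by
        have hy' : ¬ ∀ u, lam (comZ u y) = 1 := hy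
        obtain ⟨u, hu⟩ := not_forall.mp hy'
        exact ⟨u, fun h => hu (by rw [← hμZ]; exact h)⟩
      ne_top := hRtop
      inv := hRinv
      fix := fun r => hμβ r
      pow := hβ'P
      semireg := hsemi
      cast_card := by
        obtain ⟨a, ha⟩ := IsPGroup.iff_card.mp hQ
        rw [ha, Nat.cast_pow]; exact pow_ne_zero _ hqk }
  obtain ⟨N, hN, hNP, hPN⟩ := hsetup.bound (by rw [hP, Nat.cast_pow]; exact pow_ne_zero _ hpk) (pow_pos hp.pos _) (ρ := resRep ρ U hUQ)
    (fun r => LinearMap.ext fun w => Subtype.ext ((mem_eigSub.mp w.2) r)) (S'.restrict hUS)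
    (fun y => LinearMap.ext fun w => Subtype.ext (LinearMap.congr_fun (pow_semiconj hS j y) (w : M)))
    (LinearMap.ext fun w => Subtype.ext (by
      have hp' : ∀ (i : ℕ) (w : U), ((S'.restrict hUS ^ i) w : M) = (S' ^ i) (w : M) := by
        intro i
        induction i with
        | zero => intro w; rfl
        | succ i ih => intro w; rw [pow_succ, pow_succ, Module.End.mul_apply, Module.End.mul_apply, ih]; rfl
      rw [hp', hS'P]; rfl))
    (fun w hw => Subtype.ext (hWfix _ (hUW w.2) (congrArg Subtype.val hw)))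
  -- the exceptional parameters
  obtain ⟨a₀, ha₀⟩ := IsPGroup.iff_card.mp hQ
  obtain ⟨m, -, rfl⟩ := (Nat.dvd_prime_pow (Fact.out : q.Prime)).mp
    ((Dvd.intro _ hN.symm).trans (ha₀ ▸ Subgroup.card_quotient_dvd_card R))
  have hm : 0 < m := Nat.pos_of_ne_zero fun h => by
    rw [h, pow_zero, mul_one] at hN
    exact hRtop (Subgroup.index_eq_one.mp hN)
  have hN1 : 1 < q ^ m := Nat.one_lt_pow hm.ne' (Fact.out : q.Prime).one_lt
  have hPeq : P = q ^ m + 1 := by
    rw [show q ^ m * q ^ m - 1 = (q ^ m + 1) * (q ^ m - 1) by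
      rw [← Nat.sq_sub_sq, sq, one_pow]] at hPN
    refine le_antisymm (Nat.le_of_dvd (by omega) ?_) hNP
    refine Nat.Coprime.dvd_of_dvd_mul_right ?_ hPN
    rw [hP]
    refine Nat.Coprime.pow_left _ ((Nat.Prime.coprime_iff_not_dvd hp).mpr fun h1 => ?_)
    have hlt := Nat.le_of_dvd (by omega) ((Nat.Coprime.dvd_of_dvd_mul_left (k := p ^ (n - f))
      (m := q ^ m + 1) (n := q ^ m - 1) ?_ hPN))
    · omega
    refine Nat.Coprime.pow_left _ ((Nat.Prime.coprime_iff_not_dvd hp).mpr fun h2 => ?_)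
    have h4 := Nat.dvd_sub h2 h1
    rw [show q ^ m + 1 - (q ^ m - 1) = 2 by omega] at h4
    exact hp2 ((Nat.prime_dvd_prime_iff_eq hp Nat.prime_two).mp h4)
  have hq2 : q = 2 := by
    have h1 : Odd P := (hp.odd_of_ne_two hp2).pow
    rw [hPeq, Nat.odd_add_one, Nat.not_odd_iff_even, Nat.even_pow] at h1
    exact ((Fact.out : q.Prime).even_iff).mp h1.1
  subst hq2
  -- the exceptional configuration
  let Ψ : Q →* (Fin j → Q ⧸ R) :=
    { toFun := fun y i => ((β ^ (i : ℕ)) y : Q)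
      map_one' := by funext i; simp
      map_mul' := fun a b => by funext i; simp }
  have hkerinv : ∀ y ∈ Ψ.ker, β y ∈ Ψ.ker := by
    intro y hy
    have hy' : ∀ i < j, (β ^ i) y ∈ R := fun i hi =>
      (QuotientGroup.eq_one_iff _).mp (congrFun hy ⟨i, hi⟩)
    refine MonoidHom.mem_ker.mpr (funext fun i => (QuotientGroup.eq_one_iff _).mpr ?_)
    rw [← MulAut.mul_apply, ← pow_succ]
    rcases (show (i : ℕ) + 1 < j ∨ (i : ℕ) + 1 = j by omega) with h | h
    · exact hy' _ h
    · rw [h]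
      exact hRinv y (hy' 0 hj0)
  have hker : Ψ.ker = Z := by
    refine le_antisymm (hb _ hkerinv fun h => hy₀ ?_) fun z hz => ?_
    · exact (QuotientGroup.eq_one_iff _).mp
        (congrFun (h ▸ Subgroup.mem_top y₀ : y₀ ∈ Ψ.ker) ⟨0, hj0⟩)
    · exact MonoidHom.mem_ker.mpr (funext fun i => (QuotientGroup.eq_one_iff _).mpr
        (hZR (pow_invariant β hZinv i z hz)))
  have hZtop : Z ≠ ⊤ := fun h => hy₀ (hZR (h ▸ Subgroup.mem_top y₀))
  haveI : Fintype (Q ⧸ Z) := Fintype.ofFinite _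
  obtain ⟨reps, -, hcount⟩ := Extraspecial.exists_reps (k := k) (P := p ^ n) hZtop hβ
    (fun i hi hiP y hy => by
      obtain ⟨a, ha⟩ := Arith.exists_mul_mod_eq hp hi hiP
      have h1 := pow_inv_mul_mem (β ^ i) (pow_invariant β hZinv i) hy a
      rw [← pow_mul, pow_eq_pow_mod _ hβ, ha] at h1
      exact hc y h1)
    (pow_pos hp.pos n) (Basic.quotAut β Z hZinv) (Basic.quotAut_mk β Z hZinv)
  obtain ⟨d, hd⟩ := IsPGroup.iff_card.mp (hQ.to_quotient Z)
  have hd0 : 0 < d := Nat.pos_of_ne_zero fun h => hZtop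
    (Subgroup.index_eq_one.mp (by rw [Subgroup.index, hd, h, pow_zero]))
  have hdvd : p ^ (n - f + f) ∣ 2 ^ d - 1 := by
    rw [Nat.sub_add_cancel hf.le, ← hd]
    have hle : 1 ≤ reps.card := by
      by_contra h
      rw [show reps.card = 0 by omega, mul_zero] at hcount
      have := hp.one_lt
      have h1 : 0 < Nat.card (Q ⧸ Z) := Nat.card_pos
      have : p ≤ p ^ n := Nat.le_self_pow hn.ne' p
      omega
    refine ⟨reps.card - 1, ?_⟩
    rw [Nat.mul_sub, mul_one]
    have : p ^ n ≤ p ^ n * reps.card := Nat.le_mul_of_pos_right _ hle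
    omega
  have hdd := Arith.two_mul_dvd_of_dvd_two_pow_sub_one hp hp2 hm (by omega) hPeq hd0 hdvd
  have hcardfun : Nat.card (Fin j → Q ⧸ R) = 2 ^ (2 * m * p ^ f) := by
    rw [Nat.card_fun, hN, Nat.card_fin, hjf, ← pow_add, ← pow_mul, two_mul]
  have hrange : Ψ.range = ⊤ := by
    refine Subgroup.eq_top_of_le_card _ ?_
    rw [← Subgroup.index_ker, hker, Subgroup.index, hd, hcardfun]
    exact Nat.pow_le_pow_right (by norm_num) (Nat.le_of_dvd hd0 hdd)
  obtain ⟨y, hy⟩ : (fun i : Fin j => if (i : ℕ) = 0 then (y₀ : Q ⧸ R) else 1) ∈ Ψ.range :=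
    hrange ▸ Subgroup.mem_top _
  have hyR : y ∉ R := fun h => hy₀ <| by
    have h1 := congrFun hy ⟨0, hj0⟩
    simp only [if_true] at h1
    refine (QuotientGroup.eq_one_iff y₀).mp (h1.symm.trans ?_)
    exact (QuotientGroup.eq_one_iff y).mpr h
  have hyi : ∀ i, 0 < i → i < j → (β ^ i) y ∈ R := fun i hi hij => by
    have h1 := congrFun hy ⟨i, hij⟩
    simp only [hi.ne', if_false] at h1
    exact (QuotientGroup.eq_one_iff _).mp h1
  have hyR' : ¬ ∀ u, lam (comZ u y) = 1 := hyR
  obtain ⟨u, hu⟩ := not_forall.mp hyR'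
  let G : Z → k := fun z => ∏ i ∈ Finset.range j, lam ((βZ ^ i) z)
  have hGmul : ∀ a b, G (a * b) = G a * G b := fun a b => by
    simp only [G, map_mul, Finset.prod_mul_distrib]
  have hG1 : ∀ z, G z = 1 := by
    intro z
    have hinj : Function.Injective fun b : Z => b⁻¹ * βZ b := by
      intro c d hcd
      simp only at hcd
      refine mul_inv_eq_one.mp (Subtype.ext (hβf _ (congrArg Subtype.val (?_ :
        βZ (c * d⁻¹) = c * d⁻¹))))
      rw [map_mul, map_inv, eq_inv_mul_iff_mul_eq.mp hcd.symm |>.symm]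
      group
    obtain ⟨b, hb'⟩ := Finite.surjective_of_injective hinj z
    subst hb'
    have hshift : G (βZ b) = G b := by
      simp only [G]
      obtain ⟨j', hj'⟩ : ∃ j', j = j' + 1 := ⟨j - 1, by omega⟩
      rw [hj', Finset.prod_range_succ, Finset.prod_range_succ']
      congr 1
      rw [← MulAut.mul_apply, ← pow_succ, ← hj', hlamj]; rfl
    change G (b⁻¹ * βZ b) = 1
    rw [hGmul, hshift, ← hGmul, inv_mul_cancel]
    simp [G]
  have hGu := hG1 (comZ u y)
  simp only [G] at hGu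
  rw [Finset.prod_eq_single_of_mem 0 (Finset.mem_range.mpr hj0)] at hGu
  · exact hu (by simpa using hGu)
  · intro i hi hi0
    have h : (βZ ^ i) (comZ u y) = comZ ((β ^ i) u) ((β ^ i) y) := Subtype.ext (by
      rw [hβZ, coe_subAut_pow]; simp [comZ])
    rw [h]
    exact hyi i (Nat.pos_of_ne_zero hi0) (Finset.mem_range.mp hi) _

end Core

section Main

/-- The automorphism of order `p` acts trivially. -/
theorem fixed_of_faithful {Q : Type u} [Group Q] [Finite Q] {V : Type w} [CommGroup V] [Finite V]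
    {q v p n : ℕ} [Fact q.Prime] [Fact v.Prime] (hp : p.Prime) (hp2 : p ≠ 2) (hqp : q ≠ p)
    (hqv : q ≠ v) (hvp : v ≠ p) (hn : 0 < n) (hV : ∀ a : V, a ^ v = 1) (hQ : IsPGroup q Q)
    (β : MulAut Q) (hβ : β ^ p ^ n = 1) (hβf : ∀ y, β y = y → y = 1)
    (φ : Q →* MulAut V) (hφ : Function.Injective φ) (s : MulAut V)
    (hs : ∀ y, s * φ y * s⁻¹ = φ (β y)) (hsP : s ^ p ^ n = 1) (hsf : ∀ a, s a = a → a = 1) :
    ∀ y, (β ^ p ^ (n - 1)) y = y := by
  induction hcard : Nat.card Q using Nat.strong_induction_on generalizing Q with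
  | _ c ih =>
  subst hcard
  set x := β ^ p ^ (n - 1) with hx
  have hVp : IsPGroup v V := fun a => ⟨1, by rw [pow_one]; exact hV a⟩
  have hxp : x ^ p = 1 := by rw [hx, ← pow_mul, ← pow_succ, Nat.sub_add_cancel hn, hβ]
  -- proper invariant subgroups are fixed pointwise
  have hprop : ∀ H : Subgroup Q, (∀ y ∈ H, β y ∈ H) → H ≠ ⊤ → ∀ y ∈ H, x y = y := by
    intro H hH hHt y hy
    have hlt : Nat.card H < Nat.card Q :=
      lt_of_le_of_ne (Subgroup.card_le_card_group H) fun h => hHt (Subgroup.eq_top_of_card_eq H h)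
    have h := ih _ hlt (hQ.to_subgroup H) (subAut β H hH)
      (MulEquiv.ext fun z => Subtype.ext (by rw [coe_subAut_pow, hβ]; rfl))
      (fun z hz => Subtype.ext (hβf _ (congrArg Subtype.val hz)))
      (φ.comp H.subtype) (hφ.comp H.subtype_injective) (fun z => hs z) rfl ⟨y, hy⟩
    have h2 := congrArg Subtype.val h
    rwa [coe_subAut_pow] at h2
  by_contra hnot
  push_neg at hnot
  obtain ⟨y₁, hy₁⟩ := hnot
  have hxβ : ∀ a, x (β a) = β (x a) := fun a => by
    rw [← MulAut.mul_apply, ← MulAut.mul_apply, hx, ← pow_succ, ← pow_succ']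
  by_cases hcomm : ∀ a b : Q, a * b = b * a
  · obtain ⟨a, ha⟩ := IsPGroup.iff_card.mp hQ
    obtain ⟨b, hb⟩ := IsPGroup.iff_card.mp hVp
    exact hy₁ (fixed_of_commutative hp hqp hQ
      (by rw [ha, hb]; exact Nat.coprime_pow_primes a b Fact.out Fact.out hqv)
      β hβ hn φ hφ s hs hsP hsf hcomm y₁)
  -- `Q` is generated by the elements `y⁻¹ * x y`
  have hgen : Subgroup.closure (Set.range fun y => y⁻¹ * x y) = ⊤ := by
    by_contra hne
    set C := Subgroup.closure (Set.range fun y => y⁻¹ * x y)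
    have hC : ∀ a ∈ C, β a ∈ C := by
      intro a ha
      have hle : C ≤ C.comap β.toMonoidHom := by
        refine (Subgroup.closure_le _).mpr ?_
        rintro _ ⟨y, rfl⟩
        exact Subgroup.subset_closure ⟨β y, show (β y)⁻¹ * x (β y) = β (y⁻¹ * x y) by
          rw [map_mul, map_inv, hxβ]⟩
      exact hle ha
    refine hy₁ ?_
    have hcC : y₁⁻¹ * x y₁ ∈ C := Subgroup.subset_closure ⟨y₁, rfl⟩
    have hfix := hprop C hC hne _ hcC
    have h1 : x y₁ = y₁ * (y₁⁻¹ * x y₁) := by group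
    have h2 := pow_apply_mul h1 hfix p
    rw [hxp, MulAut.one_apply, left_eq_mul] at h2
    exact (inv_mul_eq_one.mp (eq_one_of_pow_eq_one hp hqp hQ h2)).symm
  -- the fixed subgroup
  let D : Subgroup Q := x.toMonoidHom.eqLocus (MonoidHom.id Q)
  have hD : ∀ a, a ∈ D ↔ x a = a := fun a => Iff.rfl
  haveI : Nontrivial Q := ⟨⟨y₁, x y₁, fun h => hy₁ h.symm⟩⟩
  have hQ'ne : commutator Q ≠ ⊤ := by
    intro h
    haveI := hQ.isNilpotent
    haveI : Group.IsSolvable Q := inferInstance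
    exact (Group.IsSolvable.commutator_lt_top_of_nontrivial Q).ne h
  have hQ'D : commutator Q ≤ D := fun a ha => hprop _ (Basic.apply_mem_of_char β _) hQ'ne a ha
  have hDnorm : ∀ d ∈ D, ∀ y : Q, y⁻¹ * d * y ∈ D := fun d hd y => by
    have h : y⁻¹ * d * y = (y⁻¹ * d * y * d⁻¹) * d := by group
    rw [h]
    exact D.mul_mem (hQ'D (by
      rw [commutator_eq_closure]
      exact Subgroup.subset_closure ⟨y⁻¹, d, by simp [commutatorElement_def]⟩)) hd
  have hDcen : D ≤ Subgroup.center Q := by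
    intro d hd
    have hle : Subgroup.closure (Set.range fun y => y⁻¹ * x y) ≤ Subgroup.centralizer {d} := by
      refine (Subgroup.closure_le _).mpr ?_
      rintro _ ⟨y, rfl⟩
      rw [SetLike.mem_coe, Subgroup.mem_centralizer_iff]
      intro e he
      rw [Set.mem_singleton_iff.mp he]
      have h := (hD _).mp (hDnorm d hd y⁻¹)
      rw [inv_inv, map_mul, map_mul, map_inv, (hD d).mp hd] at h
      calc d * (y⁻¹ * x y) = y⁻¹ * (y * d * y⁻¹) * x y := by group
        _ = y⁻¹ * (x y * d * (x y)⁻¹) * x y := by rw [h]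
        _ = y⁻¹ * x y * d := by group
    rw [hgen] at hle
    rw [Subgroup.mem_center_iff]
    intro g
    exact (Subgroup.mem_centralizer_iff.mp (hle (Subgroup.mem_top g)) d rfl).symm
  have hcom : ∀ u y : Q, u * y * u⁻¹ * y⁻¹ ∈ Subgroup.center Q := fun u y => hDcen (hQ'D (by
    rw [commutator_eq_closure]
    exact Subgroup.subset_closure ⟨u, y, by simp [commutatorElement_def]⟩))
  have hb : ∀ H : Subgroup Q, (∀ y ∈ H, β y ∈ H) → H ≠ ⊤ → H ≤ Subgroup.center Q :=
    fun H hH hHt a ha => hDcen (hprop H hH hHt a ha)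
  have hZne : Subgroup.center Q ≠ ⊤ := fun h => hcomm fun a b =>
    Subgroup.mem_center_iff.mp (h ▸ Subgroup.mem_top b) a
  have hc : ∀ y, y⁻¹ * x y ∈ Subgroup.center Q → y ∈ Subgroup.center Q := by
    intro y hy
    have hfix := hprop _ (Basic.apply_mem_of_char β _) hZne _ hy
    have h1 : x y = y * (y⁻¹ * x y) := by group
    have h2 := pow_apply_mul h1 hfix p
    rw [hxp, MulAut.one_apply, left_eq_mul] at h2
    exact hDcen ((inv_mul_eq_one.mp (eq_one_of_pow_eq_one hp hqp hQ h2)).symm)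
  obtain ⟨u₀, y₀, hne⟩ : ∃ u y : Q, u * y * u⁻¹ * y⁻¹ ≠ 1 := by
    by_contra h
    push_neg at h
    exact hcomm fun a b => mul_inv_eq_iff_eq_mul.mp (mul_inv_eq_one.mp (h a b))
  -- extend scalars
  have hzero : ∀ a : Additive V, v • a = 0 := fun a =>
    congrArg Additive.ofMul (hV (Additive.toMul a))
  have hcast : ∀ r : ℕ, r.Prime → r ≠ v → (r : AlgebraicClosure (ZMod v)) ≠ 0 := fun r hr hrv h =>
    hrv ((Nat.prime_dvd_prime_iff_eq Fact.out hr).mp
      ((CharP.cast_eq_zero_iff (AlgebraicClosure (ZMod v)) v r).mp h)).symm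
  have key : ∀ (M : Type w) [AddCommGroup M] [Module (AlgebraicClosure (ZMod v)) M]
      [FiniteDimensional (AlgebraicClosure (ZMod v)) M]
      (L : AddMonoid.End (Additive V) →+* Module.End (AlgebraicClosure (ZMod v)) M),
      Function.Injective L → False := by
    intro M _ _ _ L hL
    let Λ : MulAut V →* Module.End (AlgebraicClosure (ZMod v)) M := L.toMonoidHom.comp (Basic.toEnd (V := V))
    have hΛ : Function.Injective Λ := hL.comp fun a b h => MulEquiv.ext fun w =>
      congrArg Additive.toMul (DFunLike.congr_fun h (Additive.ofMul w))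
    refine core hp hp2 hn hQ (hcast q Fact.out hqv) (hcast p hp hvp.symm) β hβ hβf hcom hb hc
      (Λ.comp φ) (hΛ.comp hφ) (Λ s) (fun y => ?_) ?_ (by rw [← map_pow, hsP, map_one]) u₀ y₀ hne
    · change Λ s * Λ (φ y) = Λ (φ (β y)) * Λ s
      rw [← map_mul, ← map_mul, ← hs, inv_mul_cancel_right]
    · have h := congrArg L (Basic.sum_pow_eq_zero s hsP hsf)
      rw [map_sum, map_zero] at h
      rw [← h]
      exact Finset.sum_congr rfl fun i _ => (map_pow Λ s i).symm
  obtain ⟨M, iA, iM, iF, L, hL⟩ := ScalarExt.exists_rep v (Additive V) hzero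
  exact key M L hL

end Main

end Cfsg.Agent.Lib.FpfHeight.OddPower
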