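/-
A finite solvable group with trivial odd core, more than one involution and a single class of
involutions has a normal Sylow `2`-subgroup.
-/
import Cfsg.Agent.S3798
import Cfsg.Agent.Lib.FpfHeight.AnisoQuadratic
import Cfsg.Agent.Lib.FpfHeight.Generation
import Cfsg.Agent.Lib.FpfHeight.OddPower
import Cfsg.Agent.Lib.SquareMaps.Basic
import Cfsg.Agent.Lib.Coprime.Commutator
import Mathlib.GroupTheory.Frattini

set_option autoImplicit false

namespace Cfsg.Agent.Lib.FpfHeight.InvolutionConj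

open Cfsg.Agent.Lib
open Cfsg.Agent.Lib.FpfHeight.Basic
open Subgroup (normalizer centralizer)
open scoped IsMulCommutative

universe u

theorem eq_one_of_two_pow {G : Type*} [Group G] {c : G} {a o : ℕ} (h2 : c ^ 2 ^ a = 1)
    (ho : c ^ o = 1) (hodd : Odd o) : c = 1 := by
  have h := Nat.dvd_gcd (orderOf_dvd_of_pow_eq_one h2) (orderOf_dvd_of_pow_eq_one ho)
  rw [((Nat.coprime_two_left.mpr hodd).pow_left a).gcd_eq_one, Nat.dvd_one] at h
  exact orderOf_eq_one_iff.mp h

/-- A nontrivial `2`-element has a power of order two. -/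
theorem exists_involution_pow {G : Type*} [Group G] {T : Subgroup G} (hT : IsPGroup 2 T) {x : G}
    (hx : x ∈ T) (hne : x ≠ 1) : ∃ i : ℕ, x ^ i ≠ 1 ∧ (x ^ i) ^ 2 = 1 := by
  classical
  have hex : ∃ a : ℕ, x ^ 2 ^ a = 1 := (hT ⟨x, hx⟩).imp fun a ha => congrArg Subtype.val ha
  have h0 : Nat.find hex ≠ 0 := fun h => hne (by simpa [h] using Nat.find_spec hex)
  refine ⟨2 ^ (Nat.find hex - 1), Nat.find_min hex (by omega), ?_⟩
  rw [← pow_mul, ← pow_succ, show Nat.find hex - 1 + 1 = Nat.find hex by omega]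
  exact Nat.find_spec hex

/-- The odd core contains its centralizer when the `2`-core is trivial. -/
theorem centralizer_pPrimeCore_le {H : Type u} [Group H] [Finite H] [Group.IsSolvable H]
    (h : pCore 2 H = ⊥) :
    centralizer (pPrimeCore 2 H : Set H) ≤ pPrimeCore 2 H := by
  have hF : fittingSubgroup H ≤ pPrimeCore 2 H := by
    rw [Cores.fittingSubgroup_eq_iSup_pCore]
    refine iSup_le fun q => ?_
    haveI : Fact (q : ℕ).Prime := ⟨q.2⟩
    by_cases hq : (q : ℕ) = 2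
    · rw [hq, h]; exact bot_le
    refine Cores.le_pPrimeCore (hN := inferInstance) ?_
    obtain ⟨a, ha⟩ := IsPGroup.iff_card.mp (Cores.pCore_isPGroup (G := H) (q : ℕ))
    rw [ha]
    exact ((Nat.coprime_primes q.2 Nat.prime_two).mpr hq).pow_left a
  exact ((Subgroup.centralizer_le hF).trans Cores.centralizer_fittingSubgroup_le).trans hF

/-- Structure of a subgroup on which the odd group acts quadratically, fed to the main lemma. -/
theorem quadratic_contradiction {G : Type u} [Group G] [Finite G] (T V M Ls E Y : Subgroup G)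
    [V.Normal] (hT : IsPGroup 2 T) (hMT : M ≤ T) (hVM : V ≤ M)
    (hV2 : ∀ v ∈ V, v ^ 2 = 1) (hinv : ∀ x : G, x ^ 2 = 1 → x ∈ V)
    (hVT : ∀ v ∈ V, ∀ t ∈ T, t * v = v * t)
    (hMc : ∀ x ∈ M, ∀ y ∈ M, x * y * x⁻¹ * y⁻¹ ∈ V) (hMsq : ∀ x ∈ M, x ^ 2 ∈ V)
    (hLs : Odd (Nat.card Ls)) (hLsV : ∀ l ∈ Ls, ∀ v ∈ V, l * v = v * l)
    (hE : IsPGroup 2 E) (hEV : ∀ e ∈ E, ∀ v ∈ V, e * v = v * e)
    (hEY : E ≤ Y) (hYE : Y ≤ normalizer (E : Set G)) (hYLs : Y ≤ normalizer (Ls : Set G))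
    (hgen : ⁅Ls, E⁆ = Ls) (hLsM : Ls ≤ normalizer (M : Set G))
    (hYM : Y ≤ normalizer (M : Set G))
    (htrans : ∀ a ∈ V, ∀ b ∈ V, a ≠ 1 → b ≠ 1 → ∃ y ∈ Y, y * a * y⁻¹ = b)
    (htwo : 2 < Nat.card V) :
    ∀ l ∈ Ls, ∀ x ∈ M, x⁻¹ * (l * x * l⁻¹) ∈ V := by
  haveI : IsMulCommutative V :=
    ⟨⟨fun a b => Subtype.ext (hVT b b.2 a (hMT (hVM a.2)))⟩⟩
  set Vm := V.subgroupOf M
  haveI : IsMulCommutative (M ⧸ Vm) := ⟨⟨fun a b => by
    obtain ⟨x, rfl⟩ := QuotientGroup.mk_surjective a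
    obtain ⟨y, rfl⟩ := QuotientGroup.mk_surjective b
    rw [← mul_inv_eq_one, ← QuotientGroup.mk_mul, ← QuotientGroup.mk_mul, ← QuotientGroup.mk_inv,
      ← QuotientGroup.mk_mul, QuotientGroup.eq_one_iff, Subgroup.mem_subgroupOf]
    have h := hMc x x.2 y y.2
    simpa [mul_assoc] using h⟩⟩
  let Γ : Subgroup G := normalizer (M : Set G)
  let α : Γ →* MulAut M := M.normalizerMonoidHom
  have hαc : ∀ (g : Γ) (x : M), (α g x : G) = g * x * (g : G)⁻¹ := fun g x => rfl
  have hVm : ∀ g : Γ, ∀ x ∈ Vm, α g x ∈ Vm := fun g x hx =>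
    Subgroup.Normal.conj_mem (H := V) inferInstance _ hx g
  let hW := Generation.quotHom α Vm hVm
  let hVh : Γ →* MulAut V := (MulAut.conjNormal (H := V)).comp Γ.subtype
  let actW : DistribMulAction Γ (Additive (M ⧸ Vm)) :=
    { smul := fun g a => Additive.ofMul (hW g a.toMul)
      one_smul := fun a => by
        change Additive.ofMul (hW 1 a.toMul) = a
        rw [map_one]; rfl
      mul_smul := fun g h a => by
        change Additive.ofMul (hW (g * h) a.toMul) = Additive.ofMul (hW g (hW h a.toMul))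
        rw [map_mul]; rfl
      smul_zero := fun g => congrArg Additive.ofMul (map_one (hW g))
      smul_add := fun g a b => congrArg Additive.ofMul (map_mul (hW g) a.toMul b.toMul) }
  let actV : DistribMulAction Γ (Additive V) :=
    { smul := fun g a => Additive.ofMul (hVh g a.toMul)
      one_smul := fun a => by
        change Additive.ofMul (hVh 1 a.toMul) = a
        rw [map_one]; rfl
      mul_smul := fun g h a => by
        change Additive.ofMul (hVh (g * h) a.toMul) = Additive.ofMul (hVh g (hVh h a.toMul))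
        rw [map_mul]; rfl
      smul_zero := fun g => congrArg Additive.ofMul (map_one (hVh g))
      smul_add := fun g a b => congrArg Additive.ofMul (map_mul (hVh g) a.toMul b.toMul) }
  -- squaring as a quadratic map
  let sq : M → V := fun x => ⟨(x : G) ^ 2, hMsq x x.2⟩
  have hcen : ∀ u y : M, u * y * u⁻¹ * y⁻¹ ∈ Subgroup.center M := fun u y => by
    rw [Subgroup.mem_center_iff]
    exact fun g => Subtype.ext (hVT _ (hMc u u.2 y y.2) g (hMT g.2))
  let cm : M → M → V := fun x y => ⟨(y : G) * x * (y : G)⁻¹ * (x : G)⁻¹, hMc y y.2 x x.2⟩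
  have hsqmul : ∀ x y : M, sq (x * y) = sq x * sq y * cm x y := fun x y => Subtype.ext <| by
    change ((x : G) * y) ^ 2 = (x : G) ^ 2 * (y : G) ^ 2 * ((y : G) * x * (y : G)⁻¹ * (x : G)⁻¹)
    have hc : (y : G) * x * (y : G)⁻¹ * (x : G)⁻¹ ∈ V := hMc y y.2 x x.2
    rw [← hVT _ hc _ (T.mul_mem (T.pow_mem (hMT x.2) 2) (T.pow_mem (hMT y.2) 2)) |>.symm]
    have h1 := hVT _ hc _ (hMT x.2)
    calc ((x : G) * y) ^ 2 = x * (((y : G) * x * (y : G)⁻¹ * (x : G)⁻¹) * x) * y * y := by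
          rw [pow_two]; group
      _ = ((y : G) * x * (y : G)⁻¹ * (x : G)⁻¹) * ((x : G) ^ 2 * (y : G) ^ 2) := by
          rw [← mul_assoc (x : G), h1, pow_two, pow_two]
          group
  have hcmV : ∀ x : M, ∀ v ∈ Vm, cm x v = 1 := fun x v hv => Subtype.ext <| by
    change (v : G) * x * (v : G)⁻¹ * (x : G)⁻¹ = 1
    rw [show (v : G) * x = x * v from (hVT _ hv _ (hMT x.2)).symm, mul_inv_cancel_right,
      mul_inv_cancel]
  let q : Additive (M ⧸ Vm) → Additive V := fun a =>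
    Additive.ofMul (Quotient.liftOn' a.toMul sq fun x y hxy => by
      rw [QuotientGroup.leftRel_apply] at hxy
      have h : y = x * (x⁻¹ * y) := by group
      rw [h, hsqmul, hcmV x _ hxy,
        show sq (x⁻¹ * y) = 1 from Subtype.ext (hV2 _ hxy), mul_one, mul_one])
  have hqmk : ∀ x : M, q (Additive.ofMul (x : M ⧸ Vm)) = Additive.ofMul (sq x) := fun x => rfl
  have hcm_right : ∀ x y z : M, cm x (y * z) = cm x y * cm x z := fun x y z => Subtype.ext <| by
    change ((y : G) * z) * x * ((y : G) * z)⁻¹ * (x : G)⁻¹ = _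
    have hz : (z : G) * x * (z : G)⁻¹ * (x : G)⁻¹ ∈ V := hMc z z.2 x x.2
    calc ((y : G) * z) * x * ((y : G) * z)⁻¹ * (x : G)⁻¹
        = ((y : G) * ((z : G) * x * (z : G)⁻¹ * (x : G)⁻¹)) * x * (y : G)⁻¹ * (x : G)⁻¹ := by group
      _ = (((z : G) * x * (z : G)⁻¹ * (x : G)⁻¹) * y) * x * (y : G)⁻¹ * (x : G)⁻¹ := by
          rw [hVT _ hz _ (hMT y.2)]
      _ = ((z : G) * x * (z : G)⁻¹ * (x : G)⁻¹) * ((y : G) * x * (y : G)⁻¹ * (x : G)⁻¹) := by group
      _ = _ := hVT _ (hMc y y.2 x x.2) _ (hMT (hVM hz))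
  have hcm_left : ∀ x y z : M, cm (x * y) z = cm x z * cm y z := fun x y z => Subtype.ext
    (congrArg Subtype.val (OddPower.com_mul hcen z x y) : _)
  let b : Additive (M ⧸ Vm) → Additive (M ⧸ Vm) → Additive V := fun a c => q (a + c) - q a - q c
  have hb : ∀ x y : M, b (Additive.ofMul (x : M ⧸ Vm)) (Additive.ofMul (y : M ⧸ Vm)) =
      Additive.ofMul (cm x y) := fun x y => by
    change q (Additive.ofMul ((x * y : M) : M ⧸ Vm)) - _ - _ = _
    rw [hqmk, hqmk, hqmk, hsqmul, ofMul_mul, ofMul_mul]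
    abel
  let B : Additive (M ⧸ Vm) →+ Additive (M ⧸ Vm) →+ Additive V :=
    AddMonoidHom.mk' (fun a => AddMonoidHom.mk' (b a) fun c d => by
      obtain ⟨x, rfl⟩ := Additive.ofMul.surjective a
      obtain ⟨y, rfl⟩ := Additive.ofMul.surjective c
      obtain ⟨z, rfl⟩ := Additive.ofMul.surjective d
      obtain ⟨x, rfl⟩ := QuotientGroup.mk_surjective x
      obtain ⟨y, rfl⟩ := QuotientGroup.mk_surjective y
      obtain ⟨z, rfl⟩ := QuotientGroup.mk_surjective z
      rw [← ofMul_mul, ← QuotientGroup.mk_mul, hb, hb, hb, hcm_right, ofMul_mul])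
      fun a c => AddMonoidHom.ext fun d => by
      obtain ⟨x, rfl⟩ := Additive.ofMul.surjective a
      obtain ⟨y, rfl⟩ := Additive.ofMul.surjective c
      obtain ⟨z, rfl⟩ := Additive.ofMul.surjective d
      obtain ⟨x, rfl⟩ := QuotientGroup.mk_surjective x
      obtain ⟨y, rfl⟩ := QuotientGroup.mk_surjective y
      obtain ⟨z, rfl⟩ := QuotientGroup.mk_surjective z
      change b _ _ = b _ _ + b _ _
      rw [← ofMul_mul, ← QuotientGroup.mk_mul, hb, hb, hb, hcm_left, ofMul_mul]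
  have hW2 : ∀ w : Additive (M ⧸ Vm), w + w = 0 := fun w => by
    obtain ⟨x, rfl⟩ := Additive.ofMul.surjective w
    obtain ⟨x, rfl⟩ := QuotientGroup.mk_surjective x
    rw [← ofMul_mul, ← QuotientGroup.mk_mul, ← ofMul_one]
    refine congrArg Additive.ofMul ((QuotientGroup.eq_one_iff _).mpr ?_)
    rw [Subgroup.mem_subgroupOf, Subgroup.coe_mul, ← pow_two]
    exact hMsq x x.2
  have hEΓ : E ≤ Γ := hEY.trans hYM
  let restr : Subgroup G → Subgroup Γ := fun X => X.subgroupOf Γ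
  have hmap : ∀ X : Subgroup G, X ≤ Γ → (restr X).map Γ.subtype = X := fun X hX =>
    Subgroup.map_subgroupOf_eq_of_le hX
  have hnorm : ∀ X Z : Subgroup G, Z ≤ normalizer (X : Set G) →
      restr Z ≤ normalizer (restr X : Set Γ) := fun X Z h g hg =>
    Subgroup.mem_normalizer_iff.mpr fun x => Subgroup.mem_normalizer_iff.mp (h hg) x
  have hsmulW : ∀ (g : Γ) (x : M),
      g • Additive.ofMul (x : M ⧸ Vm) = Additive.ofMul ((α g x : M) : M ⧸ Vm) := fun g x => rfl
  have hfixW : ∀ (g : Γ) (x : M), (g • Additive.ofMul (x : M ⧸ Vm) = Additive.ofMul (x : M ⧸ Vm) ↔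
      (x : G)⁻¹ * ((g : G) * x * (g : G)⁻¹) ∈ V) := fun g x => by
    rw [hsmulW]
    exact ⟨fun h => (QuotientGroup.eq (s := Vm)).mp (Additive.ofMul.injective h).symm,
      fun h => congrArg Additive.ofMul ((QuotientGroup.eq (s := Vm)).mpr h).symm⟩
  have main := AnisoQuadratic.trivial_of_transitive (Γ := Γ) hW2
    (fun a => congrArg Additive.ofMul (Subtype.ext ((pow_two _).symm.trans (hV2 _ a.toMul.2)) :
      a.toMul * a.toMul = (1 : V)))
    q B (fun a c => by
      change q (a + c) = q a + q c + (q (a + c) - q a - q c)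
      abel)
    (fun a ha => by
      obtain ⟨x, rfl⟩ := Additive.ofMul.surjective a
      obtain ⟨x, rfl⟩ := QuotientGroup.mk_surjective x
      rw [hqmk] at ha
      refine congrArg Additive.ofMul ((QuotientGroup.eq_one_iff x).mpr (hinv _ ?_))
      exact congrArg Subtype.val (Additive.ofMul.injective ha))
    (fun g a => by
      obtain ⟨x, rfl⟩ := Additive.ofMul.surjective a
      obtain ⟨x, rfl⟩ := QuotientGroup.mk_surjective x
      rw [hsmulW, hqmk, hqmk]
      refine congrArg Additive.ofMul (Subtype.ext ?_)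
      change ((α g x : M) : G) ^ 2 = (g : G) * (x : G) ^ 2 * (g : G)⁻¹
      rw [hαc, conj_pow])
    (restr Ls) (restr E) (restr Y)
    (by rwa [Nat.card_congr (Subgroup.subgroupOfEquivOfLe hLsM).toEquiv])
    (hE.of_equiv (Subgroup.subgroupOfEquivOfLe hEΓ).symm)
    (fun l hl a => congrArg Additive.ofMul (Subtype.ext (by
      change (l : G) * (a.toMul : G) * (l : G)⁻¹ = _
      exact (congrArg (· * (l : G)⁻¹) (hLsV _ hl _ a.toMul.2)).trans
        (mul_inv_cancel_right _ _))))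
    (fun l hl a => congrArg Additive.ofMul (Subtype.ext (by
      change (l : G) * (a.toMul : G) * (l : G)⁻¹ = _
      exact (congrArg (· * (l : G)⁻¹) (hEV _ hl _ a.toMul.2)).trans
        (mul_inv_cancel_right _ _))))
    (hnorm Ls E (hEY.trans hYLs)) (hnorm E Y hYE) (hnorm Ls Y hYLs)
    (by
      rw [← Subgroup.map_le_map_iff_of_injective Γ.subtype_injective, Subgroup.map_commutator,
        hmap _ hLsM, hmap _ hEΓ, hgen])
    (fun a c ha hc => by
      obtain ⟨y, hy, hyac⟩ := htrans a.toMul a.toMul.2 c.toMul c.toMul.2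
        (fun h => ha (congrArg Additive.ofMul (Subtype.ext h : a.toMul = 1)))
        (fun h => hc (congrArg Additive.ofMul (Subtype.ext h : c.toMul = 1)))
      exact ⟨⟨y, hYM hy⟩, hy, congrArg Additive.ofMul (Subtype.ext hyac)⟩)
    ?_
  · intro l hl x hx
    exact (hfixW ⟨l, hLsM hl⟩ ⟨x, hx⟩).mp (main _ hl _)
  -- the image of `E` has more than two elements
  intro e he hne
  by_contra hcon
  push_neg at hcon
  obtain ⟨w₀, hw₀⟩ := hne
  obtain ⟨r, hr, hrdvd⟩ := Nat.exists_prime_and_dvd (show Nat.card V - 1 ≠ 1 by omega)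
  haveI := Fact.mk hr
  obtain ⟨R⟩ : Nonempty (Sylow r Y) := inferInstance
  let ι : R.toSubgroup →* normalizer (E : Set G) :=
    (Subgroup.inclusion hYE).comp R.toSubgroup.subtype
  let βR : R.toSubgroup →* MulAut E := E.normalizerMonoidHom.comp ι
  let E' : Subgroup E :=
    { carrier := {x | ∀ w : Additive (M ⧸ Vm), (⟨(x : G), hEΓ x.2⟩ : Γ) • w = w}
      one_mem' := fun w => one_smul Γ w
      mul_mem' := fun {a c} ha hc w => by
        have := (mul_smul (⟨(a : G), hEΓ a.2⟩ : Γ) ⟨(c : G), hEΓ c.2⟩ w)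
        rw [hc w, ha w] at this
        exact this
      inv_mem' := fun {a} ha w => by
        change (⟨(a : G), hEΓ a.2⟩ : Γ)⁻¹ • w = w
        rw [inv_smul_eq_iff, ha w] }
  let e₀ : E := ⟨(e : G), he⟩
  have hrV : r ≠ 2 := by
    rintro rfl
    obtain ⟨a, ha⟩ := IsPGroup.iff_card.mp (hT.to_le (hVM.trans hMT))
    have ha0 : a ≠ 0 := fun h => by rw [h, pow_zero] at ha; omega
    have h2 : 2 ∣ Nat.card V := ha ▸ dvd_pow_self 2 ha0
    omega
  have hconjw : ∀ (y : R.toSubgroup) (x : E) (w : Additive (M ⧸ Vm)),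
      (⟨((βR y x : E) : G), hEΓ (βR y x).2⟩ : Γ) • w =
        (⟨((y : Y) : G), hYM (y : Y).2⟩ : Γ) • ((⟨(x : G), hEΓ x.2⟩ : Γ) •
          ((⟨((y : Y) : G), hYM (y : Y).2⟩ : Γ)⁻¹ • w)) := fun y x w => by
    rw [← mul_smul, ← mul_smul]; rfl
  obtain ⟨z, hz, hfix⟩ := Generation.exists_fixed_of_coprime R.isPGroup' βR E'
    (fun y x hx w => by rw [hconjw, hx, smul_inv_smul])
    (by
      obtain ⟨a, ha⟩ := IsPGroup.iff_card.mp (hE.to_subgroup E')
      rw [ha]
      exact ((Nat.coprime_primes hr Nat.prime_two).mpr hrV).pow_right a)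
    e₀ (fun y w => by
      change ((⟨(e : G), hEΓ he⟩ : Γ)⁻¹ * (⟨((βR y e₀ : E) : G), hEΓ (βR y e₀).2⟩ : Γ)) • w = w
      rw [mul_smul, inv_smul_eq_iff]
      refine hcon ⟨_, hEΓ (βR y e₀).2⟩ (βR y e₀).2 ⟨(⟨_, hYM (y : Y).2⟩ : Γ) • w₀, ?_⟩ w
      rw [hconjw, inv_smul_smul]
      exact fun h => hw₀ (smul_left_cancel _ h))
  have hx1 : ((e₀ * z : E) : G) ≠ 1 := by
    intro h
    refine hw₀ ?_
    have h1 : e * (⟨(z : G), hEΓ z.2⟩ : Γ) = 1 := Subtype.ext h
    have h2 := congrArg (· • w₀) h1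
    simp only [mul_smul, one_smul, hz w₀] at h2
    exact h2
  obtain ⟨i, hi1, hi2⟩ := exists_involution_pow hE (e₀ * z).2 hx1
  set v := ((e₀ * z : E) : G) ^ i with hv
  have hvV : v ∈ V := hinv _ hi2
  have hvR : ∀ y : R.toSubgroup, ((y : Y) : G) * v * ((y : Y) : G)⁻¹ = v := fun y => by
    rw [hv, ← conj_pow]
    exact congrArg (· ^ i) (congrArg Subtype.val (hfix y))
  -- transitivity makes `r` divide the index of `R`
  let actY : MulAction Y {a : V // a ≠ 1} :=
    { smul := fun y a => ⟨MulAut.conjNormal (y : G) (a : V), fun h => a.2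
        (by simpa using h)⟩
      one_smul := fun a => Subtype.ext (by
        change MulAut.conjNormal ((1 : Y) : G) (a : V) = a
        simp)
      mul_smul := fun y y' a => Subtype.ext (by
        change MulAut.conjNormal ((y * y' : Y) : G) (a : V) = _
        rw [Subgroup.coe_mul, map_mul]; rfl) }
  let a₀ : {a : V // a ≠ 1} := ⟨⟨v, hvV⟩, fun h => hi1 (congrArg Subtype.val h)⟩
  haveI : MulAction.IsPretransitive Y {a : V // a ≠ 1} := ⟨fun a c => by
    obtain ⟨y, hy, hyac⟩ := htrans _ (a : V).2 _ (c : V).2 (fun h => a.2 (Subtype.ext h))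
      (fun h => c.2 (Subtype.ext h))
    exact ⟨⟨y, hy⟩, Subtype.ext (Subtype.ext hyac)⟩⟩
  have hidx := MulAction.index_stabilizer_of_transitive Y a₀
  have hcardsub : Nat.card {a : V // a ≠ 1} = Nat.card V - 1 := by
    classical
    haveI := Fintype.ofFinite V
    rw [Nat.card_eq_fintype_card, Nat.card_eq_fintype_card, Fintype.card_subtype_compl,
      Fintype.card_subtype_eq]
  have hle : R.toSubgroup ≤ MulAction.stabilizer Y a₀ := fun y hy =>
    Subtype.ext (Subtype.ext (hvR ⟨y, hy⟩))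
  refine R.not_dvd_index (dvd_trans ?_ (Subgroup.index_dvd_of_le hle))
  rw [hidx, hcardsub]
  exact hrdvd

/-- A single class of involutions, more than one involution and no odd core: the `2`-core has odd
index. -/
theorem odd_index_pCore {G : Type u} [Group G] [Finite G] [Group.IsSolvable G]
    (hcore : pPrimeCore 2 G = ⊥)
    (hconj : ∀ x y : G, x ≠ 1 → x ^ 2 = 1 → y ≠ 1 → y ^ 2 = 1 → IsConj x y)
    (htwo : ∃ x y : G, x ≠ y ∧ x ≠ 1 ∧ x ^ 2 = 1 ∧ y ≠ 1 ∧ y ^ 2 = 1) :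
    Odd (pCore 2 G).index := by
  by_contra hnot
  rw [Nat.not_odd_iff_even] at hnot
  haveI : Fact (Nat.Prime 2) := ⟨Nat.prime_two⟩
  obtain ⟨a₀, b₀, hab, ha₀, ha₀2, hb₀, hb₀2⟩ := htwo
  haveI : Nontrivial G := ⟨⟨a₀, 1, ha₀⟩⟩
  have hGs : Cfsg.IsPSolvable 2 G := PSolvable.isPSolvable_of_isSolvable
  set T := pCore 2 G with hTdef
  have hT : IsPGroup 2 T := Cores.pCore_isPGroup 2
  have hTne : T ≠ ⊥ := PSolvable.pCore_ne_bot hGs hcore
  have hconj' : ∀ x y : G, x ≠ 1 → x ^ 2 = 1 → y ≠ 1 → y ^ 2 = 1 → ∃ g, g * x * g⁻¹ = y :=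
    fun x y hx hx2 hy hy2 => isConj_iff.mp (hconj x y hx hx2 hy hy2)
  -- the involutions are central in `T`
  obtain ⟨z, hz, hzc, hz1, hz2⟩ : ∃ z ∈ T, (∀ t ∈ T, t * z = z * t) ∧ z ≠ 1 ∧ z ^ 2 = 1 := by
    haveI : Nontrivial T := (Subgroup.nontrivial_iff_ne_bot T).mpr hTne
    haveI := hT.center_nontrivial
    obtain ⟨c, hc⟩ := exists_ne (1 : Subgroup.center T)
    have hc1 : ((c : T) : G) ≠ 1 := fun h => hc (Subtype.ext (Subtype.ext h))
    obtain ⟨i, hi1, hi2⟩ := exists_involution_pow hT (c : T).2 hc1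
    refine ⟨_, T.pow_mem (c : T).2 i, fun t ht => ?_, hi1, hi2⟩
    have h : Commute t ((c : T) : G) := congrArg Subtype.val (Subgroup.mem_center_iff.mp c.2 ⟨t, ht⟩)
    exact (h.pow_right i).eq
  have hall : ∀ x : G, x ^ 2 = 1 → x ∈ T ∧ ∀ t ∈ T, t * x = x * t := by
    intro x hx
    rcases eq_or_ne x 1 with rfl | hx1
    · exact ⟨T.one_mem, fun t _ => by rw [mul_one, one_mul]⟩
    obtain ⟨g, rfl⟩ := hconj' z x hz1 hz2 hx1 hx
    refine ⟨Subgroup.Normal.conj_mem inferInstance z hz g, fun t ht => ?_⟩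
    have h := hzc (g⁻¹ * t * g) (by
      have := Subgroup.Normal.conj_mem (H := T) inferInstance t ht g⁻¹
      rwa [inv_inv] at this)
    calc t * (g * z * g⁻¹) = g * ((g⁻¹ * t * g) * z) * g⁻¹ := by group
      _ = g * z * g⁻¹ * t := by rw [h]; group
  let V : Subgroup G :=
    { carrier := {x | x ^ 2 = 1}
      one_mem' := one_pow 2
      mul_mem' := fun {a b} (ha : a ^ 2 = 1) (hb : b ^ 2 = 1) => by
        have h : Commute a b := (hall b hb).2 a (hall a ha).1
        change (a * b) ^ 2 = 1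
        rw [h.mul_pow, ha, hb, one_mul]
      inv_mem' := fun {a} (ha : a ^ 2 = 1) => by
        change a⁻¹ ^ 2 = 1
        rw [inv_pow, ha, inv_one] }
  have hVmem : ∀ x : G, x ∈ V ↔ x ^ 2 = 1 := fun x => Iff.rfl
  haveI : V.Normal := ⟨fun x hx g => by
    rw [hVmem, conj_pow, (hVmem x).mp hx, mul_one, mul_inv_cancel]⟩
  have hVT : ∀ v ∈ V, ∀ t ∈ T, t * v = v * t := fun v hv => (hall v hv).2
  have hVle : V ≤ T := fun v hv => (hall v hv).1
  have hV3 : 2 < Nat.card V := by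
    classical
    haveI := Fintype.ofFinite V
    rw [Nat.card_eq_fintype_card, Fintype.two_lt_card_iff]
    exact ⟨1, ⟨a₀, ha₀2⟩, ⟨b₀, hb₀2⟩, fun h => ha₀ (congrArg Subtype.val h).symm,
      fun h => hb₀ (congrArg Subtype.val h).symm, fun h => hab (congrArg Subtype.val h)⟩
  -- the quotients
  have hH2 : pCore 2 (G ⧸ T) = ⊥ := Cores.pCore_quotient_pCore 2
  set O := pPrimeCore 2 (G ⧸ T) with hOdef
  set f : G →* (G ⧸ T) ⧸ O := (QuotientGroup.mk' O).comp (QuotientGroup.mk' T) with hf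
  set K := O.comap (QuotientGroup.mk' T) with hK
  have hker : ∀ x : G, f x = 1 ↔ x ∈ K := fun x => QuotientGroup.eq_one_iff _
  have hTK : T ≤ K := QuotientGroup.le_comap_mk' _ _
  have hKcard : (T.subgroupOf K).index.Coprime 2 := by
    have h1 : (T.subgroupOf K).index = Nat.card O := by
      have h2 := Subgroup.relIndex_comap (⊥ : Subgroup (G ⧸ T)) (QuotientGroup.mk' T) K
      rw [MonoidHom.comap_bot, QuotientGroup.ker_mk', hK,
        Subgroup.map_comap_eq_self_of_surjective (QuotientGroup.mk'_surjective T),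
        Subgroup.relIndex_bot_left] at h2
      exact h2
    rw [h1]
    exact Cores.pPrimeCore_coprime 2
  obtain ⟨L', hL'⟩ := Subgroup.exists_right_complement'_of_coprime (N := T.subgroupOf K) (by
    rw [Nat.card_congr (Subgroup.subgroupOfEquivOfLe hTK).toEquiv]
    obtain ⟨k, hk⟩ := IsPGroup.iff_card.mp hT
    rw [hk]
    exact hKcard.symm.pow_left k)
  set L := L'.map K.subtype with hL
  have hLK : L ≤ K := Subgroup.map_subtype_le _
  have hLp : (Nat.card L).Coprime 2 := by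
    rw [Subgroup.card_map_of_injective K.subtype_injective, ← hL'.symm.index_eq_card]
    exact hKcard
  have hLodd : Odd (Nat.card L) := Nat.coprime_two_right.mp hLp
  have hTL : T ⊔ L = K := by
    have h1 := congrArg (Subgroup.map K.subtype) hL'.sup_eq_top
    rwa [Subgroup.map_sup, Subgroup.map_subgroupOf_eq_of_le hTK, ← MonoidHom.range_eq_map,
      Subgroup.range_subtype] at h1
  have hTLbot : ∀ x ∈ T, x ∈ L → x = 1 := fun x hx hxL => by
    obtain ⟨a, ha⟩ := hT ⟨x, hx⟩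
    exact eq_one_of_two_pow (congrArg Subtype.val ha)
      (congrArg Subtype.val (pow_card_eq_one' (x := (⟨x, hxL⟩ : L)))) hLodd
  have hmulK : ∀ x ∈ K, ∃ t ∈ T, ∃ l ∈ L, x = t * l := fun x hx => by
    obtain ⟨t, ht, l, hl, e⟩ := Subgroup.mem_sup_of_normal_left.mp (hTL ▸ hx : x ∈ T ⊔ L)
    exact ⟨t, ht, l, hl, e.symm⟩
  have hfrat := Cfsg.Agent.S3798.frattini_complement G T L hT hLp (hTL ▸ inferInstance)
  set N := normalizer (L : Set G) with hN
  have hLN : L ≤ N := Subgroup.le_normalizer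
  -- elements of `T` in `N` centralize `L`
  have hTN : ∀ t ∈ T, t ∈ N → ∀ l ∈ L, t * l = l * t := fun t ht htn l hl => by
    refine mul_inv_eq_iff_eq_mul.mp (mul_inv_eq_one.mp (hTLbot _ ?_ ?_))
    · rw [show t * l * t⁻¹ * l⁻¹ = t * (l * t⁻¹ * l⁻¹) by group]
      exact T.mul_mem ht (Subgroup.Normal.conj_mem inferInstance _ (T.inv_mem ht) l)
    · exact L.mul_mem ((Subgroup.mem_normalizer_iff.mp htn l).mp hl) (L.inv_mem hl)
  by_cases hB : ∀ v ∈ V, (∀ l ∈ L, l * v = v * l) → v = 1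
  · -- no involution centralizes `L`
    obtain ⟨t, ht⟩ := exists_prime_orderOf_dvd_card' (G := G ⧸ T) 2 hnot.two_dvd
    obtain ⟨g, rfl⟩ := QuotientGroup.mk_surjective t
    obtain ⟨n, hn, hng⟩ := hfrat g
    have hmk : ((n * g : G) : G ⧸ T) = (g : G ⧸ T) := by
      rw [QuotientGroup.mk_mul, (QuotientGroup.eq_one_iff n).mpr hn, one_mul]
    have hsq : (n * g) ^ 2 ∈ T := by
      rw [← QuotientGroup.eq_one_iff, QuotientGroup.mk_pow, hmk]
      exact orderOf_dvd_iff_pow_eq_one.mp ht.dvd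
    have hsq1 : (n * g) ^ 2 = 1 := by
      by_contra hne
      obtain ⟨i, hi1, hi2⟩ := exists_involution_pow hT hsq hne
      refine hi1 (hB _ hi2 fun l hl => ?_)
      exact (Commute.pow_left (hTN _ hsq (N.pow_mem hng 2) l hl) i).eq.symm
    have hmem := (hall _ hsq1).1
    rw [← QuotientGroup.eq_one_iff, hmk] at hmem
    rw [hmem, orderOf_one] at ht
    norm_num at ht
  -- `L` centralizes all involutions
  push_neg at hB
  obtain ⟨v₀, hv₀, hv₀L, hv₀1⟩ := hB
  have hVK : ∀ v ∈ V, ∀ x ∈ K, x * v = v * x := by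
    have h0 : ∀ x ∈ K, x * v₀ = v₀ * x := fun x hx => by
      obtain ⟨t, ht, l, hl, rfl⟩ := hmulK x hx
      exact (Commute.mul_left (hVT v₀ hv₀ t ht) (hv₀L l hl)).eq
    intro v hv x hx
    rcases eq_or_ne v 1 with rfl | hv1
    · rw [mul_one, one_mul]
    obtain ⟨g, rfl⟩ := hconj' v₀ v hv₀1 hv₀ hv1 hv
    have h := h0 (g⁻¹ * x * g) (by
      have := Subgroup.Normal.conj_mem (H := K) inferInstance x hx g⁻¹
      rwa [inv_inv] at this)
    calc x * (g * v₀ * g⁻¹) = g * ((g⁻¹ * x * g) * v₀) * g⁻¹ := by group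
      _ = g * v₀ * g⁻¹ * x := by rw [h]; group
  -- the next layer
  haveI : Nontrivial ((G ⧸ T) ⧸ O) := by
    rw [QuotientGroup.nontrivial_iff]
    intro h
    have h1 : Nat.card O = T.index := by rw [h, Subgroup.card_top]; rfl
    have h2 : (T.index).Coprime 2 := h1 ▸ Cores.pPrimeCore_coprime 2
    exact Nat.not_odd_iff_even.mpr hnot (Nat.coprime_two_right.mp h2)
  set P2 := pCore 2 ((G ⧸ T) ⧸ O) with hP2
  have hP2ne : P2 ≠ ⊥ := PSolvable.pCore_ne_bot
    (PSolvable.isPSolvable_quotient (PSolvable.isPSolvable_quotient hGs T) O)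
    (PSolvable.pPrimeCore_quotient_eq_bot O rfl)
  set N2 := P2.comap f ⊓ N with hN2
  have hN2conj : ∀ n ∈ N, ∀ x ∈ N2, n * x * n⁻¹ ∈ N2 := fun n hn x hx =>
    ⟨Subgroup.Normal.conj_mem (Subgroup.Normal.comap inferInstance f) x hx.1 n,
      N.mul_mem (N.mul_mem hn hx.2) (N.inv_mem hn)⟩
  have hLN2 : L ≤ N2 := fun l hl => ⟨by
    change f l ∈ P2
    rw [(hker l).mpr (hLK hl)]; exact P2.one_mem, hLN hl⟩
  haveI : (L.subgroupOf N2).Normal := Subgroup.normal_subgroupOf_iff_le_normalizer hLN2 |>.mpr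
    inf_le_right
  have hquot : IsPGroup 2 (N2 ⧸ L.subgroupOf N2) := by
    intro y
    obtain ⟨⟨x, hx, hxN⟩, rfl⟩ := QuotientGroup.mk_surjective y
    obtain ⟨a, ha⟩ := Cores.pCore_isPGroup (G := (G ⧸ T) ⧸ O) 2 ⟨f x, hx⟩
    have hxK : x ^ 2 ^ a ∈ K := (hker _).mp (by rw [map_pow]; exact congrArg Subtype.val ha)
    obtain ⟨t, ht, l, hl, e⟩ := hmulK _ hxK
    have htN : t ∈ N := by
      rw [show t = x ^ 2 ^ a * l⁻¹ by rw [e, mul_inv_cancel_right]]
      exact N.mul_mem (N.pow_mem hxN _) (N.inv_mem (hLN hl))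
    obtain ⟨b, hb⟩ := hT ⟨t, ht⟩
    refine ⟨a + b, ?_⟩
    rw [← QuotientGroup.mk_pow, QuotientGroup.eq_one_iff, Subgroup.mem_subgroupOf,
      SubgroupClass.coe_pow, pow_add, pow_mul, e, Commute.mul_pow (hTN t ht htN l hl),
      show t ^ 2 ^ b = 1 from congrArg Subtype.val hb, one_mul]
    exact L.pow_mem hl _
  obtain ⟨P⟩ : Nonempty (Sylow 2 N2) := inferInstance
  set E := (P : Subgroup N2).map N2.subtype with hEdef
  have hEN2 : E ≤ N2 := Subgroup.map_subtype_le _
  have hE : IsPGroup 2 E := P.isPGroup'.map _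
  have hLE : ∀ x ∈ N2, ∃ l ∈ L, ∃ e ∈ E, x = l * e := by
    intro x hx
    have hQ : (P.mapSurjective (QuotientGroup.mk'_surjective (L.subgroupOf N2))).toSubgroup = ⊤ := by
      refine ((P.mapSurjective (QuotientGroup.mk'_surjective (L.subgroupOf N2))).is_maximal'
        ?_ le_top).symm
      exact hquot.of_equiv Subgroup.topEquiv.symm
    have hmem : ((⟨x, hx⟩ : N2) : N2 ⧸ L.subgroupOf N2) ∈
        (P.mapSurjective (QuotientGroup.mk'_surjective (L.subgroupOf N2))).toSubgroup := by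
      rw [hQ]; exact Subgroup.mem_top _
    obtain ⟨e, he, hee⟩ := hmem
    have h := QuotientGroup.eq.mp hee
    refine ⟨x * (e : G)⁻¹, ?_, e, ⟨e, he, rfl⟩, (inv_mul_cancel_right x (e : G)).symm⟩
    have h' : (e : G)⁻¹ * x ∈ L := h
    have := (Subgroup.mem_normalizer_iff.mp (e.2.2 : (e : G) ∈ N) ((e : G)⁻¹ * x)).mp h'
    rwa [mul_inv_cancel_left] at this
  set Y := N ⊓ normalizer (E : Set G) with hYdef
  have hEY : E ≤ Y := le_inf (hEN2.trans inf_le_right) Subgroup.le_normalizer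
  have hNY : ∀ n ∈ N, ∃ x ∈ N2, x * n ∈ Y := by
    intro n hn
    set En := E.map (MulAut.conj n).toMonoidHom
    have hEn : En ≤ N2 := by
      rintro _ ⟨x, hx, rfl⟩
      exact hN2conj n hn x (hEN2 hx)
    let P' : Sylow 2 N2 := Sylow.ofCard (En.subgroupOf N2) (by
      rw [Nat.card_congr (Subgroup.subgroupOfEquivOfLe hEn).toEquiv,
        Subgroup.card_map_of_injective (MulAut.conj n).injective,
        Subgroup.card_map_of_injective N2.subtype_injective]
      exact P.card_eq_multiplicity)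
    obtain ⟨x, hx⟩ := MulAction.exists_smul_eq N2 P' P
    refine ⟨x, x.2, N.mul_mem x.2.2 hn, ?_⟩
    have hx' : ∀ y ∈ En, (x : G) * y * (x : G)⁻¹ ∈ E := by
      intro y hy
      refine ⟨MulAut.conj x ⟨y, hEn hy⟩, ?_, rfl⟩
      have h : MulAut.conj x ⟨y, hEn hy⟩ ∈ ((x • P' : Sylow 2 N2) : Subgroup N2) :=
        Subgroup.smul_mem_pointwise_smul _ _ _ (show (⟨y, hEn hy⟩ : N2) ∈ En.subgroupOf N2 from hy)
      rwa [hx] at h
    refine Subgroup.mem_normalizer_iff_map_conj_eq.mpr ?_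
    refine map_eq_of_invariant (MulAut.conj ((x : G) * n)) fun y hy => ?_
    have := hx' _ ⟨y, hy, rfl⟩
    simpa [MulAut.conj_apply, mul_assoc] using this
  have hdec : ∀ g : G, ∃ t ∈ T, ∃ l ∈ L, ∃ y ∈ Y, g = t * l * y := by
    intro g
    obtain ⟨t, ht, htg⟩ := hfrat g
    obtain ⟨x, hx, hxg⟩ := hNY _ htg
    obtain ⟨l, hl, e, he, hle⟩ := hLE x⁻¹ (N2.inv_mem hx)
    refine ⟨t⁻¹, T.inv_mem ht, l, hl, e * (x * (t * g)), Y.mul_mem (hEY he) hxg, ?_⟩
    calc g = t⁻¹ * (x⁻¹ * (x * (t * g))) := by group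
      _ = _ := by rw [hle]; group
  have htrans : ∀ a ∈ V, ∀ b ∈ V, a ≠ 1 → b ≠ 1 → ∃ y ∈ Y, y * a * y⁻¹ = b := by
    intro a ha b hb ha1 hb1
    obtain ⟨g, hg⟩ := hconj' a b ha1 ha hb1 hb
    obtain ⟨t, ht, l, hl, y, hy, rfl⟩ := hdec g
    refine ⟨y, hy, ?_⟩
    have hyV : y * a * y⁻¹ ∈ V := Subgroup.Normal.conj_mem inferInstance a ha y
    rw [← hg, show t * l * y * a * (t * l * y)⁻¹ = t * (l * (y * a * y⁻¹) * l⁻¹) * t⁻¹ by group,
      hVK _ hyV l (hLK hl), mul_inv_cancel_right, hVT _ hyV t ht, mul_inv_cancel_right]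
  have hEV : ∀ e ∈ E, ∀ v ∈ V, e * v = v * e := by
    let act : MulAction E V :=
      { smul := fun e v => MulAut.conjNormal (e : G) v
        one_smul := fun v => by change MulAut.conjNormal ((1 : E) : G) v = v; simp
        mul_smul := fun e e' v => by
          change MulAut.conjNormal ((e * e' : E) : G) v = _
          rw [Subgroup.coe_mul, map_mul]; rfl }
    have h1 : (1 : V) ∈ MulAction.fixedPoints E V := fun e => map_one (MulAut.conjNormal (e : G))
    have hdvd : 2 ∣ Nat.card V := by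
      have h2 : orderOf (⟨a₀, ha₀2⟩ : V) = 2 :=
        orderOf_eq_prime (Subtype.ext ha₀2) (fun h => ha₀ (congrArg Subtype.val h))
      exact h2 ▸ orderOf_dvd_natCard _
    obtain ⟨c, hc, hc1⟩ := hE.exists_fixed_point_of_prime_dvd_card_of_fixed_point V hdvd h1
    have hce : ∀ e ∈ E, e * (c : G) = c * e := fun e he => by
      have h : e * (c : G) * e⁻¹ = c := congrArg Subtype.val (hc ⟨e, he⟩)
      exact mul_inv_eq_iff_eq_mul.mp h
    intro e he v hv
    rcases eq_or_ne v 1 with rfl | hv1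
    · rw [mul_one, one_mul]
    obtain ⟨y, hy, rfl⟩ := htrans c c.2 v hv (fun h => hc1 (Subtype.ext h).symm) hv1
    have h := hce (y⁻¹ * e * y) (by
      have := (Subgroup.mem_normalizer_iff.mp ((normalizer (E : Set G)).inv_mem hy.2) e).mp he
      rwa [inv_inv] at this)
    calc e * (y * c * y⁻¹) = y * ((y⁻¹ * e * y) * c) * y⁻¹ := by group
      _ = y * c * y⁻¹ * e := by rw [h]; group
  have hEL : E ≤ normalizer (L : Set G) := hEY.trans inf_le_left
  set Ls := ⁅L, E⁆ with hLs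
  have hLsL : Ls ≤ L := Coprime.commutator_le_of_le_normalizer hEL
  have hLsodd : Odd (Nat.card Ls) := hLodd.of_dvd_nat (Subgroup.card_dvd_of_le hLsL)
  have hLsne : Ls ≠ ⊥ := by
    intro h
    refine hP2ne ?_
    rw [eq_bot_iff]
    intro c hc
    obtain ⟨x, rfl⟩ := (QuotientGroup.mk'_surjective O).comp (QuotientGroup.mk'_surjective T) c
    obtain ⟨t, ht, htx⟩ := hfrat x
    have hfx : f (t * x) = f x := by rw [map_mul, (hker t).mpr (hTK ht), one_mul]
    obtain ⟨l, hl, e, he, hle⟩ := hLE (t * x) ⟨by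
      change f (t * x) ∈ P2
      rw [hfx]; exact hc, htx⟩
    change f x ∈ (⊥ : Subgroup _)
    rw [Subgroup.mem_bot, ← hfx, hle, map_mul, (hker l).mpr (hLK hl), one_mul, hker]
    refine centralizer_pPrimeCore_le hH2 ?_
    rw [Subgroup.mem_centralizer_iff]
    intro o ho
    obtain ⟨k, rfl⟩ := QuotientGroup.mk'_surjective T o
    obtain ⟨t', ht', l', hl', rfl⟩ := hmulK k ho
    rw [map_mul, show QuotientGroup.mk' T t' = 1 from (QuotientGroup.eq_one_iff t').mpr ht', one_mul,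
      ← map_mul, ← map_mul,
      ← Subgroup.mem_centralizer_iff.mp
        ((Subgroup.commutator_eq_bot_iff_le_centralizer.mp h) hl') e he]
  have hsolv : Group.IsSolvable E ∨ Group.IsSolvable L := Or.inl inferInstance
  have hgen : ⁅Ls, E⁆ = Ls := Coprime.commutator_commutator_eq hEL (by
    obtain ⟨k, hk⟩ := IsPGroup.iff_card.mp hE
    rw [hk]
    exact hLp.symm.pow_left k) hsolv
  have hYLs : Y ≤ normalizer (Ls : Set G) := fun y hy => by
    rw [Subgroup.mem_normalizer_iff_map_conj_eq, hLs, Subgroup.map_commutator,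
      Subgroup.mem_normalizer_iff_map_conj_eq.mp hy.1,
      Subgroup.mem_normalizer_iff_map_conj_eq.mp hy.2]
  -- the minimal subgroup
  let Cand : Subgroup G → Prop := fun X => V ≤ X ∧ X ≤ T ∧ Ls ≤ normalizer (X : Set G) ∧
    Y ≤ normalizer (X : Set G) ∧ ¬ ∀ l ∈ Ls, ∀ x ∈ X, l * x = x * l
  have hTcand : Cand T := ⟨hVle, le_rfl,
    by rw [Subgroup.normalizer_eq_top_iff.mpr inferInstance]; exact le_top,
    by rw [Subgroup.normalizer_eq_top_iff.mpr inferInstance]; exact le_top, fun h => hLsne (by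
      rw [eq_bot_iff]
      intro l hl
      exact Subgroup.mem_bot.mpr (hTLbot l (PSolvable.centralizer_pCore_le hGs hcore
        (Subgroup.mem_centralizer_iff.mpr fun x hx => (h l hl x hx).symm)) (hLsL hl)))⟩
  obtain ⟨M, ⟨hVM, hMT, hLsM, hYM, hMne⟩, hMmin⟩ := exists_minimal_of_wellFoundedLT Cand ⟨T, hTcand⟩
  have hMp : IsPGroup 2 M := hT.to_le hMT
  set M0 := (frattini M).map M.subtype ⊔ V with hM0
  have hM0M : M0 ≤ M := sup_le (Subgroup.map_subtype_le _) hVM
  have hM0norm : normalizer (M : Set G) ≤ normalizer (M0 : Set G) := fun g hg => by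
    rw [Subgroup.mem_normalizer_iff_map_conj_eq]
    refine map_eq_of_invariant (MulAut.conj g) fun x hx => ?_
    obtain ⟨a, ⟨a', ha', rfl⟩, b, hb, rfl⟩ := Subgroup.mem_sup_of_normal_right.mp hx
    rw [map_mul]
    refine M0.mul_mem (le_sup_left (b := V) ⟨M.normalizerMonoidHom ⟨g, hg⟩ a', ?_, rfl⟩)
      (le_sup_right (a := (frattini M).map M.subtype)
        (Subgroup.Normal.conj_mem inferInstance b hb g))
    exact apply_mem_of_char _ _ a' ha'
  have hLsV : ∀ l ∈ Ls, ∀ v ∈ V, l * v = v * l := fun l hl v hv => hVK v hv l (hLK (hLsL hl))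
  have hM0cent : ∀ l ∈ Ls, ∀ x ∈ M0, l * x = x * l := by
    by_contra hne
    have hle : M ≤ M0 := hMmin ⟨le_sup_right, hM0M.trans hMT, hLsM.trans hM0norm,
      hYM.trans hM0norm, hne⟩ hM0M
    have h1 : V.subgroupOf M ⊔ frattini M = ⊤ := by
      rw [eq_top_iff, ← Subgroup.map_le_map_iff_of_injective M.subtype_injective,
        Subgroup.map_sup, Subgroup.map_subgroupOf_eq_of_le hVM, ← MonoidHom.range_eq_map,
        Subgroup.range_subtype, sup_comm]
      exact hle
    have h2 := frattini_nongenerating h1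
    refine hMne fun l hl x hx => hLsV l hl x ?_
    exact (h2 ▸ Subgroup.mem_top (⟨x, hx⟩ : M) : (⟨x, hx⟩ : M) ∈ V.subgroupOf M)
  have hsq0 : ∀ x ∈ M, x ^ 2 ∈ M0 := fun x hx =>
    le_sup_left (b := V) ⟨⟨x, hx⟩ ^ 2, SquareMaps.sq_mem_frattini hMp _, rfl⟩
  -- the subgroup of commutators with `Ls`
  set C := Subgroup.closure {c | ∃ l ∈ Ls, ∃ x ∈ M, x⁻¹ * (l * x * l⁻¹) = c} ⊔ V with hC
  have hCM : C ≤ M := by
    refine sup_le ((Subgroup.closure_le _).mpr ?_) hVM
    rintro _ ⟨l, hl, x, hx, rfl⟩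
    exact M.mul_mem (M.inv_mem hx) ((Subgroup.mem_normalizer_iff.mp (hLsM hl) x).mp hx)
  have hCnorm : ∀ g, g ∈ normalizer (M : Set G) → g ∈ normalizer (Ls : Set G) →
      g ∈ normalizer (C : Set G) := fun g hg hg' => by
    rw [Subgroup.mem_normalizer_iff_map_conj_eq]
    refine Subgroup.eq_of_le_of_card_ge ?_
      (by rw [Subgroup.card_map_of_injective (MulAut.conj g).injective])
    rw [hC, Subgroup.map_sup, MonoidHom.map_closure]
    refine sup_le_sup (Subgroup.closure_mono ?_) ?_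
    · rintro _ ⟨_, ⟨l, hl, x, hx, rfl⟩, rfl⟩
      refine ⟨g * l * g⁻¹, (Subgroup.mem_normalizer_iff.mp hg' l).mp hl, g * x * g⁻¹,
        (Subgroup.mem_normalizer_iff.mp hg x).mp hx, ?_⟩
      simp [MulAut.conj_apply, mul_assoc]
    · rintro _ ⟨b, hb, rfl⟩
      exact Subgroup.Normal.conj_mem inferInstance b hb g
  have hMC : M ≤ C := by
    refine hMmin ⟨le_sup_right, hCM.trans hMT,
      fun l hl => hCnorm l (hLsM hl) (Subgroup.le_normalizer hl),
      fun y hy => hCnorm y (hYM hy) (hYLs hy), fun hcent => hMne fun l hl x hx => ?_⟩ hCM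
    set c := x⁻¹ * (l * x * l⁻¹) with hc
    have hcC : c ∈ C := le_sup_left (b := V) (Subgroup.subset_closure ⟨l, hl, x, hx, rfl⟩)
    have hfixc : l * c * l⁻¹ = c := by rw [hcent l hl c hcC, mul_inv_cancel_right]
    have h1 := OddPower.pow_apply_mul (α := MulAut.conj l) (y := x) (c := c)
      (by rw [MulAut.conj_apply, hc, mul_inv_cancel_left]) (by rw [MulAut.conj_apply, hfixc])
      (Nat.card Ls)
    rw [← map_pow, show l ^ Nat.card Ls = 1 from
      congrArg Subtype.val (pow_card_eq_one' (x := (⟨l, hl⟩ : Ls))), map_one, MulAut.one_apply,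
      left_eq_mul] at h1
    obtain ⟨a, ha⟩ := hMp ⟨c, hCM hcC⟩
    have hc1 : c = 1 := eq_one_of_two_pow (congrArg Subtype.val ha) h1 hLsodd
    rw [hc, inv_mul_eq_one, eq_mul_inv_iff_mul_eq] at hc1
    exact hc1.symm
  -- `M0` is central
  have hcent0 : ∀ d ∈ M0, ∀ x ∈ M, x * d = d * x := by
    intro d hd
    have hle : C ≤ centralizer {d} := by
      refine sup_le ((Subgroup.closure_le _).mpr ?_) fun v hv => ?_
      · rintro _ ⟨l, hl, x, hx, rfl⟩
        have hd' : x * d * x⁻¹ ∈ M0 :=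
          (Subgroup.mem_normalizer_iff.mp (hM0norm (Subgroup.le_normalizer hx)) d).mp hd
        have h1 : l * d * l⁻¹ = d := by rw [hM0cent l hl d hd, mul_inv_cancel_right]
        have h2 : l * (x * d * x⁻¹) * l⁻¹ = x * d * x⁻¹ := by
          rw [hM0cent l hl _ hd', mul_inv_cancel_right]
        rw [SetLike.mem_coe, Subgroup.mem_centralizer_singleton_iff]
        calc x⁻¹ * (l * x * l⁻¹) * d = x⁻¹ * (l * x * l⁻¹) * (l * d * l⁻¹) := by rw [h1]
          _ = x⁻¹ * (l * (x * d * x⁻¹) * l⁻¹) * (l * x * l⁻¹) := by group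
          _ = d * (x⁻¹ * (l * x * l⁻¹)) := by rw [h2]; group
      · rw [Subgroup.mem_centralizer_singleton_iff]
        exact (hVT v hv d (hMT (hM0M hd))).symm
    intro x hx
    exact Subgroup.mem_centralizer_singleton_iff.mp (hle (hMC hx))
  have hMc : ∀ x ∈ M, ∀ y ∈ M, x * y * x⁻¹ * y⁻¹ ∈ V := by
    intro x hx y hy
    have h1 : x * y * x⁻¹ * y⁻¹ ∈ M0 := by
      have h := SquareMaps.commutator_mem (M0.subgroupOf M) (fun a => hsq0 a a.2)
        (⟨x, hx⟩ : M) ⟨y, hy⟩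
      rw [Subgroup.mem_subgroupOf, commutatorElement_def] at h
      exact h
    set k := x * y * x⁻¹ * y⁻¹ with hk
    rw [hVmem, pow_two]
    have hkx : x * k = k * x := hcent0 k h1 x hx
    have hx2 : y * (x * x) = x * x * y := hcent0 (x * x) (pow_two x ▸ hsq0 x hx) y hy
    calc k * k = (x * k * x⁻¹) * k := by rw [hkx, mul_inv_cancel_right]
      _ = x * x * y * (x⁻¹ * x⁻¹) * y⁻¹ := by rw [hk]; group
      _ = 1 := by rw [← hx2]; group
  have hMsq : ∀ x ∈ M, x ^ 2 ∈ V := by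
    let Sq : Subgroup G :=
      { carrier := {x | x ∈ M ∧ x ^ 2 ∈ V}
        one_mem' := ⟨M.one_mem, by rw [one_pow]; exact V.one_mem⟩
        mul_mem' := fun {a b} ha hb => ⟨M.mul_mem ha.1 hb.1, by
          have hk : b * a * b⁻¹ * a⁻¹ ∈ V := hMc b hb.1 a ha.1
          rw [show (a * b) ^ 2 = a * (b * a * b⁻¹ * a⁻¹) * a⁻¹ * (a ^ 2 * b ^ 2) by
            rw [pow_two, pow_two, pow_two]; group]
          exact V.mul_mem (Subgroup.Normal.conj_mem inferInstance _ hk a) (V.mul_mem ha.2 hb.2)⟩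
        inv_mem' := fun {a} ha => ⟨M.inv_mem ha.1, by rw [inv_pow]; exact V.inv_mem ha.2⟩ }
    have hle : C ≤ Sq := by
      refine sup_le ((Subgroup.closure_le _).mpr ?_) fun v hv =>
        ⟨hVM hv, by rw [(hVmem v).mp hv]; exact V.one_mem⟩
      rintro _ ⟨l, hl, x, hx, rfl⟩
      set c := x⁻¹ * (l * x * l⁻¹) with hc
      have hcM : c ∈ M := hCM (le_sup_left (b := V) (Subgroup.subset_closure ⟨l, hl, x, hx, rfl⟩))
      refine ⟨hcM, ?_⟩
      have h1 : (x * c) ^ 2 = x ^ 2 := by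
        rw [hc, mul_inv_cancel_left, conj_pow, hM0cent l hl _ (hsq0 x hx), mul_inv_cancel_right]
      have hk : c * x * c⁻¹ * x⁻¹ ∈ V := hMc c hcM x hx
      have h2 : c ^ 2 = (x ^ 2)⁻¹ * ((x * (c * x * c⁻¹ * x⁻¹) * x⁻¹)⁻¹ * x ^ 2) := by
        conv_rhs => enter [2, 2]; rw [← h1]
        rw [pow_two, pow_two, pow_two]; group
      rw [h2]
      have h3 := Subgroup.Normal.conj_mem inferInstance
        _ (V.inv_mem (Subgroup.Normal.conj_mem inferInstance _ hk x)) (x ^ 2)⁻¹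
      rwa [inv_inv, mul_assoc] at h3
    exact fun x hx => (hle (hMC hx)).2
  have hfin := quadratic_contradiction T V M Ls E Y hT hMT hVM (fun v hv => hv) (fun x hx => hx)
    hVT hMc hMsq hLsodd hLsV hE hEV hEY inf_le_right hYLs hgen hLsM hYM htrans hV3
  -- so `Ls` centralizes `M`
  refine hMne fun l hl x hx => ?_
  set c := x⁻¹ * (l * x * l⁻¹) with hc
  have hcV : c ∈ V := hfin l hl x hx
  have h1 := OddPower.pow_apply_mul (α := MulAut.conj l) (y := x) (c := c)
    (by rw [MulAut.conj_apply, hc, mul_inv_cancel_left])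
    (by rw [MulAut.conj_apply, hLsV l hl c hcV, mul_inv_cancel_right]) (Nat.card Ls)
  rw [← map_pow, show l ^ Nat.card Ls = 1 from
    congrArg Subtype.val (pow_card_eq_one' (x := (⟨l, hl⟩ : Ls))), map_one, MulAut.one_apply,
    left_eq_mul] at h1
  have hc1 : c = 1 := eq_one_of_two_pow (a := 1) (by rw [pow_one]; exact hcV) h1 hLsodd
  rw [hc, inv_mul_eq_one, eq_mul_inv_iff_mul_eq] at hc1
  exact hc1.symm

end Cfsg.Agent.Lib.FpfHeight.InvolutionConj
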