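/-
Lower bounds for the dimension of the centralizer of a nilpotent operator, and the geometric sum in
characteristic two.
-/
import Mathlib.LinearAlgebra.FiniteDimensional.Lemmas
import Mathlib.LinearAlgebra.Dimension.Constructions
import Mathlib.LinearAlgebra.Basis.VectorSpace
import Mathlib.RingTheory.Artinian.Module
import Mathlib.Algebra.Ring.GeomSum
import Mathlib.Algebra.CharP.Two
import Mathlib.Tactic

set_option autoImplicit false

namespace Cfsg.Agent.Lib.FpfHeight.Nilpotent

open Module

universe u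

variable {k : Type*} [Field k]

/-- The operators commuting with `n`. -/
def cent {U : Type*} [AddCommGroup U] [Module k U] (n : Module.End k U) :
    Submodule k (Module.End k U) :=
  LinearMap.ker (LinearMap.mulLeft k n - LinearMap.mulRight k n)

theorem mem_cent {U : Type*} [AddCommGroup U] [Module k U] {n X : Module.End k U} :
    X ∈ cent n ↔ n * X = X * n := by
  simp [cent, sub_eq_zero]

theorem le_finrank_cent {U : Type u} [AddCommGroup U] [Module k U] [FiniteDimensional k U]
    (n : Module.End k U) (m : ℕ) (hn : n ^ m = 0) :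
    finrank k U ^ 2 ≤ m * finrank k (cent n) ∧ finrank k U ≤ finrank k (cent n) := by
  induction m generalizing U with
  | zero =>
    rw [pow_zero] at hn
    have h0 : finrank k U = 0 := by
      haveI : Subsingleton U := subsingleton_of_forall_eq 0 fun x => LinearMap.congr_fun hn x
      exact finrank_zero_of_subsingleton
    simp [h0]
  | succ m ih =>
    set U' := LinearMap.range n with hU'
    have hinv : ∀ x ∈ U', n x ∈ U' := fun x _ => LinearMap.mem_range_self n x
    set n' : Module.End k U' := n.restrict hinv with hn'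
    have hn'pow : n' ^ m = 0 := LinearMap.ext fun x => Subtype.ext (by
      obtain ⟨y, hy⟩ := x.2
      rw [hn', Module.End.pow_restrict, LinearMap.restrict_apply]
      change (n ^ m) (x : U) = 0
      rw [← hy, ← Module.End.mul_apply, ← pow_succ, hn]
      rfl)
    obtain ⟨h1, h2⟩ := ih n' hn'pow
    have hX : ∀ X ∈ cent n, ∀ x ∈ U', X x ∈ U' := by
      rintro X hX _ ⟨y, rfl⟩
      exact ⟨X y, LinearMap.congr_fun (mem_cent.mp hX) y⟩
    let res : cent n →ₗ[k] cent n' :=
      { toFun := fun X => ⟨(X : Module.End k U).restrict (hX X X.2), mem_cent.mpr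
          (LinearMap.ext fun x => Subtype.ext (LinearMap.congr_fun (mem_cent.mp X.2) (x : U)))⟩
        map_add' := fun X Y => Subtype.ext (LinearMap.ext fun x => Subtype.ext rfl)
        map_smul' := fun t X => Subtype.ext (LinearMap.ext fun x => Subtype.ext rfl) }
    obtain ⟨pr, hpr⟩ : ∃ pr : U →ₗ[k] U', pr.comp U'.subtype = LinearMap.id :=
      U'.subtype.exists_leftInverse_of_injective U'.ker_subtype
    obtain ⟨pk, hpk⟩ : ∃ pk : U →ₗ[k] LinearMap.ker n, pk.comp (LinearMap.ker n).subtype = LinearMap.id :=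
      (LinearMap.ker n).subtype.exists_leftInverse_of_injective (LinearMap.ker n).ker_subtype
    have hsurj : Function.Surjective res := by
      rintro ⟨g, hg⟩
      obtain ⟨f0, hf0⟩ : ∃ f0 : U →ₗ[k] U,
          n ∘ₗ f0 = (U'.subtype ∘ₗ g ∘ₗ n.rangeRestrict) := by
        obtain ⟨sec, hsec⟩ := n.rangeRestrict.exists_rightInverse_of_surjective n.range_rangeRestrict
        refine ⟨sec ∘ₗ g ∘ₗ n.rangeRestrict, LinearMap.ext fun x => ?_⟩
        exact congrArg Subtype.val (LinearMap.congr_fun hsec _)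
      set δ : U →ₗ[k] U := f0 - U'.subtype ∘ₗ g ∘ₗ pr with hδ
      have hδker : ∀ x ∈ U', n (δ x) = 0 := by
        intro x hx
        have hpx : pr x = ⟨x, hx⟩ := LinearMap.congr_fun hpr ⟨x, hx⟩
        rw [hδ, LinearMap.sub_apply, map_sub, sub_eq_zero]
        change (n ∘ₗ f0) x = n (U'.subtype (g (pr x)))
        rw [hf0, hpx]
        exact (congrArg Subtype.val (LinearMap.congr_fun (mem_cent.mp hg) ⟨x, hx⟩)).symm
      set f : U →ₗ[k] U := f0 - (LinearMap.ker n).subtype ∘ₗ pk ∘ₗ δ ∘ₗ U'.subtype ∘ₗ pr with hf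
      have hfmem : f ∈ cent n := mem_cent.mpr (LinearMap.ext fun x => by
        have hpx : pr (n x) = ⟨n x, LinearMap.mem_range_self n x⟩ :=
          LinearMap.congr_fun hpr ⟨n x, LinearMap.mem_range_self n x⟩
        have h3 : n ((pk (δ (pr x : U))) : U) = 0 := LinearMap.mem_ker.mp (pk (δ (pr x : U))).2
        rw [Module.End.mul_apply, Module.End.mul_apply, hf, LinearMap.sub_apply, LinearMap.sub_apply,
          map_sub]
        change n (f0 x) - n ((pk (δ (pr x : U))) : U) = f0 (n x) - ((pk (δ (pr (n x) : U))) : U)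
        rw [h3, sub_zero, hpx]
        have h4 : (pk (δ (n x)) : U) = δ (n x) := congrArg Subtype.val
          (LinearMap.congr_fun hpk ⟨δ (n x), LinearMap.mem_ker.mpr
            (hδker _ (LinearMap.mem_range_self n x))⟩)
        rw [h4, hδ, LinearMap.sub_apply, sub_sub_cancel]
        change (n ∘ₗ f0) x = U'.subtype (g (pr (n x)))
        rw [hf0, hpx]; rfl)
      refine ⟨⟨f, hfmem⟩, Subtype.ext (LinearMap.ext fun x => Subtype.ext ?_)⟩
      change f (x : U) = (g x : U)
      have hpx : pr (x : U) = x := LinearMap.congr_fun hpr x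
      have h4 : (pk (δ (x : U)) : U) = δ (x : U) := congrArg Subtype.val
        (LinearMap.congr_fun hpk ⟨δ (x : U), LinearMap.mem_ker.mpr (hδker _ x.2)⟩)
      rw [hf, LinearMap.sub_apply]
      change f0 (x : U) - ((pk (δ (pr (x : U) : U))) : U) = _
      rw [hpx, h4, hδ, LinearMap.sub_apply, sub_sub_cancel]
      change ((g (pr (x : U))) : U) = _
      rw [hpx]
    let emb : ((U ⧸ U') →ₗ[k] LinearMap.ker n) →ₗ[k] LinearMap.ker res :=
      { toFun := fun a => ⟨⟨(LinearMap.ker n).subtype ∘ₗ a ∘ₗ U'.mkQ, mem_cent.mpr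
          (LinearMap.ext fun x => by
            rw [Module.End.mul_apply, Module.End.mul_apply]
            change n ((a (U'.mkQ x)) : U) = ((a (U'.mkQ (n x))) : U)
            rw [LinearMap.mem_ker.mp (a (U'.mkQ x)).2, Submodule.mkQ_apply U' (n x),
              (Submodule.Quotient.mk_eq_zero U').mpr (LinearMap.mem_range_self n x), map_zero]
            rfl)⟩, LinearMap.mem_ker.mpr (Subtype.ext (LinearMap.ext fun x => Subtype.ext (by
            change ((a (U'.mkQ (x : U))) : U) = 0
            rw [Submodule.mkQ_apply, (Submodule.Quotient.mk_eq_zero U').mpr x.2, map_zero]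
            rfl)))⟩
        map_add' := fun a b => Subtype.ext (Subtype.ext (LinearMap.ext fun x => rfl))
        map_smul' := fun t a => Subtype.ext (Subtype.ext (LinearMap.ext fun x => rfl)) }
    have hemb : Function.Injective emb := fun a b h => LinearMap.ext fun x => by
      obtain ⟨y, rfl⟩ := U'.mkQ_surjective x
      exact Subtype.ext (LinearMap.congr_fun (congrArg (fun z : LinearMap.ker res => ((z : cent n) : Module.End k U)) h) y)
    have hcount := LinearMap.finrank_range_add_finrank_ker (K := k) (V := cent n) (V₂ := cent n') res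
    rw [LinearMap.range_eq_top.mpr hsurj, finrank_top] at hcount
    have hle := LinearMap.finrank_le_finrank_of_injective hemb
    rw [Module.finrank_linearMap] at hle
    have hq : finrank k (U ⧸ U') + finrank k U' = finrank k U := U'.finrank_quotient_add_finrank
    have hk : finrank k U' + finrank k (LinearMap.ker n) = finrank k U :=
      n.finrank_range_add_finrank_ker
    rw [show finrank k (U ⧸ U') = finrank k (LinearMap.ker n) by omega] at hle
    set b := finrank k (LinearMap.ker n)
    set d := finrank k U'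
    rw [← hk]
    refine ⟨?_, by nlinarith⟩
    rcases Nat.eq_zero_or_pos m with rfl | hm
    · have : d = 0 := by nlinarith
      nlinarith
    -- Cauchy-Schwarz for two terms
    have h3 : m * (d + b) ^ 2 ≤ (m + 1) * d ^ 2 + m * (m + 1) * b ^ 2 := by
      have := two_mul_le_add_sq d (m * b)
      nlinarith
    refine Nat.le_of_mul_le_mul_left ?_ hm
    calc m * (d + b) ^ 2 ≤ (m + 1) * d ^ 2 + m * (m + 1) * b ^ 2 := h3
      _ ≤ (m + 1) * (m * finrank k (cent n')) + m * (m + 1) * b ^ 2 := by gcongr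
      _ = m * ((m + 1) * (finrank k (cent n') + b * b)) := by ring
      _ ≤ m * ((m + 1) * finrank k (cent n)) := by gcongr; omega

/-- In characteristic two `1 + x + ⋯ + x ^ (2 ^ a - 1) = (x - 1) ^ (2 ^ a - 1)`. -/
theorem sub_one_pow_eq_geom {S : Type*} [Ring S] [CharP S 2] (x : S) (a : ℕ) :
    (x - 1) ^ (2 ^ a - 1) = ∑ i ∈ Finset.range (2 ^ a), x ^ i := by
  have hsq : ∀ b : ℕ, (x - 1) ^ 2 ^ b = x ^ 2 ^ b + 1 := by
    intro b
    induction b with
    | zero => simp [CharTwo.sub_eq_add]
    | succ b ih =>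
      rw [pow_succ, pow_mul, ih, pow_mul, pow_two, pow_two, add_mul, mul_add, one_mul, mul_one,
        add_assoc, ← add_assoc (x ^ 2 ^ b) (x ^ 2 ^ b) 1, CharTwo.add_self_eq_zero, zero_add]
  induction a with
  | zero => simp
  | succ a ih =>
    have h : 2 ^ (a + 1) - 1 = 2 ^ a + (2 ^ a - 1) := by
      have := Nat.one_le_two_pow (n := a)
      rw [pow_succ]; omega
    rw [h, pow_add, hsq, ih, pow_succ, mul_two, Finset.sum_range_add, add_mul, one_mul,
      Finset.mul_sum, add_comm]
    exact congrArg (_ + ·) (Finset.sum_congr rfl fun i _ => (pow_add x _ i).symm)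

/-- A power of an odd number one less than a power of two is a first power. -/
theorem eq_one_of_pow_add_one {q m a : ℕ} (hq : Odd q) (hq1 : 1 < q) (hm : 0 < m)
    (h : q ^ m + 1 = 2 ^ a) : m = 1 := by
  obtain ⟨j, hj⟩ := hq
  have ha2 : 2 ≤ a := by
    by_contra hlt
    have : 2 ^ a ≤ 2 ^ 1 := Nat.pow_le_pow_right (by norm_num) (by omega)
    have : q ≤ q ^ m := Nat.le_self_pow hm.ne' q
    omega
  have h4 : 4 ∣ 2 ^ a := ⟨2 ^ (a - 2), by
    rw [show (4 : ℕ) = 2 ^ 2 by norm_num, ← pow_add]; congr 1; omega⟩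
  rcases Nat.even_or_odd' m with ⟨c, rfl | rfl⟩
  · exfalso
    have : q ^ (2 * c) % 4 = 1 := by
      rw [pow_mul, Nat.pow_mod, show q ^ 2 % 4 = 1 by
        subst hj
        rw [show (2 * j + 1) ^ 2 = 1 + 4 * (j * j + j) by ring, Nat.add_mul_mod_self_left]]
      simp
    omega
  · rcases Nat.eq_zero_or_pos c with rfl | hc
    · rfl
    exfalso
    have hdvd : q + 1 ∣ 2 ^ a := h ▸ by
      simpa using Odd.nat_add_dvd_pow_add_pow q 1 (⟨c, rfl⟩ : Odd (2 * c + 1))
    obtain ⟨b, hba, hb⟩ := (Nat.dvd_prime_pow Nat.prime_two).mp hdvd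
    have hqlt : q < q ^ (2 * c + 1) := lt_self_pow₀ hq1 (by omega)
    have hlt : b < a := (Nat.pow_lt_pow_iff_right (show 1 < 2 by norm_num)).mp (by omega)
    have hsq : q ^ 2 % 2 ^ (b + 1) = 1 := by
      have hdv : (2 : ℕ) ^ (b + 1) ∣ q ^ 2 - 1 := by
        refine ⟨j, ?_⟩
        rw [show q ^ 2 - 1 = (q + 1) * (q - 1) by rw [← Nat.sq_sub_sq, one_pow],
          hb, pow_succ, mul_assoc, show q - 1 = 2 * j by omega]
      obtain ⟨d, hd⟩ := hdv
      have h1 : 1 ≤ q ^ 2 := Nat.one_le_pow _ _ (by omega)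
      rw [show q ^ 2 = 1 + 2 ^ (b + 1) * d by omega, Nat.add_mul_mod_self_left,
        Nat.mod_eq_of_lt (Nat.one_lt_two_pow (by omega))]
    have hmod : q ^ (2 * c + 1) % 2 ^ (b + 1) = q % 2 ^ (b + 1) := by
      rw [pow_succ, pow_mul, Nat.mul_mod, Nat.pow_mod, hsq, one_pow,
        Nat.mod_eq_of_lt (Nat.one_lt_two_pow (by omega) : 1 < 2 ^ (b + 1)), one_mul, Nat.mod_mod]
    have hd : 2 ^ (b + 1) ∣ 2 ^ a := pow_dvd_pow 2 hlt
    rw [← h, Nat.dvd_iff_mod_eq_zero, Nat.add_mod, hmod, ← Nat.add_mod, hb,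
      Nat.mod_eq_of_lt (Nat.pow_lt_pow_right (by norm_num) (Nat.lt_succ_self b))] at hd
    have := Nat.one_le_two_pow (n := b)
    omega

end Cfsg.Agent.Lib.FpfHeight.Nilpotent
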