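/-
For a fixed-point-free automorphism `σ` with `σ ^ (p ^ n) = 1`, `p` odd, of a solvable group `G`,
the power `σ ^ (p ^ (n - 1))` acts trivially on `G / F(G)`.
-/
import Cfsg.Agent.Lib.Cores.Basic
import Cfsg.Agent.Lib.FpfHeight.OddPower
import Cfsg.Agent.Lib.FpfHeight.Abelian

set_option autoImplicit false

namespace Cfsg.Agent.Lib.FpfHeight.OddPowerFitting

open Cfsg.Agent.Lib.FpfHeight Cfsg.Agent.Lib.FpfHeight.Basic Cfsg.Agent.Lib.FpfHeight.Abelian
open scoped IsMulCommutative

universe u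

/-- A nontrivial solvable group has a characteristic elementary abelian subgroup. -/
theorem exists_char_elementary {G : Type u} [Group G] [Finite G] [Nontrivial G]
    (hG : Group.IsSolvable G) :
    ∃ (v : ℕ) (V : Subgroup G), v.Prime ∧ V.Characteristic ∧ IsMulCommutative V ∧
      (∀ x : V, x ^ v = 1) ∧ V ≠ ⊥ := by
  obtain ⟨v, A, hv, hAc, hAa, hAp, hAne⟩ := exists_char_abelian hG
  haveI := Fact.mk hv
  haveI := hAc
  haveI := hAa
  have hcomm : ∀ a ∈ A, ∀ b ∈ A, a * b = b * a := fun a ha b hb =>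
    congrArg Subtype.val (mul_comm (⟨a, ha⟩ : A) ⟨b, hb⟩)
  let V : Subgroup G :=
    { carrier := {x | x ∈ A ∧ x ^ v = 1}
      one_mem' := ⟨A.one_mem, one_pow v⟩
      mul_mem' := fun {x y} ⟨hx, hxv⟩ ⟨hy, hyv⟩ =>
        ⟨A.mul_mem hx hy, by rw [Commute.mul_pow (hcomm x hx y hy), hxv, hyv, one_mul]⟩
      inv_mem' := fun {x} ⟨hx, hxv⟩ => ⟨A.inv_mem hx, by rw [inv_pow, hxv, inv_one]⟩ }
  refine ⟨v, V, hv, ?_, ⟨⟨fun x y => Subtype.ext (hcomm x x.2.1 y y.2.1)⟩⟩,
    fun x => Subtype.ext x.2.2, fun hbot => ?_⟩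
  · refine Subgroup.characteristic_iff_map_le.mpr fun φ => ?_
    rintro _ ⟨x, ⟨hx, hxv⟩, rfl⟩
    exact ⟨apply_mem_of_char φ A x hx, by simp [← map_pow, hxv]⟩
  · obtain ⟨k, hk⟩ := IsPGroup.iff_card.mp hAp
    have hk0 : k ≠ 0 := fun h => hAne (Subgroup.card_eq_one.mp (by rw [hk, h, pow_zero]))
    obtain ⟨a, ha⟩ := exists_prime_orderOf_dvd_card' (G := A) v (hk ▸ dvd_pow_self v hk0)
    have hmem : (a : G) ∈ V := ⟨a.2, by
      rw [← ha]; exact congrArg Subtype.val (pow_orderOf_eq_one a)⟩
    rw [hbot, Subgroup.mem_bot] at hmem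
    rw [show a = 1 from Subtype.ext hmem, orderOf_one] at ha
    exact hv.one_lt.ne ha

theorem inv_mul_pow_mem_fitting (G : Type u) [Group G] [Finite G] (hG : Group.IsSolvable G)
    {p n : ℕ} (hp : p.Prime) (hp2 : p ≠ 2) (hn : 0 < n)
    (σ : MulAut G) (hσ : σ ^ p ^ n = 1) (hfpf : ∀ g, σ g = g → g = 1) :
    ∀ g : G, g⁻¹ * (σ ^ p ^ (n - 1)) g ∈ fittingSubgroup G := by
  induction hcard : Nat.card G using Nat.strong_induction_on generalizing G with
  | _ c ih =>
  subst hcard
  rcases subsingleton_or_nontrivial G with h | h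
  · intro g; rw [Subsingleton.elim (g⁻¹ * (σ ^ p ^ (n - 1)) g) 1]; exact one_mem _
  obtain ⟨v, V, hv, hVc, hVa, hVe, hVne⟩ := exists_char_elementary hG
  haveI := Fact.mk hv
  haveI := Fact.mk hp
  haveI := hVc
  haveI := hVa
  have hVp : IsPGroup v V := fun x => ⟨1, by rw [pow_one]; exact hVe x⟩
  have hco : p.Coprime (Nat.card G) := coprime_card_of_fpf σ hσ hfpf
  have hvp : v ≠ p := by
    obtain ⟨k, hk⟩ := IsPGroup.iff_card.mp hVp
    have hk0 : k ≠ 0 := fun h => hVne (Subgroup.card_eq_one.mp (by rw [hk, h, pow_zero]))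
    rintro rfl
    exact hv.one_lt.ne' (Nat.eq_one_of_dvd_coprimes hco dvd_rfl
      ((dvd_pow_self v hk0).trans (hk ▸ Subgroup.card_subgroup_dvd_card V)))
  have hVinv := apply_mem_of_char σ V
  set σ' := quotAut σ V hVinv with hσ'
  have hlt : Nat.card (G ⧸ V) < Nat.card G := by
    have h1 := Subgroup.card_eq_card_quotient_mul_card_subgroup V
    have h2 : 1 < Nat.card V := Subgroup.one_lt_card_iff_ne_bot V |>.mpr hVne
    have h3 : 0 < Nat.card (G ⧸ V) := Nat.card_pos
    rw [h1]; exact lt_mul_of_one_lt_right h3 h2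
  have hK := ih _ hlt (G ⧸ V) inferInstance σ' (quotAut_pow_eq_one σ V hVinv hσ)
    (quotAut_fpf σ V hVinv hfpf) rfl
  set K := (fittingSubgroup (G ⧸ V)).comap (QuotientGroup.mk' V) with hKdef
  set F := fittingSubgroup G with hF
  set τ := σ ^ p ^ (n - 1) with hτ
  have hτp : τ ^ p = 1 := by rw [hτ, ← pow_mul, ← pow_succ, Nat.sub_add_cancel hn, hσ]
  have hFτ : ∀ x ∈ F, τ x ∈ F := apply_mem_of_char τ F
  -- elements moved only inside `F`
  let D : Subgroup G :=
    { carrier := {x | x⁻¹ * τ x ∈ F}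
      one_mem' := by simp [F.one_mem]
      mul_mem' := fun {x y} hx hy => by
        change (x * y)⁻¹ * τ (x * y) ∈ F
        have h1 := F.mul_mem (Subgroup.Normal.conj_mem inferInstance _ hx y⁻¹) hy
        rw [inv_inv] at h1
        convert h1 using 1
        rw [map_mul]; group
      inv_mem' := fun {x} hx => by
        change (x⁻¹)⁻¹ * τ x⁻¹ ∈ F
        have h1 := Subgroup.Normal.conj_mem inferInstance _ (F.inv_mem hx) x
        convert h1 using 1
        rw [map_inv]; group }
  have hKD : K ≤ D := by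
    have hFit := Cfsg.Agent.Lib.Cores.fittingSubgroup_eq_iSup_pCore (G := G ⧸ V)
    have hVD : V ≤ D := fun x hx =>
      Cfsg.Agent.Lib.Cores.le_fittingSubgroup (hVp.isNilpotent) (V.mul_mem (V.inv_mem hx)
        (apply_mem_of_char τ V x hx))
    have key : ∀ q : Nat.Primes,
        (pCore (q : ℕ) (G ⧸ V)).comap (QuotientGroup.mk' V) ≤ D := by
      intro q
      set L := (pCore (q : ℕ) (G ⧸ V)).comap (QuotientGroup.mk' V) with hL
      haveI := Fact.mk q.2
      have hLc : ∀ e : MulAut G, (∀ x ∈ V, e x ∈ V) → ∀ x ∈ L, e x ∈ L := by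
        intro e he x hx
        exact apply_mem_of_char (quotAut e V he) (pCore (q : ℕ) (G ⧸ V)) _ hx
      have hLσ : ∀ x ∈ L, σ x ∈ L := hLc σ hVinv
      have hLτ : ∀ x ∈ L, τ x ∈ L := hLc τ (apply_mem_of_char τ V)
      by_cases hqv : (q : ℕ) = v
      · intro x hx
        have hle : L ≤ F := by rw [hL, hqv]; exact comap_pCore_le_fitting V hVp
        exact F.mul_mem (F.inv_mem (hle hx)) (hle (hLτ x hx))
      · intro x hx
        set ψ : G →* MulAut V := MulAut.conjNormal with hψ
        set Q := L.map ψ with hQ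
        set s := restrict V σ with hs
        have hQp : IsPGroup (q : ℕ) Q := by
          rintro ⟨_, y, hy, rfl⟩
          obtain ⟨k, hk⟩ := pow_mem_of_mem_comap_pCore V hy
          refine ⟨k, Subtype.ext ?_⟩
          change ψ y ^ _ = 1
          rw [← map_pow, conjNormal_eq_one_iff, Subgroup.mem_centralizer_iff]
          intro w hw
          exact congrArg Subtype.val (mul_comm (⟨w, hw⟩ : V) ⟨_, hk⟩)
        have hfix : ψ (τ x) = ψ x := by
          by_cases hqp : (q : ℕ) = p
          · have h1 : Q = ⊥ := by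
              obtain ⟨k, hk⟩ := IsPGroup.iff_card.mp hQp
              refine Subgroup.card_eq_one.mp (Nat.eq_one_of_dvd_coprimes (hco.pow_left k) ?_ ?_)
              · rw [hk, hqp]
              · exact (Subgroup.card_map_dvd L ψ).trans (Subgroup.card_subgroup_dvd_card L)
            have h2 : ∀ y ∈ L, ψ y = 1 := fun y hy =>
              Subgroup.mem_bot.mp (h1 ▸ ⟨y, hy, rfl⟩ : ψ y ∈ (⊥ : Subgroup (MulAut V)))
            rw [h2 x hx, h2 _ (hLτ x hx)]
          have hC : ∀ y ∈ L ⊓ Subgroup.centralizer (V : Set G),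
              σ y ∈ L ⊓ Subgroup.centralizer (V : Set G) := by
            rintro y ⟨hy, hy'⟩
            refine ⟨hLσ y hy, ?_⟩
            change σ y ∈ Subgroup.centralizer (V : Set G)
            rw [← conjNormal_eq_one_iff, ← restrict_conjNormal V σ,
              (conjNormal_eq_one_iff V y).mpr hy', mul_one, mul_inv_cancel]
          have hQinv : ∀ y ∈ Q, MulAut.conj s y ∈ Q := by
            rintro _ ⟨y, hy, rfl⟩
            rw [MulAut.conj_apply, restrict_conjNormal]
            exact ⟨_, hLσ y hy, rfl⟩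
          set β := OddPower.subAut (MulAut.conj s) Q hQinv with hβdef
          have hsP : s ^ p ^ n = 1 := by rw [hs, ← map_pow, hσ, map_one]
          have h := OddPower.fixed_of_faithful (V := V) (v := v) hp hp2 hqp hqv hvp hn hVe hQp β
            (MulEquiv.ext fun y => Subtype.ext (by
              rw [hβdef, OddPower.coe_subAut_pow, ← map_pow, hsP, map_one]; rfl))
            (by
              rintro ⟨_, y, hy, rfl⟩ he
              have he' : s * ψ y * s⁻¹ = ψ y := congrArg Subtype.val he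
              rw [restrict_conjNormal] at he'
              have h1 : y⁻¹ * σ y ∈ L ⊓ Subgroup.centralizer (V : Set G) := by
                refine ⟨L.mul_mem (L.inv_mem hy) (hLσ y hy), ?_⟩
                change y⁻¹ * σ y ∈ Subgroup.centralizer (V : Set G)
                rw [← conjNormal_eq_one_iff, map_mul, map_inv, he', inv_mul_cancel]
              exact Subtype.ext
                ((conjNormal_eq_one_iff V y).mpr (mem_of_invariant_of_fixed σ hfpf hC h1).2))
            Q.subtype Q.subtype_injective s (fun y => rfl) hsP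
            (fun w hw => Subtype.ext (hfpf w (congrArg Subtype.val hw))) ⟨ψ x, x, hx, rfl⟩
          have h2 := congrArg Subtype.val h
          rw [hβdef, OddPower.coe_subAut_pow, ← map_pow, MulAut.conj_apply] at h2
          rw [hτ, ← restrict_conjNormal, map_pow, ← hs]
          exact h2
        have h2 : x⁻¹ * τ x ∈ Subgroup.centralizer (V : Set G) := by
          rw [← conjNormal_eq_one_iff, map_mul, map_inv, hfix, inv_mul_cancel]
        refine inf_centralizer_le_fitting V L ?_ ⟨L.mul_mem (L.inv_mem hx) (hLτ x hx), h2⟩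
        rw [hL, Subgroup.map_comap_eq_self_of_surjective (QuotientGroup.mk'_surjective V)]
        exact (Cfsg.Agent.Lib.Cores.pCore_isPGroup _).isNilpotent
    rw [hKdef, hFit]
    intro x hx
    have h1 : (⨆ q : Nat.Primes, pCore (q : ℕ) (G ⧸ V)) ≤ D.map (QuotientGroup.mk' V) := by
      refine iSup_le fun q => ?_
      rw [← Subgroup.map_comap_eq_self_of_surjective (QuotientGroup.mk'_surjective V)
        (pCore (q : ℕ) (G ⧸ V))]
      exact Subgroup.map_mono (key q)
    have h2 : x ∈ (D.map (QuotientGroup.mk' V)).comap (QuotientGroup.mk' V) := h1 hx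
    rwa [Subgroup.comap_map_eq, QuotientGroup.ker_mk', sup_eq_left.mpr hVD] at h2
  intro g
  set k := g⁻¹ * τ g with hk
  have hkK : k ∈ K := by
    have := hK (g : G ⧸ V)
    rw [hσ', quotAut_pow] at this
    exact this
  have hkF : k⁻¹ * τ k ∈ F := hKD hkK
  set τq := quotAut τ F hFτ with hτq
  have e1 : τq (g : G ⧸ F) = (g : G ⧸ F) * (k : G ⧸ F) := by
    rw [hτq, quotAut_mk, ← QuotientGroup.mk_mul, hk, mul_inv_cancel_left]
  have e2 : τq (k : G ⧸ F) = (k : G ⧸ F) := (QuotientGroup.eq.mpr hkF).symm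
  have e3 := OddPower.pow_apply_mul e1 e2 p
  rw [quotAut_pow_eq_one τ F hFτ hτp, MulAut.one_apply, left_eq_mul] at e3
  refine (QuotientGroup.eq_one_iff k).mp (orderOf_eq_one_iff.mp ?_)
  exact Nat.eq_one_of_dvd_coprimes hco (orderOf_dvd_of_pow_eq_one e3)
    ((orderOf_dvd_natCard _).trans (Subgroup.card_quotient_dvd_card F))

end Cfsg.Agent.Lib.FpfHeight.OddPowerFitting
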