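/-
For a fixed-point-free automorphism `σ` with `σ ^ 4 = 1` of a solvable group `G`, `σ ^ 2` acts
trivially on `G / F(G)`.
-/
import Cfsg.Agent.Lib.Cores.Basic
import Cfsg.Agent.Lib.FpfHeight.OrderFour
import Cfsg.Agent.Lib.FpfHeight.Abelian

set_option autoImplicit false

namespace Cfsg.Agent.Lib.FpfHeight.OrderFourFitting

open Cfsg.Agent.Lib.FpfHeight.Basic Cfsg.Agent.Lib.FpfHeight.Abelian
open scoped IsMulCommutative

universe u

theorem odd_card {G : Type u} [Group G] [Finite G] (σ : MulAut G) (hσ : σ ^ 4 = 1)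
    (hfpf : ∀ g, σ g = g → g = 1) : Odd (Nat.card G) :=
  Nat.coprime_two_left.mp (coprime_card_of_fpf (p := 2) σ (k := 2) hσ hfpf)

theorem inv_mul_sq_mem_fitting (G : Type u) [Group G] [Finite G] (hG : Group.IsSolvable G)
    (σ : MulAut G) (hσ : σ ^ 4 = 1) (hfpf : ∀ g, σ g = g → g = 1) :
    ∀ g : G, g⁻¹ * (σ ^ 2) g ∈ fittingSubgroup G := by
  induction hn : Nat.card G using Nat.strong_induction_on generalizing G with
  | _ n ih =>
  subst hn
  rcases subsingleton_or_nontrivial G with h | h
  · intro g; rw [Subsingleton.elim (g⁻¹ * (σ ^ 2) g) 1]; exact one_mem _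
  obtain ⟨v, V, hv, hVc, hVa, hVp, hVne⟩ := exists_char_abelian hG
  haveI := Fact.mk hv
  haveI := hVc
  haveI := hVa
  have hVinv := apply_mem_of_char σ V
  set σ' := quotAut σ V hVinv with hσ'
  have hlt : Nat.card (G ⧸ V) < Nat.card G := by
    have h1 := Subgroup.card_eq_card_quotient_mul_card_subgroup V
    have h2 : 1 < Nat.card V := Subgroup.one_lt_card_iff_ne_bot V |>.mpr hVne
    have h3 : 0 < Nat.card (G ⧸ V) := Nat.card_pos
    rw [h1]; exact lt_mul_of_one_lt_right h3 h2
  have hK := ih _ hlt (G ⧸ V) inferInstance σ' (quotAut_pow_eq_one σ V hVinv hσ)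
    (quotAut_fpf σ V hVinv hfpf) rfl
  set K := (fittingSubgroup (G ⧸ V)).comap (QuotientGroup.mk' V) with hKdef
  set F := fittingSubgroup G with hF
  have hFinv : ∀ x ∈ F, σ x ∈ F := apply_mem_of_char σ F
  set τ := σ ^ 2 with hτ
  have hττ : ∀ x, τ (τ x) = x := fun x => by
    rw [← MulAut.mul_apply, hτ, ← pow_add, hσ]; rfl
  have hFτ : ∀ x ∈ F, τ x ∈ F := apply_mem_of_char τ F
  -- elements moved only inside `F`
  let D : Subgroup G :=
    { carrier := {x | x⁻¹ * τ x ∈ F}
      one_mem' := by simp [F.one_mem]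
      mul_mem' := fun {x y} hx hy => by
        change (x * y)⁻¹ * τ (x * y) ∈ F
        have h1 := F.mul_mem (Subgroup.Normal.conj_mem inferInstance _ hx y⁻¹) hy
        rw [inv_inv] at h1
        convert h1 using 1
        rw [map_mul]; group
      inv_mem' := fun {x} hx => by
        change (x⁻¹)⁻¹ * τ x⁻¹ ∈ F
        have h1 := Subgroup.Normal.conj_mem inferInstance _ (F.inv_mem hx) x
        convert h1 using 1
        rw [map_inv]; group }
  have hKD : K ≤ D := by
    have hFit := Cfsg.Agent.Lib.Cores.fittingSubgroup_eq_iSup_pCore (G := G ⧸ V)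
    let D' : Subgroup (G ⧸ V) :=
      ⨆ q : Nat.Primes, pCore (q : ℕ) (G ⧸ V)
    have hVD : V ≤ D := fun x hx =>
      Cfsg.Agent.Lib.Cores.le_fittingSubgroup (hVp.isNilpotent) (V.mul_mem (V.inv_mem hx)
        (apply_mem_of_char τ V x hx))
    have key : ∀ q : Nat.Primes,
        (pCore (q : ℕ) (G ⧸ V)).comap (QuotientGroup.mk' V) ≤ D := by
      intro q
      set L := (pCore (q : ℕ) (G ⧸ V)).comap (QuotientGroup.mk' V) with hL
      haveI := Fact.mk q.2
      have hLc : ∀ e : MulAut G, (∀ x ∈ V, e x ∈ V) → ∀ x ∈ L, e x ∈ L := by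
        intro e he x hx
        exact apply_mem_of_char (quotAut e V he) (pCore (q : ℕ) (G ⧸ V)) _ hx
      have hLσ : ∀ x ∈ L, σ x ∈ L := hLc σ hVinv
      have hLτ : ∀ x ∈ L, τ x ∈ L := hLc τ (apply_mem_of_char τ V)
      by_cases hqv : (q : ℕ) = v
      · intro x hx
        have hle : L ≤ F := by rw [hL, hqv]; exact comap_pCore_le_fitting V hVp
        exact F.mul_mem (F.inv_mem (hle hx)) (hle (hLτ x hx))
      · intro x hx
        set ψ : G →* MulAut V := MulAut.conjNormal with hψ
        set Q := L.map ψ with hQ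
        set s := restrict V σ with hs
        have hsolQ : Group.IsSolvable Q :=
          Group.isSolvable_of_surjective (ψ.subgroupMap_surjective L)
        have hQp : IsPGroup (q : ℕ) Q := by
          rintro ⟨_, y, hy, rfl⟩
          obtain ⟨k, hk⟩ := pow_mem_of_mem_comap_pCore V hy
          refine ⟨k, Subtype.ext ?_⟩
          change ψ y ^ _ = 1
          rw [← map_pow, conjNormal_eq_one_iff, Subgroup.mem_centralizer_iff]
          intro w hw
          exact congrArg Subtype.val (mul_comm (⟨w, hw⟩ : V) ⟨_, hk⟩)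
        have hco : (Nat.card Q).Coprime (Nat.card V) :=
          IsPGroup.coprime_card_of_ne _ _ hqv Q V hQp hVp
        have hodd : Odd (Nat.card Q) :=
          Odd.of_dvd_nat (Odd.of_dvd_nat (odd_card σ hσ hfpf) (Subgroup.card_subgroup_dvd_card L))
            (Subgroup.card_map_dvd L ψ)
        have hC : ∀ y ∈ L ⊓ Subgroup.centralizer (V : Set G),
            σ y ∈ L ⊓ Subgroup.centralizer (V : Set G) := by
          rintro y ⟨hy, hy'⟩
          refine ⟨hLσ y hy, ?_⟩
          change σ y ∈ Subgroup.centralizer (V : Set G)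
          rw [← conjNormal_eq_one_iff, ← restrict_conjNormal V σ,
            (conjNormal_eq_one_iff V y).mpr hy', mul_one, mul_inv_cancel]
        have h := OrderFour.sq_commute (V := V) s
          (by rw [hs, ← map_pow, hσ, map_one])
          (fun w hw => Subtype.ext (hfpf w (congrArg Subtype.val hw)))
          Q hsolQ hodd hco
          (by rintro _ ⟨y, hy, rfl⟩; rw [restrict_conjNormal]; exact ⟨_, hLσ y hy, rfl⟩)
          (by
            rintro _ ⟨y, hy, rfl⟩ he
            rw [restrict_conjNormal] at he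
            have h1 : y⁻¹ * σ y ∈ L ⊓ Subgroup.centralizer (V : Set G) := by
              refine ⟨L.mul_mem (L.inv_mem hy) (hLσ y hy), ?_⟩
              change y⁻¹ * σ y ∈ Subgroup.centralizer (V : Set G)
              rw [← conjNormal_eq_one_iff, map_mul, map_inv, he, inv_mul_cancel]
            exact (conjNormal_eq_one_iff V y).mpr (mem_of_invariant_of_fixed σ hfpf hC h1).2)
          (ψ x) ⟨x, hx, rfl⟩
        have h2 : x⁻¹ * τ x ∈ Subgroup.centralizer (V : Set G) := by
          have h3 := restrict_conjNormal V τ x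
          rw [show restrict V τ = s ^ 2 from by rw [hs, ← map_pow], h.eq,
            mul_inv_cancel_right] at h3
          rw [← conjNormal_eq_one_iff, map_mul, map_inv, ← h3, inv_mul_cancel]
        refine inf_centralizer_le_fitting V L ?_ ⟨L.mul_mem (L.inv_mem hx) (hLτ x hx), h2⟩
        rw [hL, Subgroup.map_comap_eq_self_of_surjective (QuotientGroup.mk'_surjective V)]
        exact (Cfsg.Agent.Lib.Cores.pCore_isPGroup _).isNilpotent
    rw [hKdef, hFit]
    intro x hx
    have h1 : (⨆ q : Nat.Primes, pCore (q : ℕ) (G ⧸ V)) ≤ D.map (QuotientGroup.mk' V) := by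
      refine iSup_le fun q => ?_
      rw [← Subgroup.map_comap_eq_self_of_surjective (QuotientGroup.mk'_surjective V)
        (pCore (q : ℕ) (G ⧸ V))]
      exact Subgroup.map_mono (key q)
    have h2 : x ∈ (D.map (QuotientGroup.mk' V)).comap (QuotientGroup.mk' V) := h1 hx
    rwa [Subgroup.comap_map_eq, QuotientGroup.ker_mk', sup_eq_left.mpr hVD] at h2
  intro g
  set k := g⁻¹ * τ g with hk
  have hkK : k ∈ K := by
    have := hK (g : G ⧸ V)
    rw [hσ', quotAut_pow] at this
    exact this
  have hkF : k⁻¹ * τ k ∈ F := hKD hkK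
  have hτk : τ k = k⁻¹ := by rw [hk, map_mul, map_inv, hττ]; group
  rw [hτk, ← sq, inv_pow, F.inv_mem_iff] at hkF
  -- a group of odd order has no elements of order two
  have hodd : Odd (orderOf k) := Odd.of_dvd_nat (odd_card σ hσ hfpf) (orderOf_dvd_natCard k)
  obtain ⟨j, hj⟩ := hodd
  have : (k ^ 2) ^ (j + 1) = k := by
    rw [← pow_mul, show 2 * (j + 1) = orderOf k + 1 by omega, pow_succ, pow_orderOf_eq_one, one_mul]
  rw [← this]
  exact F.pow_mem hkF _

end Cfsg.Agent.Lib.FpfHeight.OrderFourFitting
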