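/-
A group `A` of order `pq` with normal subgroup `F` of order `q` acting without fixed points:
the configuration and first consequences.
-/
import Cfsg.Agent.Lib.FpfHeight.CharLayer
import Cfsg.Agent.Lib.Coprime.Commutator

set_option autoImplicit false
set_option linter.style.haveILetI false
set_option linter.unusedSectionVars false

namespace Cfsg.Agent.Lib.FpfHeight.PQBasics

open Subgroup Cfsg.Agent.Lib.FpfHeight.CharLayer
open scoped IsMulCommutative

theorem eq_of_pow_eq {M : Type*} [CommGroup M] {a b : M} {n m : ℕ} (hnm : n.Coprime m)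
    (ha : a ^ m = 1) (hb : b ^ m = 1) (h : a ^ n = b ^ n) : a = b := by
  have h1 : (a * b⁻¹) ^ n = 1 := by rw [mul_pow, inv_pow, h, mul_inv_cancel]
  have h2 : (a * b⁻¹) ^ m = 1 := by rw [mul_pow, inv_pow, ha, hb, inv_one, mul_one]
  have h3 := pow_gcd_eq_one.mpr ⟨h1, h2⟩
  rw [hnm, pow_one] at h3
  exact mul_inv_eq_one.mp h3

variable {k : Type*} [Field k] {X : Type*} [Group X]

section Stab

variable {Z : Subgroup X}

theorem twist_one (χ : Z →* kˣ) : twist (1 : normalizer (Z : Set X)) χ = χ := by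
  ext z; rw [twist_apply, inv_one, map_one, MulAut.one_apply]

theorem twist_mul (g h : normalizer (Z : Set X)) (χ : Z →* kˣ) :
    twist (g * h) χ = twist g (twist h χ) := by
  ext z; rw [twist_apply, twist_apply, twist_apply, mul_inv_rev, map_mul, MulAut.mul_apply]

theorem twist_eq_iff (g : normalizer (Z : Set X)) (χ : Z →* kˣ) :
    twist g χ = χ ↔ ∀ z, χ (Z.normalizerMonoidHom g z) = χ z := by
  constructor
  · intro h z
    conv_rhs => rw [show z = Z.normalizerMonoidHom g⁻¹ (Z.normalizerMonoidHom g z) by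
      rw [← MulAut.mul_apply, ← map_mul, inv_mul_cancel, map_one, MulAut.one_apply]]
    conv_lhs => rw [← h]
    rfl
  · intro h
    refine MonoidHom.ext fun z => ?_
    rw [twist_apply, ← h, ← MulAut.mul_apply, ← map_mul, mul_inv_cancel, map_one, MulAut.one_apply]

theorem twist_mul_char (g : normalizer (Z : Set X)) (χ μ : Z →* kˣ) :
    twist g (χ * μ) = twist g χ * twist g μ := rfl

theorem twist_pow (g : normalizer (Z : Set X)) (χ : Z →* kˣ) (n : ℕ) :
    twist g (χ ^ n) = twist g χ ^ n := rfl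

theorem twist_prod {ι : Type*} (g : normalizer (Z : Set X)) (s : Finset ι) (χ : ι → Z →* kˣ) :
    twist g (∏ i ∈ s, χ i) = ∏ i ∈ s, twist g (χ i) := by
  ext z
  simp [twist_apply, MonoidHom.finsetProd_apply]

/-- The stabiliser of a character inside the normalizer. -/
def stab (Z : Subgroup X) (χ : Z →* kˣ) : Subgroup X where
  carrier := {g | ∃ h : g ∈ normalizer (Z : Set X), twist ⟨g, h⟩ χ = χ}
  one_mem' := ⟨one_mem _, twist_one χ⟩
  mul_mem' := by
    rintro a b ⟨ha, ha'⟩ ⟨hb, hb'⟩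
    refine ⟨mul_mem ha hb, ?_⟩
    rw [show (⟨a * b, mul_mem ha hb⟩ : normalizer (Z : Set X)) = ⟨a, ha⟩ * ⟨b, hb⟩ from rfl,
      twist_mul, hb', ha']
  inv_mem' := by
    rintro a ⟨ha, ha'⟩
    refine ⟨inv_mem ha, ?_⟩
    conv_lhs => rw [← ha']
    rw [← twist_mul, show (⟨a⁻¹, inv_mem ha⟩ : normalizer (Z : Set X)) * ⟨a, ha⟩ = 1 from
      Subtype.ext (inv_mul_cancel a), twist_one]

theorem mem_stab {χ : Z →* kˣ} {g : X} (hg : g ∈ normalizer (Z : Set X)) :
    g ∈ stab Z χ ↔ twist ⟨g, hg⟩ χ = χ :=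
  ⟨fun ⟨_, h⟩ => h, fun h => ⟨hg, h⟩⟩

theorem stab_le_normalizer (χ : Z →* kˣ) : stab Z χ ≤ normalizer (Z : Set X) := fun _ h => h.1

/-- Elements centralizing `Z` fix every character. -/
theorem mem_stab_of_commute (χ : Z →* kˣ) {g : X} (h : ∀ z ∈ Z, Commute g z) : g ∈ stab Z χ := by
  have hg : g ∈ normalizer (Z : Set X) := by
    refine centralizer_le_normalizer _ (mem_centralizer_iff.mpr fun z hz => ?_)
    exact (h z hz).eq.symm
  refine (mem_stab hg).mpr ((twist_eq_iff _ _).mpr fun z => congrArg χ (Subtype.ext ?_))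
  change g * (z : X) * g⁻¹ = z
  rw [(h z z.2).eq, mul_inv_cancel_right]

theorem pow_card_eq_one (χ : Z →* kˣ) [Finite Z] (z : Z) : χ z ^ Nat.card Z = 1 := by
  rw [← map_pow, pow_card_eq_one', map_one]

end Stab

/-- The configuration: operators `A ⊇ F`, an `r`-subgroup `R` and an `s`-subgroup `S`, acting on
a module through `ρ`. -/
structure PQData {E : Type*} [Ring E] (ρ : X →* E) (A F : Subgroup X) (v p q r s : ℕ)
    (R S : Subgroup X) : Prop where
  hp : p.Prime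
  hq : q.Prime
  hr : r.Prime
  hs : s.Prime
  hrp : r ≠ p
  hrq : r ≠ q
  hsp : s ≠ p
  hsq : s ≠ q
  hsr : s ≠ r
  hrv : r ≠ v
  hqv : q ≠ v
  hpv : p ≠ v
  exc : ¬ (r = 2 ∧ ∃ m, q = 2 ^ m + 1)
  F_le : F ≤ A
  cardF : Nat.card F = q
  cardA : Nat.card A = p * q
  F_normal : ∀ a ∈ A, ∀ f ∈ F, a * f * a⁻¹ ∈ F
  self_centr : ∀ a ∈ A, a ∉ F → ∀ f ∈ F, Commute a f → f = 1
  sum_eq_zero : ∀ [Fintype A], ∑ a : A, ρ (a : X) = 0
  pR : IsPGroup r R
  pS : IsPGroup s S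
  normR : A ≤ normalizer (R : Set X)
  normS : A ≤ normalizer (S : Set X)
  normSR : S ≤ normalizer (R : Set X)
  inj : ∀ y ∈ R, ρ y = 1 → y = 1
  fixR : ∀ y ∈ R, (∀ a ∈ A, Commute a y) → y = 1
  fixS : ∀ x ∈ S, (∀ a ∈ A, Commute a x) → x = 1
  comm : ∀ x ∈ S, ∀ y ∈ R, (∀ f ∈ F, Commute f x) → (∀ f ∈ F, Commute f y) → Commute x y

/-- An element of order prime to a normalized subgroup fixes an element of each fixed coset. -/
theorem exists_mul_commute [Finite X] {N : Subgroup X} {g : X} {n : ℕ} (hgn : g ^ n = 1)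
    (hgN : g ∈ normalizer (N : Set X)) (hcop : n.Coprime (Nat.card N)) {x : X}
    (hx : x⁻¹ * (g * x * g⁻¹) ∈ N) : ∃ m ∈ N, Commute g (x * m) := by
  have hxN : ∀ b ∈ zpowers g, x⁻¹ * (b * x * b⁻¹) ∈ N := by
    let C : Subgroup X :=
      { carrier := {b | b ∈ normalizer (N : Set X) ∧ x⁻¹ * (b * x * b⁻¹) ∈ N}
        one_mem' := ⟨one_mem _, by simp [N.one_mem]⟩
        mul_mem' := by
          rintro a b ⟨ha, ha'⟩ ⟨hb, hb'⟩
          refine ⟨mul_mem ha hb, ?_⟩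
          have h1 := (mem_normalizer_iff.mp ha _).mp hb'
          convert N.mul_mem ha' h1 using 1
          group
        inv_mem' := by
          rintro a ⟨ha, ha'⟩
          refine ⟨inv_mem ha, ?_⟩
          have h1 := (mem_normalizer_iff.mp (inv_mem ha) _).mp (N.inv_mem ha')
          convert h1 using 1
          group }
    exact fun b hb => ((zpowers_le.mpr (show g ∈ C from ⟨hgN, hx⟩)) hb).2
  obtain ⟨m, hm, h⟩ := Cfsg.Agent.Lib.Coprime.exists_mul_fixed (zpowers_le.mpr hgN)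
    ((Nat.card_zpowers g).symm ▸ hcop.coprime_dvd_left (orderOf_dvd_of_pow_eq_one hgn))
    (Or.inl inferInstance) (k := x) hxN
  exact ⟨m, hm, mem_centralizer_iff.mp h g (mem_zpowers g)⟩

namespace PQData

variable {E : Type*} [Ring E] {ρ : X →* E} {A F : Subgroup X} {v p q r s : ℕ}
  {R S : Subgroup X} (d : PQData ρ A F v p q r s R S)

include d

theorem coprime_q_of_pGroup {P : Subgroup X} [Finite X] {l : ℕ} (hl : l.Prime) (hlq : l ≠ q)
    (hP : IsPGroup l P) : q.Coprime (Nat.card P) := by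
  haveI := Fact.mk hl
  obtain ⟨n, hn⟩ := IsPGroup.iff_card.mp hP
  rw [hn]
  exact ((Nat.coprime_primes d.hq hl).mpr hlq.symm).pow_right n

theorem coprime_p_of_pGroup {P : Subgroup X} [Finite X] {l : ℕ} (hl : l.Prime) (hlp : l ≠ p)
    (hP : IsPGroup l P) : p.Coprime (Nat.card P) := by
  haveI := Fact.mk hl
  obtain ⟨n, hn⟩ := IsPGroup.iff_card.mp hP
  rw [hn]
  exact ((Nat.coprime_primes d.hp hl).mpr hlp.symm).pow_right n

theorem coprime_card [Finite X] : (Nat.card S).Coprime (Nat.card R) :=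
  haveI := Fact.mk d.hr
  haveI := Fact.mk d.hs
  IsPGroup.coprime_card_of_ne s r d.hsr S R d.pS d.pR

theorem card_ne_zero [Finite X] [CharP k v] (hv : v.Prime) {P : Subgroup X} (hP : P ≤ R) :
    (Nat.card P : k) ≠ 0 := by
  haveI := Fact.mk d.hr
  obtain ⟨n, hn⟩ := IsPGroup.iff_card.mp (d.pR.to_le hP)
  rw [hn, Ne, CharP.cast_eq_zero_iff k v]
  exact fun h => d.hrv.symm ((Nat.prime_dvd_prime_iff_eq hv d.hr).mp (hv.dvd_of_dvd_pow h))

theorem A_le [Finite X] {C : Subgroup X} {a : X} (ha : a ∈ A) (haF : a ∉ F) (haC : a ∈ C)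
    (hF : F ≤ C) : A ≤ C := by
  have h1 : q ∣ Nat.card (C ⊓ A : Subgroup X) :=
    d.cardF ▸ card_dvd_of_le (le_inf hF d.F_le)
  have h2 : Nat.card (C ⊓ A : Subgroup X) ∣ p * q := d.cardA ▸ card_dvd_of_le inf_le_right
  obtain ⟨c, hc⟩ := h1
  rw [hc, mul_comm q] at h2
  rcases (Nat.dvd_prime d.hp).mp ((Nat.mul_dvd_mul_iff_right d.hq.pos).mp h2) with h | h
  · exfalso
    rw [h, mul_one] at hc
    have : F = C ⊓ A := Subgroup.eq_of_le_of_card_ge (le_inf hF d.F_le) (by rw [hc, d.cardF])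
    exact haF (this ▸ ⟨haC, ha⟩)
  · have : C ⊓ A = A := Subgroup.eq_of_le_of_card_ge inf_le_right (by rw [hc, h, d.cardA, mul_comm])
    exact this ▸ inf_le_left

theorem F_le_zpowers [Finite X] {f : X} (hf : f ∈ F) (hf1 : f ≠ 1) : F ≤ zpowers f := by
  haveI := Fact.mk d.hq
  intro g hg
  obtain ⟨i, hi⟩ := mem_zpowers_iff.mp (mem_zpowers_of_prime_card d.cardF
    (g := (⟨f, hf⟩ : F)) (g' := ⟨g, hg⟩) (fun h => hf1 (congrArg Subtype.val h)))
  exact mem_zpowers_iff.mpr ⟨i, congrArg Subtype.val hi⟩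

theorem pow_q_eq_one {f : X} (hf : f ∈ F) : f ^ q = 1 := by
  have h : (⟨f, hf⟩ : F) ^ Nat.card F = 1 := pow_card_eq_one'
  rw [d.cardF] at h
  exact congrArg Subtype.val h

theorem commute_F [Finite X] {f : X} (hf : f ∈ F) (hf1 : f ≠ 1) {y : X} (h : Commute f y) :
    ∀ g ∈ F, Commute g y := by
  intro g hg
  have : zpowers f ≤ centralizer ({y} : Set X) := zpowers_le.mpr
    (mem_centralizer_singleton_iff.mpr h.eq)
  exact mem_centralizer_singleton_iff.mp (this (d.F_le_zpowers hf hf1 hg))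

theorem eq_one_of_commute [Finite X] {P : Subgroup X}
    (hP : ∀ y ∈ P, (∀ a ∈ A, Commute a y) → y = 1) {a : X} (ha : a ∈ A) (haF : a ∉ F) {y : X}
    (hy : y ∈ P) (hF : ∀ f ∈ F, Commute f y) (hay : Commute a y) : y = 1 := by
  refine hP y hy fun b hb => ?_
  have := d.A_le ha haF (C := centralizer ({y} : Set X))
    (mem_centralizer_singleton_iff.mpr hay.eq)
    fun f hf => mem_centralizer_singleton_iff.mpr (hF f hf).eq
  exact mem_centralizer_singleton_iff.mp (this hb)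

theorem conj_commute {a : X} (ha : a ∈ A) {y : X} (hF : ∀ f ∈ F, Commute f y) :
    ∀ f ∈ F, Commute f (a * y * a⁻¹) := by
  intro f hf
  have h := hF _ (d.F_normal a⁻¹ (inv_mem ha) f hf)
  rw [inv_inv] at h
  calc f * (a * y * a⁻¹) = a * (a⁻¹ * f * a * y) * a⁻¹ := by group
    _ = a * (y * (a⁻¹ * f * a)) * a⁻¹ := by rw [h.eq]
    _ = a * y * a⁻¹ * f := by group

/-- An element outside `F` moves the points fixed by `F` onto all of them. -/
theorem exists_inv_mul_conj [Finite X] {P : Subgroup X} (hAP : A ≤ normalizer (P : Set X))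
    (hP : ∀ y ∈ P, (∀ a ∈ A, Commute a y) → y = 1) {a : X} (ha : a ∈ A) (haF : a ∉ F) {z : X}
    (hz : z ∈ P) (hzF : ∀ f ∈ F, Commute f z) :
    ∃ y ∈ P, (∀ f ∈ F, Commute f y) ∧ y⁻¹ * (a * y * a⁻¹) = z := by
  set C := P ⊓ centralizer (F : Set X) with hC
  have hmem : ∀ {y : X}, y ∈ C ↔ y ∈ P ∧ ∀ f ∈ F, Commute f y := fun {y} => by
    simp [hC, mem_centralizer_iff, Commute, SemiconjBy]
  let g : C → C := fun y => ⟨(y : X)⁻¹ * (a * y * a⁻¹), C.mul_mem (C.inv_mem y.2)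
    (hmem.mpr ⟨(mem_normalizer_iff.mp (hAP ha) _).mp (hmem.mp y.2).1,
      d.conj_commute ha (hmem.mp y.2).2⟩)⟩
  have hg : Function.Injective g := by
    intro y y' h
    have h' : (y : X)⁻¹ * (a * y * a⁻¹) = (y' : X)⁻¹ * (a * y' * a⁻¹) := congrArg Subtype.val h
    have hfix : Commute a ((y : X) * (y' : X)⁻¹) := by
      refine mul_inv_eq_iff_eq_mul.mp ?_
      calc a * ((y : X) * (y' : X)⁻¹) * a⁻¹
          = y * ((y : X)⁻¹ * (a * y * a⁻¹)) * (a * y' * a⁻¹)⁻¹ := by group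
        _ = y * (y' : X)⁻¹ := by rw [h']; group
    have hm := hmem.mp (C.mul_mem y.2 (C.inv_mem y'.2))
    exact Subtype.ext (mul_inv_eq_one.mp (d.eq_one_of_commute hP ha haF hm.1 hm.2 hfix))
  obtain ⟨y, hy⟩ := Finite.surjective_of_injective hg ⟨z, hmem.mpr ⟨hz, hzF⟩⟩
  exact ⟨y, (hmem.mp y.2).1, (hmem.mp y.2).2, congrArg Subtype.val hy⟩

/-- Modulo `F` every element outside `F` generates `A`. -/
theorem exists_pow_mul [Finite X] {a b : X} (ha : a ∈ A) (haF : a ∉ F) (hb : b ∈ A) :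
    ∃ i : ℕ, ∃ f ∈ F, b = f * a ^ i := by
  let C : Subgroup X :=
    { carrier := {g | ∃ i : ℕ, ∃ f ∈ F, g = f * a ^ i}
      one_mem' := ⟨0, 1, one_mem F, by simp⟩
      mul_mem' := by
        rintro _ _ ⟨i, f, hf, rfl⟩ ⟨j, g, hg, rfl⟩
        refine ⟨i + j, f * (a ^ i * g * (a ^ i)⁻¹),
          F.mul_mem hf (d.F_normal _ (pow_mem ha i) g hg), ?_⟩
        rw [pow_add]; group
      inv_mem' := by
        rintro _ ⟨i, f, hf, rfl⟩
        refine ⟨i * (orderOf a - 1), (a ^ i)⁻¹ * f⁻¹ * a ^ i, ?_, ?_⟩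
        · simpa using d.F_normal _ (inv_mem (pow_mem ha i)) _ (inv_mem hf)
        · rw [pow_mul, mul_inv_rev, mul_assoc _ (a ^ i) ((a ^ i) ^ _), ← pow_succ',
            Nat.sub_add_cancel (orderOf_pos a), ← pow_mul, mul_comm i, pow_mul,
            pow_orderOf_eq_one, one_pow, mul_one] }
  exact d.A_le ha haF (C := C) ⟨1, 1, one_mem F, by simp⟩
    (fun f hf => ⟨0, f, hf, by simp⟩) hb

variable {Z : Subgroup X} [Fintype F] [IsMulCommutative Z]

/-- The product of the conjugates of `z` under `F`. -/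
noncomputable def favg (_d : PQData ρ A F v p q r s R S) (hFZ : F ≤ normalizer (Z : Set X))
    (z : Z) : Z :=
  ∏ f : F, Z.normalizerMonoidHom ⟨f, hFZ f.2⟩ z

theorem favg_commute (hFZ : F ≤ normalizer (Z : Set X)) (z : Z) :
    ∀ f ∈ F, Commute f (d.favg hFZ z : X) := by
  intro g hg
  have h : Z.normalizerMonoidHom ⟨g, hFZ hg⟩ (d.favg hFZ z) = d.favg hFZ z := by
    rw [favg, map_prod]
    refine Fintype.prod_equiv (Equiv.mulLeft (⟨g, hg⟩ : F)) _ _ fun f => ?_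
    rw [← MulAut.mul_apply, ← map_mul]
    rfl
  exact mul_inv_eq_iff_eq_mul.mp (congrArg Subtype.val h)

theorem favg_conj (hFZ : F ≤ normalizer (Z : Set X)) (g : normalizer (Z : Set X))
    (hg : ∀ f ∈ F, Commute f (g : X)) (z : Z) :
    d.favg hFZ (Z.normalizerMonoidHom g z) = Z.normalizerMonoidHom g (d.favg hFZ z) := by
  rw [favg, favg, map_prod]
  refine Finset.prod_congr rfl fun f _ => ?_
  rw [← MulAut.mul_apply, ← MulAut.mul_apply, ← map_mul, ← map_mul]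
  congr 2
  exact Subtype.ext (hg f f.2)

/-- The product of the twists of a character under `F`. -/
noncomputable def fnorm (_d : PQData ρ A F v p q r s R S) (hFZ : F ≤ normalizer (Z : Set X))
    (χ : Z →* kˣ) : Z →* kˣ :=
  ∏ f : F, twist ⟨f, hFZ f.2⟩ χ

theorem fnorm_apply (hFZ : F ≤ normalizer (Z : Set X)) (χ : Z →* kˣ) (z : Z) :
    d.fnorm hFZ χ z = χ (d.favg hFZ z) := by
  rw [fnorm, favg, MonoidHom.finsetProd_apply, map_prod]
  refine Fintype.prod_equiv (Equiv.inv F) _ _ fun f => ?_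
  rw [twist_apply]
  rfl

theorem fnorm_of_le_stab [Finite X] (hFZ : F ≤ normalizer (Z : Set X)) {χ : Z →* kˣ}
    (h : F ≤ stab Z χ) : d.fnorm hFZ χ = χ ^ q := by
  rw [fnorm, Finset.prod_congr rfl fun f _ => (mem_stab (hFZ f.2)).mp (h f.2), Finset.prod_const,
    Finset.card_univ, ← Nat.card_eq_fintype_card, d.cardF]

theorem eq_one_of_both [Finite X] (hZR : Z ≤ R) (hFZ : F ≤ normalizer (Z : Set X))
    {χ : Z →* kˣ} (hF : F ≤ stab Z χ)
    (hC : ∀ z : Z, (∀ f ∈ F, Commute f (z : X)) → χ z = 1) : χ = 1 := by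
  refine MonoidHom.ext fun z => ?_
  have h1 : χ z ^ q = 1 := by
    have := d.fnorm_apply hFZ χ z
    rw [d.fnorm_of_le_stab hFZ hF, MonoidHom.pow_apply] at this
    rw [this, hC _ (d.favg_commute hFZ z)]
  exact eq_of_pow_eq (d.coprime_q_of_pGroup d.hr d.hrq (d.pR.to_le hZR))
    (pow_card_eq_one χ z) (one_pow _) (h1.trans (one_pow _).symm)

variable [Algebra k E]

/-- The stabiliser in `A` of an occurring nontrivial character. -/
theorem occ_cases [Finite X] [CharP k v] (hv : v.Prime) [Fintype Z] (hZR : Z ≤ R)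
    (hAZ : A ≤ normalizer (Z : Set X)) {χ : Z →* kˣ} (hocc : eproj Z ρ χ ≠ 0) (hχ : χ ≠ 1) :
    (F ≤ stab Z χ ∧ ∀ f ∈ F, f ≠ 1 →
      eproj Z ρ χ * ∑ i ∈ Finset.range q, ρ (f ^ i) = 0) ∨
    (¬ F ≤ stab Z χ ∧ ∃ a ∈ A, a ∉ F ∧ a ^ p = 1 ∧ a ∈ stab Z χ ∧
      (∀ z : Z, (∀ f ∈ F, Commute f (z : X)) → χ z = 1) ∧
      eproj Z ρ χ * ∑ i ∈ Finset.range p, ρ (a ^ i) = 0) := by
  classical
  haveI := Fintype.ofFinite A
  haveI := Fintype.ofFinite X
  have hFZ := d.F_le.trans hAZ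
  set B := A ⊓ stab Z χ with hB
  have hC : ∀ a ∈ A, a ∉ F → a ∈ stab Z χ →
      ∀ z : Z, (∀ f ∈ F, Commute f (z : X)) → χ z = 1 := by
    intro a ha haF hast z hz
    obtain ⟨y, hy, -, hyz⟩ := d.exists_inv_mul_conj hAZ
      (fun y hy => d.fixR y (hZR hy)) ha haF z.2 hz
    have e : z = (⟨y, hy⟩ : Z)⁻¹ * Z.normalizerMonoidHom ⟨a, hAZ ha⟩ ⟨y, hy⟩ :=
      Subtype.ext hyz.symm
    rw [e, map_mul, map_inv, (twist_eq_iff _ _).mp ((mem_stab (hAZ ha)).mp hast) _, inv_mul_cancel]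
  have hsum : eproj Z ρ χ * ∑ b : B, ρ (b : X) = 0 := by
    have h := eproj_mul_sum_stab_eq_zero ρ (d.card_ne_zero (k := k) hv hZR) A hAZ d.sum_eq_zero χ
    rw [← h]
    congr 1
    refine Finset.sum_nbij (fun b => ⟨(b : X), b.2.1⟩) ?_ ?_ ?_ (fun b _ => rfl)
    · exact fun b _ => Finset.mem_filter.mpr ⟨Finset.mem_univ _, (mem_stab _).mp b.2.2⟩
    · exact fun b _ c _ h => Subtype.ext (congrArg (fun a : A => (a : X)) h)
    · intro a ha
      exact ⟨⟨(a : X), a.2, (mem_stab (hAZ a.2)).mpr (Finset.mem_filter.mp ha).2⟩,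
        Finset.mem_univ _, Subtype.ext rfl⟩
  have hzp : ∀ (b : X) (n : ℕ), n.Prime → b ^ n = 1 → b ≠ 1 → B = zpowers b →
      eproj Z ρ χ * ∑ i ∈ Finset.range n, ρ (b ^ i) = 0 := by
    intro b n hn hbn hb1 hBb
    haveI := Fact.mk hn
    have ho : orderOf b = n := orderOf_eq_prime hbn hb1
    rw [← hsum]
    congr 1
    refine Finset.sum_nbij (fun i => ⟨b ^ i, hBb ▸ npow_mem_zpowers b i⟩) ?_ ?_ ?_ (fun _ _ => rfl)
    · exact fun i _ => Finset.mem_univ _
    · intro i hi j hj h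
      exact pow_injOn_Iio_orderOf (by simpa [ho] using hi) (by simpa [ho] using hj)
        (congrArg Subtype.val h)
    · rintro ⟨c, hc⟩ -
      obtain ⟨i, hi⟩ := mem_powers_iff_mem_zpowers.mpr (hBb ▸ hc : c ∈ zpowers b)
      refine ⟨i % n, Finset.mem_range.mpr (Nat.mod_lt _ hn.pos), Subtype.ext ?_⟩
      change b ^ (i % n) = c
      rw [← ho, pow_mod_orderOf]
      exact hi
  by_cases hF : F ≤ stab Z χ
  · refine Or.inl ⟨hF, fun f hf hf1 => hzp f q d.hq (d.pow_q_eq_one hf) hf1 ?_⟩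
    refine le_antisymm (fun b hb => d.F_le_zpowers hf hf1 ?_) (zpowers_le.mpr ⟨d.F_le hf, hF hf⟩)
    by_contra hbF
    exact hχ (d.eq_one_of_both hZR hFZ hF (hC b hb.1 hbF hb.2))
  refine Or.inr ⟨hF, ?_⟩
  have hBF : ∀ b ∈ B, b ∈ F → b = 1 := fun b hb hbF => by
    by_contra hb1
    exact hF ((d.F_le_zpowers hbF hb1).trans (zpowers_le.mpr hb.2))
  obtain ⟨a, haB, ha1⟩ : ∃ a ∈ B, a ≠ 1 := by
    by_contra hne
    push Not at hne
    refine hocc ?_
    have : Unique B := ⟨⟨1⟩, fun b => Subtype.ext (hne b b.2)⟩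
    rw [← hsum, Fintype.sum_unique]
    rw [hne _ (default : B).2, map_one, mul_one]
  have haF : a ∉ F := fun h => ha1 (hBF a haB h)
  have hap : a ^ p = 1 := by
    refine hBF _ (pow_mem haB p) ?_
    haveI : (F.subgroupOf A).Normal := ⟨fun f hf g => d.F_normal g g.2 f hf⟩
    have hidx : (F.subgroupOf A).index = p := by
      have h := (F.subgroupOf A).index_mul_card
      rw [Nat.card_congr (subgroupOfEquivOfLe d.F_le).toEquiv, d.cardF, d.cardA] at h
      exact Nat.eq_of_mul_eq_mul_right d.hq.pos h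
    have h := Subgroup.pow_index_mem (F.subgroupOf A) ⟨a, haB.1⟩
    rw [hidx] at h
    exact h
  refine ⟨a, haB.1, haF, hap, haB.2, hC a haB.1 haF haB.2, hzp a p d.hp hap ha1 ?_⟩
  refine le_antisymm (fun b hb => ?_) (zpowers_le.mpr haB)
  obtain ⟨i, f, hf, rfl⟩ := d.exists_pow_mul haB.1 haF hb.1
  have : f ∈ B := by simpa using mul_mem hb (inv_mem (pow_mem haB i))
  rw [hBF f this hf, one_mul]
  exact pow_mem (mem_zpowers a) i

end PQData

end Cfsg.Agent.Lib.FpfHeight.PQBasics
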