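/-
A group of order `pq` without fixed points: averaging over `F`, and the case of an abelian `R`.
-/
import Cfsg.Agent.Lib.FpfHeight.PQBasics

set_option autoImplicit false
set_option linter.style.haveILetI false
set_option linter.unusedSectionVars false

namespace Cfsg.Agent.Lib.FpfHeight.PQAbelian

open Subgroup Cfsg.Agent.Lib.FpfHeight.CharLayer Cfsg.Agent.Lib.FpfHeight.PQBasics
open scoped IsMulCommutative

variable {k : Type*} [Field k] {v : ℕ} [CharP k v] {X : Type*} [Group X] [Finite X]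
  {E : Type*} [Ring E] [Algebra k E] {ρ : X →* E} {A F : Subgroup X} {p q r s : ℕ}
  {R S : Subgroup X}

/-- Proper invariant subgroups of `S` centralize `R`. -/
def SmallS (A R S : Subgroup X) : Prop :=
  ∀ S1 : Subgroup X, S1 < S → A ≤ normalizer (S1 : Set X) → ∀ x ∈ S1, ∀ y ∈ R, Commute x y

/-- Proper invariant subgroups of `R` are centralized by `S`. -/
def SmallR (A R S : Subgroup X) : Prop :=
  ∀ R1 : Subgroup X, R1 < R → A ≤ normalizer (R1 : Set X) → S ≤ normalizer (R1 : Set X) →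
    ∀ x ∈ S, ∀ y ∈ R1, Commute x y

variable (d : PQData ρ A F v p q r s R S)

include d

/-- Either `F` centralizes `S`, or the fixed points of `F` in `S` centralize `R`. -/
theorem dichotomy (hS : SmallS A R S) :
    (∀ x ∈ S, ∀ f ∈ F, Commute f x) ∨
      ∀ x ∈ S, (∀ f ∈ F, Commute f x) → ∀ y ∈ R, Commute x y := by
  by_cases h : S ≤ centralizer (F : Set X)
  · exact Or.inl fun x hx f hf => mem_centralizer_iff.mp (h hx) f hf
  refine Or.inr fun x hx hxF y hy => ?_
  have hlt : S ⊓ centralizer (F : Set X) < S :=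
    lt_of_le_of_ne inf_le_left fun e => h (e ▸ inf_le_right)
  refine hS _ hlt ?_ x ⟨hx, mem_centralizer_iff.mpr fun f hf => hxF f hf⟩ y hy
  intro a ha
  refine mem_normalizer_iff.mpr fun z => ?_
  have key : ∀ b ∈ A, ∀ w ∈ S ⊓ centralizer (F : Set X),
      b * w * b⁻¹ ∈ S ⊓ centralizer (F : Set X) := fun b hb w hw =>
    ⟨(mem_normalizer_iff.mp (d.normS hb) w).mp hw.1,
      mem_centralizer_iff.mpr (d.conj_commute hb fun f hf => mem_centralizer_iff.mp hw.2 f hf)⟩
  refine ⟨key a ha z, fun hz => ?_⟩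
  have := key _ (inv_mem ha) _ hz
  rwa [inv_inv, show a⁻¹ * (a * z * a⁻¹) * a = z by group] at this

/-- An element of `S` whose image among the automorphisms of `R` commutes with a nonidentity
element of `F` acts trivially on `R`. -/
theorem conj_eq_of_fixed (hU : ∀ x ∈ S, (∀ f ∈ F, Commute f x) → ∀ y ∈ R, Commute x y)
    {f : X} (hf : f ∈ F) (hf1 : f ≠ 1) {x : X} (hx : x ∈ S)
    (hfix : ∀ y ∈ R, f * x * f⁻¹ * y * (f * x * f⁻¹)⁻¹ = x * y * x⁻¹) :
    ∀ y ∈ R, x * y * x⁻¹ = y := by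
  set K := S ⊓ centralizer (R : Set X) with hK
  have hfK : f ∈ normalizer (K : Set X) :=
    Cfsg.Agent.Lib.Coprime.le_normalizer_inf (d.F_le.trans d.normS)
      ((d.F_le.trans d.normR).trans fun g hg => by
        refine mem_normalizer_iff.mpr fun w => ?_
        simp only [mem_centralizer_iff, SetLike.mem_coe]
        constructor
        · intro h y hy
          have h1 := h _ ((mem_normalizer_iff.mp (inv_mem hg) y).mp hy)
          rw [inv_inv] at h1
          calc y * (g * w * g⁻¹) = g * (g⁻¹ * y * g * w) * g⁻¹ := by group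
            _ = g * (w * (g⁻¹ * y * g)) * g⁻¹ := by rw [h1]
            _ = g * w * g⁻¹ * y := by group
        · intro h y hy
          have h1 := h _ ((mem_normalizer_iff.mp hg y).mp hy)
          calc y * w = g⁻¹ * (g * y * g⁻¹ * (g * w * g⁻¹)) * g := by group
            _ = g⁻¹ * (g * w * g⁻¹ * (g * y * g⁻¹)) * g := by rw [h1]
            _ = w * y := by group) hf
  obtain ⟨m, hm, hcm⟩ := exists_mul_commute (d.pow_q_eq_one hf) hfK
    (d.coprime_q_of_pGroup d.hs d.hsq (d.pS.to_le inf_le_left)) (x := x) (by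
      refine ⟨S.mul_mem (S.inv_mem hx) ((mem_normalizer_iff.mp (d.normS (d.F_le hf)) x).mp hx),
        mem_centralizer_iff.mpr fun y hy => ?_⟩
      have h1 := hfix y hy
      calc y * (x⁻¹ * (f * x * f⁻¹)) = x⁻¹ * (x * y * x⁻¹) * (f * x * f⁻¹) := by group
        _ = x⁻¹ * (f * x * f⁻¹ * y * (f * x * f⁻¹)⁻¹) * (f * x * f⁻¹) := by rw [h1]
        _ = x⁻¹ * (f * x * f⁻¹) * y := by group)
  intro y hy
  have h1 : Commute (x * m) y := hU _ (S.mul_mem hx hm.1) (d.commute_F hf hf1 hcm) y hy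
  have h2 : Commute m y := (mem_centralizer_iff.mp hm.2 y hy).symm
  have h3 : Commute x y := by simpa using h1.mul_left h2.inv_left
  rw [h3.eq, mul_inv_cancel_right]

omit d in
/-- The action of automorphisms on characters. -/
def autTwist (σ : MulAut R) (ν : R →* kˣ) : R →* kˣ := ν.comp σ.symm.toMonoidHom

omit d in
theorem autTwist_mul (σ τ : MulAut R) (ν : R →* kˣ) :
    autTwist (σ * τ) ν = autTwist σ (autTwist τ ν) := rfl

omit d in
theorem autTwist_one (ν : R →* kˣ) : autTwist (1 : MulAut R) ν = ν := rfl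

omit d in
theorem autTwist_prod (σ : MulAut R) {ι : Type*} (t : Finset ι) (ν : ι → R →* kˣ) :
    autTwist σ (∏ i ∈ t, ν i) = ∏ i ∈ t, autTwist σ (ν i) := by
  ext z; simp [autTwist, MonoidHom.finsetProd_apply]

omit d in
theorem twist_eq_autTwist (g : normalizer (R : Set X)) (ν : R →* kˣ) :
    twist g ν = autTwist (R.normalizerMonoidHom g) ν := by
  ext z
  rw [twist_apply, map_inv]
  rfl

omit d in
/-- The averaging identity, for a group of automorphisms `T` normalized by operators `φ`. -/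
theorem autTwist_eq_of_norm {ι : Type*} [Fintype ι] [DecidableEq ι] (i₀ : ι) (φ : ι → MulAut R)
    (hφ : φ i₀ = 1) (T : Subgroup (MulAut R)) [Fintype T]
    (hT : ∀ i, ∀ ξ ∈ T, φ i * ξ * (φ i)⁻¹ ∈ T)
    (hfpf : ∀ i, i ≠ i₀ → ∀ ξ ∈ T, φ i * ξ * (φ i)⁻¹ = ξ → ξ = 1) (μ : R →* kˣ)
    (h : ∀ ξ ∈ T, ∏ i, autTwist (φ i) (autTwist ξ μ) = 1) (ξ₀ : T) :
    autTwist (ξ₀ : MulAut R) μ ^ Nat.card T = μ ^ Nat.card T := by
  let g : ι → T → T := fun i ξ => ξ⁻¹ * ⟨_, hT i ξ ξ.2⟩
  have hg : ∀ i, i ≠ i₀ → Function.Bijective (g i) := by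
    intro i hi
    refine Finite.injective_iff_bijective.mp fun ξ η hξη => ?_
    have e : (ξ : MulAut R)⁻¹ * (φ i * ξ * (φ i)⁻¹) = (η : MulAut R)⁻¹ * (φ i * η * (φ i)⁻¹) :=
      congrArg Subtype.val hξη
    have hfix := hfpf i hi ((η : MulAut R) * (ξ : MulAut R)⁻¹) (T.mul_mem η.2 (T.inv_mem ξ.2)) (by
      calc φ i * ((η : MulAut R) * (ξ : MulAut R)⁻¹) * (φ i)⁻¹
          = η * ((η : MulAut R)⁻¹ * (φ i * η * (φ i)⁻¹)) *
            ((ξ : MulAut R) * ((ξ : MulAut R)⁻¹ * (φ i * ξ * (φ i)⁻¹)))⁻¹ := by group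
        _ = _ := by rw [← e]; group)
    exact (Subtype.ext (mul_inv_eq_one.mp hfix) : η = ξ).symm
  let Zp : (R →* kˣ) → (R →* kˣ) := fun ν => ∏ ξ : T, autTwist ξ ν
  have h2 : ∀ ξ : T, ∏ i, autTwist (g i ξ : MulAut R) (autTwist (φ i) μ) = 1 := by
    intro ξ
    refine Eq.trans ?_ (show autTwist (ξ : MulAut R)⁻¹ (1 : R →* kˣ) = 1 from rfl)
    rw [← h ξ ξ.2, autTwist_prod]
    refine Finset.prod_congr rfl fun i _ => ?_
    rw [← autTwist_mul, ← autTwist_mul, ← autTwist_mul]
    congr 1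
    change (ξ : MulAut R)⁻¹ * (φ i * ξ * (φ i)⁻¹) * φ i = _
    group
  have h3 : (∏ _ξ : T, μ) * ∏ i ∈ Finset.univ.erase i₀, Zp (autTwist (φ i) μ) = 1 := by
    have : ∏ i, ∏ ξ : T, autTwist (g i ξ : MulAut R) (autTwist (φ i) μ) = 1 := by
      rw [Finset.prod_comm]; exact Finset.prod_eq_one fun ξ _ => h2 ξ
    rw [← Finset.mul_prod_erase Finset.univ _ (Finset.mem_univ i₀)] at this
    refine Eq.trans (congrArg₂ (· * ·) ?_ ?_) this
    · refine Finset.prod_congr rfl fun ξ _ => ?_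
      have : (g i₀ ξ : MulAut R) = 1 := by
        change (ξ : MulAut R)⁻¹ * (φ i₀ * ξ * (φ i₀)⁻¹) = 1
        rw [hφ]; group
      rw [this, hφ, autTwist_one (R := R), autTwist_one (R := R)]
    · exact Finset.prod_congr rfl fun i hi =>
        (Fintype.prod_bijective (g i) (hg i (Finset.ne_of_mem_erase hi)) _ _ fun ξ => rfl).symm
  have h4 : Zp μ * ∏ i ∈ Finset.univ.erase i₀, Zp (autTwist (φ i) μ) = 1 := by
    have : ∏ i, Zp (autTwist (φ i) μ) = 1 := by
      simp only [Zp]
      rw [Finset.prod_comm]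
      refine Finset.prod_eq_one fun ξ _ => ?_
      rw [← autTwist_prod]
      have := h 1 T.one_mem
      rw [Finset.prod_congr rfl fun i _ => congrArg (autTwist (φ i)) (autTwist_one μ)] at this
      rw [this]; rfl
    rwa [← Finset.mul_prod_erase Finset.univ _ (Finset.mem_univ i₀), hφ, autTwist_one] at this
  have hZ : Zp μ = μ ^ Nat.card T := by
    rw [mul_right_cancel (h4.trans h3.symm), Finset.prod_const, Finset.card_univ,
      Nat.card_eq_fintype_card]
  have hfix : autTwist (ξ₀ : MulAut R) (Zp μ) = Zp μ := by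
    simp only [Zp]
    rw [autTwist_prod]
    exact Fintype.prod_equiv (Equiv.mulLeft ξ₀) _ _ fun ξ => (autTwist_mul _ _ _).symm
  rw [hZ] at hfix
  exact hfix

/-- A character whose translates have trivial `F`-norm is fixed by `S`. -/
theorem le_stab_of_norm [Fintype F]
    (hU : ∀ x ∈ S, (∀ f ∈ F, Commute f x) → ∀ y ∈ R, Commute x y) (μ : R →* kˣ)
    (h : ∀ x : S, ∏ f : F, twist ⟨(f : X), d.normR (d.F_le f.2)⟩
      (twist ⟨(x : X), d.normSR x.2⟩ μ) = 1) :
    S ≤ stab R μ := by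
  classical
  let θ : S →* MulAut R := R.normalizerMonoidHom.comp (inclusion d.normSR)
  haveI : Finite θ.range := Finite.of_surjective θ.rangeRestrict θ.rangeRestrict_surjective
  haveI := Fintype.ofFinite θ.range
  intro x hx
  refine (mem_stab (d.normSR hx)).mpr ?_
  have hx' := autTwist_eq_of_norm (1 : F)
    (fun f => R.normalizerMonoidHom ⟨(f : X), d.normR (d.F_le f.2)⟩)
    ((congrArg R.normalizerMonoidHom (Subtype.ext rfl)).trans (map_one _)) θ.range ?_ ?_ μ ?_
    ⟨θ ⟨x, hx⟩, ⟨x, hx⟩, rfl⟩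
  · rw [twist_eq_autTwist]
    refine MonoidHom.ext fun z => eq_of_pow_eq ?_ (pow_card_eq_one _ z) (pow_card_eq_one _ z)
      (DFunLike.congr_fun hx' z)
    exact d.coprime_card.coprime_dvd_left (card_range_dvd θ)
  · rintro f _ ⟨y, rfl⟩
    refine ⟨⟨f * y * (f : X)⁻¹, (mem_normalizer_iff.mp (d.normS (d.F_le f.2)) y).mp y.2⟩, ?_⟩
    simp only [θ, MonoidHom.comp_apply]
    rw [← map_inv, ← map_mul, ← map_mul]
    rfl
  · rintro f hf _ ⟨y, rfl⟩ hy
    refine MulEquiv.ext fun w => Subtype.ext ?_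
    refine conj_eq_of_fixed d hU f.2 (fun e => hf (Subtype.ext e)) y.2 (fun z hz => ?_) w w.2
    have h1 := congrArg (fun σ : MulAut R => (σ ⟨z, hz⟩ : X)) hy
    simp only [θ, MonoidHom.comp_apply, ← map_inv, ← map_mul] at h1
    exact h1
  · rintro _ ⟨y, rfl⟩
    refine Eq.trans (Finset.prod_congr rfl fun f _ => ?_) (h y)
    rw [twist_eq_autTwist, twist_eq_autTwist]
    rfl

/-- `S` centralizes an abelian `R`, given that its proper invariant subgroups do. -/
theorem commute_of_abelian [IsSepClosed k] (hv : v.Prime) [IsMulCommutative R] (hS : SmallS A R S) :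
    ∀ x ∈ S, ∀ y ∈ R, Commute x y := by
  classical
  haveI := Fintype.ofFinite R
  haveI := Fintype.ofFinite F
  haveI := Fintype.ofFinite S
  have hFR : F ≤ normalizer (R : Set X) := d.F_le.trans d.normR
  have hdi := dichotomy d hS
  have hRS : ∀ {n : ℕ}, n ∣ Nat.card S → n.Coprime (Nat.card R) := fun h =>
    d.coprime_card.coprime_dvd_left h
  have hA : ∀ χ : R →* kˣ, F ≤ stab R χ → ∀ x ∈ S, (∀ f ∈ F, Commute f x) → x ∈ stab R χ := by
    intro χ hχ x hx hxF
    refine (mem_stab (d.normSR hx)).mpr ((twist_eq_iff _ _).mpr fun z => ?_)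
    have hq : ∀ w : R, χ w ^ q = χ (d.favg hFR w) := fun w => by
      rw [← d.fnorm_apply hFR, d.fnorm_of_le_stab hFR hχ, MonoidHom.pow_apply]
    refine eq_of_pow_eq (d.coprime_q_of_pGroup d.hr d.hrq d.pR) (pow_card_eq_one _ _)
      (pow_card_eq_one _ _) ?_
    rw [hq, hq, d.favg_conj hFR _ hxF]
    congr 1
    refine Subtype.ext ?_
    change x * (d.favg hFR z : X) * x⁻¹ = _
    rw [(d.comm x hx _ (d.favg hFR z).2 hxF (d.favg_commute hFR z)).eq, mul_inv_cancel_right]
  have hocctw : ∀ (χ : R →* kˣ), eproj R ρ χ ≠ 0 → ∀ x : S,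
      eproj R ρ (twist ⟨(x : X), d.normSR x.2⟩ χ) ≠ 0 := fun χ h x => twist_ne_zero ρ _ h
  have hnorm1 : ∀ χ : R →* kˣ, eproj R ρ χ ≠ 0 → ¬ F ≤ stab R χ → d.fnorm hFR χ = 1 := by
    intro χ h hχ
    have hχ1 : χ ≠ 1 := by
      rintro rfl
      exact hχ fun f hf => (mem_stab (hFR hf)).mpr rfl
    rcases d.occ_cases hv le_rfl d.normR h hχ1 with h' | ⟨-, a, -, -, -, -, hC, -⟩
    · exact absurd h'.1 hχ
    · exact MonoidHom.ext fun z => by
        rw [d.fnorm_apply hFR]; exact hC _ (d.favg_commute hFR z)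
  have hB : ∀ χ : R →* kˣ, eproj R ρ χ ≠ 0 → F ≤ stab R χ → S ≤ stab R χ := by
    intro χ hocc hχ
    rcases hdi with hd | hd
    · exact fun x hx => hA χ hχ x hx (hd x hx)
    intro x hx
    have horb : ∀ y : S, F ≤ stab R (twist ⟨(y : X), d.normSR y.2⟩ χ) → (y : X) ∈ stab R χ := by
      intro y hy
      obtain ⟨f, hf, hf1⟩ := F.bot_or_exists_ne_one.resolve_left fun h => by
        have := d.cardF
        rw [h, Subgroup.card_bot] at this
        exact d.hq.one_lt.ne this
      set T := S ⊓ stab R χ with hT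
      have hfT : f ∈ normalizer (T : Set X) :=
        inf_normalizer_le_normalizer_inf ⟨d.normS (d.F_le hf), le_normalizer (hχ hf)⟩
      obtain ⟨m, hm, hcm⟩ := exists_mul_commute (d.pow_q_eq_one hf) hfT
        (d.coprime_q_of_pGroup d.hs d.hsq (d.pS.to_le inf_le_left)) (x := (y : X)) (by
          refine ⟨S.mul_mem (S.inv_mem y.2)
            ((mem_normalizer_iff.mp (d.normS (d.F_le hf)) y).mp y.2), ?_⟩
          have h1 := (mem_stab (hFR hf)).mp (hy hf)
          have h2 := (mem_stab (hFR hf)).mp (hχ hf)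
          have hfy : (y : X)⁻¹ * f * y ∈ stab R χ := by
            refine (mem_stab (mul_mem (mul_mem (inv_mem (d.normSR y.2)) (hFR hf))
              (d.normSR y.2))).mpr ?_
            rw [show (⟨(y : X)⁻¹ * f * y, _⟩ : normalizer (R : Set X)) =
              (⟨y, d.normSR y.2⟩)⁻¹ * ⟨f, hFR hf⟩ * ⟨y, d.normSR y.2⟩ from rfl, twist_mul,
              twist_mul, h1, ← twist_mul, inv_mul_cancel, twist_one]
          have := mul_mem hfy (inv_mem (hχ hf))
          rwa [show (y : X)⁻¹ * f * y * f⁻¹ = (y : X)⁻¹ * (f * y * f⁻¹) by group] at this)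
      have hst := hA χ hχ _ (S.mul_mem y.2 hm.1) (d.commute_F hf hf1 hcm)
      simpa using mul_mem hst (inv_mem hm.2)
    set z := ∏ y : S, twist ⟨(y : X), d.normSR y.2⟩ χ with hz
    set T := Finset.univ.filter (fun y : S => (y : X) ∈ stab R χ) with hT
    have hzn : d.fnorm hFR z = χ ^ (q * T.card) := by
      have e : d.fnorm hFR z = ∏ y : S, d.fnorm hFR (twist ⟨(y : X), d.normSR y.2⟩ χ) := by
        simp only [PQData.fnorm, hz, twist_prod]
        exact Finset.prod_comm
      rw [e, ← Finset.prod_subset (Finset.subset_univ T)]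
      · rw [Finset.prod_congr rfl fun y hy => congrArg (d.fnorm hFR)
          ((mem_stab _).mp (Finset.mem_filter.mp hy).2), Finset.prod_const,
          d.fnorm_of_le_stab hFR hχ]
        exact (pow_mul χ q _).symm
      · intro y _ hy
        refine hnorm1 _ (hocctw χ hocc y) fun hF => hy ?_
        exact Finset.mem_filter.mpr ⟨Finset.mem_univ _, horb y hF⟩
    have hfix : twist ⟨x, d.normSR hx⟩ (d.fnorm hFR z) = d.fnorm hFR z := by
      have hzfix : ∀ g : S, twist ⟨(g : X), d.normSR g.2⟩ z = z := fun g => by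
        rw [hz, twist_prod]
        refine Fintype.prod_equiv (Equiv.mulLeft g) _ _ fun y => ?_
        rw [← twist_mul]; rfl
      simp only [PQData.fnorm, twist_prod]
      refine Finset.prod_congr rfl fun f _ => ?_
      have hconj : (f : X)⁻¹ * x * f ∈ S := by
        simpa using (mem_normalizer_iff.mp (inv_mem (d.normS (d.F_le f.2))) x).mp hx
      conv_rhs => rw [← hzfix ⟨_, hconj⟩]
      rw [← twist_mul, ← twist_mul]
      congr 1
      refine Subtype.ext ?_
      change x * (f : X) = f * ((f : X)⁻¹ * x * f)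
      group
    rw [hzn] at hfix
    refine (mem_stab (d.normSR hx)).mpr (MonoidHom.ext fun w => ?_)
    refine eq_of_pow_eq (Nat.Coprime.mul_left (d.coprime_q_of_pGroup d.hr d.hrq d.pR) (hRS ?_))
      (pow_card_eq_one _ _) (pow_card_eq_one _ _) (DFunLike.congr_fun hfix w)
    let T' : Subgroup S := (stab R χ).subgroupOf S
    have : T.card = Nat.card T' := by
      rw [Nat.card_eq_fintype_card, Fintype.card_subtype]
      rfl
    rw [this]
    exact card_subgroup_dvd_card T'
  have hall : ∀ χ : R →* kˣ, eproj R ρ χ ≠ 0 → S ≤ stab R χ := by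
    intro χ hocc
    by_cases hχ : F ≤ stab R χ
    · exact hB χ hocc hχ
    have horb : ∀ y : S, ¬ F ≤ stab R (twist ⟨(y : X), d.normSR y.2⟩ χ) := by
      intro y hy
      have h1 := (mem_stab (d.normSR (S.inv_mem y.2))).mp (hB _ (hocctw χ hocc y) hy (S.inv_mem y.2))
      rw [← twist_mul, show (⟨(y : X)⁻¹, d.normSR (S.inv_mem y.2)⟩ : normalizer (R : Set X)) *
        ⟨y, d.normSR y.2⟩ = 1 from Subtype.ext (inv_mul_cancel (y : X)), twist_one] at h1
      exact hχ (h1 ▸ hy)
    rcases hdi with hd | hd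
    · -- `F` centralizes `S`
      have hne : ∀ ψ : R →* kˣ, ¬ F ≤ stab R ψ → ψ ≠ 1 := fun ψ hψ e =>
        hψ fun f hf => (mem_stab (hFR hf)).mpr (by rw [e]; rfl)
      rcases d.occ_cases hv le_rfl d.normR hocc (hne χ hχ) with h' | ⟨-, a, ha, haF, -, hast, -, -⟩
      · exact absurd h'.1 hχ
      intro u hu
      obtain ⟨x, hx, -, hxu⟩ := d.exists_inv_mul_conj d.normS d.fixS ha haF hu (hd u hu)
      rcases d.occ_cases hv le_rfl d.normR (hocctw χ hocc ⟨x, hx⟩) (hne _ (horb ⟨x, hx⟩)) with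
        h' | ⟨-, b, hb, hbF, -, hbst, -, -⟩
      · exact absurd h'.1 (horb ⟨x, hx⟩)
      obtain ⟨i, f, hf, rfl⟩ : ∃ i : ℕ, ∃ f ∈ F, a = f * b ^ i := d.exists_pow_mul hb hbF ha
      have h2 : b ^ i ∈ stab R (twist ⟨x, d.normSR hx⟩ χ) := pow_mem hbst i
      have h3 : x⁻¹ * (b ^ i * x) ∈ stab R χ := by
        obtain ⟨hn, h2'⟩ := h2
        refine (mem_stab (mul_mem (inv_mem (d.normSR hx)) (mul_mem hn (d.normSR hx)))).mpr ?_
        rw [show (⟨x⁻¹ * (b ^ i * x), _⟩ : normalizer (R : Set X)) =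
          ((⟨x, d.normSR hx⟩)⁻¹ : normalizer (R : Set X)) * (⟨b ^ i, hn⟩ * ⟨x, d.normSR hx⟩)
          from rfl, twist_mul, twist_mul, h2', ← twist_mul, inv_mul_cancel, twist_one]
      have h4 : u * f⁻¹ ∈ stab R χ := by
        have := mul_mem h3 (inv_mem hast)
        convert this using 1
        have hc : Commute f⁻¹ (f * b ^ i * x * (f * b ^ i)⁻¹) :=
          hd _ ((mem_normalizer_iff.mp (d.normS ha) x).mp hx) _ (inv_mem hf)
        rw [← hxu, mul_assoc x⁻¹, ← hc.eq]
        group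
      have h5 : (u * f⁻¹) ^ Nat.card S ∈ stab R χ := pow_mem h4 _
      have hu1 : u ^ Nat.card S = 1 :=
        congrArg Subtype.val (pow_card_eq_one' (x := (⟨u, hu⟩ : S)))
      have hcu : Commute u f⁻¹ := (hd u hu _ (inv_mem hf)).symm
      rw [hcu.mul_pow, hu1, one_mul] at h5
      have hf1 : f = 1 := by
        by_contra hf1
        have hne' : f⁻¹ ^ Nat.card S ≠ 1 := fun e => hf1 (by
          have h6 := pow_gcd_eq_one.mpr ⟨e, d.pow_q_eq_one (inv_mem hf)⟩
          rw [(d.coprime_q_of_pGroup d.hs d.hsq d.pS).symm, pow_one] at h6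
          exact inv_eq_one.mp h6)
        exact hχ ((d.F_le_zpowers (pow_mem (inv_mem hf) _) hne').trans (zpowers_le.mpr h5))
      simpa [hf1] using h4
    · refine le_stab_of_norm d hd χ fun y => ?_
      exact hnorm1 _ (hocctw χ hocc y) (horb y)
  intro x hx y hy
  have key : ∀ z : R, z = (R.normalizerMonoidHom ⟨x, d.normSR hx⟩ ⟨y, hy⟩) * (⟨y, hy⟩ : R)⁻¹ →
      z = 1 := by
    intro z hzd
    by_contra hz
    obtain ⟨χ, hocc, hne⟩ := exists_occurs_apply_ne_one ρ (d.card_ne_zero (k := k) hv le_rfl)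
      (z := z) fun e => hz (Subtype.ext (d.inj _ z.2 e))
    apply hne
    rw [hzd, map_mul, map_inv,
      (twist_eq_iff _ _).mp ((mem_stab (d.normSR hx)).mp (hall χ hocc hx)), mul_inv_cancel]
  have h := key _ rfl
  exact mul_inv_eq_iff_eq_mul.mp (congrArg Subtype.val (mul_inv_eq_one.mp h) : x * y * x⁻¹ = y)

end Cfsg.Agent.Lib.FpfHeight.PQAbelian
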