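/-
The module component of a character of a central subgroup, and the commutator pairing.
-/
import Cfsg.Agent.Lib.FpfHeight.PQBasics

set_option autoImplicit false
set_option linter.style.haveILetI false
set_option linter.unusedSectionVars false

namespace Cfsg.Agent.Lib.FpfHeight.PQComponent

open Subgroup Cfsg.Agent.Lib.FpfHeight.CharLayer Cfsg.Agent.Lib.FpfHeight.PQBasics
open scoped commutatorElement

variable {k : Type*} [Field k] {X : Type*} [Group X]

section Component

variable {W : Type*} [AddCommGroup W] [Module k W] {Z : Subgroup X} [Fintype Z]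
  (ρ : X →* Module.End k W) (χ : Z →* kˣ)

theorem eproj_commute {g : X} (hg : g ∈ stab Z χ) :
    ρ g * eproj Z ρ χ = eproj Z ρ χ * ρ g := by
  obtain ⟨hn, he⟩ := hg
  have := mul_eproj_twist ρ χ ⟨g, hn⟩
  rwa [he] at this

/-- The component of a character. -/
noncomputable abbrev space : Submodule k W := LinearMap.range (eproj Z ρ χ)

theorem mem_space {g : X} (hg : g ∈ stab Z χ) {w : W} (hw : w ∈ space ρ χ) :
    ρ g w ∈ space ρ χ := by
  obtain ⟨u, rfl⟩ := hw
  exact ⟨ρ g u, by rw [← Module.End.mul_apply, ← eproj_commute ρ χ hg, Module.End.mul_apply]⟩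

/-- The stabiliser acting on the component. -/
noncomputable def compRep : stab Z χ →* Module.End k (space ρ χ) where
  toFun g := (ρ g).restrict fun _ h => mem_space ρ χ g.2 h
  map_one' := LinearMap.ext fun w => Subtype.ext (by
    change ρ 1 (w : W) = w
    rw [map_one, Module.End.one_apply])
  map_mul' g h := LinearMap.ext fun w => Subtype.ext (by
    change ρ ((g : X) * h) (w : W) = ρ g (ρ h (w : W))
    rw [map_mul, Module.End.mul_apply])

theorem coe_compRep (g : stab Z χ) (w : space ρ χ) : (compRep ρ χ g w : W) = ρ g w := rfl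

theorem nontrivial_space (h : eproj Z ρ χ ≠ 0) : Nontrivial (space ρ χ) :=
  Submodule.nontrivial_iff_ne_bot.mpr fun e => h (LinearMap.range_eq_bot.mp e)

theorem compRep_scalar {z : Z} (hz : (z : X) ∈ stab Z χ) :
    compRep ρ χ ⟨z, hz⟩ = ((χ z : kˣ) : k) • 1 := by
  refine LinearMap.ext fun w => Subtype.ext ?_
  obtain ⟨u, hu⟩ := w.2
  rw [coe_compRep]
  change ρ z (w : W) = ((χ z : kˣ) : k) • (w : W)
  rw [← hu, ← Module.End.mul_apply, mul_eproj, LinearMap.smul_apply]

theorem sum_compRep_eq_zero {g : X} (hg : g ∈ stab Z χ) {n : ℕ}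
    (h : eproj Z ρ χ * ∑ i ∈ Finset.range n, ρ (g ^ i) = 0) :
    ∑ i ∈ Finset.range n, compRep ρ χ (⟨g, hg⟩ ^ i) = 0 := by
  refine LinearMap.ext fun w => Subtype.ext ?_
  obtain ⟨u, hu⟩ := w.2
  simp only [LinearMap.sum_apply, AddSubmonoidClass.coe_finsetSum, coe_compRep,
    SubmonoidClass.coe_pow, LinearMap.zero_apply, ZeroMemClass.coe_zero]
  rw [← hu, ← LinearMap.sum_apply, ← Module.End.mul_apply,
    show (∑ i ∈ Finset.range n, ρ (g ^ i)) * eproj Z ρ χ =
      eproj Z ρ χ * ∑ i ∈ Finset.range n, ρ (g ^ i) by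
      rw [Finset.sum_mul, Finset.mul_sum]
      exact Finset.sum_congr rfl fun i _ => eproj_commute ρ χ (pow_mem hg i), h,
    LinearMap.zero_apply]

end Component

section Pairing

variable (R : Subgroup X) (hR : ∀ y ∈ R, ∀ z ∈ R, ⁅y, z⁆ ∈ R ⊓ centralizer (R : Set X))

/-- The centre of `R`, as a subgroup of the ambient group. -/
abbrev cen : Subgroup X := R ⊓ centralizer (R : Set X)

instance : IsMulCommutative (cen R) :=
  ⟨⟨fun a b => Subtype.ext (mem_centralizer_iff.mp b.2.2 a a.2.1)⟩⟩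

variable {R}

theorem commute_cen {z y : X} (hz : z ∈ cen R) (hy : y ∈ R) : Commute y z :=
  mem_centralizer_iff.mp hz.2 y hy

theorem comm_mul_left {a b c : X} (ha : a ∈ R) (hb : b ∈ R) (hc : c ∈ R)
    (hR : ∀ y ∈ R, ∀ z ∈ R, ⁅y, z⁆ ∈ cen R) : ⁅a * b, c⁆ = ⁅a, c⁆ * ⁅b, c⁆ := by
  have h1 : a * ⁅b, c⁆ = ⁅b, c⁆ * a := (commute_cen (hR b hb c hc) ha).eq
  have h2 : ⁅a, c⁆ * ⁅b, c⁆ = ⁅b, c⁆ * ⁅a, c⁆ :=
    (commute_cen (hR b hb c hc) (hR a ha c hc).1).eq
  calc ⁅a * b, c⁆ = a * ⁅b, c⁆ * (c * a⁻¹ * c⁻¹) := by simp only [commutatorElement_def]; group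
    _ = ⁅b, c⁆ * a * (c * a⁻¹ * c⁻¹) := by rw [h1]
    _ = ⁅b, c⁆ * ⁅a, c⁆ := by simp only [commutatorElement_def]; group
    _ = _ := h2.symm

theorem comm_mul_right {a b c : X} (ha : a ∈ R) (hb : b ∈ R) (hc : c ∈ R)
    (hR : ∀ y ∈ R, ∀ z ∈ R, ⁅y, z⁆ ∈ cen R) : ⁅a, b * c⁆ = ⁅a, b⁆ * ⁅a, c⁆ := by
  rw [← commutatorElement_inv (b * c) a, comm_mul_left hb hc ha hR, mul_inv_rev,
    commutatorElement_inv, commutatorElement_inv]
  exact (commute_cen (hR a ha b hb) (hR a ha c hc).1).eq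

/-- The commutator pairing attached to a character of the centre. -/
noncomputable def pair (χ : cen R →* kˣ) : R →* (R →* kˣ) where
  toFun y :=
    { toFun := fun z => χ ⟨⁅(y : X), (z : X)⁆, hR y y.2 z z.2⟩
      map_one' := by
        rw [← map_one χ]
        exact congrArg χ (Subtype.ext (commutatorElement_one_right _))
      map_mul' := fun a b => by
        rw [← map_mul χ]
        exact congrArg χ (Subtype.ext (comm_mul_right y.2 a.2 b.2 hR)) }
  map_one' := MonoidHom.ext fun z => by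
    change χ _ = 1
    rw [← map_one χ]
    exact congrArg χ (Subtype.ext (commutatorElement_one_left _))
  map_mul' a b := MonoidHom.ext fun z => by
    change χ _ = χ _ * χ _
    rw [← map_mul χ]
    exact congrArg χ (Subtype.ext (comm_mul_left a.2 b.2 z.2 hR))

theorem pair_apply (χ : cen R →* kˣ) (y z : R) :
    pair hR χ y z = χ ⟨⁅(y : X), (z : X)⁆, hR y y.2 z z.2⟩ := rfl

theorem pair_swap (χ : cen R →* kˣ) (y z : R) : pair hR χ y z = (pair hR χ z y)⁻¹ := by
  rw [pair_apply, pair_apply, ← map_inv χ]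
  exact congrArg χ (Subtype.ext (commutatorElement_inv _ _).symm)

theorem pair_cen (χ : cen R →* kˣ) {y : R} (hy : (y : X) ∈ cen R) : pair hR χ y = 1 :=
  MonoidHom.ext fun z => by
    rw [pair_apply, MonoidHom.one_apply, ← map_one χ]
    exact congrArg χ (Subtype.ext
      (commutatorElement_eq_one_iff_mul_comm.mpr (commute_cen hy z.2).eq.symm))

theorem twist_pair {χ : cen R →* kˣ} (g : normalizer (R : Set X)) (hg : (g : X) ∈ stab (cen R) χ)
    (y : R) : twist g (pair hR χ y) = pair hR χ (R.normalizerMonoidHom g y) := by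
  obtain ⟨hn, he⟩ := hg
  refine MonoidHom.ext fun z => ?_
  have h1 : R.normalizerMonoidHom g (R.normalizerMonoidHom g⁻¹ z) = z := by
    rw [← MulAut.mul_apply, ← map_mul, mul_inv_cancel, map_one, MulAut.one_apply]
  conv_rhs => rw [← h1]
  rw [twist_apply, pair_apply, pair_apply]
  conv_lhs => rw [← (twist_eq_iff _ _).mp he]
  refine congrArg χ (Subtype.ext ?_)
  change (g : X) * ⁅(y : X), (R.normalizerMonoidHom g⁻¹ z : X)⁆ * (g : X)⁻¹ = _
  exact map_commutatorElement (MulAut.conj (g : X)).toMonoidHom _ _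

theorem mem_stab_of_mem_R (χ : cen R →* kˣ) {y : X} (hy : y ∈ R) : y ∈ stab (cen R) χ :=
  mem_stab_of_commute χ fun z hz => commute_cen hz hy

variable {W : Type*} [AddCommGroup W] [Module k W] [Fintype (cen R)] (ρ : X →* Module.End k W)

/-- The pairing only depends on the operator on the component. -/
theorem pair_congr {χ : cen R →* kˣ} (hocc : eproj (cen R) ρ χ ≠ 0) {y y' : R}
    (h : compRep ρ χ ⟨y, mem_stab_of_mem_R χ y.2⟩ = compRep ρ χ ⟨y', mem_stab_of_mem_R χ y'.2⟩) :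
    pair hR χ y = pair hR χ y' := by
  refine MonoidHom.ext fun z => Units.ext ?_
  set a : stab (cen R) χ := ⟨y, mem_stab_of_mem_R χ y.2⟩ with ha
  set a' : stab (cen R) χ := ⟨y', mem_stab_of_mem_R χ y'.2⟩ with ha'
  set b : stab (cen R) χ := ⟨z, mem_stab_of_mem_R χ z.2⟩ with hb
  have hinv : compRep ρ χ a⁻¹ = compRep ρ χ a'⁻¹ := by
    have e1 : compRep ρ χ a⁻¹ * compRep ρ χ a = 1 := by rw [← map_mul, inv_mul_cancel, map_one]
    have e2 : compRep ρ χ a' * compRep ρ χ a'⁻¹ = 1 := by rw [← map_mul, mul_inv_cancel, map_one]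
    rw [← h] at e2
    exact left_inv_eq_right_inv e1 e2
  have e : compRep ρ χ ⁅a, b⁆ = compRep ρ χ ⁅a', b⁆ := by
    simp only [commutatorElement_def, map_mul, h, hinv]
  have hs : ∀ w : R, ∀ hw : (w : X) ∈ stab (cen R) χ,
      compRep ρ χ ⁅(⟨(w : X), hw⟩ : stab (cen R) χ), b⁆ = ((pair hR χ w z : kˣ) : k) • 1 := fun w hw => by
    rw [pair_apply]
    exact compRep_scalar ρ χ (z := ⟨⁅(w : X), (z : X)⁆, hR w w.2 z z.2⟩)
      (⁅(⟨(w : X), hw⟩ : stab (cen R) χ), b⁆).2
  rw [hs y a.2, hs y' a'.2] at e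
  haveI := nontrivial_space ρ χ hocc
  obtain ⟨w, hw⟩ := exists_ne (0 : space ρ χ)
  exact smul_left_injective k hw (LinearMap.congr_fun e w)

end Pairing

end Cfsg.Agent.Lib.FpfHeight.PQComponent
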