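/-
Auxiliary facts: maximal fixing subgroups in an abelian coprime action, fixed vectors of unipotent
groups, independence of operators scaled differently by conjugation.
-/
import Cfsg.Agent.Lib.Coprime.Generation

set_option autoImplicit false
set_option linter.style.haveILetI false

namespace Cfsg.Agent.Lib.FpfHeight.PQLinear

open Subgroup

theorem pow_val_add {M : Type*} [Monoid M] {s : ℕ} [NeZero s] {a : M} (ha : a ^ s = 1)
    (i j : ZMod s) : a ^ (i + j).val = a ^ i.val * a ^ j.val := by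
  rw [← pow_add, ZMod.val_add]
  exact (pow_eq_pow_mod _ ha).symm

theorem pow_val_mul {M : Type*} [Monoid M] {s : ℕ} [NeZero s] {a : M} (ha : a ^ s = 1)
    (i j : ZMod s) : a ^ (i * j).val = (a ^ i.val) ^ j.val := by
  rw [← pow_mul, ZMod.val_mul]
  exact (pow_eq_pow_mod _ ha).symm

/-- An elementary abelian coprime group of automorphisms without common fixed points has an element
whose fixing subgroup is maximal. -/
theorem exists_maximal_fixer {D : Type*} [CommGroup D] [Finite D] [Nontrivial D]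
    (T : Subgroup (MulAut D)) {s : ℕ} [Fact s.Prime] (hcomm : ∀ σ ∈ T, ∀ τ ∈ T, Commute σ τ)
    (hexp : ∀ σ ∈ T, σ ^ s = 1) (hcop : s.Coprime (Nat.card D))
    (_hfix : ∀ x : D, (∀ σ ∈ T, σ x = x) → x = 1) :
    ∃ x : D, x ≠ 1 ∧ ∀ σ ∈ T, σ x ≠ x → ∀ τ ∈ T, ∃ j : ℕ, (τ * σ ^ j) x = x := by
  classical
  let fx : D → Set (MulAut D) := fun x => {σ | σ ∈ T ∧ σ x = x}
  haveI : Finite (MulAut D) := Finite.of_injective (fun e : MulAut D => (e : D → D))
    DFunLike.coe_injective
  obtain ⟨x, hx1, hmax⟩ := Set.exists_max_image {x : D | x ≠ 1} (fun x => (fx x).ncard)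
    (Set.toFinite _) (exists_ne 1)
  refine ⟨x, hx1, fun σ hσ hσx τ hτ => ?_⟩
  by_contra hj
  push Not at hj
  -- fixed elements of a bigger group are trivial
  have hbig : ∀ y : D, (fx x ⊆ fx y) → (∃ π ∈ fx y, π ∉ fx x) → y = 1 := fun y hle ⟨π, hπ, hπx⟩ => by
    by_contra hy
    exact (Set.ncard_lt_ncard (Set.ssubset_iff_of_subset hle |>.mpr ⟨π, hπ, hπx⟩)
      (Set.toFinite _)).not_ge (hmax y hy)
  let w : ZMod s → ZMod s → D := fun i j => (σ ^ i.val * τ ^ j.val) x
  have hwfix : ∀ {ι : Type} [Fintype ι] (f : ι → ZMod s × ZMod s),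
      fx x ⊆ fx (∏ i, w (f i).1 (f i).2) := by
    intro ι _ f π hπ
    refine ⟨hπ.1, ?_⟩
    rw [map_prod]
    refine Finset.prod_congr rfl fun i _ => ?_
    have hc : Commute π (σ ^ (f i).1.val * τ ^ (f i).2.val) :=
      ((hcomm π hπ.1 σ hσ).pow_right _).mul_right ((hcomm π hπ.1 τ hτ).pow_right _)
    change π (_ : D) = _
    rw [← MulAut.mul_apply, hc.eq, MulAut.mul_apply, hπ.2]
  have hs := hexp σ hσ
  have ht := hexp τ hτ
  -- lines
  have hline : ∀ t : ZMod s, ∏ i : ZMod s, w i (t * i) = 1 := by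
    intro t
    refine hbig _ (hwfix fun i => (i, t * i)) ⟨σ * τ ^ t.val, ?_, ?_⟩
    · refine ⟨T.mul_mem hσ (T.pow_mem hτ _), ?_⟩
      rw [map_prod]
      refine Fintype.prod_equiv (Equiv.addRight (1 : ZMod s)) _ _ fun i => ?_
      change (σ * τ ^ t.val) ((σ ^ i.val * τ ^ (t * i).val) x) =
        (σ ^ (i + 1).val * τ ^ (t * (i + 1)).val) x
      rw [← MulAut.mul_apply, mul_add, mul_one, pow_val_add hs, pow_val_add ht,
        ZMod.val_one, pow_one]
      congr 1
      have hc : Commute (τ ^ t.val) (σ ^ i.val) := ((hcomm τ hτ σ hσ).pow_left _).pow_right _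
      calc σ * τ ^ t.val * (σ ^ i.val * τ ^ (t * i).val)
          = σ * (τ ^ t.val * σ ^ i.val) * τ ^ (t * i).val := by simp only [mul_assoc]
        _ = σ * σ ^ i.val * (τ ^ t.val * τ ^ (t * i).val) := by rw [hc.eq]; simp only [mul_assoc]
        _ = σ ^ i.val * σ * (τ ^ (t * i).val * τ ^ t.val) := by
          rw [← pow_succ', pow_succ, ← pow_add, add_comm, pow_add]
    · rintro ⟨-, hfx⟩
      by_cases h0 : t = 0
      · exact hσx (by simpa [h0] using hfx)
      · -- invert `t`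
        have hpow : ∀ (m : ℕ), ((σ * τ ^ t.val) ^ m) x = x := by
          intro m
          induction m with
          | zero => rfl
          | succ m ih => rw [pow_succ, MulAut.mul_apply, hfx, ih]
        refine hj (t⁻¹).val ?_
        have h1 := hpow (t⁻¹).val
        rw [((hcomm σ hσ τ hτ).pow_right _).mul_pow, ← pow_val_mul ht, mul_inv_cancel₀ h0,
          ZMod.val_one, pow_one] at h1
        rw [((hcomm τ hτ σ hσ).pow_right _).eq]
        exact h1
  have hcol : ∏ j : ZMod s, w 0 j = 1 := by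
    refine hbig _ (hwfix fun j => (0, j)) ⟨τ, ⟨hτ, ?_⟩, fun h => hj 0 (by simpa using h.2)⟩
    rw [map_prod]
    refine Fintype.prod_equiv (Equiv.addRight (1 : ZMod s)) _ _ fun j => ?_
    change τ ((σ ^ (0 : ZMod s).val * τ ^ j.val) x) = (σ ^ (0 : ZMod s).val * τ ^ (j + 1).val) x
    rw [ZMod.val_zero, pow_zero, one_mul, ← MulAut.mul_apply, one_mul, pow_val_add ht,
      ZMod.val_one, pow_one, ← pow_succ', pow_succ]
  have hall : ∏ i : ZMod s, ∏ j : ZMod s, w i j = 1 := by
    rw [← Fintype.prod_prod_type']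
    refine hbig _ (hwfix fun a => a) ⟨τ, ⟨hτ, ?_⟩, fun h => hj 0 (by simpa using h.2)⟩
    rw [map_prod]
    refine Fintype.prod_equiv ((Equiv.refl _).prodCongr (Equiv.addRight (1 : ZMod s))) _ _
      fun a => ?_
    obtain ⟨i, j⟩ := a
    change τ ((σ ^ i.val * τ ^ j.val) x) = (σ ^ i.val * τ ^ (j + 1).val) x
    rw [← MulAut.mul_apply, ← mul_assoc, ((hcomm τ hτ σ hσ).pow_right _).eq, mul_assoc,
      pow_val_add ht, ZMod.val_one, pow_one, ← pow_succ', pow_succ]
  have h := Cfsg.Agent.Lib.Coprime.prod_lines s w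
  rw [Finset.prod_congr rfl fun t _ => hline t, Finset.prod_const_one, hcol, hall, one_mul,
    mul_one] at h
  have hw0 : w 0 0 = x := by simp [w]
  rw [hw0] at h
  refine hx1 ?_
  have h2 := pow_gcd_eq_one.mpr ⟨h.symm, (pow_card_eq_one' : x ^ Nat.card D = 1)⟩
  rwa [hcop, pow_one] at h2

/-- An `s`-group has a nonzero fixed vector in characteristic `s`. -/
theorem exists_fixed_vector {k : Type*} [Field k] {s : ℕ} [Fact s.Prime] [CharP k s]
    {W : Type*} [AddCommGroup W] [Module k W] [Nontrivial W] {P : Type*} [Group P] [Finite P]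
    (hP : IsPGroup s P) (ρ : P →* Module.End k W) : ∃ w : W, w ≠ 0 ∧ ∀ x, ρ x w = w := by
  classical
  haveI := Fintype.ofFinite P
  obtain ⟨w₀, hw₀⟩ := exists_ne (0 : W)
  let g : (P → ZMod s) → W := fun c => ∑ i, (c i).val • ρ i w₀
  have hmod : ∀ (a : ℕ) (w : W), (a % s) • w = a • w := fun a w => by
    have hs : s • w = 0 := by rw [← Nat.cast_smul_eq_nsmul k, CharP.cast_eq_zero k s, zero_smul]
    conv_rhs => rw [← Nat.mod_add_div a s, add_smul, mul_comm, mul_smul, hs, smul_zero, add_zero]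
  let M : Set W := Set.range g
  haveI : Finite M := (Set.finite_range g).to_subtype
  have hadd : ∀ a b : P → ZMod s, g (a + b) = g a + g b := fun a b => by
    simp only [g, Pi.add_apply, ZMod.val_add, hmod, add_smul, Finset.sum_add_distrib]
  have hinv : ∀ (x : P), ∀ w ∈ M, ρ x w ∈ M := by
    rintro x _ ⟨c, rfl⟩
    refine ⟨fun i => c (x⁻¹ * i), ?_⟩
    simp only [g, map_sum, map_nsmul]
    refine Fintype.sum_equiv (Equiv.mulLeft x⁻¹) _ _ fun i => ?_
    rw [← Module.End.mul_apply, ← map_mul, Equiv.coe_mulLeft, mul_inv_cancel_left]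
  let act : MulAction P M :=
    { smul := fun x w => ⟨ρ x w, hinv x w w.2⟩
      one_smul := fun w => Subtype.ext (by
        change ρ 1 (w : W) = w; rw [map_one, Module.End.one_apply])
      mul_smul := fun x y w => Subtype.ext (by
        change ρ (x * y) (w : W) = ρ x (ρ y (w : W)); rw [map_mul, Module.End.mul_apply]) }
  have h := hP.card_modEq_card_fixedPoints M
  have hdiv : s ∣ Nat.card M := by
    let G : AddSubgroup W :=
      { carrier := M
        zero_mem' := ⟨0, by simp [g]⟩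
        add_mem' := by rintro _ _ ⟨a, rfl⟩ ⟨b, rfl⟩; exact ⟨a + b, hadd a b⟩
        neg_mem' := by
          rintro _ ⟨a, rfl⟩
          refine ⟨-a, eq_neg_of_add_eq_zero_left ?_⟩
          rw [← hadd, neg_add_cancel]
          simp [g] }
    haveI : Finite G := (Set.finite_range g).to_subtype
    have hmem : w₀ ∈ G := ⟨Pi.single 1 1, by
      simp only [g]
      rw [Finset.sum_eq_single 1]
      · simp [ZMod.val_one]
      · intro i _ hi; simp [Pi.single_eq_of_ne hi]
      · intro h; exact absurd (Finset.mem_univ _) h⟩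
    have hord : addOrderOf (⟨w₀, hmem⟩ : G) = s := addOrderOf_eq_prime (Subtype.ext (by
      change s • w₀ = 0
      rw [← Nat.cast_smul_eq_nsmul k, CharP.cast_eq_zero k s, zero_smul]))
      (fun e => hw₀ (congrArg Subtype.val e))
    have := addOrderOf_dvd_natCard (x := (⟨w₀, hmem⟩ : G))
    rwa [hord] at this
  have h0 : (⟨0, 0, by simp [g]⟩ : M) ∈ MulAction.fixedPoints P M := fun x => Subtype.ext (map_zero _)
  have hfin : (MulAction.fixedPoints P M).Finite := Set.toFinite _
  have hs2 : 1 < (MulAction.fixedPoints P M).ncard := by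
    have h1 : s ∣ (MulAction.fixedPoints P M).ncard := by
      rw [Nat.card_coe_set_eq] at h
      exact Nat.modEq_zero_iff_dvd.mp (h.symm.trans (Nat.modEq_zero_iff_dvd.mpr hdiv))
    have h2 : 0 < (MulAction.fixedPoints P M).ncard := (Set.ncard_pos hfin).mpr ⟨_, h0⟩
    exact lt_of_lt_of_le (Fact.out : s.Prime).one_lt (Nat.le_of_dvd h2 h1)
  obtain ⟨w, hw, hne⟩ := Set.exists_ne_of_one_lt_ncard hs2 ⟨0, 0, by simp [g]⟩
  exact ⟨w, fun e => hne (Subtype.ext e), fun x => congrArg Subtype.val (hw x)⟩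

/-- Operators scaled by different characters under conjugation are independent. -/
theorem eq_zero_of_sum_eq_zero {k : Type*} [Field k] {E : Type*} [Ring E] [Algebra k E]
    {G : Type*} [Group G] [Finite G] (hG : (Nat.card G : k) ≠ 0) (ρ : G →* E) {ι : Type*}
    (t : Finset ι) (e : ι → E) (ψ : ι → G →* kˣ)
    (hψ : ∀ i ∈ t, ∀ g, ρ g * e i * ρ g⁻¹ = ((ψ i g : kˣ) : k) • e i) (hsum : ∑ i ∈ t, e i = 0)
    {i₀ : ι} (hi₀ : i₀ ∈ t) (hne : ∀ i ∈ t, i ≠ i₀ → ψ i ≠ ψ i₀) : e i₀ = 0 := by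
  classical
  haveI := Fintype.ofFinite G
  have h0 : ∑ g : G, (((ψ i₀ g)⁻¹ : kˣ) : k) • (ρ g * (∑ i ∈ t, e i) * ρ g⁻¹) = 0 := by
    simp [hsum]
  have h1 : ∀ g, ρ g * (∑ i ∈ t, e i) * ρ g⁻¹ = ∑ i ∈ t, ((ψ i g : kˣ) : k) • e i := fun g => by
    rw [Finset.mul_sum, Finset.sum_mul]
    exact Finset.sum_congr rfl fun i hi => hψ i hi g
  simp only [h1, Finset.smul_sum, smul_smul] at h0
  rw [Finset.sum_comm] at h0
  simp only [← Finset.sum_smul] at h0
  have hcoef : ∀ i ∈ t, ∑ g : G, (((ψ i₀ g)⁻¹ : kˣ) : k) * ((ψ i g : kˣ) : k) =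
      if i = i₀ then (Nat.card G : k) else 0 := by
    intro i hi
    have e := sum_hom_units ((Units.coeHom k).comp ((ψ i₀)⁻¹ * ψ i))
    have e' : (Units.coeHom k).comp ((ψ i₀)⁻¹ * ψ i) = 1 ↔ i = i₀ := by
      constructor
      · intro h
        by_contra hne'
        refine hne i hi hne' (MonoidHom.ext fun g => ?_)
        have h2 : ((((ψ i₀)⁻¹ * ψ i) g : kˣ) : k) = 1 := DFunLike.congr_fun h g
        exact (inv_mul_eq_one.mp (Units.val_eq_one.mp h2)).symm
      · rintro rfl
        ext g; simp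
    rw [show (∑ g : G, (((ψ i₀ g)⁻¹ : kˣ) : k) * ((ψ i g : kˣ) : k)) =
      ∑ g : G, (Units.coeHom k).comp ((ψ i₀)⁻¹ * ψ i) g from
      Finset.sum_congr rfl fun g _ => by simp, e]
    simp only [e', Nat.card_eq_fintype_card]
    split_ifs <;> simp
  rw [Finset.sum_congr rfl fun i hi => by rw [hcoef i hi], Finset.sum_eq_single_of_mem i₀ hi₀
    (fun i _ hi => by rw [if_neg hi, zero_smul]), if_pos rfl] at h0
  exact (smul_eq_zero_iff_right hG).mp h0

end Cfsg.Agent.Lib.FpfHeight.PQLinear
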