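/-
An operator of prime order without fixed points on a module: three consequences.
-/
import Cfsg.Agent.Lib.Shult.Reduce

set_option autoImplicit false
set_option linter.style.haveILetI false

namespace Cfsg.Agent.Lib.FpfHeight.PrimeOpModule

open Subgroup Finset

section Frobenius

variable {k : Type*} [Field k] {E : Type*} [Ring E] [Algebra k E] {N : Type*} [Group N] [Finite N]

/-- The Frobenius lemma for a subgroup. -/
theorem rho_eq_one (ρ : N →* E) {p : ℕ} (hp : p.Prime) (b : N) (hb : b ^ p = 1)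
    (hsum : ∑ i ∈ range p, ρ (b ^ i) = 0) (Q : Subgroup N) (hbQ : b ∈ normalizer (Q : Set N))
    (hfpf : ∀ x ∈ Q, b * x * b⁻¹ = x → x = 1) (hQ : (Nat.card Q : k) ≠ 0) :
    ∀ x ∈ Q, ρ x = 1 := by
  intro x hx
  refine Shult.rho_eq_one_of_fpf (ρ.comp Q.subtype) (ρ b) hp (by rw [← map_pow, hb, map_one])
    (by simpa only [map_pow] using hsum) (Q.normalizerMonoidHom ⟨b, hbQ⟩)
    (fun y => ?_) ?_ (fun y hy => Subtype.ext (hfpf y y.2 (congrArg Subtype.val hy))) ?_ ⟨x, hx⟩
  · simp only [MonoidHom.comp_apply, Subgroup.coe_subtype]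
    rw [← map_mul, ← map_mul]
    congr 1
    change b * (y : N) = b * (y : N) * b⁻¹ * b
    rw [inv_mul_cancel_right]
  · rw [← map_pow, show (⟨b, hbQ⟩ : normalizer (Q : Set N)) ^ p = 1 from Subtype.ext hb, map_one]
  · rw [← map_natCast (algebraMap k E)]
    exact (isUnit_iff_ne_zero.mpr hQ).map _

end Frobenius

section Unipotent

variable {k : Type*} [Field k] {E : Type*} [Ring E] [Algebra k E]

open Polynomial in
/-- An operator of prime order `p` without fixed points bounds the degree of unipotence of an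
element it raises to a power. -/
theorem sub_one_pow_eq_zero {s p t : ℕ} [Fact s.Prime] [CharP k s] (hp : p.Prime)
    (hpk : (p : k) ≠ 0) (u β : E) (hu : u ^ s = 1) (_hβ : β ^ p = 1)
    (hT : ∑ i ∈ range p, β ^ i = 0) (hβu : β * u = u ^ t * β)
    (ht : t ^ p ≡ 1 [MOD s]) (ht1 : ¬ t ≡ 1 [MOD s]) : (u - 1) ^ (p - 1) = 0 := by
  set c : k := (t : k) with hc
  have hcp : c ^ p = 1 := by
    rw [hc, ← Nat.cast_pow, ← Nat.cast_one, CharP.natCast_eq_natCast k s]; exact ht
  have hc1 : c ≠ 1 := by
    rw [hc, ← Nat.cast_one, Ne, CharP.natCast_eq_natCast k s]; exact ht1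
  have hc0 : c ≠ 0 := fun h => by rw [h, zero_pow hp.ne_zero] at hcp; exact zero_ne_one hcp
  set d : k := c⁻¹ with hd
  have hdp : d ^ p = 1 := by rw [hd, inv_pow, hcp, inv_one]
  set Q : k[X] := ∑ j ∈ range p, C (d ^ j) * X ^ (t ^ j) with hQ
  set Y : E := aeval u Q with hY
  have hYe : Y = ∑ j ∈ range p, d ^ j • u ^ (t ^ j) := by
    simp [hY, hQ, Algebra.smul_def]
  have hβpow : ∀ m : ℕ, β * u ^ m = u ^ (t * m) * β := by
    intro m
    induction m with
    | zero => simp
    | succ m ih => rw [pow_succ, ← mul_assoc, ih, mul_assoc, hβu, ← mul_assoc, ← pow_add,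
        Nat.mul_succ]
  have hper : u ^ (t ^ p) = u := by
    rw [pow_eq_pow_mod _ hu, ht, Nat.mod_eq_of_lt (Fact.out : s.Prime).one_lt, pow_one]
  have hβY : β * Y = c • (Y * β) := by
    have e : Y = ∑ j ∈ range p, d ^ (j + 1) • u ^ (t ^ (j + 1)) := by
      have h1 := Finset.sum_range_succ' (fun j => d ^ j • u ^ (t ^ j)) p
      rw [Finset.sum_range_succ, hdp, hper, ← hYe] at h1
      simp only [pow_zero, one_smul, pow_one] at h1
      exact add_right_cancel h1
    conv_lhs => rw [hYe]
    conv_rhs => rw [e]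
    simp only [Finset.mul_sum, Finset.sum_mul, Finset.smul_sum, mul_smul_comm, smul_mul_assoc,
      smul_smul, hβpow]
    refine Finset.sum_congr rfl fun j _ => ?_
    congr 1
    · rw [pow_succ', ← mul_assoc, hd, mul_inv_cancel₀ hc0, one_mul]
    · rw [pow_succ' t]
  have hβiY : ∀ i : ℕ, β ^ i * Y = c ^ i • (Y * β ^ i) := by
    intro i
    induction i with
    | zero => simp
    | succ i ih =>
      rw [pow_succ, mul_assoc, hβY, mul_smul_comm, ← mul_assoc, ih, smul_mul_assoc, smul_smul,
        mul_assoc, ← pow_succ']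
  set P : ℕ → E := fun l => ∑ i ∈ range p, d ^ (l * i) • β ^ i with hP
  have hP0 : P 0 = 0 := by simp [hP, hT]
  have hPp : P p = 0 := by
    rw [← hP0, hP]
    refine Finset.sum_congr rfl fun i _ => ?_
    rw [pow_mul, hdp, one_pow, zero_mul, pow_zero]
  have hPY : ∀ l, Y * P l = P (l + 1) * Y := by
    intro l
    simp only [hP, Finset.mul_sum, Finset.sum_mul, mul_smul_comm, smul_mul_assoc, hβiY, smul_smul]
    refine Finset.sum_congr rfl fun i _ => ?_
    rw [add_mul, one_mul, pow_add, mul_assoc, ← mul_pow, hd, inv_mul_cancel₀ hc0, one_pow, mul_one]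
  have hPYm : ∀ m l, Y ^ m * P l = P (l + m) * Y ^ m := by
    intro m
    induction m with
    | zero => intro l; simp
    | succ m ih =>
      intro l
      rw [pow_succ, mul_assoc, hPY, ← mul_assoc, ih, mul_assoc, add_assoc, add_comm 1 m]
  have hkill : ∀ l < p, Y ^ (p - 1) * P l = 0 := by
    intro l hl
    rcases Nat.eq_zero_or_pos l with rfl | h0
    · rw [hP0, mul_zero]
    · rw [show p - 1 = (l - 1) + (p - l) by omega, pow_add, mul_assoc, hPYm,
        show l + (p - l) = p by omega, hPp, zero_mul, mul_zero]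
  have hord : orderOf d = p := by
    refine (Fact.mk hp).out.eq_one_or_self_of_dvd _ (orderOf_dvd_of_pow_eq_one hdp) |>.resolve_left ?_
    rw [orderOf_eq_one_iff, hd, inv_eq_one]
    exact hc1
  have hsumP : ∑ l ∈ range p, P l = (p : k) • (1 : E) := by
    simp only [hP]
    rw [Finset.sum_comm, Finset.sum_eq_single 0]
    · simp [Nat.cast_smul_eq_nsmul]
    · intro i hi hi0
      rw [← Finset.sum_smul]
      have hne : d ^ i ≠ 1 := pow_ne_one_of_lt_orderOf hi0 (by rw [hord]; exact mem_range.mp hi)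
      have : ∑ l ∈ range p, d ^ (l * i) = 0 := by
        simp_rw [mul_comm _ i, pow_mul]
        rw [geom_sum_eq hne, ← pow_mul, mul_comm, pow_mul, hdp, one_pow, sub_self, zero_div]
      rw [this, zero_smul]
    · intro h
      exact absurd (mem_range.mpr hp.pos) h
  have hYp : Y ^ (p - 1) = 0 := by
    have h1 : (p : k) • Y ^ (p - 1) = 0 := by
      rw [← mul_one (Y ^ (p - 1)), ← mul_smul_comm, ← hsumP, Finset.mul_sum]
      exact Finset.sum_eq_zero fun l hl => hkill l (mem_range.mp hl)
    exact (smul_eq_zero_iff_right hpk).mp h1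
  have hQ1 : Q.IsRoot 1 := by
    simp [hQ, IsRoot, eval_finsetSum]
    rw [geom_sum_eq (by rw [hd, Ne, inv_eq_one]; exact hc1), hdp, sub_self, zero_div]
  obtain ⟨R, hR⟩ := dvd_iff_isRoot.mpr hQ1
  have hR1 : R.eval 1 = p := by
    have h1 := congrArg (fun f => (derivative f).eval 1) hR
    simp only [derivative_mul, derivative_sub, derivative_X, derivative_C, eval_add, eval_mul,
      eval_sub, eval_X, eval_C, sub_self, zero_mul, add_zero, sub_zero, one_mul] at h1
    rw [← h1, hQ]
    simp only [derivative_sum, eval_finsetSum, derivative_C_mul, derivative_X_pow, eval_mul,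
      eval_pow, eval_X, one_pow, mul_one, eval_C, Nat.cast_pow]
    rw [Finset.sum_congr rfl fun j _ => show d ^ j * c ^ j = 1 by
      rw [← mul_pow, hd, inv_mul_cancel₀ hc0, one_pow]]
    simp
  have hcop : IsCoprime R ((X - C 1 : k[X]) ^ s) := by
    refine IsCoprime.pow_right ((irreducible_X_sub_C (1 : k)).coprime_iff_not_dvd.mpr ?_).symm
    rw [dvd_iff_isRoot, IsRoot, hR1]
    exact hpk
  obtain ⟨A, B, hAB⟩ := hcop.pow_left (m := p - 1)
  have hus : aeval u ((X - C 1 : k[X]) ^ s) = 0 := by
    have : ((X - C 1 : k[X]) ^ s) = X ^ s - 1 := by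
      rw [sub_pow_char, ← C_pow, one_pow, C_1]
    rw [this]
    simp [hu]
  have e1 : (X - C 1 : k[X]) ^ (p - 1) =
      A * Q ^ (p - 1) + (X - C 1) ^ (p - 1) * B * (X - C 1) ^ s := by
    rw [hR, mul_pow]
    linear_combination -((X - C 1 : k[X]) ^ (p - 1)) * hAB
  have e2 := congrArg (aeval u) e1
  simp only [map_add, map_mul, hus, mul_zero, add_zero, map_pow] at e2
  rw [hYp, mul_zero] at e2
  simpa using e2

/-- The sum of the conjugates of any element under such an operator vanishes. -/
theorem sum_conj_eq_zero {s d : ℕ} [Fact s.Prime] [CharP k s] (u u' : E) (huu : u * u' = 1)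
    (huu' : u' * u = 1) (hd : (u - 1) ^ d = 0) (hle : 2 * d ≤ s) (e : E) :
    ∑ i ∈ range s, u ^ i * e * u' ^ i = 0 := by
  set L : Module.End k E := LinearMap.mulLeft k u with hL
  set R : Module.End k E := LinearMap.mulRight k u' with hR
  have hcomm : Commute L R := LinearMap.commute_mulLeft_right u u'
  have hL1 : (L - 1) ^ d = 0 := by
    have : L - 1 = LinearMap.mulLeft k (u - 1) := by ext x; simp [hL, sub_mul]
    rw [this, LinearMap.pow_mulLeft, hd, LinearMap.mulLeft_zero_eq_zero]
  have hR1 : (R - 1) ^ d = 0 := by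
    have hu' : u' - 1 = -(u' * (u - 1)) := by rw [mul_sub, mul_one, huu', neg_sub]
    have hc : Commute u' (u - 1) :=
      (show Commute u' u from huu'.trans huu.symm).sub_right (Commute.one_right _)
    have h0 : (u' - 1) ^ d = 0 := by rw [hu', neg_pow, hc.mul_pow, hd, mul_zero, mul_zero]
    have : R - 1 = LinearMap.mulRight k (u' - 1) := by ext x; simp [hR, mul_sub]
    rw [this, LinearMap.pow_mulRight, h0, LinearMap.mulRight_zero_eq_zero]
  have hLR : (L * R - 1) ^ (s - 1) = 0 := by
    have e1 : L * R - 1 = (L - 1) * R + (R - 1) := by rw [sub_mul, one_mul]; abel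
    rw [e1]
    have hc1 : Commute (L - 1) R := hcomm.sub_left (Commute.one_left _)
    have hc2 : Commute ((L - 1) * R) (R - 1) :=
      (hc1.sub_right (Commute.one_right _)).mul_left
        ((Commute.refl R).sub_right (Commute.one_right _))
    rcases Nat.eq_zero_or_pos d with rfl | hd0
    · have : Subsingleton E := subsingleton_of_zero_eq_one (by simpa using hd.symm)
      exact LinearMap.ext fun x => Subsingleton.elim _ _
    refine hc2.add_pow_eq_zero_of_add_le_succ_of_pow_eq_zero (m := d) (n := d) ?_ hR1 (by omega)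
    rw [hc1.mul_pow, hL1, zero_mul]
  have hpoly : (∑ i ∈ range s, (Polynomial.X : Polynomial k) ^ i) =
      (Polynomial.X - 1) ^ (s - 1) := by
    refine mul_right_cancel₀ (Polynomial.X_sub_C_ne_zero (1 : k)) ?_
    rw [Polynomial.C_1, geom_sum_mul, ← pow_succ, Nat.sub_add_cancel (Fact.out : s.Prime).one_le,
      sub_pow_char, one_pow]
  have h1 := congrArg (Polynomial.aeval (L * R)) hpoly
  simp only [map_sum, map_pow, Polynomial.aeval_X, map_sub, map_one, hLR] at h1
  have h2 := LinearMap.congr_fun h1 e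
  simp only [LinearMap.sum_apply, LinearMap.zero_apply] at h2
  refine Eq.trans (Finset.sum_congr rfl fun i _ => ?_) h2
  rw [hcomm.mul_pow, Module.End.mul_apply, hL, hR, LinearMap.pow_mulLeft, LinearMap.pow_mulRight]
  simp [mul_assoc]

end Unipotent

section HallHigman

variable {k : Type*} [Field k] {v : ℕ} [Fact v.Prime] [CharP k v]
  {W : Type*} [AddCommGroup W] [Module k W] {N : Type*} [Group N] [Finite N]

/-- An operator of prime order without fixed vectors acts trivially, as seen by the module, on a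
coprime `r`-group, unless `r = 2` and its order is `2 ^ m + 1`. -/
theorem conj_eq_of_no_fixed (ρ : N →* Module.End k W) {r q : ℕ} (hr : r.Prime) (hq : q.Prime)
    (hrv : r ≠ v) (hqv : q ≠ v) (hrq : r ≠ q) (f : N) (hf : f ^ q = 1) (R : Subgroup N)
    (hR : IsPGroup r R) (hfR : f ∈ normalizer (R : Set N))
    (hfix : ∀ w, ρ f w = w → w = 0) (hexc : ¬ (r = 2 ∧ ∃ m, q = 2 ^ m + 1)) :
    ∀ y ∈ R, ρ (f * y * f⁻¹) = ρ y := by
  classical
  -- a finite submodule on which the images stay faithful
  have hwit : ∀ n : N, ∃ w : W, ρ n ≠ 1 → ρ n w ≠ w := by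
    intro n
    by_cases h : ρ n = 1
    · exact ⟨0, fun h' => absurd h h'⟩
    · obtain ⟨w, hw⟩ : ∃ w, ρ n w ≠ w := by
        by_contra h'
        push Not at h'
        exact h (LinearMap.ext h')
      exact ⟨w, fun _ => hw⟩
  choose wit hwit using hwit
  haveI := Fintype.ofFinite N
  let g : (N × N → ZMod v) → W := fun c => ∑ i, (c i).val • ρ i.1 (wit i.2)
  have hchar : ∀ w : W, v • w = 0 := fun w => by
    rw [← Nat.cast_smul_eq_nsmul k, CharP.cast_eq_zero k v, zero_smul]
  have hmod : ∀ (a : ℕ) (w : W), (a % v) • w = a • w := fun a w => by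
    conv_rhs => rw [← Nat.mod_add_div a v, add_smul, mul_comm, mul_smul, hchar, smul_zero, add_zero]
  let Vf : AddSubgroup W :=
    { carrier := Set.range g
      zero_mem' := ⟨0, by simp [g]⟩
      add_mem' := by
        rintro _ _ ⟨a, rfl⟩ ⟨b, rfl⟩
        refine ⟨a + b, ?_⟩
        simp only [g, Pi.add_apply, ZMod.val_add, hmod, add_smul, Finset.sum_add_distrib]
      neg_mem' := by
        rintro _ ⟨a, rfl⟩
        refine ⟨-a, eq_neg_of_add_eq_zero_left ?_⟩
        simp only [g, ← Finset.sum_add_distrib, ← add_smul, Pi.neg_apply]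
        refine Finset.sum_eq_zero fun i _ => ?_
        rw [← hmod, ← ZMod.val_add, neg_add_cancel, ZMod.val_zero, zero_smul] }
  haveI : Finite Vf := (Set.finite_range g).to_subtype
  have hinv : ∀ (n : N) (w : W), w ∈ Vf → ρ n w ∈ Vf := by
    rintro n _ ⟨a, rfl⟩
    refine ⟨fun i => a (n⁻¹ * i.1, i.2), ?_⟩
    simp only [g, map_sum, map_nsmul]
    refine Fintype.sum_equiv ((Equiv.mulLeft n⁻¹).prodCongr (Equiv.refl N)) _ _ fun i => ?_
    obtain ⟨i1, i2⟩ := i
    simp only [Equiv.prodCongr_apply, Equiv.coe_mulLeft, Equiv.coe_refl, Prod.map_apply, id_eq]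
    rw [← Module.End.mul_apply, ← map_mul, mul_inv_cancel_left]
  have hmemwit : ∀ n, wit n ∈ Vf := fun n => by
    refine ⟨Pi.single (1, n) 1, ?_⟩
    simp only [g]
    rw [Finset.sum_eq_single (1, n)]
    · simp [ZMod.val_one]
    · intro i _ hi; simp [Pi.single_eq_of_ne hi]
    · intro h; exact absurd (Finset.mem_univ _) h
  let θ : N →* MulAut (Multiplicative Vf) :=
    { toFun := fun n => AddEquiv.toMultiplicative
        { toFun := fun w => ⟨ρ n w, hinv n w w.2⟩
          invFun := fun w => ⟨ρ n⁻¹ w, hinv _ w w.2⟩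
          left_inv := fun w => Subtype.ext (by
            change ρ n⁻¹ (ρ n (w : W)) = w
            rw [← Module.End.mul_apply, ← map_mul, inv_mul_cancel, map_one, Module.End.one_apply])
          right_inv := fun w => Subtype.ext (by
            change ρ n (ρ n⁻¹ (w : W)) = w
            rw [← Module.End.mul_apply, ← map_mul, mul_inv_cancel, map_one, Module.End.one_apply])
          map_add' := fun a b => Subtype.ext (map_add (ρ n) (a : W) b) }
      map_one' := MulEquiv.ext fun w => Subtype.ext (by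
        change ρ 1 (w.toAdd : W) = w.toAdd
        rw [map_one, Module.End.one_apply])
      map_mul' := fun a b => MulEquiv.ext fun w => Subtype.ext (by
        change ρ (a * b) (w.toAdd : W) = ρ a (ρ b (w.toAdd : W))
        rw [map_mul, Module.End.mul_apply]) }
  have hθ : ∀ n, θ n = 1 → ρ n = 1 := fun n hn => by
    by_contra h
    refine hwit n h ?_
    exact congrArg (fun w : Multiplicative Vf => (w.toAdd : W))
      (DFunLike.congr_fun hn (Multiplicative.ofAdd ⟨wit n, hmemwit n⟩))
  intro y hy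
  have hconj : ∀ (a b : N), θ a = θ b → ρ a = ρ b := fun a b h => by
    have := hθ (b⁻¹ * a) (by rw [map_mul, map_inv, h, inv_mul_cancel])
    calc ρ a = ρ b * ρ (b⁻¹ * a) := by rw [← map_mul, mul_inv_cancel_left]
      _ = ρ b := by rw [this, mul_one]
  refine hconj _ _ ?_
  rcases eq_or_ne (θ f) 1 with hf1 | hf1
  · rw [map_mul, map_mul, map_inv, hf1, one_mul, inv_one, mul_one]
  -- the semidirect product
  set M := θ.range with hM
  let G := Multiplicative Vf ⋊[M.subtype] M
  haveI : Finite M := Finite.of_surjective θ.rangeRestrict θ.rangeRestrict_surjective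
  haveI : Finite G := Finite.of_equiv _ (SemidirectProduct.equivProd (φ := M.subtype)).symm
  let j : N →* G := SemidirectProduct.inr.comp θ.rangeRestrict
  let V0 : Subgroup G := (SemidirectProduct.inl : Multiplicative Vf →* G).range
  have hjV : ∀ (n : N) (w : Multiplicative Vf),
      j n * SemidirectProduct.inl w * (j n)⁻¹ = SemidirectProduct.inl (θ n w) := fun n w => by
    have e := SemidirectProduct.inl_aut (φ := M.subtype) (θ.rangeRestrict n) w
    rw [map_inv (SemidirectProduct.inr : M →* G)] at e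
    exact e.symm
  have hnormV : ∀ n, j n ∈ normalizer (V0 : Set G) := fun n => by
    refine Subgroup.mem_normalizer_iff.mpr fun x => ⟨?_, ?_⟩
    · rintro ⟨w, rfl⟩; exact ⟨_, (hjV n w).symm⟩
    · rintro ⟨w, hw⟩
      refine ⟨θ n⁻¹ w, ?_⟩
      rw [← hjV, hw, map_inv, inv_inv]; simp [mul_assoc]
  have hcentV : ∀ n, j n ∈ centralizer (V0 : Set G) → j n = 1 := fun n hn => by
    have : θ n = 1 := MulEquiv.ext fun w => by
      refine SemidirectProduct.inl_injective (φ := M.subtype) ?_
      rw [MulAut.one_apply, ← hjV]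
      exact mul_inv_eq_iff_eq_mul.mpr (Subgroup.mem_centralizer_iff.mp hn _ ⟨w, rfl⟩).symm
    change SemidirectProduct.inr (θ.rangeRestrict n) = 1
    rw [show θ.rangeRestrict n = 1 from Subtype.ext this, map_one]
  set X := zpowers (j f) with hX
  set Q := R.map j with hQ
  have hXQ : X ≤ normalizer (Q : Set G) := by
    rw [hX, zpowers_le]
    exact Subgroup.le_normalizer_map j ⟨f, hfR, rfl⟩
  have hjf : j f ≠ 1 := fun h => hf1 (congrArg Subtype.val (SemidirectProduct.inr_injective
    (φ := M.subtype) (h.trans (map_one _).symm) : θ.rangeRestrict f = 1))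
  have hXcard : Nat.card X = q := by
    haveI := Fact.mk hq
    rw [hX, Nat.card_zpowers]
    exact orderOf_eq_prime (by rw [← map_pow, hf, map_one]) hjf
  by_cases hXC : j f ∈ centralizer (Q : Set G)
  · have h1 : j (f * y * f⁻¹) = j y := by
      rw [map_mul, map_mul, map_inv,
        ← Subgroup.mem_centralizer_iff.mp hXC (j y) (Subgroup.mem_map_of_mem j hy),
        mul_inv_cancel_right]
    exact congrArg Subtype.val (SemidirectProduct.inr_injective (φ := M.subtype) h1)
  exfalso
  have hfaith : X ⊓ centralizer (Q : Set G) = ⊥ := by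
    haveI : Fact (Nat.card X).Prime := ⟨hXcard ▸ hq⟩
    rcases ((X ⊓ centralizer (Q : Set G)).subgroupOf X).eq_bot_or_eq_top_of_prime_card with h | h
    · rwa [Subgroup.subgroupOf_eq_bot, disjoint_iff, inf_assoc, inf_comm (centralizer _),
        ← inf_assoc, inf_idem] at h
    · rw [Subgroup.subgroupOf_eq_top] at h
      exact absurd (h (Subgroup.mem_zpowers _)).2 hXC
  have hle : X ⊔ Q ≤ j.range := sup_le (zpowers_le.mpr ⟨f, rfl⟩) (by
    rintro _ ⟨z, -, rfl⟩; exact ⟨z, rfl⟩)
  have hvV : Cfsg.IsElementaryAbelian v V0 := by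
    refine ⟨⟨⟨?_⟩⟩, ?_⟩
    · rintro ⟨_, a, rfl⟩ ⟨_, b, rfl⟩
      refine Subtype.ext ?_
      change SemidirectProduct.inl a * SemidirectProduct.inl b =
        (SemidirectProduct.inl b * SemidirectProduct.inl a : G)
      rw [← map_mul, ← map_mul, mul_comm]
    · rintro _ ⟨a, rfl⟩
      rw [← map_pow, show a ^ v = 1 from Subtype.ext (hchar (a.toAdd : W)), map_one]
  obtain ⟨h2, hm, -⟩ := Shult.fixedPoint_cases (Fact.out : v.Prime) hr hq hrv.symm hqv.symm hrq
    X Q V0 hXcard (hR.map j) hXQ hfaith hvV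
    (fun x hx => by obtain ⟨n, rfl⟩ := hle (le_sup_left (b := Q) hx); exact hnormV n)
    (fun x hx => by obtain ⟨n, rfl⟩ := hle (le_sup_right (a := X) hx); exact hnormV n)
    (by
      rw [Subgroup.eq_bot_iff_forall]
      rintro x ⟨hx, hx'⟩
      obtain ⟨n, rfl⟩ := hle hx
      exact hcentV n hx')
    (by
      rw [Subgroup.eq_bot_iff_forall]
      rintro x ⟨⟨w, rfl⟩, hx⟩
      have h1 := Subgroup.mem_centralizer_iff.mp hx _ (Subgroup.mem_zpowers (j f))
      rw [← mul_inv_eq_iff_eq_mul, hjV] at h1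
      have h3 : ρ f (w.toAdd : W) = w.toAdd :=
        congrArg (fun z : Multiplicative Vf => (z.toAdd : W)) (SemidirectProduct.inl_injective h1)
      rw [show w = 1 from Subtype.ext (hfix _ h3), map_one])
  exact hexc ⟨h2, hm⟩

end HallHigman

end Cfsg.Agent.Lib.FpfHeight.PrimeOpModule
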