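/-
A group of order `pq` without fixed points: the case of a nonabelian `R`.
-/
import Cfsg.Agent.Lib.FpfHeight.PQAbelian
import Cfsg.Agent.Lib.FpfHeight.PQComponent
import Cfsg.Agent.Lib.FpfHeight.PQLinear
import Cfsg.Agent.Lib.FpfHeight.PrimeOpModule
import Cfsg.Agent.Lib.FpfHeight.Basic
import Cfsg.Agent.Lib.PGroups.Frattini

set_option autoImplicit false
set_option linter.style.haveILetI false
set_option linter.unusedSectionVars false

namespace Cfsg.Agent.Lib.FpfHeight.PQClassTwo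

open Subgroup Cfsg.Agent.Lib.FpfHeight.CharLayer Cfsg.Agent.Lib.FpfHeight.PQBasics
  Cfsg.Agent.Lib.FpfHeight.PQAbelian Cfsg.Agent.Lib.FpfHeight.PQComponent
open scoped commutatorElement IsMulCommutative

/-- The facts about a minimal nonabelian `R`. -/
structure Tame {X : Type*} [Group X] (R S : Subgroup X) : Prop where
  comm : ∀ y ∈ R, ∀ z ∈ R, ⁅y, z⁆ ∈ cen R
  S_cen : ∀ x ∈ S, ∀ z ∈ cen R, Commute x z
  gen : ⁅R, S⁆ = R
  nonab : ¬ IsMulCommutative R
  fixed : ∀ y ∈ R, (∀ x ∈ S, Commute x y) → y ∈ cen R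

/-- An operator without fixed points does not move an element whose translates commute pairwise. -/
theorem conj_eq_of_commuting {k E G : Type*} [Field k] [Ring E] [Algebra k E] [Group G] [Finite G]
    (ρ : G →* E) {p r : ℕ} (hp : p.Prime) (hr : r.Prime) (hpr : p ≠ r) (hrk : (r : k) ≠ 0) (b : G)
    (hb : b ^ p = 1) (hsum : ∑ i ∈ Finset.range p, ρ (b ^ i) = 0) (u : G) (R0 : Subgroup G)
    (hR0 : IsPGroup r R0) (hu : ∀ i : ℕ, b ^ i * u * (b ^ i)⁻¹ ∈ R0)
    (hcomm : ∀ i j : ℕ, Commute (b ^ i * u * (b ^ i)⁻¹) (b ^ j * u * (b ^ j)⁻¹)) :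
    ρ (b * u * b⁻¹) = ρ u := by
  classical
  haveI := Fact.mk hr
  set Y := closure (Set.range fun i : ℕ => b ^ i * u * (b ^ i)⁻¹) with hY
  haveI : IsMulCommutative Y := by
    refine (le_centralizer_iff_isMulCommutative).mp ?_
    rw [hY, closure_le]
    rintro _ ⟨i, rfl⟩
    rw [SetLike.mem_coe, centralizer_closure, mem_centralizer_iff]
    rintro _ ⟨j, rfl⟩
    exact hcomm j i
  letI : CommGroup Y := { Y.toGroup with mul_comm := fun x y => mul_comm' x y }
  have hbY : b ∈ normalizer (Y : Set G) := by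
    rw [mem_normalizer_iff_map_conj_eq]
    refine Basic.map_eq_of_invariant (MulAut.conj b) fun w hw => ?_
    have h : Y ≤ Y.comap (MulAut.conj b).toMonoidHom := by
      rw [hY, closure_le]
      rintro _ ⟨i, rfl⟩
      refine subset_closure ⟨i + 1, ?_⟩
      change b ^ (i + 1) * u * (b ^ (i + 1))⁻¹ = b * (b ^ i * u * (b ^ i)⁻¹) * b⁻¹
      rw [pow_succ']; group
    exact h hw
  set β := Y.normalizerMonoidHom ⟨b, hbY⟩ with hβ
  have hβp : β ^ p = 1 := by
    rw [hβ, ← map_pow, show (⟨b, hbY⟩ : normalizer (Y : Set G)) ^ p = 1 from Subtype.ext hb, map_one]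
  let nm : Y →* Y := ∏ i ∈ Finset.range p, (β ^ i).toMonoidHom
  have hnm : ∀ w, nm w = ∏ i ∈ Finset.range p, (β ^ i) w := fun w => by
    simp [nm, MonoidHom.finsetProd_apply]
  have hshift : ∀ w, nm (β w) = nm w := by
    intro w
    rw [hnm, hnm]
    have h := Finset.prod_range_succ' (fun i => (β ^ i) w) p
    rw [Finset.prod_range_succ, hβp, pow_zero] at h
    rw [mul_right_cancel h]
    exact Finset.prod_congr rfl fun i _ => by rw [pow_succ, MulAut.mul_apply]
  set I := nm.ker.map Y.subtype with hI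
  have hbI : b ∈ normalizer (I : Set G) := by
    rw [mem_normalizer_iff_map_conj_eq]
    refine Basic.map_eq_of_invariant (MulAut.conj b) ?_
    rintro _ ⟨w, hw, rfl⟩
    exact ⟨β w, (hshift w).trans hw, rfl⟩
  have hle : Y ≤ R0 := by rw [hY, closure_le]; rintro _ ⟨i, rfl⟩; exact hu i
  obtain ⟨n, hn⟩ := IsPGroup.iff_card.mp (hR0.to_le hle)
  have hpY : p.Coprime (Nat.card Y) := by
    rw [hn]; exact ((Nat.coprime_primes hp hr).mpr hpr).pow_right n
  have hrho := PrimeOpModule.rho_eq_one (k := k) ρ hp b hb hsum I hbI (by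
    rintro _ ⟨w, hw, rfl⟩ hfix
    have hfix' : β w = w := Subtype.ext hfix
    have hpow : ∀ i : ℕ, (β ^ i) w = w := fun i => by
      induction i with
      | zero => rfl
      | succ i ih => rw [pow_succ, MulAut.mul_apply, hfix', ih]
    have hw' : w ^ p = 1 := by
      have := hnm w
      rw [MonoidHom.mem_ker.mp hw, Finset.prod_congr rfl (fun i _ => hpow i), Finset.prod_const,
        Finset.card_range] at this
      exact this.symm
    have h3 := pow_gcd_eq_one.mpr ⟨hw', (pow_card_eq_one' : w ^ Nat.card Y = 1)⟩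
    rw [hpY, pow_one] at h3
    rw [h3]; rfl) (by
    obtain ⟨m, -, hm⟩ := (Nat.dvd_prime_pow hr).mp
      (hn ▸ (card_map_dvd nm.ker Y.subtype).trans (card_subgroup_dvd_card _))
    rw [hm, Nat.cast_pow]
    exact pow_ne_zero _ hrk)
  let u0 : Y := ⟨u, subset_closure ⟨0, by simp⟩⟩
  have h1 : ρ (u⁻¹ * (b * u * b⁻¹)) = 1 := hrho _ ⟨u0⁻¹ * β u0, by
    rw [SetLike.mem_coe, MonoidHom.mem_ker, map_mul, map_inv, hshift, inv_mul_cancel], rfl⟩
  calc ρ (b * u * b⁻¹) = ρ u * ρ (u⁻¹ * (b * u * b⁻¹)) := by rw [← map_mul, mul_inv_cancel_left]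
    _ = ρ u := by rw [h1, mul_one]

variable {k : Type*} [Field k] {v : ℕ} [Fact v.Prime] [CharP k v]
  {W : Type*} [AddCommGroup W] [Module k W] {X : Type*} [Group X] [Finite X]
  {ρ : X →* Module.End k W} {A F : Subgroup X} {p q r s : ℕ}
  {R S : Subgroup X}

section General

variable (d : PQData ρ A F v p q r s R S)

include d

theorem normZ : A ≤ normalizer ((cen R : Subgroup X) : Set X) := by
  intro a ha
  have key : ∀ b ∈ A, ∀ w ∈ cen R, b * w * b⁻¹ ∈ cen R := by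
    intro b hb w hw
    refine ⟨(mem_normalizer_iff.mp (d.normR hb) w).mp hw.1, mem_centralizer_iff.mpr fun y hy => ?_⟩
    have h := commute_cen hw ((mem_normalizer_iff.mp (d.normR (inv_mem hb)) y).mp hy)
    rw [inv_inv] at h
    calc y * (b * w * b⁻¹) = b * (b⁻¹ * y * b * w) * b⁻¹ := by group
      _ = b * (w * (b⁻¹ * y * b)) * b⁻¹ := by rw [h.eq]
      _ = b * w * b⁻¹ * y := by group
  refine mem_normalizer_iff.mpr fun w => ⟨key a ha w, fun hw => ?_⟩
  have := key _ (inv_mem ha) _ hw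
  rwa [inv_inv, show a⁻¹ * (a * w * a⁻¹) * a = w by group] at this

end General

variable [Fintype (cen R)] (d : PQData ρ A F v p q r s R S) (t : Tame R S)
  {χ : cen R →* kˣ}

include d t

theorem S_le_stab (χ : cen R →* kˣ) : S ≤ stab (cen R) χ :=
  fun x hx => mem_stab_of_commute χ fun z hz => t.S_cen x hx z hz

/-- A linear character of `R` fixed by `S` is trivial. -/
theorem eq_one_of_le_stab {φ : R →* kˣ} (h : S ≤ stab R φ) : φ = 1 := by
  have hle : ⁅R, S⁆ ≤ φ.ker.map R.subtype := by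
    rw [commutator_le]
    intro y hy x hx
    have hc : x * y⁻¹ * x⁻¹ ∈ R := (mem_normalizer_iff.mp (d.normSR hx) _).mp (R.inv_mem hy)
    refine ⟨⟨y, hy⟩ * R.normalizerMonoidHom ⟨x, d.normSR hx⟩ (⟨y, hy⟩ : R)⁻¹, ?_, ?_⟩
    · rw [SetLike.mem_coe, MonoidHom.mem_ker, map_mul,
        (twist_eq_iff _ _).mp ((mem_stab (d.normSR hx)).mp (h hx)), ← map_mul, mul_inv_cancel,
        map_one]
    · change y * (x * y⁻¹ * x⁻¹) = _
      simp [commutatorElement_def, mul_assoc]
  rw [t.gen] at hle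
  refine MonoidHom.ext fun y => ?_
  obtain ⟨z, hz, hzy⟩ := hle y.2
  rw [← R.subtype_injective hzy]
  exact hz

theorem pair_ne_one {y z : R} (h : pair t.comm χ y z ≠ 1)
    (hall : ∀ w : R, S ≤ stab R (pair t.comm χ w)) : False :=
  h (by rw [eq_one_of_le_stab d t (hall y)]; rfl)

/-- The `F`-invariant case is impossible. -/
theorem false_of_F (hS : SmallS A R S) (hocc : eproj (cen R) ρ χ ≠ 0) (hF : F ≤ stab (cen R) χ)
    (hsum : ∀ f ∈ F, f ≠ 1 → eproj (cen R) ρ χ * ∑ i ∈ Finset.range q, ρ (f ^ i) = 0)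
    {y₀ z₀ : R} (hne : pair t.comm χ y₀ z₀ ≠ 1) : False := by
  obtain ⟨f, hf, hf1⟩ := F.bot_or_exists_ne_one.resolve_left fun h => by
    have := d.cardF
    rw [h, Subgroup.card_bot] at this
    exact d.hq.one_lt.ne this
  have hfq := d.pow_q_eq_one hf
  set N := stab (cen R) χ with hN
  have hfix : ∀ w, compRep ρ χ ⟨f, hF hf⟩ w = w → w = 0 := by
    intro w hw
    have h := LinearMap.congr_fun (sum_compRep_eq_zero ρ χ (hF hf) (hsum f hf hf1)) w
    have hpow : ∀ i : ℕ, compRep ρ χ (⟨f, hF hf⟩ ^ i) w = w := fun i => by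
      induction i with
      | zero => rw [pow_zero, map_one, Module.End.one_apply]
      | succ i ih => rw [pow_succ, map_mul, Module.End.mul_apply, hw, ih]
    simp only [LinearMap.sum_apply, hpow, Finset.sum_const, Finset.card_range,
      LinearMap.zero_apply] at h
    rw [← Nat.cast_smul_eq_nsmul k] at h
    refine (smul_eq_zero.mp h).resolve_left ?_
    rw [CharP.cast_eq_zero_iff k v]
    exact fun h' => d.hqv.symm ((Nat.prime_dvd_prime_iff_eq Fact.out d.hq).mp h')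
  have hRN : R ≤ N := fun y hy => mem_stab_of_mem_R χ hy
  have hfR : f ∈ normalizer (R : Set X) := d.normR (d.F_le hf)
  have hpair : ∀ y : R, twist ⟨f, hfR⟩ (pair t.comm χ y) = pair t.comm χ y := by
    intro y
    rw [twist_pair t.comm ⟨f, hfR⟩ (hF hf)]
    refine pair_congr t.comm ρ hocc ?_
    have h := PrimeOpModule.conj_eq_of_no_fixed (compRep ρ χ) d.hr d.hq d.hrv d.hqv d.hrq
      ⟨f, hF hf⟩ (Subtype.ext hfq) (R.subgroupOf N)
      (d.pR.of_equiv (subgroupOfEquivOfLe hRN).symm)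
      (mem_normalizer_iff.mpr fun w => mem_normalizer_iff.mp hfR (w : X)) hfix d.exc
      ⟨y, hRN y.2⟩ y.2
    exact h
  rcases dichotomy d hS with hd | hd
  · -- `F` centralizes `S`
    refine hne ?_
    set K := (pair t.comm χ).ker.map R.subtype with hK
    have hKinv : ∀ b ∈ F, ∀ w ∈ K, b * w * b⁻¹ ∈ K := by
      rintro b hb _ ⟨w, hw, rfl⟩
      refine ⟨R.normalizerMonoidHom ⟨b, d.normR (d.F_le hb)⟩ w, ?_, rfl⟩
      rw [SetLike.mem_coe, MonoidHom.mem_ker, ← twist_pair t.comm ⟨b, d.normR (d.F_le hb)⟩ (hF hb),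
        MonoidHom.mem_ker.mp hw]
      rfl
    have hfK : f ∈ normalizer (K : Set X) := mem_normalizer_iff.mpr fun w => ⟨hKinv f hf w, fun hw => by
      have := hKinv _ (inv_mem hf) _ hw
      rwa [inv_inv, show f⁻¹ * (f * w * f⁻¹) * f = w by group] at this⟩
    obtain ⟨_, ⟨m, hm, rfl⟩, hcm⟩ := exists_mul_commute hfq hfK
      (d.coprime_q_of_pGroup d.hr d.hrq (d.pR.to_le (map_subtype_le _))) (x := (y₀ : X)) (by
        refine ⟨y₀⁻¹ * R.normalizerMonoidHom ⟨f, hfR⟩ y₀, ?_, rfl⟩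
        rw [SetLike.mem_coe, MonoidHom.mem_ker, map_mul, map_inv,
          ← twist_pair t.comm ⟨f, hfR⟩ (hF hf), hpair, inv_mul_cancel])
    have hcen : ((y₀ * m : R) : X) ∈ cen R := t.fixed _ (y₀ * m).2 fun x hx =>
      d.comm x hx _ (y₀ * m).2 (hd x hx) (d.commute_F hf hf1 hcm)
    have h := pair_cen t.comm χ hcen
    rw [map_mul, MonoidHom.mem_ker.mp hm, mul_one] at h
    rw [h]; rfl
  · -- `C_S(F)` centralizes `R`
    refine pair_ne_one d t hne fun w => ?_
    intro x hx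
    set T := S ⊓ ⨅ w : R, stab R (pair t.comm χ w) with hT
    have hfst : ∀ w, f ∈ stab R (pair t.comm χ w) := fun w => (mem_stab hfR).mpr (hpair w)
    have hfT : f ∈ normalizer (T : Set X) := inf_normalizer_le_normalizer_inf
      ⟨d.normS (d.F_le hf), le_normalizer ((mem_iInf).mpr hfst)⟩
    obtain ⟨m, hm, hcm⟩ := exists_mul_commute hfq hfT
      (d.coprime_q_of_pGroup d.hs d.hsq (d.pS.to_le inf_le_left)) (x := x) (by
        refine ⟨S.mul_mem (S.inv_mem hx)
          ((mem_normalizer_iff.mp (d.normS (d.F_le hf)) x).mp hx), mem_iInf.mpr fun w => ?_⟩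
        have h1 : x⁻¹ * f * x ∈ stab R (pair t.comm χ w) := by
          have hn := mul_mem (mul_mem (inv_mem (d.normSR hx)) hfR) (d.normSR hx)
          refine (mem_stab hn).mpr ?_
          rw [show (⟨x⁻¹ * f * x, hn⟩ : normalizer (R : Set X)) =
            (⟨x, d.normSR hx⟩)⁻¹ * ⟨f, hfR⟩ * ⟨x, d.normSR hx⟩ from rfl, twist_mul, twist_mul,
            twist_pair t.comm ⟨x, d.normSR hx⟩ (S_le_stab d t χ hx), hpair,
            ← twist_pair t.comm ⟨x, d.normSR hx⟩ (S_le_stab d t χ hx), ← twist_mul,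
            inv_mul_cancel, twist_one]
        have := mul_mem h1 (inv_mem (hfst w))
        rwa [show x⁻¹ * f * x * f⁻¹ = x⁻¹ * (f * x * f⁻¹) by group] at this)
    have h1 : x * m ∈ stab R (pair t.comm χ w) :=
      mem_stab_of_commute _ (hd _ (S.mul_mem hx hm.1) (d.commute_F hf hf1 hcm))
    simpa using mul_mem h1 (inv_mem (mem_iInf.mp hm.2 w))

/-- In the other case, when `C_S(F)` centralizes `R`, fixed points of `F` in `R` pair trivially. -/
theorem pair_fixed_eq_one (hocc : eproj (cen R) ρ χ ≠ 0) {a : X} (ha : a ∈ A) (haF : a ∉ F)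
    (hap : a ^ p = 1) (hast : a ∈ stab (cen R) χ)
    (hsum : eproj (cen R) ρ χ * ∑ i ∈ Finset.range p, ρ (a ^ i) = 0)
    {y : R} (hy : ∀ f ∈ F, Commute f (y : X)) : pair t.comm χ y = 1 := by
  set P := R ⊓ centralizer (F : Set X) with hP
  have hPN : P ≤ stab (cen R) χ := fun z hz => mem_stab_of_mem_R χ hz.1
  have hinv : ∀ b ∈ A, ∀ w ∈ P, b * w * b⁻¹ ∈ P := fun b hb w hw =>
    ⟨(mem_normalizer_iff.mp (d.normR hb) w).mp hw.1,
      mem_centralizer_iff.mpr (d.conj_commute hb fun f hf => mem_centralizer_iff.mp hw.2 f hf)⟩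
  have h := PrimeOpModule.rho_eq_one (k := k) (compRep ρ χ) d.hp ⟨a, hast⟩ (Subtype.ext hap)
    (sum_compRep_eq_zero ρ χ hast hsum) (P.subgroupOf _)
    (mem_normalizer_iff.mpr fun w => ⟨hinv a ha (w : X), fun hw => by
      have : a⁻¹ * (a * (w : X) * a⁻¹) * a⁻¹⁻¹ ∈ P := hinv _ (inv_mem ha) _ hw
      rwa [inv_inv, show a⁻¹ * (a * (w : X) * a⁻¹) * a = w by group] at this⟩)
    (fun w hw hfix => Subtype.ext (d.eq_one_of_commute d.fixR ha haF hw.1
      (fun f hf => mem_centralizer_iff.mp hw.2 f hf)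
      (mul_inv_eq_iff_eq_mul.mp (congrArg Subtype.val hfix))))
    (by rw [Nat.card_congr (subgroupOfEquivOfLe hPN).toEquiv]
        exact d.card_ne_zero Fact.out inf_le_left)
    ⟨y, mem_stab_of_mem_R χ y.2⟩ ⟨y.2, mem_centralizer_iff.mpr hy⟩
  rw [← map_one (pair t.comm χ)]
  exact pair_congr t.comm ρ hocc (h.trans (map_one (compRep ρ χ)).symm)

omit t in
theorem pow_mem_and_comm_mem (hS : SmallS A R S) {x x' : X} (hx : x ∈ S) (hx' : x' ∈ S) :
    (∀ y ∈ R, Commute (x ^ s) y) ∧ (∀ y ∈ R, Commute ⁅x, x'⁆ y) := by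
  haveI := Fact.mk d.hs
  by_cases hbot : S = ⊥
  · rw [hbot, mem_bot] at hx hx'
    subst hx hx'
    simp
  haveI : Nontrivial S := (nontrivial_iff_ne_bot S).mpr hbot
  set Φ := (frattini S).map S.subtype with hΦ
  have hlt : Φ < S := by
    refine lt_of_le_of_ne (map_subtype_le _) fun e => bot_ne_top (α := Subgroup S) ?_
    refine frattini_nongenerating (K := ⊥) ?_
    rw [bot_sup_eq]
    apply map_injective S.subtype_injective
    rw [← hΦ, e, ← MonoidHom.range_eq_map, range_subtype]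
  have hnorm : A ≤ normalizer (Φ : Set X) := by
    intro a ha
    rw [mem_normalizer_iff_map_conj_eq]
    refine Basic.map_eq_of_invariant (MulAut.conj a) ?_
    rintro _ ⟨w, hw, rfl⟩
    exact ⟨S.normalizerMonoidHom ⟨a, d.normS ha⟩ w,
      Basic.apply_mem_of_char (S.normalizerMonoidHom ⟨a, d.normS ha⟩) (frattini S) w hw, rfl⟩
  exact ⟨fun y hy => hS Φ hlt hnorm _ ⟨⟨x, hx⟩ ^ s,
      Cfsg.Agent.Lib.PGroups.pow_mem_frattini d.pS _, rfl⟩ y hy,
    fun y hy => hS Φ hlt hnorm _ ⟨⁅(⟨x, hx⟩ : S), ⟨x', hx'⟩⁆,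
      Cfsg.Agent.Lib.PGroups.commutatorElement_mem_frattini d.pS _ _, rfl⟩ y hy⟩

/-- On the values of the pairing the actions of elements of `S` commute. -/
theorem twist_pair_comm (hS : SmallS A R S) {x x' : X} (hx : x ∈ S) (hx' : x' ∈ S) (w : R) :
    twist ⟨x, d.normSR hx⟩ (twist ⟨x', d.normSR hx'⟩ (pair t.comm χ w)) =
      twist ⟨x', d.normSR hx'⟩ (twist ⟨x, d.normSR hx⟩ (pair t.comm χ w)) := by
  have hc : ⁅x, x'⁆ ∈ S := by
    rw [commutatorElement_def]
    exact S.mul_mem (S.mul_mem (S.mul_mem hx hx') (S.inv_mem hx)) (S.inv_mem hx')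
  rw [← twist_mul, ← twist_mul,
    show (⟨x, d.normSR hx⟩ * ⟨x', d.normSR hx'⟩ : normalizer (R : Set X)) =
      ⟨⁅x, x'⁆, d.normSR hc⟩ * (⟨x', d.normSR hx'⟩ * ⟨x, d.normSR hx⟩) from Subtype.ext (by
        change x * x' = ⁅x, x'⁆ * (x' * x)
        simp only [commutatorElement_def]; group), twist_mul, twist_mul,
    twist_pair t.comm ⟨x, d.normSR hx⟩ (S_le_stab d t χ hx),
    twist_pair t.comm ⟨x', d.normSR hx'⟩ (S_le_stab d t χ hx')]
  exact (mem_stab (d.normSR hc)).mp (mem_stab_of_commute _ ((pow_mem_and_comm_mem d hS hx hx').2))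

/-- A value of the pairing with a maximal fixing subgroup in `S`. -/
theorem exists_maximal_pair (hS : SmallS A R S) {y₀ z₀ : R} (hne : pair t.comm χ y₀ z₀ ≠ 1) :
    ∃ y : R, pair t.comm χ y ≠ 1 ∧ ∀ x ∈ S, x ∉ stab R (pair t.comm χ y) →
      ∀ x' ∈ S, ∃ j : ℕ, x' * x ^ j ∈ stab R (pair t.comm χ y) := by
  classical
  let D : Subgroup (R →* kˣ) := (pair t.comm χ).range
  haveI : Finite D := Finite.of_surjective (pair t.comm χ).rangeRestrict
    (pair t.comm χ).rangeRestrict_surjective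
  haveI : Nontrivial D := (nontrivial_iff_ne_bot _).mpr fun e => hne (by
    have : pair t.comm χ y₀ ∈ D := ⟨y₀, rfl⟩
    rw [e, mem_bot] at this
    rw [this]; rfl)
  have hinv : ∀ x : S, ∀ φ ∈ D, twist ⟨(x : X), d.normSR x.2⟩ φ ∈ D := by
    rintro x _ ⟨w, rfl⟩
    exact ⟨_, (twist_pair t.comm ⟨(x : X), d.normSR x.2⟩ (S_le_stab d t χ x.2) w).symm⟩
  let e : S →* MulAut D :=
    { toFun := fun x =>
        { toFun := fun φ => ⟨twist ⟨(x : X), d.normSR x.2⟩ φ, hinv x φ φ.2⟩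
          invFun := fun φ => ⟨twist ⟨((x⁻¹ : S) : X), d.normSR (x⁻¹).2⟩ φ, hinv x⁻¹ φ φ.2⟩
          left_inv := fun φ => Subtype.ext (by
            dsimp only
            rw [← twist_mul]
            exact (congrArg (fun g => twist g (φ : R →* kˣ))
              (Subtype.ext (by simp) :
                (⟨((x⁻¹ : S) : X), d.normSR (x⁻¹).2⟩ : normalizer (R : Set X)) *
                  ⟨(x : X), d.normSR x.2⟩ = 1)).trans (twist_one _))
          right_inv := fun φ => Subtype.ext (by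
            dsimp only
            rw [← twist_mul]
            exact (congrArg (fun g => twist g (φ : R →* kˣ))
              (Subtype.ext (by simp) :
                (⟨(x : X), d.normSR x.2⟩ : normalizer (R : Set X)) *
                  ⟨((x⁻¹ : S) : X), d.normSR (x⁻¹).2⟩ = 1)).trans (twist_one _))
          map_mul' := fun φ ψ => Subtype.ext (twist_mul_char _ _ _) }
      map_one' := MulEquiv.ext fun φ => Subtype.ext (twist_one _)
      map_mul' := fun x x' => MulEquiv.ext fun φ => Subtype.ext (twist_mul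
        ⟨(x : X), d.normSR x.2⟩ ⟨(x' : X), d.normSR x'.2⟩ _) }
  haveI := Fact.mk d.hs
  have hcomm : ∀ σ ∈ e.range, ∀ τ ∈ e.range, Commute σ τ := by
    rintro _ ⟨x, rfl⟩ _ ⟨x', rfl⟩
    refine MulEquiv.ext fun φ => Subtype.ext ?_
    obtain ⟨w, hw⟩ := φ.2
    change twist _ (twist _ (φ : R →* kˣ)) = twist _ (twist _ (φ : R →* kˣ))
    rw [← hw]
    exact twist_pair_comm d t hS x.2 x'.2 w
  have hexp : ∀ σ ∈ e.range, σ ^ s = 1 := by
    rintro _ ⟨x, rfl⟩
    rw [← map_pow]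
    refine MulEquiv.ext fun φ => Subtype.ext ?_
    obtain ⟨w, hw⟩ := φ.2
    change twist _ (φ : R →* kˣ) = φ
    rw [← hw]
    exact (mem_stab _).mp (mem_stab_of_commute _
      (pow_mem_and_comm_mem d hS x.2 x.2).1)
  have hcop : s.Coprime (Nat.card D) := by
    refine Nat.Coprime.coprime_dvd_right (card_range_dvd (pair t.comm χ)) ?_
    haveI := Fact.mk d.hr
    obtain ⟨n, hn⟩ := IsPGroup.iff_card.mp d.pR
    rw [hn]
    exact ((Nat.coprime_primes d.hs d.hr).mpr d.hsr).pow_right n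
  obtain ⟨⟨_, y, rfl⟩, hy1, hy⟩ := PQLinear.exists_maximal_fixer e.range hcomm hexp hcop (by
    intro φ hφ
    refine Subtype.ext (eq_one_of_le_stab d t fun x hx => (mem_stab (d.normSR hx)).mpr ?_)
    exact congrArg Subtype.val (hφ (e ⟨x, hx⟩) ⟨_, rfl⟩))
  refine ⟨y, fun h => hy1 (Subtype.ext h), fun x hx hxy x' hx' => ?_⟩
  obtain ⟨j, hj⟩ := hy (e ⟨x, hx⟩) ⟨_, rfl⟩
    (fun h => hxy ((mem_stab (d.normSR hx)).mpr (congrArg Subtype.val h))) (e ⟨x', hx'⟩) ⟨_, rfl⟩
  rw [← map_pow, ← map_mul] at hj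
  exact ⟨j, (mem_stab (d.normSR (S.mul_mem hx' (S.pow_mem hx j)))).mpr (congrArg Subtype.val hj)⟩

/-- When `F` centralizes `S`, in coprime characteristic `S` cannot move the pairing. -/
theorem false_of_ne (hsv : s ≠ v) (hocc : eproj (cen R) ρ χ ≠ 0) {a : X} (ha : a ∈ A) (haF : a ∉ F)
    (hap : a ^ p = 1) (hast : a ∈ stab (cen R) χ)
    (hsum : eproj (cen R) ρ χ * ∑ i ∈ Finset.range p, ρ (a ^ i) = 0)
    (hd : ∀ x ∈ S, ∀ f ∈ F, Commute f x) {y₀ z₀ : R} (hne : pair t.comm χ y₀ z₀ ≠ 1) : False := by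
  have hSN : S ≤ stab (cen R) χ := S_le_stab d t χ
  have hk : (Nat.card (S.subgroupOf (stab (cen R) χ)) : k) ≠ 0 := by
    rw [Nat.card_congr (subgroupOfEquivOfLe hSN).toEquiv]
    haveI := Fact.mk d.hs
    obtain ⟨n, hn⟩ := IsPGroup.iff_card.mp d.pS
    rw [hn, Ne, CharP.cast_eq_zero_iff k v]
    exact fun h => hsv ((Nat.prime_dvd_prime_iff_eq Fact.out d.hs).mp
      ((Fact.out : v.Prime).dvd_of_dvd_pow h)).symm
  have h := PrimeOpModule.rho_eq_one (compRep ρ χ) d.hp ⟨a, hast⟩ (Subtype.ext hap)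
    (sum_compRep_eq_zero ρ χ hast hsum) (S.subgroupOf _)
    (mem_normalizer_iff.mpr fun w => mem_normalizer_iff.mp (d.normS ha) (w : X))
    (fun w hw hfix => Subtype.ext (d.eq_one_of_commute d.fixS ha haF hw (hd _ hw)
      (mul_inv_eq_iff_eq_mul.mp (congrArg Subtype.val hfix)))) hk
  refine pair_ne_one d t hne fun w x hx => (mem_stab (d.normSR hx)).mpr ?_
  rw [twist_pair t.comm ⟨x, d.normSR hx⟩ (hSN hx)]
  refine pair_congr t.comm ρ hocc ?_
  have h1 := h ⟨x, hSN hx⟩ hx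
  have h2 := h ⟨x, hSN hx⟩⁻¹ ((S.subgroupOf _).inv_mem hx)
  calc compRep ρ χ _ = compRep ρ χ (⟨x, hSN hx⟩ * ⟨w, mem_stab_of_mem_R χ w.2⟩ * ⟨x, hSN hx⟩⁻¹) :=
        rfl
    _ = _ := by rw [map_mul, map_mul, h1, h2, one_mul, mul_one]

omit t in
/-- Conjugation fixing `χ` preserves the pairing. -/
theorem pair_conj (hR : ∀ y ∈ R, ∀ z ∈ R, ⁅y, z⁆ ∈ cen R) (g : normalizer (R : Set X))
    (hg : (g : X) ∈ stab (cen R) χ) (u w : R) :
    pair hR χ (R.normalizerMonoidHom g u) (R.normalizerMonoidHom g w) = pair hR χ u w := by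
  rw [← twist_pair hR g hg, twist_apply, ← MulAut.mul_apply, ← map_mul, inv_mul_cancel, map_one,
    MulAut.one_apply]

omit t in
/-- An element moved into the fixing subgroup of a translate. -/
theorem conj_mem_stab (hR : ∀ y ∈ R, ∀ z ∈ R, ⁅y, z⁆ ∈ cen R) (g : normalizer (R : Set X))
    (hg : (g : X) ∈ stab (cen R) χ) {u : R} {x : X} (hx : x ∈ stab R (pair hR χ u)) :
    (g : X) * x * (g : X)⁻¹ ∈ stab R (pair hR χ (R.normalizerMonoidHom g u)) := by
  obtain ⟨hn, he⟩ := hx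
  refine (mem_stab (mul_mem (mul_mem g.2 hn) (inv_mem g.2))).mpr ?_
  rw [← twist_pair hR g hg, show (⟨(g : X) * x * (g : X)⁻¹, _⟩ : normalizer (R : Set X)) =
    g * ⟨x, hn⟩ * g⁻¹ from rfl, twist_mul, twist_mul,
    show twist g⁻¹ (twist g (pair hR χ u)) = pair hR χ u by
      rw [← twist_mul, inv_mul_cancel, twist_one], he]

/-- A translate with another fixing subgroup is orthogonal. -/
theorem pair_eq_one_of_moved (hS : SmallS A R S) {y y' : R}
    (hmax : ∀ x ∈ S, x ∉ stab R (pair t.comm χ y) → ∀ x' ∈ S, ∃ j : ℕ,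
      x' * x ^ j ∈ stab R (pair t.comm χ y))
    {x₁ : X} (hx₁ : x₁ ∈ S) (hx₁' : x₁ ∈ stab R (pair t.comm χ y'))
    (hx₁y : x₁ ∉ stab R (pair t.comm χ y)) : pair t.comm χ y y' = 1 := by
  classical
  set K := S ⊓ stab R (pair t.comm χ y) with hK
  haveI := Fintype.ofFinite K
  set z := ∏ x : K, twist ⟨(x : X), d.normSR x.2.1⟩ (pair t.comm χ y') with hz
  have hfixK : ∀ x ∈ K, x ∈ stab R z := fun x hx => by
    refine (mem_stab (d.normSR hx.1)).mpr ?_
    rw [hz, twist_prod]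
    refine Fintype.prod_equiv (Equiv.mulLeft ⟨x, hx⟩) _ _ fun u => ?_
    rw [← twist_mul]
    rfl
  have hfix1 : x₁ ∈ stab R z := by
    refine (mem_stab (d.normSR hx₁)).mpr ?_
    rw [hz, twist_prod]
    refine Finset.prod_congr rfl fun u _ => ?_
    rw [twist_pair_comm d t hS hx₁ u.2.1, (mem_stab (d.normSR hx₁)).mp hx₁']
  have hz1 : z = 1 := eq_one_of_le_stab d t fun x' hx' => by
    obtain ⟨j, hj⟩ := hmax x₁ hx₁ hx₁y x' hx'
    have := mul_mem (hfixK _ ⟨S.mul_mem hx' (S.pow_mem hx₁ j), hj⟩) (inv_mem (pow_mem hfix1 j))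
    rwa [mul_inv_cancel_right] at this
  have h1 : z y = (pair t.comm χ y' y) ^ Nat.card K := by
    rw [hz, MonoidHom.finsetProd_apply, Nat.card_eq_fintype_card, ← Finset.card_univ,
      ← Finset.prod_const]
    refine Finset.prod_congr rfl fun u _ => ?_
    rw [twist_pair t.comm ⟨(u : X), d.normSR u.2.1⟩ (S_le_stab d t χ u.2.1), pair_swap t.comm χ _ y,
      (twist_eq_iff _ _).mp ((mem_stab (d.normSR u.2.1)).mp u.2.2), ← pair_swap]
  rw [hz1, MonoidHom.one_apply] at h1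
  have h2 : pair t.comm χ y' y = 1 :=
    eq_of_pow_eq (d.coprime_card.coprime_dvd_left (card_dvd_of_le (inf_le_left : K ≤ S)))
      (pow_card_eq_one _ y) (one_pow _) (h1.symm.trans (one_pow _).symm)
  rw [pair_swap, h2, inv_one]

/-- The operator permutes the fixing subgroups nontrivially: impossible. -/
theorem false_of_moved (hS : SmallS A R S) (hocc : eproj (cen R) ρ χ ≠ 0) {a : X} (ha : a ∈ A)
    (hap : a ^ p = 1) (hast : a ∈ stab (cen R) χ)
    (hsum : eproj (cen R) ρ χ * ∑ i ∈ Finset.range p, ρ (a ^ i) = 0) {y : R}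
    (hmax : ∀ x ∈ S, x ∉ stab R (pair t.comm χ y) → ∀ x' ∈ S, ∃ j : ℕ,
      x' * x ^ j ∈ stab R (pair t.comm χ y))
    (hK : a ∉ normalizer ((S ⊓ stab R (pair t.comm χ y) : Subgroup X) : Set X)) : False := by
  classical
  set K := S ⊓ stab R (pair t.comm χ y) with hKdef
  set N := stab (cen R) χ with hN
  let ar : ℕ → normalizer (R : Set X) := fun i => ⟨a ^ i, pow_mem (d.normR ha) i⟩
  let yy : ℕ → R := fun i => R.normalizerMonoidHom (ar i) y
  have hast' : ∀ i, ((ar i : normalizer (R : Set X)) : X) ∈ N := fun i => pow_mem hast i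
  have hnorm_of : ∀ i, (∀ x₁ ∈ S, x₁ ∈ stab R (pair t.comm χ (yy i)) →
      x₁ ∈ stab R (pair t.comm χ y)) → a ^ i ∈ normalizer (K : Set X) := by
    intro i h
    rw [mem_normalizer_iff_map_conj_eq]
    refine Basic.map_eq_of_invariant (MulAut.conj (a ^ i)) fun x hx => ?_
    have hxS : a ^ i * x * (a ^ i)⁻¹ ∈ S :=
      (mem_normalizer_iff.mp (pow_mem (d.normS ha) i) x).mp hx.1
    exact ⟨hxS, h _ hxS (conj_mem_stab d t.comm (ar i) (hast' i) hx.2)⟩
  have horth : ∀ i, pair t.comm χ y (yy i) = 1 := by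
    intro i
    by_cases hi : p ∣ i
    · obtain ⟨c, rfl⟩ := hi
      have : yy (p * c) = y := Subtype.ext (by
        change a ^ (p * c) * (y : X) * (a ^ (p * c))⁻¹ = (y : X)
        rw [pow_mul, hap, one_pow, one_mul, inv_one, mul_one])
      rw [this, pair_apply, ← map_one χ]
      exact congrArg χ (Subtype.ext (commutatorElement_self _))
    by_contra hne
    refine hK ?_
    have hin : a ^ i ∈ normalizer (K : Set X) := hnorm_of i fun x₁ hx₁ hx₁' => by
      by_contra hx₁y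
      exact hne (pair_eq_one_of_moved d t hS hmax hx₁ hx₁' hx₁y)
    obtain ⟨m, -, hm⟩ := Nat.exists_mul_mod_eq_one_of_coprime
      ((d.hp.coprime_iff_not_dvd.mpr hi).symm) d.hp.one_lt
    have := pow_mem hin m
    rwa [← pow_mul, pow_eq_pow_mod _ hap, hm, pow_one] at this
  have hpw : ∀ i j, pair t.comm χ (yy i) (yy j) = 1 := by
    intro i j
    have e : yy j = R.normalizerMonoidHom (ar i) (yy (j + p * i - i)) := Subtype.ext (by
      change a ^ j * (y : X) * (a ^ j)⁻¹ =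
        a ^ i * (a ^ (j + p * i - i) * (y : X) * (a ^ (j + p * i - i))⁻¹) * (a ^ i)⁻¹
      have h1 : a ^ j = a ^ i * a ^ (j + p * i - i) := by
        rw [← pow_add, Nat.add_sub_cancel' (le_add_left (Nat.le_mul_of_pos_left i d.hp.pos)),
          pow_add, pow_mul, hap, one_pow, mul_one]
      rw [h1]; group)
    rw [e, pair_conj d t.comm (ar i) (hast' i)]
    exact horth _
  let c : N →* (Module.End k (space ρ χ))ˣ := (compRep ρ χ).toHomUnits
  haveI : Finite c.range := Finite.of_surjective c.rangeRestrict c.rangeRestrict_surjective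
  let cr : N →* c.range := c.rangeRestrict
  let yN : ℕ → N := fun i => ⟨yy i, mem_stab_of_mem_R χ (yy i).2⟩
  have hscal : ∀ i j, cr ⁅yN i, yN j⁆ = 1 := by
    intro i j
    refine Subtype.ext (Units.ext ?_)
    change compRep ρ χ ⁅yN i, yN j⁆ = 1
    rw [show compRep ρ χ ⁅yN i, yN j⁆ = ((pair t.comm χ (yy i) (yy j) : kˣ) : k) • 1 from
      compRep_scalar ρ χ (z := ⟨⁅(yy i : X), (yy j : X)⁆, t.comm _ (yy i).2 _ (yy j).2⟩)
        (⁅yN i, yN j⁆).2, hpw, Units.val_one, one_smul]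
  set b := cr ⟨a, hast⟩ with hb
  have htr : ∀ i : ℕ, b ^ i * cr (yN 0) * (b ^ i)⁻¹ = cr (yN i) := fun i => by
    rw [hb, ← map_pow, ← map_inv, ← map_mul, ← map_mul]
    refine congrArg cr (Subtype.ext ?_)
    change a ^ i * (a ^ 0 * (y : X) * (a ^ 0)⁻¹) * (a ^ i)⁻¹ = a ^ i * (y : X) * (a ^ i)⁻¹
    simp
  have hRN : R ≤ N := fun z hz => mem_stab_of_mem_R χ hz
  have hrk : (r : k) ≠ 0 := by
    rw [Ne, CharP.cast_eq_zero_iff k v]
    exact fun h => d.hrv.symm ((Nat.prime_dvd_prime_iff_eq Fact.out d.hr).mp h)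
  have h1 := conj_eq_of_commuting (k := k) ((Units.coeHom _).comp c.range.subtype) d.hp d.hr
    d.hrp.symm hrk b (by rw [hb, ← map_pow, show (⟨a, hast⟩ : N) ^ p = 1 from Subtype.ext hap,
      map_one])
    (by
      refine Eq.trans (Finset.sum_congr rfl fun i _ => ?_) (sum_compRep_eq_zero ρ χ hast hsum)
      rw [hb, ← map_pow]
      rfl)
    (cr (yN 0)) ((R.subgroupOf N).map cr)
    ((d.pR.of_equiv (subgroupOfEquivOfLe hRN).symm).map cr)
    (fun i => by rw [htr]; exact ⟨yN i, (yy i).2, rfl⟩)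
    (fun i j => by
      rw [htr, htr]
      have h := hscal i j
      rw [map_commutatorElement] at h
      exact commutatorElement_eq_one_iff_mul_comm.mp h)
  have e1 := htr 1
  rw [pow_one] at e1
  rw [e1] at h1
  have h2 : pair t.comm χ (yy 1) = pair t.comm χ (yy 0) := pair_congr t.comm ρ hocc h1
  have h0 : yy 0 = y := Subtype.ext (by
    change a ^ 0 * (y : X) * (a ^ 0)⁻¹ = (y : X); simp)
  rw [h0] at h2
  refine hK ?_
  have := hnorm_of 1 fun x₁ _ hx₁ => by rwa [h2] at hx₁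
  rwa [pow_one] at this

omit t in
theorem conj_mem_centralizer {g w : X} (hg : g ∈ normalizer (R : Set X))
    (hw : w ∈ centralizer (R : Set X)) : g * w * g⁻¹ ∈ centralizer (R : Set X) := by
  refine mem_centralizer_iff.mpr fun y hy => ?_
  have h := mem_centralizer_iff.mp hw _ ((mem_normalizer_iff.mp (inv_mem hg) y).mp hy)
  rw [inv_inv] at h
  calc y * (g * w * g⁻¹) = g * (g⁻¹ * y * g * w) * g⁻¹ := by group
    _ = g * (w * (g⁻¹ * y * g)) * g⁻¹ := by rw [h]
    _ = g * w * g⁻¹ * y := by group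

/-- Modulo the centralizer of `R`, an element of `S` is raised to a power by the operator. -/
theorem exists_eigen (hS : SmallS A R S) (hd : ∀ x ∈ S, ∀ f ∈ F, Commute f x) {a : X} (ha : a ∈ A)
    (haF : a ∉ F) (hap : a ^ p = 1) {y : R} (hy1 : pair t.comm χ y ≠ 1)
    (hmax : ∀ x ∈ S, x ∉ stab R (pair t.comm χ y) → ∀ x' ∈ S, ∃ j : ℕ,
      x' * x ^ j ∈ stab R (pair t.comm χ y))
    (hK : a ∈ normalizer ((S ⊓ stab R (pair t.comm χ y) : Subgroup X) : Set X)) :
    ∃ (x₀ : X) (n : ℕ), x₀ ∈ S ∧ n ^ p ≡ 1 [MOD s] ∧ ¬ n ≡ 1 [MOD s] ∧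
      (∀ y' ∈ R, Commute ((x₀ ^ n)⁻¹ * (a * x₀ * a⁻¹)) y') ∧
      ∀ i < s, x₀ ^ i ∈ stab R (pair t.comm χ y) → i = 0 := by
  classical
  haveI := Fact.mk d.hs
  set T := stab R (pair t.comm χ y) with hT
  obtain ⟨x, hx, hxT⟩ : ∃ x ∈ S, x ∉ T := by
    by_contra h
    push Not at h
    exact hy1 (eq_one_of_le_stab d t h)
  have hcomT : ∀ u ∈ S, ∀ w ∈ S, ⁅u, w⁆ ∈ T := fun u hu w hw =>
    mem_stab_of_commute _ (pow_mem_and_comm_mem d hS hu hw).2
  have hpowT : ∀ u ∈ S, u ^ s ∈ T := fun u hu =>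
    mem_stab_of_commute _ (pow_mem_and_comm_mem d hS hu hu).1
  haveI hTn : (T.subgroupOf S).Normal := ⟨fun w hw u => by
    have : (u : X) * (w : X) * (u : X)⁻¹ * (w : X)⁻¹ * (w : X) ∈ T :=
      T.mul_mem (hcomT u u.2 w w.2) hw
    rwa [inv_mul_cancel_right] at this⟩
  let C0 : Subgroup S := (centralizer (R : Set X)).subgroupOf S
  haveI hCn : C0.Normal := ⟨fun w hw u => conj_mem_centralizer d (d.normSR u.2) hw⟩
  have hC0T : C0 ≤ T.subgroupOf S := fun w hw =>
    mem_stab_of_commute _ fun z hz => (mem_centralizer_iff.mp hw z hz).symm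
  letI : CommGroup (S ⧸ C0) :=
    { (inferInstance : Group (S ⧸ C0)) with
      mul_comm := fun u w => by
        obtain ⟨u, rfl⟩ := QuotientGroup.mk_surjective u
        obtain ⟨w, rfl⟩ := QuotientGroup.mk_surjective w
        rw [← QuotientGroup.mk_mul, ← QuotientGroup.mk_mul, eq_comm, QuotientGroup.eq]
        refine mem_centralizer_iff.mpr fun z hz => ?_
        have e : (((w * u)⁻¹ * (u * w) : S) : X) = ⁅(u : X)⁻¹, (w : X)⁻¹⁆ := by
          simp [commutatorElement_def, mul_assoc]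
        change z * (((w * u)⁻¹ * (u * w) : S) : X) = (((w * u)⁻¹ * (u * w) : S) : X) * z
        rw [e]
        exact ((pow_mem_and_comm_mem d hS (S.inv_mem u.2) (S.inv_mem w.2)).2 z hz).eq.symm }
  let π0 : S →* S ⧸ C0 := QuotientGroup.mk' C0
  let π : S →* S ⧸ T.subgroupOf S := QuotientGroup.mk' _
  have hexp0 : ∀ u : S, π0 u ^ s = 1 := fun u => by
    rw [← map_pow]
    exact (QuotientGroup.eq_one_iff _).mpr (mem_centralizer_iff.mpr fun z hz =>
      ((pow_mem_and_comm_mem d hS u.2 u.2).1 z hz).eq.symm)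
  set α := S.normalizerMonoidHom ⟨a, d.normS ha⟩ with hα
  have hαv : ∀ u : S, (α u : X) = a * u * a⁻¹ := fun _ => rfl
  have hαp : α ^ p = 1 := by
    rw [hα, ← map_pow, show (⟨a, d.normS ha⟩ : normalizer (S : Set X)) ^ p = 1 from Subtype.ext hap,
      map_one]
  have hαT : ∀ u : S, π u = 1 → π (α u) = 1 := fun u hu => (QuotientGroup.eq_one_iff _).mpr
    ((mem_normalizer_iff.mp hK u).mp ⟨u.2, (QuotientGroup.eq_one_iff u).mp hu⟩).2
  set xs : S := ⟨x, hx⟩ with hxs
  have hord : orderOf (π xs) = s := orderOf_eq_prime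
    (by rw [← map_pow]; exact (QuotientGroup.eq_one_iff _).mpr (hpowT x hx))
    (fun h => hxT ((QuotientGroup.eq_one_iff xs).mp h))
  obtain ⟨j, hj⟩ := hmax x hx hxT (a * x * a⁻¹) (α xs).2
  set n := j * (s - 1) with hn
  have hαx : π (α xs) = π xs ^ n := by
    have h1 : π (α xs) * π xs ^ j = 1 := by
      rw [← map_pow, ← map_mul]; exact (QuotientGroup.eq_one_iff _).mpr hj
    rw [eq_inv_of_mul_eq_one_left h1, inv_eq_iff_mul_eq_one, ← pow_add, hn,
      show j + j * (s - 1) = s * j by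
        rw [Nat.mul_sub, mul_one, Nat.add_sub_cancel' (Nat.le_mul_of_pos_right j d.hs.pos),
          mul_comm], pow_mul, ← hord, pow_orderOf_eq_one, one_pow]
  have hiter : ∀ i : ℕ, π ((α ^ i) xs) = π xs ^ n ^ i := by
    intro i
    induction i with
    | zero => simp
    | succ i ih =>
      rw [pow_succ' α, MulAut.mul_apply]
      have e : (α ^ i) xs = xs ^ n ^ i * ((xs ^ n ^ i)⁻¹ * (α ^ i) xs) := by group
      have hk : π ((xs ^ n ^ i)⁻¹ * (α ^ i) xs) = 1 := by
        rw [map_mul, map_inv, map_pow, ih, inv_mul_cancel]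
      rw [e, map_mul, map_mul, hαT _ hk, mul_one, map_pow, map_pow, hαx, ← pow_mul, pow_succ' n]
  have hnp : n ^ p ≡ 1 [MOD s] := by
    have h := hiter p
    rw [hαp, MulAut.one_apply] at h
    have := (pow_inj_mod (x := π xs) (n := n ^ p) (m := 1)).mp (by rw [pow_one]; exact h.symm)
    rwa [hord] at this
  have hn1 : ¬ n ≡ 1 [MOD s] := by
    intro h1
    have h : π (α xs) = π xs := by
      rw [hαx]
      conv_rhs => rw [← pow_one (π xs)]
      exact pow_inj_mod.mpr (by rw [hord]; exact h1)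
    obtain ⟨m, hm, hcm⟩ := exists_mul_commute hap hK
      (d.coprime_p_of_pGroup d.hs d.hsp (d.pS.to_le inf_le_left)) (x := x) (by
        refine ⟨S.mul_mem (S.inv_mem hx) (α xs).2, ?_⟩
        have h' : xs⁻¹ * α xs ∈ T.subgroupOf S := QuotientGroup.eq.mp h.symm
        exact h')
    have hxm := d.eq_one_of_commute d.fixS ha haF (S.mul_mem hx hm.1)
      (hd _ (S.mul_mem hx hm.1)) hcm
    exact hxT (by rw [eq_inv_of_mul_eq_one_left hxm]; exact inv_mem hm.2)
  set e := n ^ (p - 1) with he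
  have hen : n * e ≡ 1 [MOD s] := by
    rw [he, ← pow_succ', Nat.sub_add_cancel d.hp.one_le]; exact hnp
  let g : ℕ → S := fun m => Nat.rec 1 (fun i gi => gi * (α ^ i) xs ^ e ^ i) m
  have hg : ∀ m, π0 (g m) = ∏ i ∈ Finset.range m, π0 ((α ^ i) xs) ^ e ^ i ∧
      π0 (α (g m)) = ∏ i ∈ Finset.range m, π0 ((α ^ (i + 1)) xs) ^ e ^ i ∧
      π (g m) = π xs ^ m := by
    intro m
    induction m with
    | zero => simp [g]
    | succ m ih =>
      have hgm : g (m + 1) = g m * (α ^ m) xs ^ e ^ m := rfl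
      refine ⟨?_, ?_, ?_⟩
      · rw [hgm, map_mul, map_pow, ih.1, Finset.prod_range_succ]
      · rw [hgm, map_mul, map_mul, map_pow, map_pow, ih.2.1, Finset.prod_range_succ,
          pow_succ' α, MulAut.mul_apply]
      · rw [hgm, map_mul, map_pow, hiter, ← pow_mul, ih.2.2, pow_succ]
        congr 1
        conv_rhs => rw [← pow_one (π xs)]
        refine pow_inj_mod.mpr ?_
        rw [hord, ← mul_pow]
        change _ ≡ 1 [MOD s]
        simpa using hen.pow m
  set Φ : ℕ → S ⧸ C0 := fun i => π0 ((α ^ i) xs) ^ e ^ i with hΦ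
  have hΦp : Φ p = Φ 0 := by
    have hep : e ^ p % s = 1 := by
      have h1 := (hen.pow p)
      rw [one_pow, mul_pow] at h1
      have h2 : e ^ p ≡ 1 [MOD s] := ((hnp.mul_right (e ^ p)).trans (by rw [one_mul])).symm.trans h1
      rw [h2, Nat.mod_eq_of_lt d.hs.one_lt]
    simp only [hΦ]
    rw [hαp, pow_zero α, pow_zero e, pow_one, pow_eq_pow_mod _ (hexp0 _), hep, pow_one]
  have hsumΦ : ∏ i ∈ Finset.range p, Φ (i + 1) = ∏ i ∈ Finset.range p, Φ i := by
    have h := Finset.prod_range_succ' Φ p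
    rw [Finset.prod_range_succ, hΦp] at h
    exact (mul_right_cancel h).symm
  have heig : π0 (α (g p)) = π0 (g p) ^ n := by
    rw [(hg p).1, (hg p).2.1, ← hsumΦ, ← Finset.prod_pow]
    refine Finset.prod_congr rfl fun i _ => ?_
    have hmod : e ^ i ≡ e ^ (i + 1) * n [MOD s] := by
      have h := (hen.mul_left (e ^ i)).symm
      rwa [mul_one, mul_comm n e, ← mul_assoc, ← pow_succ e i] at h
    simp only [hΦ]
    rw [← pow_mul (π0 ((α ^ (i + 1)) xs)) (e ^ (i + 1)) n, pow_eq_pow_mod (e ^ i) (hexp0 _),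
      pow_eq_pow_mod (e ^ (i + 1) * n) (hexp0 _), hmod]
  refine ⟨Subtype.val (g p), n, SetLike.coe_mem (g p), hnp, hn1, ?_, fun i hi hiT => ?_⟩
  · intro y' hy'
    have h1 : (g p ^ n)⁻¹ * α (g p) ∈ C0 := by
      rw [← QuotientGroup.eq]
      exact (heig.trans (map_pow π0 _ _).symm).symm
    exact ((mem_centralizer_iff.mp h1) y' hy').symm
  · have h1 : π xs ^ (p * i) = 1 := by
      rw [pow_mul, ← (hg p).2.2, ← map_pow]
      exact (QuotientGroup.eq_one_iff _).mpr hiT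
    rw [← orderOf_dvd_iff_pow_eq_one, hord] at h1
    rcases d.hs.dvd_mul.mp h1 with h | h
    · exact absurd ((Nat.prime_dvd_prime_iff_eq d.hs d.hp).mp h) d.hsp
    · exact Nat.eq_zero_of_dvd_of_lt h hi

/-- When the operator fixes a maximal fixing subgroup, in characteristic `s`: impossible. -/
theorem false_of_fixed (hsv : s = v) (hS : SmallS A R S) (hocc : eproj (cen R) ρ χ ≠ 0) {a : X}
    (ha : a ∈ A) (haF : a ∉ F) (hap : a ^ p = 1) (hast : a ∈ stab (cen R) χ)
    (hsum : eproj (cen R) ρ χ * ∑ i ∈ Finset.range p, ρ (a ^ i) = 0)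
    (hd : ∀ x ∈ S, ∀ f ∈ F, Commute f x) {y : R} (hy1 : pair t.comm χ y ≠ 1)
    (hmax : ∀ x ∈ S, x ∉ stab R (pair t.comm χ y) → ∀ x' ∈ S, ∃ j : ℕ,
      x' * x ^ j ∈ stab R (pair t.comm χ y))
    (hK : a ∈ normalizer ((S ⊓ stab R (pair t.comm χ y) : Subgroup X) : Set X)) : False := by
  classical
  subst hsv
  obtain ⟨x₀, n, hx₀, hnp, hn1, heig, hind⟩ := exists_eigen d t hS hd ha haF hap hy1 hmax hK
  set N := stab (cen R) χ with hN
  set C := S ⊓ centralizer (R : Set X) with hC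
  have hCN : C ≤ N := inf_le_left.trans (S_le_stab d t χ)
  set M : Subgroup N := (normalizer (C : Set X)).subgroupOf N with hM
  haveI := nontrivial_space ρ χ hocc
  let ρC : C →* Module.End k (space ρ χ) := (compRep ρ χ).comp (inclusion hCN)
  obtain ⟨w₀, hw₀, hwfix⟩ := PQLinear.exists_fixed_vector (s := s) (d.pS.to_le inf_le_left) ρC
  let W₀ : Submodule k (space ρ χ) :=
    { carrier := {w | ∀ c, ρC c w = w}
      add_mem' := fun {u w} hu hw c => by rw [map_add, hu c, hw c]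
      zero_mem' := fun c => map_zero _
      smul_mem' := fun c w hw x => by rw [map_smul, hw x] }
  haveI : Nontrivial W₀ := Submodule.nontrivial_iff_ne_bot.mpr fun h => hw₀ (by
    have : w₀ ∈ W₀ := hwfix
    rw [h, Submodule.mem_bot] at this
    exact this)
  have hmem : ∀ g : M, ∀ w ∈ W₀, compRep ρ χ (g : N) w ∈ W₀ := by
    intro g w hw c
    have hc : ((g : N) : X)⁻¹ * c * ((g : N) : X) ∈ C := by
      have := (mem_normalizer_iff.mp (inv_mem (g.2 : ((g : N) : X) ∈ normalizer (C : Set X))) c).mp c.2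
      rwa [inv_inv] at this
    have e : (inclusion hCN c) * (g : N) = (g : N) * inclusion hCN ⟨_, hc⟩ := Subtype.ext (by
      change (c : X) * ((g : N) : X) = ((g : N) : X) * (((g : N) : X)⁻¹ * c * ((g : N) : X))
      group)
    change compRep ρ χ (inclusion hCN c) (compRep ρ χ (g : N) w) = _
    rw [← Module.End.mul_apply, ← map_mul, e, map_mul, Module.End.mul_apply]
    exact congrArg (compRep ρ χ (g : N)) (hw _)
  let ρ₀ : M →* Module.End k W₀ :=
    { toFun := fun g => (compRep ρ χ (g : N)).restrict (hmem g)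
      map_one' := LinearMap.ext fun w => Subtype.ext (by
        change compRep ρ χ ((1 : M) : N) (w : space ρ χ) = w
        rw [Subgroup.coe_one, map_one, Module.End.one_apply])
      map_mul' := fun g h => LinearMap.ext fun w => Subtype.ext (by
        change compRep ρ χ ((g * h : M) : N) (w : space ρ χ) =
          compRep ρ χ (g : N) (compRep ρ χ (h : N) (w : space ρ χ))
        rw [Subgroup.coe_mul, map_mul, Module.End.mul_apply]) }
  have hCone : ∀ g : M, ((g : N) : X) ∈ C → ρ₀ g = 1 := fun g hg => LinearMap.ext fun w =>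
    Subtype.ext (w.2 ⟨_, hg⟩)
  have hnormC : ∀ g : X, g ∈ normalizer (S : Set X) → g ∈ normalizer (R : Set X) →
      g ∈ normalizer (C : Set X) := fun g hgS hgR => by
    rw [mem_normalizer_iff_map_conj_eq]
    refine Basic.map_eq_of_invariant (MulAut.conj g) fun w hw =>
      ⟨(mem_normalizer_iff.mp hgS w).mp hw.1, conj_mem_centralizer d hgR hw.2⟩
  let aM : M := ⟨⟨a, hast⟩, hnormC a (d.normS ha) (d.normR ha)⟩
  let xM : M := ⟨⟨x₀, S_le_stab d t χ hx₀⟩, hnormC x₀ (le_normalizer hx₀) (d.normSR hx₀)⟩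
  let rM : R →* M :=
    { toFun := fun z => ⟨⟨z, mem_stab_of_mem_R χ z.2⟩,
        centralizer_le_normalizer _ (mem_centralizer_iff.mpr fun c hc =>
          ((mem_centralizer_iff.mp hc.2) z z.2).symm)⟩
      map_one' := rfl
      map_mul' := fun _ _ => rfl }
  set u := ρ₀ xM with hu
  set u' := ρ₀ xM⁻¹ with hu'
  have huu : u * u' = 1 := by rw [hu, hu', ← map_mul, mul_inv_cancel, map_one]
  have huu' : u' * u = 1 := by rw [hu, hu', ← map_mul, inv_mul_cancel, map_one]
  have hus : u ^ s = 1 := by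
    rw [hu, ← map_pow]
    refine hCone _ ⟨S.pow_mem hx₀ s, mem_centralizer_iff.mpr fun z hz =>
      ((pow_mem_and_comm_mem d hS hx₀ hx₀).1 z hz).eq.symm⟩
  have hsum₀ : ∑ i ∈ Finset.range p, ρ₀ aM ^ i = 0 := by
    refine LinearMap.ext fun w => Subtype.ext ?_
    have h := LinearMap.congr_fun (sum_compRep_eq_zero ρ χ hast hsum) (w : space ρ χ)
    rw [LinearMap.zero_apply] at h
    rw [LinearMap.sum_apply, AddSubmonoidClass.coe_finsetSum, LinearMap.zero_apply,
      ZeroMemClass.coe_zero, ← h, LinearMap.sum_apply]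
    refine Finset.sum_congr rfl fun i _ => ?_
    rw [← map_pow]
    rfl
  have hβu : ρ₀ aM * u = u ^ n * ρ₀ aM := by
    have e : aM * xM = xM ^ n * ((xM ^ n)⁻¹ * (aM * xM * aM⁻¹)) * aM := by group
    have hc : ρ₀ ((xM ^ n)⁻¹ * (aM * xM * aM⁻¹)) = 1 :=
      hCone _ ⟨S.mul_mem (S.inv_mem (S.pow_mem hx₀ n)) ((mem_normalizer_iff.mp (d.normS ha) x₀).mp hx₀),
        mem_centralizer_iff.mpr fun z hz => (heig z hz).eq.symm⟩
    rw [hu, ← map_mul, e, map_mul, map_mul, hc, mul_one, map_pow]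
  have hpk : (p : k) ≠ 0 := by
    rw [Ne, CharP.cast_eq_zero_iff k s]
    exact fun h => d.hsp ((Nat.prime_dvd_prime_iff_eq d.hs d.hp).mp h)
  have hnil := PrimeOpModule.sub_one_pow_eq_zero (s := s) d.hp hpk u (ρ₀ aM) hus
    (by rw [← map_pow, show aM ^ p = 1 from Subtype.ext (Subtype.ext hap), map_one]) hsum₀ hβu hnp hn1
  have hle : 2 * (p - 1) ≤ s := by
    haveI := Fact.mk d.hs
    have hn0 : (n : ZMod s) ≠ 0 := fun h0 => by
      have := (ZMod.natCast_eq_natCast_iff _ _ _).mpr hnp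
      rw [Nat.cast_pow, h0, zero_pow d.hp.ne_zero, Nat.cast_one] at this
      exact zero_ne_one this
    haveI := Fact.mk d.hp
    have hordn : orderOf (n : ZMod s) = p := orderOf_eq_prime
      (by have := (ZMod.natCast_eq_natCast_iff _ _ _).mpr hnp
          rwa [Nat.cast_pow, Nat.cast_one] at this)
      (fun h1 => hn1 ((ZMod.natCast_eq_natCast_iff _ _ _).mp (by rwa [Nat.cast_one])))
    have hdvd : p ∣ s - 1 := hordn ▸ ZMod.orderOf_dvd_card_sub_one hn0
    obtain ⟨c, hc⟩ := hdvd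
    rcases Nat.lt_or_ge c 2 with h | h
    · have hp2 : p = 2 := by
        rcases d.hp.eq_two_or_odd with h2 | h2
        · exact h2
        · exfalso
          rcases d.hs.eq_two_or_odd with h3 | h3
          · have := d.hp.two_le; interval_cases c <;> omega
          · have := d.hs.two_le; interval_cases c <;> omega
      have := d.hs.two_le
      omega
    · have : p * 2 ≤ p * c := Nat.mul_le_mul_left _ h
      omega
  have hconj := PrimeOpModule.sum_conj_eq_zero (k := k) (s := s) u u' huu huu' hnil hle (ρ₀ (rM y))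
  -- independence of the conjugates
  let yc : ℕ → R := fun i => R.normalizerMonoidHom ⟨x₀ ^ i, pow_mem (d.normSR hx₀) i⟩ y
  have hterm : ∀ i, u ^ i * ρ₀ (rM y) * u' ^ i = ρ₀ (rM (yc i)) := fun i => by
    rw [hu, hu', ← map_pow, ← map_pow, ← map_mul, ← map_mul, inv_pow]
    rfl
  have hRk : (Nat.card R : k) ≠ 0 := d.card_ne_zero Fact.out le_rfl
  have hscal : ∀ (i : ℕ) (g : R), ρ₀ (rM g) * ρ₀ (rM (yc i)) * ρ₀ (rM g⁻¹) =
      ((((pair t.comm χ (yc i))⁻¹ : R →* kˣ) g : kˣ) : k) • ρ₀ (rM (yc i)) := by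
    intro i g
    rw [← map_mul, ← map_mul, ← map_mul, ← map_mul]
    have e : g * yc i * g⁻¹ = ⁅g, yc i⁆ * yc i := by
      simp [commutatorElement_def, mul_assoc]
    rw [e, map_mul, map_mul]
    have hs : ρ₀ (rM ⁅g, yc i⁆) = ((((pair t.comm χ (yc i))⁻¹ : R →* kˣ) g : kˣ) : k) • 1 := by
      refine LinearMap.ext fun w => Subtype.ext ?_
      change compRep ρ χ ⟨_, _⟩ (w : space ρ χ) = _
      refine (LinearMap.congr_fun
        (compRep_scalar ρ χ (z := ⟨⁅(g : X), (yc i : X)⁆, t.comm _ g.2 _ (yc i).2⟩)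
          (mem_stab_of_mem_R χ (⁅g, yc i⁆ : R).2)) (w : space ρ χ)).trans ?_
      rw [MonoidHom.inv_apply, ← pair_swap, pair_apply]
      rfl
    rw [hs, smul_mul_assoc, one_mul]
  have h0 := PQLinear.eq_zero_of_sum_eq_zero hRk (ρ₀.comp rM) (Finset.range s)
    (fun i => ρ₀ (rM (yc i))) (fun i => (pair t.comm χ (yc i))⁻¹) (fun i _ g => hscal i g)
    (by rw [← hconj]; exact Finset.sum_congr rfl fun i _ => (hterm i).symm) (i₀ := 0)
    (Finset.mem_range.mpr d.hs.pos) (fun i hi hi0 he => hi0 (by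
      refine hind i (Finset.mem_range.mp hi) ((mem_stab (pow_mem (d.normSR hx₀) i)).mpr ?_)
      have h : pair t.comm χ (yc i) = pair t.comm χ (yc 0) :=
        MonoidHom.ext fun g => inv_injective (DFunLike.congr_fun he g)
      rw [show yc 0 = y from Subtype.ext (by
        change x₀ ^ 0 * (y : X) * (x₀ ^ 0)⁻¹ = (y : X); simp)] at h
      rw [twist_pair t.comm ⟨x₀ ^ i, _⟩ (pow_mem (S_le_stab d t χ hx₀) i)]
      exact h))
  obtain ⟨w, hw⟩ := exists_ne (0 : W₀)
  apply hw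
  have e1 : ρ₀ (rM (yc 0))⁻¹ * ρ₀ (rM (yc 0)) = 1 := by rw [← map_mul, inv_mul_cancel, map_one]
  have e2 := LinearMap.congr_fun e1 w
  rw [Module.End.mul_apply, h0, LinearMap.zero_apply, map_zero, Module.End.one_apply] at e2
  exact e2.symm

omit [Fintype (cen R)] in
/-- `S` centralizes a tame `R`. -/
theorem false_of_tame [IsSepClosed k] (hS : SmallS A R S) : False := by
  classical
  haveI := Fintype.ofFinite (cen R)
  haveI := Fintype.ofFinite F
  haveI := Fintype.ofFinite R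
  have hA := normZ d
  have hsep : ∀ y z : R, ⁅(y : X), (z : X)⁆ ≠ 1 → ∃ χ : cen R →* kˣ,
      eproj (cen R) ρ χ ≠ 0 ∧ pair t.comm χ y z ≠ 1 := fun y z h =>
    exists_occurs_apply_ne_one ρ (d.card_ne_zero Fact.out inf_le_left)
      fun e => h (d.inj _ (t.comm y y.2 z z.2).1 e)
  have hcases : ∀ χ : cen R →* kˣ, eproj (cen R) ρ χ ≠ 0 → ∀ y z, pair t.comm χ y z ≠ 1 →
      ∃ a ∈ A, a ∉ F ∧ a ^ p = 1 ∧ a ∈ stab (cen R) χ ∧
        eproj (cen R) ρ χ * ∑ i ∈ Finset.range p, ρ (a ^ i) = 0 := by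
    intro χ hocc y z hne
    have hχ : χ ≠ 1 := by rintro rfl; exact hne rfl
    rcases d.occ_cases Fact.out inf_le_left hA hocc hχ with ⟨hF, hsum⟩ | ⟨-, a, h1, h2, h3, h4, -, h5⟩
    · exact absurd (false_of_F d t hS hocc hF hsum hne) id
    · exact ⟨a, h1, h2, h3, h4, h5⟩
  obtain ⟨y₀, z₀, hyz⟩ : ∃ y z : R, ⁅(y : X), (z : X)⁆ ≠ 1 := by
    by_contra h
    push Not at h
    exact t.nonab ⟨⟨fun y z => Subtype.ext (commutatorElement_eq_one_iff_mul_comm.mp (h y z))⟩⟩
  rcases dichotomy d hS with hd | hd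
  · obtain ⟨χ, hocc, hne⟩ := hsep y₀ z₀ hyz
    obtain ⟨a, ha, haF, hap, hast, hsum⟩ := hcases χ hocc _ _ hne
    by_cases hsv : s = v
    · obtain ⟨y, hy1, hmax⟩ := exists_maximal_pair d t hS hne
      by_cases hK : a ∈ normalizer ((S ⊓ stab R (pair t.comm χ y) : Subgroup X) : Set X)
      · exact false_of_fixed d t hsv hS hocc ha haF hap hast hsum hd hy1 hmax hK
      · exact false_of_moved d t hS hocc ha hap hast hsum hmax hK
    · exact false_of_ne d t hsv hocc ha haF hap hast hsum hd hne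
  -- the fixed points of `F` in `R` are central
  have hfix : ∀ y ∈ R, (∀ f ∈ F, Commute f y) → y ∈ cen R := by
    intro y hy hyF
    refine ⟨hy, mem_centralizer_iff.mpr fun z hz => ?_⟩
    by_contra hne
    have h1 : ⁅y, z⁆ ≠ 1 := fun h => hne (commutatorElement_eq_one_iff_mul_comm.mp h).symm
    obtain ⟨χ, hocc, hne'⟩ := hsep ⟨y, hy⟩ ⟨z, hz⟩ h1
    obtain ⟨a, ha, haF, hap, hast, hsum⟩ := hcases χ hocc _ _ hne'
    exact hne' (by rw [pair_fixed_eq_one d t hocc ha haF hap hast hsum hyF]; rfl)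
  -- pass to `R / Z(R)`
  set Z' := (cen R).subgroupOf R with hZ'
  haveI hZn : Z'.Normal := ⟨fun w hw g => by
    change (g : X) * (w : X) * (g : X)⁻¹ ∈ cen R
    rw [(commute_cen (show (w : X) ∈ cen R from hw) g.2).eq, mul_inv_cancel_right]
    exact hw⟩
  letI : CommGroup (R ⧸ Z') :=
    { (inferInstance : Group (R ⧸ Z')) with
      mul_comm := fun u w => by
        obtain ⟨u, rfl⟩ := QuotientGroup.mk_surjective u
        obtain ⟨w, rfl⟩ := QuotientGroup.mk_surjective w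
        rw [← QuotientGroup.mk_mul, ← QuotientGroup.mk_mul, eq_comm, QuotientGroup.eq]
        have := t.comm _ (R.inv_mem u.2) _ (R.inv_mem w.2)
        change (((w * u)⁻¹ * (u * w) : R) : X) ∈ cen R
        have e : (((w * u)⁻¹ * (u * w) : R) : X) = ⁅(u : X)⁻¹, (w : X)⁻¹⁆ := by
          simp [commutatorElement_def, mul_assoc]
        rw [e]
        exact this }
  haveI : NeZero ((Monoid.exponent (R ⧸ Z') : ℕ) : k) := ⟨fun h => d.card_ne_zero (k := k) Fact.out
    (le_refl R) (by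
      obtain ⟨c, hc⟩ := (Group.exponent_dvd_nat_card (G := R ⧸ Z')).trans (card_quotient_dvd_card Z')
      rw [hc, Nat.cast_mul, h, zero_mul])⟩
  have hsep' : ∀ w : R, (∀ μ : R →* kˣ, (∀ z ∈ Z', μ z = 1) → μ w = 1) → w ∈ Z' := by
    intro w hw
    by_contra hne
    obtain ⟨φ, hφ⟩ := CommGroup.exists_apply_ne_one_of_hasEnoughRootsOfUnity (R ⧸ Z') k
      (a := (w : R ⧸ Z')) fun h => hne ((QuotientGroup.eq_one_iff w).mp h)
    exact hφ (hw (φ.comp (QuotientGroup.mk' Z')) fun z hz => by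
      rw [MonoidHom.comp_apply, QuotientGroup.mk'_apply, (QuotientGroup.eq_one_iff z).mpr hz, map_one])
  have htwZ : ∀ (g : normalizer (R : Set X)), (g : X) ∈ normalizer ((cen R : Subgroup X) : Set X) →
      ∀ μ : R →* kˣ, (∀ z ∈ Z', μ z = 1) → ∀ z ∈ Z', twist g μ z = 1 := fun g hg μ hμ z hz => by
    rw [twist_apply]
    refine hμ _ ?_
    exact (mem_normalizer_iff.mp (inv_mem hg) (z : X)).mp hz
  have hFR : F ≤ normalizer (R : Set X) := d.F_le.trans d.normR
  have hnorm : ∀ μ : R →* kˣ, (∀ z ∈ Z', μ z = 1) →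
      ∏ f : F, twist ⟨(f : X), hFR f.2⟩ μ = 1 := by
    intro μ hμ
    refine MonoidHom.ext fun z => ?_
    obtain ⟨w, hw⟩ := QuotientGroup.mk_surjective
      (∏ f : F, QuotientGroup.mk' Z' (R.normalizerMonoidHom ⟨(f : X), hFR f.2⟩⁻¹ z))
    have hev : ∀ ν : R →* kˣ, (∀ z ∈ Z', ν z = 1) →
        ν w = ∏ f : F, twist ⟨(f : X), hFR f.2⟩ ν z := fun ν hν => by
      let νb : R ⧸ Z' →* kˣ := QuotientGroup.lift Z' ν hν
      have := congrArg νb hw
      rw [map_prod] at this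
      exact this
    suffices hwZ : w ∈ Z' by
      rw [MonoidHom.finsetProd_apply, ← hev μ hμ, hμ w hwZ]; rfl
    obtain ⟨f, hf, hf1⟩ := F.bot_or_exists_ne_one.resolve_left fun h => by
      have := d.cardF
      rw [h, Subgroup.card_bot] at this
      exact d.hq.one_lt.ne this
    have hfZ : f ∈ normalizer ((cen R : Subgroup X) : Set X) := (d.F_le.trans hA) hf
    have h1 : w⁻¹ * R.normalizerMonoidHom ⟨f, hFR hf⟩ w ∈ Z' := by
      refine hsep' _ fun ν hν => ?_
      have h2 := hev ν hν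
      have h3 := hev (twist ⟨f⁻¹, hFR (inv_mem hf)⟩ ν)
        (htwZ ⟨f⁻¹, hFR (inv_mem hf)⟩ (inv_mem hfZ) ν hν)
      have h4 : twist ⟨f⁻¹, hFR (inv_mem hf)⟩ ν w =
          ν (R.normalizerMonoidHom ⟨f, hFR hf⟩ w) := by
        rw [twist_apply, show (⟨f⁻¹, hFR (inv_mem hf)⟩ : normalizer (R : Set X))⁻¹ = ⟨f, hFR hf⟩ from
          Subtype.ext (inv_inv f)]
      rw [map_mul, map_inv, ← h4, h3, h2, inv_mul_eq_one]
      refine (Fintype.prod_equiv (Equiv.mulRight (⟨f⁻¹, inv_mem hf⟩ : F)) _ _ fun g => ?_).symm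
      rw [← twist_mul]
      rfl
    obtain ⟨m, hm, hcm⟩ := exists_mul_commute (d.pow_q_eq_one hf) hfZ
      (d.coprime_q_of_pGroup d.hr d.hrq (d.pR.to_le inf_le_left)) (x := (w : X)) h1
    have := (cen R).mul_mem (hfix _ (R.mul_mem w.2 hm.1) (d.commute_F hf hf1 hcm)) ((cen R).inv_mem hm)
    rwa [mul_inv_cancel_right] at this
  have hall : ∀ μ : R →* kˣ, (∀ z ∈ Z', μ z = 1) → μ = 1 := fun μ hμ =>
    eq_one_of_le_stab d t (le_stab_of_norm d hd μ fun x => hnorm _
      (htwZ ⟨(x : X), d.normSR x.2⟩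
        (centralizer_le_normalizer _ (mem_centralizer_iff.mpr fun z hz =>
          (t.S_cen x x.2 z hz).eq.symm)) μ hμ))
  exact hyz (commutatorElement_eq_one_iff_mul_comm.mpr (commute_cen
    (hsep' z₀ fun μ hμ => by rw [hall μ hμ]; rfl) y₀.2).eq)

end Cfsg.Agent.Lib.FpfHeight.PQClassTwo
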