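/-
A group of order `pq` without fixed points on a module: an invariant `s`-group normalizing an
invariant `r`-group centralizes it.
-/
import Cfsg.Agent.Lib.FpfHeight.PQClassTwo

set_option autoImplicit false
set_option linter.style.haveILetI false
set_option linter.unusedSectionVars false

namespace Cfsg.Agent.Lib.FpfHeight.PQCore

open Subgroup Cfsg.Agent.Lib.FpfHeight.PQBasics Cfsg.Agent.Lib.FpfHeight.PQAbelian
  Cfsg.Agent.Lib.FpfHeight.PQComponent
open scoped commutatorElement

variable {k : Type*} [Field k] [IsSepClosed k] {v : ℕ} [Fact v.Prime] [CharP k v]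
  {W : Type*} [AddCommGroup W] [Module k W] {X : Type*} [Group X] [Finite X]
  {ρ : X →* Module.End k W} {A F : Subgroup X} {p q r s : ℕ}

theorem mem_normalizer_commutator {g : X} {H K : Subgroup X} (hH : g ∈ normalizer (H : Set X))
    (hK : g ∈ normalizer (K : Set X)) : g ∈ normalizer ((⁅H, K⁆ : Subgroup X) : Set X) := by
  have hmap : ∀ L : Subgroup X, g ∈ normalizer (L : Set X) →
      L.map (MulAut.conj g).toMonoidHom ≤ L := by
    rintro L hL _ ⟨w, hw, rfl⟩
    exact (mem_normalizer_iff.mp hL w).mp hw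
  rw [mem_normalizer_iff_map_conj_eq]
  refine Basic.map_eq_of_invariant (MulAut.conj g) fun w hw => ?_
  have h : (⁅H, K⁆ : Subgroup X).map (MulAut.conj g).toMonoidHom ≤ ⁅H, K⁆ := by
    rw [map_commutator]; exact commutator_mono (hmap H hH) (hmap K hK)
  exact h ⟨w, hw, rfl⟩

theorem restrict {R S R1 S1 : Subgroup X} (d : PQData ρ A F v p q r s R S) (hR : R1 ≤ R)
    (hS : S1 ≤ S) (hAR : A ≤ normalizer (R1 : Set X)) (hAS : A ≤ normalizer (S1 : Set X))
    (hSR : S1 ≤ normalizer (R1 : Set X)) : PQData ρ A F v p q r s R1 S1 :=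
  { d with
    pR := d.pR.to_le hR
    pS := d.pS.to_le hS
    normR := hAR
    normS := hAS
    normSR := hSR
    inj := fun y hy => d.inj y (hR hy)
    fixR := fun y hy => d.fixR y (hR hy)
    fixS := fun x hx => d.fixS x (hS hx)
    comm := fun x hx y hy => d.comm x (hS hx) y (hR hy) }

/-- The core theorem. -/
theorem commute : ∀ (n : ℕ) (R S : Subgroup X), Nat.card R + Nat.card S = n →
    PQData ρ A F v p q r s R S → ∀ x ∈ S, ∀ y ∈ R, Commute x y := by
  intro n
  induction n using Nat.strong_induction_on with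
  | _ n ih =>
  intro R S hn d
  have hlt : ∀ {H K : Subgroup X}, H < K → Nat.card H < Nat.card K := fun {H K} h =>
    lt_of_not_ge fun h' => h.ne (Subgroup.eq_of_le_of_card_ge h.le h')
  have hSmallS : SmallS A R S := fun S1 h1 hA => ih _ (by have := hlt h1; omega) R S1 rfl
    (restrict d le_rfl h1.le d.normR hA (h1.le.trans d.normSR))
  have hSmallR : SmallR A R S := fun R1 h1 hA hS => ih _ (by have := hlt h1; omega) R1 S rfl
    (restrict d h1.le le_rfl hA d.normS hS)
  by_cases hab : IsMulCommutative R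
  · exact commute_of_abelian (k := k) d Fact.out hSmallS
  by_cases hRS : ⁅R, S⁆ = R
  swap
  · have hle : ⁅R, S⁆ ≤ R := Cfsg.Agent.Lib.Coprime.commutator_le_of_le_normalizer d.normSR
    have hcomm := hSmallR _ (lt_of_le_of_ne hle hRS)
      (fun a ha => mem_normalizer_commutator (d.normR ha) (d.normS ha))
      (Cfsg.Agent.Lib.Coprime.right_le_normalizer_commutator R S)
    have hbot : ⁅⁅R, S⁆, S⁆ = ⊥ := commutator_eq_bot_iff_le_centralizer.mpr fun w hw =>
      mem_centralizer_iff.mpr fun x hx => (hcomm x hx w hw).eq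
    have h := Cfsg.Agent.Lib.Coprime.le_centralizer_of_commutator_commutator
      (d.coprime_card.coprime_dvd_right (card_dvd_of_le hle)) hbot
    exact fun x hx y hy => (mem_centralizer_iff.mp (h hx) y hy).symm
  exfalso
  haveI := Fintype.ofFinite (cen R)
  haveI := Fact.mk d.hr
  set R' := ⁅R, R⁆ with hR'
  have hR'le : R' ≤ R := commutator_le_self R
  have hR'lt : R' < R := by
    refine lt_of_le_of_ne hR'le fun e => ?_
    have hne : R ≠ ⊥ := by
      rintro rfl
      exact hab ⟨⟨fun a b => Subsingleton.elim _ _⟩⟩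
    haveI : Nontrivial R := (nontrivial_iff_ne_bot R).mpr hne
    haveI : Group.IsNilpotent R := d.pR.isNilpotent
    refine (Group.IsSolvable.commutator_lt_top_of_nontrivial R).ne ?_
    apply map_injective R.subtype_injective
    rw [map_subtype_commutator, ← MonoidHom.range_eq_map, range_subtype]
    exact e
  have hR'S : ∀ x ∈ S, ∀ w ∈ R', Commute x w := hSmallR R' hR'lt
    (fun a ha => mem_normalizer_commutator (d.normR ha) (d.normR ha))
    (fun x hx => mem_normalizer_commutator (d.normSR hx) (d.normSR hx))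
  have hR'S' : ⁅R', S⁆ = ⊥ := commutator_eq_bot_iff_le_centralizer.mpr fun w hw =>
    mem_centralizer_iff.mpr fun x hx => (hR'S x hx w hw).eq
  have h3 : ⁅⁅R, S⁆, R'⁆ = ⊥ := by
    refine commutator_commutator_eq_bot_of_rotate ?_ ?_
    · rw [commutator_comm S R', hR'S', commutator_bot_left]
    · refine le_bot_iff.mp ((commutator_mono ?_ le_rfl).trans hR'S'.le)
      exact commutator_mono hR'le le_rfl
  rw [hRS, commutator_eq_bot_iff_le_centralizer] at h3
  have hcomm : ∀ y ∈ R, ∀ z ∈ R, ⁅y, z⁆ ∈ cen R := fun y hy z hz => by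
    have hm : ⁅y, z⁆ ∈ R' := commutator_mem_commutator hy hz
    exact ⟨hR'le hm, mem_centralizer_iff.mpr fun w hw =>
      (mem_centralizer_iff.mp (h3 hw) _ hm).symm⟩
  have hZlt : cen R < R := lt_of_le_of_ne inf_le_left fun e => hab
    ⟨⟨fun a b => Subtype.ext (commute_cen (e.symm ▸ b.2 : (b : X) ∈ cen R) a.2).eq⟩⟩
  have hS_cen : ∀ x ∈ S, ∀ z ∈ cen R, Commute x z := hSmallR _ hZlt (PQClassTwo.normZ d) (by
    intro x hx
    rw [mem_normalizer_iff_map_conj_eq]
    refine Basic.map_eq_of_invariant (MulAut.conj x) fun w hw =>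
      ⟨(mem_normalizer_iff.mp (d.normSR hx) w).mp hw.1,
        PQClassTwo.conj_mem_centralizer d (d.normSR hx) hw.2⟩)
  refine PQClassTwo.false_of_tame d ⟨hcomm, hS_cen, hRS, hab, fun y hy hyS => ?_⟩ hSmallS
  refine ⟨hy, mem_centralizer_iff.mpr fun w hw => ?_⟩
  have hle : ⁅R, S⁆ ≤ centralizer ({y} : Set X) := by
    rw [commutator_le]
    intro z hz x hx
    rw [mem_centralizer_singleton_iff]
    have hc : x * z⁻¹ * x⁻¹ ∈ R := (mem_normalizer_iff.mp (d.normSR hx) _).mp (R.inv_mem hz)
    have e1 : ⁅y, x * z⁻¹ * x⁻¹⁆ = ⁅y, z⁻¹⁆ := by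
      have h1 : x * y * x⁻¹ = y := by rw [(hyS x hx).eq, mul_inv_cancel_right]
      conv_lhs => rw [← h1]
      rw [show x * z⁻¹ * x⁻¹ = (MulAut.conj x) z⁻¹ from rfl,
        show x * y * x⁻¹ = (MulAut.conj x) y from rfl, ← map_commutatorElement, MulAut.conj_apply,
        (hS_cen x hx _ (hcomm y hy _ (R.inv_mem hz))).eq, mul_inv_cancel_right]
    have e2 : ⁅y, z * (x * z⁻¹ * x⁻¹)⁆ = 1 := by
      rw [comm_mul_right hy hz hc hcomm, e1, ← comm_mul_right hy hz (R.inv_mem hz) hcomm,
        mul_inv_cancel, commutatorElement_one_right]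
    have e3 : ⁅z, x⁆ = z * (x * z⁻¹ * x⁻¹) := by simp [commutatorElement_def, mul_assoc]
    rw [e3]
    exact (commutatorElement_eq_one_iff_mul_comm.mp e2).symm
  rw [hRS] at hle
  exact mem_centralizer_singleton_iff.mp (hle hw)

end Cfsg.Agent.Lib.FpfHeight.PQCore
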