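/-
A solvable group with a nonabelian fixed-point-free operator group of order `pq` is nilpotent
modulo its Fitting subgroup.
-/
import Cfsg.Agent.Lib.FpfHeight.FourGroupFitting
import Cfsg.Agent.Lib.FpfHeight.PQCore
import Cfsg.Agent.Lib.Coprime.Action

set_option autoImplicit false
set_option linter.style.haveILetI false

namespace Cfsg.Agent.Lib.FpfHeight.PQFitting

open Cfsg.Agent.Lib.FpfHeight.Basic Cfsg.Agent.Lib.FpfHeight.Abelian
  Cfsg.Agent.Lib.FpfHeight.FourGroupFitting Cfsg.Agent.Lib.FpfHeight.PQBasics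
open scoped IsMulCommutative

universe u

section Operator

variable {A : Type*} [Group A] [Finite A] {F : Subgroup A} {p q : ℕ}

theorem eq_top_of_mem (hp : p.Prime) (hq : q.Prime) (hF : Nat.card F = q)
    (hA : Nat.card A = p * q) {C : Subgroup A} {a : A} (haF : a ∉ F) (haC : a ∈ C) (hFC : F ≤ C) :
    C = ⊤ := by
  obtain ⟨c, hc⟩ : q ∣ Nat.card C := hF ▸ Subgroup.card_dvd_of_le hFC
  have h2 : q * c ∣ q * p := by
    rw [← hc, mul_comm q p, ← hA]; exact Subgroup.card_subgroup_dvd_card C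
  rcases (Nat.dvd_prime hp).mp ((Nat.mul_dvd_mul_iff_left hq.pos).mp h2) with h | h
  · exfalso
    rw [h, mul_one] at hc
    exact haF ((Subgroup.eq_of_le_of_card_ge hFC (by rw [hc, hF]) : F = C) ▸ haC)
  · exact Subgroup.eq_top_of_card_eq C (by rw [hc, h, hA, mul_comm])

theorem exists_order_p (hp : p.Prime) (hq : q.Prime) (hpq : p ≠ q) (hF : Nat.card F = q)
    (hA : Nat.card A = p * q) : ∃ a : A, a ∉ F ∧ a ^ p = 1 := by
  haveI := Fact.mk hp
  obtain ⟨a, ha⟩ := exists_prime_orderOf_dvd_card' (G := A) p (hA ▸ dvd_mul_right p q)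
  refine ⟨a, fun h => ?_, ha ▸ pow_orderOf_eq_one a⟩
  have := Subgroup.orderOf_dvd_natCard F h
  rw [ha, hF] at this
  exact hpq ((Nat.prime_dvd_prime_iff_eq hp hq).mp this)

theorem prime_dvd_sub_one (hp : p.Prime) (hq : q.Prime) (hpq : p ≠ q) (hF : Nat.card F = q)
    (hA : Nat.card A = p * q) (hFn : F.Normal)
    (hsc : ∀ a, a ∉ F → ∀ f ∈ F, Commute a f → f = 1) : p ∣ q - 1 := by
  haveI := Fact.mk hp
  obtain ⟨a, haF, hap⟩ := exists_order_p hp hq hpq hF hA
  have hP : IsPGroup p (Subgroup.zpowers a) := by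
    refine IsPGroup.of_card_dvd_pow (n := 1) ?_
    rw [Nat.card_zpowers, pow_one]
    exact orderOf_dvd_of_pow_eq_one hap
  let act : MulAction (Subgroup.zpowers a) F :=
    { smul := fun b f => ⟨(b : A) * f * (b : A)⁻¹, hFn.conj_mem f f.2 b⟩
      one_smul := fun f => Subtype.ext (by
        change (1 : A) * f * (1 : A)⁻¹ = f
        group)
      mul_smul := fun b c f => Subtype.ext (by
        change (b : A) * c * f * ((b : A) * c)⁻¹ = b * (c * f * (c : A)⁻¹) * (b : A)⁻¹
        group) }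
  have h := hP.card_modEq_card_fixedPoints F
  have h1 : MulAction.fixedPoints (Subgroup.zpowers a) F = {1} := by
    refine Set.eq_singleton_iff_unique_mem.mpr ⟨fun b => Subtype.ext (by
      change (b : A) * 1 * (b : A)⁻¹ = 1
      group), fun f hf => ?_⟩
    exact Subtype.ext (hsc a haF f f.2
      (mul_inv_eq_iff_eq_mul.mp (congrArg Subtype.val (hf ⟨a, Subgroup.mem_zpowers a⟩))))
  rw [h1, Nat.card_coe_set_eq, Set.ncard_singleton, hF] at h
  exact (Nat.modEq_iff_dvd' hq.one_le).mp h.symm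

/-- The centralizer of `F` is nilpotent. -/
theorem isNilpotent_fixed (hp : p.Prime) (hq : q.Prime) (hpq : p ≠ q) (hF : Nat.card F = q)
    (hA : Nat.card A = p * q) (hFn : F.Normal) {G : Type u} [Group G] [Finite G]
    (hG : Group.IsSolvable G) (α : A →* MulAut G) (hfpf : ∀ g, (∀ a, α a g = g) → g = 1)
    (C : Subgroup G) (hC : ∀ g, g ∈ C ↔ ∀ f ∈ F, α f g = g) : Group.IsNilpotent C := by
  obtain ⟨a, haF, hap⟩ := exists_order_p hp hq hpq hF hA
  have hinv : ∀ (b : A) (x : G), x ∈ C → α b x ∈ C := by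
    intro b x hx
    rw [hC] at hx ⊢
    intro f hf
    have h := hx _ (hFn.conj_mem f hf b⁻¹)
    calc α f (α b x) = α (f * b) x := by rw [map_mul, MulAut.mul_apply]
      _ = α (b * (b⁻¹ * f * b⁻¹⁻¹)) x := by rw [inv_inv, ← mul_assoc, mul_inv_cancel_left]
      _ = α b x := by rw [map_mul, MulAut.mul_apply, h]
  let σ : MulAut C :=
    { toFun := fun x => ⟨α a x, hinv a x x.2⟩
      invFun := fun x => ⟨α a⁻¹ x, hinv a⁻¹ x x.2⟩
      left_inv := fun x => Subtype.ext (by
        change α a⁻¹ (α a (x : G)) = (x : G)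
        rw [← MulAut.mul_apply, ← map_mul, inv_mul_cancel, map_one]; rfl)
      right_inv := fun x => Subtype.ext (by
        change α a (α a⁻¹ (x : G)) = (x : G)
        rw [← MulAut.mul_apply, ← map_mul, mul_inv_cancel, map_one]; rfl)
      map_mul' := fun x y => Subtype.ext (map_mul (α a) (x : G) y) }
  have hpow : ∀ (i : ℕ) (x : C), ((σ ^ i) x : G) = α (a ^ i) x := by
    intro i
    induction i with
    | zero => intro x; simp
    | succ i ih =>
      intro x
      rw [pow_succ', MulAut.mul_apply, pow_succ', map_mul, MulAut.mul_apply, ← ih]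
      rfl
  refine isNilpotent_of_fpf_prime C inferInstance hp σ
    (MulEquiv.ext fun x => Subtype.ext (by rw [hpow, hap, map_one]; rfl)) fun x hx => ?_
  refine Subtype.ext (hfpf x fun b => ?_)
  let S : Subgroup A :=
    { carrier := {b | α b (x : G) = x}
      one_mem' := by simp
      mul_mem' := fun {u w} hu hw => by
        change α (u * w) (x : G) = x
        rw [map_mul, MulAut.mul_apply, hw, hu]
      inv_mem' := fun {u} hu => by
        change α u⁻¹ (x : G) = x
        conv_lhs => rw [← show α u (x : G) = x from hu]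
        rw [← MulAut.mul_apply, ← map_mul, inv_mul_cancel, map_one]; rfl }
  have h := eq_top_of_mem hp hq hF hA (C := S) haF (congrArg Subtype.val hx)
    fun f hf => (hC x).mp x.2 f hf
  exact (h ▸ Subgroup.mem_top b : b ∈ S)

end Operator

section Dual

/-- A nontrivial characteristic elementary abelian subgroup. -/
theorem exists_char_elementary {G : Type u} [Group G] [Finite G] [Nontrivial G]
    (hG : Group.IsSolvable G) : ∃ (v : ℕ) (V : Subgroup G), v.Prime ∧ V.Characteristic ∧
      IsMulCommutative V ∧ (∀ x ∈ V, x ^ v = 1) ∧ V ≠ ⊥ := by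
  obtain ⟨v, V, hv, hVc, hVa, hVp, hVne⟩ := exists_char_abelian hG
  haveI := Fact.mk hv
  haveI := hVc
  have hcomm : ∀ x ∈ V, ∀ y ∈ V, x * y = y * x := fun x hx y hy =>
    congrArg Subtype.val (mul_comm' (⟨x, hx⟩ : V) ⟨y, hy⟩)
  let V1 : Subgroup G :=
    { carrier := {x | x ∈ V ∧ x ^ v = 1}
      one_mem' := ⟨V.one_mem, one_pow v⟩
      mul_mem' := fun {x y} hx hy => ⟨V.mul_mem hx.1 hy.1, by
        rw [Commute.mul_pow (hcomm x hx.1 y hy.1), hx.2, hy.2, one_mul]⟩
      inv_mem' := fun {x} hx => ⟨V.inv_mem hx.1, by rw [inv_pow, hx.2, inv_one]⟩ }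
  refine ⟨v, V1, hv, ?_, ⟨⟨fun x y => Subtype.ext (hcomm x x.2.1 y y.2.1)⟩⟩, fun x hx => hx.2, ?_⟩
  · refine Subgroup.characteristic_iff_map_le.mpr fun φ => ?_
    rintro _ ⟨x, hx, rfl⟩
    exact ⟨apply_mem_of_char φ V x hx.1, by simp [← map_pow, hx.2]⟩
  · obtain ⟨n, hn⟩ := IsPGroup.iff_card.mp hVp
    have h1 : 1 < Nat.card V := (Subgroup.one_lt_card_iff_ne_bot V).mpr hVne
    have hdvd : v ∣ Nat.card V := by
      rw [hn] at h1 ⊢
      exact dvd_pow_self v (fun h => by rw [h, pow_zero] at h1; exact lt_irrefl _ h1)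
    obtain ⟨x, hx⟩ := exists_prime_orderOf_dvd_card' v hdvd
    intro hbot
    have : (x : G) ∈ V1 := ⟨x.2, by
      rw [← hx]; exact congrArg Subtype.val (pow_orderOf_eq_one x)⟩
    rw [hbot, Subgroup.mem_bot] at this
    rw [show x = 1 from Subtype.ext this, orderOf_one] at hx
    exact hv.one_lt.ne hx

variable {V : Type*} [CommGroup V] (k : Type*) [Field k]

/-- Automorphisms acting on functionals. -/
def dualRep : MulAut V →* Module.End k (Additive V →+ k) where
  toFun e :=
    { toFun := fun w => w.comp (MonoidHom.toAdditive (e⁻¹ : MulAut V).toMonoidHom)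
      map_add' := fun _ _ => rfl
      map_smul' := fun _ _ => rfl }
  map_one' := rfl
  map_mul' e f := LinearMap.ext fun w => AddMonoidHom.ext fun x => by
    change w (Additive.ofMul ((e * f)⁻¹ x.toMul)) = w (Additive.ofMul (f⁻¹ (e⁻¹ x.toMul)))
    rw [mul_inv_rev, MulAut.mul_apply]

theorem dualRep_apply (e : MulAut V) (w : Additive V →+ k) (x : Additive V) :
    dualRep k e w x = w (Additive.ofMul (e⁻¹ x.toMul)) := rfl

theorem exists_addMonoidHom_ne_zero {v : ℕ} [Fact v.Prime] [CharP k v] (M : Type*) [AddCommGroup M]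
    [Module (ZMod v) M] {x : M} (hx : x ≠ 0) : ∃ w : M →+ k, w x ≠ 0 := by
  obtain ⟨φ, hφ⟩ := Module.Projective.exists_dual_ne_zero (ZMod v) hx
  refine ⟨(ZMod.castHom dvd_rfl k).toAddMonoidHom.comp φ.toAddMonoidHom, fun h => hφ ?_⟩
  refine (ZMod.castHom dvd_rfl k).injective ?_
  rw [map_zero]
  exact h

theorem eq_one_of_dualRep {v : ℕ} [Fact v.Prime] [CharP k v] (hV : ∀ x : V, x ^ v = 1)
    {e : MulAut V} (he : dualRep k e = 1) : e = 1 := by
  refine inv_eq_one.mp (MulEquiv.ext fun x => ?_)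
  rw [MulAut.one_apply]
  by_contra hne
  have hne' : Additive.ofMul (e⁻¹ x) - Additive.ofMul x ≠ 0 := fun h =>
    hne (Additive.ofMul.injective (sub_eq_zero.mp h))
  obtain ⟨w, hw⟩ := @exists_addMonoidHom_ne_zero k _ v _ _ (Additive V) _
    (AddCommGroup.zmodModule fun y : Additive V => congrArg Additive.ofMul (hV y.toMul)) _ hne'
  apply hw
  rw [map_sub, sub_eq_zero]
  exact DFunLike.congr_fun (LinearMap.congr_fun he w) (Additive.ofMul x)

/-- Functionals see no fixed points of a fixed-point-free group. -/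
theorem sum_dualRep_eq_zero {V : Type*} [CommGroup V] (k : Type*) [Field k] {A : Type*} [Group A]
    [Fintype A] (β : A →* MulAut V) (hfix : ∀ z : V, (∀ b, β b z = z) → z = 1) :
    ∑ a : A, dualRep k (β a) = 0 := by
  refine LinearMap.ext fun w => AddMonoidHom.ext fun z => ?_
  simp only [LinearMap.sum_apply, LinearMap.zero_apply, AddMonoidHom.zero_apply,
    AddMonoidHom.finsetSum_apply, dualRep_apply, ← map_inv, ← map_sum, ← ofMul_prod]
  rw [hfix (∏ a : A, β a⁻¹ z.toMul) fun b => ?_, ofMul_one, map_zero]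
  rw [map_prod]
  refine Fintype.prod_equiv (Equiv.mulRight b⁻¹) _ _ fun a => ?_
  rw [← MulAut.mul_apply, ← map_mul, Equiv.coe_mulRight, mul_inv_rev, inv_inv]

end Dual

variable {A : Type*} [Group A] [Finite A] {F : Subgroup A} {p q : ℕ}

set_option maxHeartbeats 1000000 in
/-- The conclusion for one invariant Sylow subgroup and one core. -/
theorem commute_images (hp : p.Prime) (hq : q.Prime) (hpq : p ≠ q) (hF : Nat.card F = q)
    (hA : Nat.card A = p * q) (hFn : F.Normal)
    (hsc : ∀ a, a ∉ F → ∀ f ∈ F, Commute a f → f = 1)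
    (G : Type u) [Group G] [Finite G] (hG : Group.IsSolvable G) (α : A →* MulAut G)
    (hcop : (Nat.card G).Coprime (p * q)) (hfpf : ∀ g, (∀ a, α a g = g) → g = 1)
    {v : ℕ} [Fact v.Prime] (V : Subgroup G) [V.Characteristic] [IsMulCommutative V]
    (hV : ∀ x ∈ V, x ^ v = 1) (hVne : V ≠ ⊥) {r s : ℕ} [Fact r.Prime] [Fact s.Prime]
    (hrv : r ≠ v) (hrs : r ≠ s) (L Q : Subgroup G) (hL : ∀ a, ∀ x ∈ L, α a x ∈ L)
    (hQ : ∀ a, ∀ x ∈ Q, α a x ∈ Q) (hLQ : ∀ x ∈ Q, ∀ y ∈ L, x * y * x⁻¹ ∈ L)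
    (hLr : IsPGroup r (L.map (MulAut.conjNormal : G →* MulAut V))) (hQs : IsPGroup s Q) :
    ∀ x ∈ Q, ∀ y ∈ L, Commute (MulAut.conjNormal x : MulAut V) (MulAut.conjNormal y) := by
  classical
  set ψ : G →* MulAut V := MulAut.conjNormal with hψ
  haveI : Finite (MulAut V) := Finite.of_injective (fun e : MulAut V => (e : V → V))
    DFunLike.coe_injective
  intro x hx y hy
  -- the primes
  have hnotdvd : ∀ l : ℕ, l.Prime → l ∣ Nat.card G → l ≠ p ∧ l ≠ q := fun l hl hdvd =>
    ⟨fun h => hl.one_lt.ne' (Nat.eq_one_of_dvd_coprimes hcop hdvd (h ▸ dvd_mul_right p q)),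
      fun h => hl.one_lt.ne' (Nat.eq_one_of_dvd_coprimes hcop hdvd (h ▸ dvd_mul_left q p))⟩
  by_cases hrG : r ∣ Nat.card G
  swap
  · have : ψ y = 1 := by
      obtain ⟨n, hn⟩ := IsPGroup.iff_card.mp hLr
      have hdvd : r ^ n ∣ Nat.card G :=
        hn ▸ (Subgroup.card_map_dvd L ψ).trans (Subgroup.card_subgroup_dvd_card L)
      rcases Nat.eq_zero_or_pos n with h0 | h0
      · rw [h0, pow_zero] at hn
        exact Subgroup.mem_bot.mp (Subgroup.card_eq_one.mp hn ▸ Subgroup.mem_map_of_mem ψ hy)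
      · exact absurd ((dvd_pow_self r h0.ne').trans hdvd) hrG
    rw [this]; exact Commute.one_right _
  by_cases hsG : s ∣ Nat.card G
  swap
  · have : x = 1 := by
      obtain ⟨n, hn⟩ := IsPGroup.iff_card.mp hQs
      rcases Nat.eq_zero_or_pos n with h0 | h0
      · rw [h0, pow_zero] at hn
        exact Subgroup.mem_bot.mp (Subgroup.card_eq_one.mp hn ▸ hx)
      · exact absurd ((dvd_pow_self s h0.ne').trans (hn ▸ Subgroup.card_subgroup_dvd_card Q)) hsG
    rw [this, map_one]; exact Commute.one_left _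
  have hvG : v ∣ Nat.card G := by
    obtain ⟨z, hz, hz1⟩ := V.bot_or_exists_ne_one.resolve_left hVne
    have := orderOf_eq_prime (hV z hz) hz1
    exact this ▸ orderOf_dvd_natCard z
  obtain ⟨hrp, hrq⟩ := hnotdvd r Fact.out hrG
  obtain ⟨hsp, hsq⟩ := hnotdvd s Fact.out hsG
  obtain ⟨hvp, hvq⟩ := hnotdvd v Fact.out hvG
  -- lifting
  letI : MulDistribMulAction A G := MulDistribMulAction.compHom G α
  have hlift : ∀ (M : Subgroup G), (∀ a, ∀ z ∈ M, α a z ∈ M) → ∀ (B : Subgroup A), ∀ g ∈ M,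
      (∀ a ∈ B, Commute (restrict V (α a)) (ψ g)) →
      ∃ g' ∈ M, ψ g' = ψ g ∧ ∀ a ∈ B, α a g' = g' := by
    intro M hM B g hg hc
    set N := M ⊓ Subgroup.centralizer (V : Set G) with hN
    have hNinv : ∀ a : A, ∀ n ∈ N, α a n ∈ N := by
      intro a n hn
      refine ⟨hM a n hn.1, ?_⟩
      change α a n ∈ Subgroup.centralizer (V : Set G)
      rw [← conjNormal_eq_one_iff, ← restrict_conjNormal V (α a),
        (conjNormal_eq_one_iff V n).mpr hn.2, mul_one, mul_inv_cancel]
    letI : MulDistribMulAction B G := MulDistribMulAction.compHom G (α.comp B.subtype)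
    obtain ⟨n, hn, hfix⟩ := Cfsg.Agent.Lib.Coprime.Action.exists_mul_fixed (A := B) (G := G)
      (N := N) (g := g) (fun a => hNinv a) (by
        refine Nat.Coprime.coprime_dvd_left (hA ▸ Subgroup.card_subgroup_dvd_card B) ?_
        exact (hcop.coprime_dvd_left (Subgroup.card_subgroup_dvd_card N)).symm)
      (Or.inr inferInstance) (fun a => by
        refine ⟨M.mul_mem (M.inv_mem hg) (hM a g hg), ?_⟩
        change g⁻¹ * α a g ∈ Subgroup.centralizer (V : Set G)
        rw [← conjNormal_eq_one_iff, map_mul, map_inv, ← restrict_conjNormal V (α a) g]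
        change (ψ g)⁻¹ * (restrict V (α a) * ψ g * (restrict V (α a))⁻¹) = 1
        rw [(hc a a.2).eq, mul_inv_cancel_right, inv_mul_cancel])
    refine ⟨g * n, M.mul_mem hg hn.1, ?_, fun a ha => hfix ⟨a, ha⟩⟩
    rw [map_mul, hψ, (conjNormal_eq_one_iff V n).mpr hn.2, mul_one]
  -- the operators
  let X := MulAut V × A
  let j : A →* X := ((restrict V).comp α).prod (MonoidHom.id A)
  let ι : MulAut V →* X := MonoidHom.inl _ _
  set A' := j.range with hA'
  set F' := F.map j with hF'
  have hjinj : Function.Injective j := fun a b h => congrArg Prod.snd h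
  let k := AlgebraicClosure (ZMod v)
  let ρ : X →* Module.End k (Additive V →+ k) := (dualRep k).comp (MonoidHom.fst _ _)
  have hconj : ∀ (a : A) (g : G), j a * ι (ψ g) * (j a)⁻¹ = ι (ψ (α a g)) := fun a g =>
    Prod.ext (restrict_conjNormal V (α a) g) (show a * 1 * a⁻¹ = (1 : A) by group)
  have hcomι : ∀ (a : A) (g : G), Commute (j a) (ι (ψ g)) → Commute (restrict V (α a)) (ψ g) :=
    fun a g h => congrArg Prod.fst h.eq
  set R := (L.map ψ).map ι with hR
  set S := (Q.map ψ).map ι with hS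
  have hnorm : ∀ (M : Subgroup G), (∀ a, ∀ z ∈ M, α a z ∈ M) →
      A' ≤ Subgroup.normalizer (((M.map ψ).map ι : Subgroup X) : Set X) := by
    rintro M hM _ ⟨a, rfl⟩
    rw [Subgroup.mem_normalizer_iff_map_conj_eq]
    refine Basic.map_eq_of_invariant (MulAut.conj (j a)) ?_
    rintro _ ⟨_, ⟨g, hg, rfl⟩, rfl⟩
    exact ⟨_, ⟨α a g, hM a g hg, rfl⟩, (hconj a g).symm⟩
  have hfix : ∀ (M : Subgroup G), (∀ a, ∀ z ∈ M, α a z ∈ M) → ∀ z ∈ (M.map ψ).map ι,
      (∀ b ∈ A', Commute b z) → z = 1 := by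
    rintro M hM _ ⟨_, ⟨g, hg, rfl⟩, rfl⟩ hall
    obtain ⟨g', -, hgg, hfix⟩ := hlift M hM ⊤ g hg fun a _ => hcomι a g (hall _ ⟨a, rfl⟩)
    rw [← hgg, hfpf g' fun a => hfix a (Subgroup.mem_top a), map_one, map_one]
  have hsum : ∀ [Fintype A'], ∑ b : A', ρ (b : X) = 0 := by
    intro _
    haveI := Fintype.ofFinite A
    refine Eq.trans (Fintype.sum_equiv (MonoidHom.ofInjective hjinj).toEquiv
      (fun a => ρ (j a)) _ fun a => rfl).symm ?_
    refine sum_dualRep_eq_zero k ((restrict V).comp α) fun z hz => Subtype.ext (hfpf _ fun b => ?_)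
    exact congrArg Subtype.val (hz b)
  have hFA : F' ≤ A' := by rintro _ ⟨f, -, rfl⟩; exact ⟨f, rfl⟩
  have d : PQData (E := Module.End k (Additive V →+ k)) ρ A' F' v p q r s R S :=
    { hp := hp, hq := hq, hr := Fact.out, hs := Fact.out, hrp := hrp, hrq := hrq, hsp := hsp,
      hsq := hsq, hsr := hrs.symm, hrv := hrv, hqv := hvq.symm, hpv := hvp.symm,
      exc := by
        rintro ⟨hr2, m, hm⟩
        have h := prime_dvd_sub_one hp hq hpq hF hA hFn hsc
        rw [hm, Nat.add_sub_cancel] at h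
        have := (Nat.prime_dvd_prime_iff_eq hp Nat.prime_two).mp (hp.dvd_of_dvd_pow h)
        exact hrp (hr2.trans this.symm)
      F_le := hFA
      cardF := by
        rw [hF', ← Nat.card_congr (F.equivMapOfInjective j hjinj).toEquiv, hF]
      cardA := by rw [hA', ← Nat.card_congr (MonoidHom.ofInjective hjinj).toEquiv, hA]
      F_normal := by
        rintro _ ⟨a, rfl⟩ _ ⟨f, hf, rfl⟩
        exact ⟨a * f * a⁻¹, hFn.conj_mem f hf a, by simp⟩
      self_centr := by
        rintro _ ⟨a, rfl⟩ haF _ ⟨f, hf, rfl⟩ hc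
        rw [hsc a (fun h => haF ⟨a, h, rfl⟩) f hf (congrArg Prod.snd hc.eq), map_one]
      sum_eq_zero := hsum
      pR := hLr.map ι
      pS := (hQs.map ψ).map ι
      normR := hnorm L hL
      normS := hnorm Q hQ
      normSR := by
        rintro _ ⟨_, ⟨g, hg, rfl⟩, rfl⟩
        rw [Subgroup.mem_normalizer_iff_map_conj_eq]
        refine Basic.map_eq_of_invariant (MulAut.conj (ι (ψ g))) ?_
        rintro _ ⟨_, ⟨z, hz, rfl⟩, rfl⟩
        exact ⟨_, ⟨g * z * g⁻¹, hLQ g hg z hz, rfl⟩, by simp [map_mul]⟩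
      inj := by
        intro z hz (he : ρ z = 1)
        obtain ⟨e, -, rfl⟩ := hz
        have he' : dualRep k e = 1 := he
        rw [eq_one_of_dualRep k (fun z : V => Subtype.ext (hV z z.2)) he', map_one]
      fixR := hfix L hL
      fixS := hfix Q hQ
      comm := by
        rintro _ ⟨_, ⟨g, hg, rfl⟩, rfl⟩ _ ⟨_, ⟨h, hh, rfl⟩, rfl⟩ hcg hch
        obtain ⟨g', hg', hgg, hgfix⟩ := hlift Q hQ F g hg fun a ha => hcomι a g (hcg _ ⟨a, ha, rfl⟩)
        obtain ⟨h', hh', hhh, hhfix⟩ := hlift L hL F h hh fun a ha => hcomι a h (hch _ ⟨a, ha, rfl⟩)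
        obtain ⟨c, hc⟩ := hLr ⟨_, h', hh', rfl⟩
        obtain ⟨n, hn, ⟨i, hni⟩, hfn⟩ :=
          exists_pgroup_preimage (Fact.out : r.Prime) ψ h' (congrArg Subtype.val hc)
        let C : Subgroup G := ⨅ f ∈ F, (α f : G →* G).eqLocus (MonoidHom.id G)
        have hC : ∀ z, z ∈ C ↔ ∀ f ∈ F, α f z = z := fun z => by
          simp only [C, Subgroup.mem_iInf]
          rfl
        have hnC : n ∈ C := by
          have : Subgroup.zpowers h' ≤ C := Subgroup.zpowers_le.mpr ((hC h').mpr hhfix)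
          exact this hn
        obtain ⟨l, hl⟩ := hQs ⟨g', hg'⟩
        have hcc : Commute g' n := congrArg Subtype.val (commute_of_nilpotent
          (isNilpotent_fixed hp hq hpq hF hA hFn hG α hfpf C hC) (Fact.out : s.Prime)
          (Fact.out : r.Prime) hrs.symm (x := ⟨g', (hC g').mpr hgfix⟩) (y := ⟨n, hnC⟩) (k := l)
          (l := i) (Subtype.ext (congrArg Subtype.val hl :)) (Subtype.ext hni)).eq
        rw [← hgg, ← hhh, ← hfn]
        exact (hcc.map ψ).map ι }
  have h := PQCore.commute (k := k) (v := v) (Nat.card R + Nat.card S) R S rfl d (ι (ψ x))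
    ⟨_, ⟨x, hx, rfl⟩, rfl⟩ (ι (ψ y)) ⟨_, ⟨y, hy, rfl⟩, rfl⟩
  exact congrArg Prod.fst h.eq

/-- A solvable group with a nonabelian fixed-point-free operator group of order `pq` is nilpotent
modulo its Fitting subgroup. -/
theorem isNilpotent_quotient_fitting (hp : p.Prime) (hq : q.Prime) (hpq : p ≠ q)
    (hF : Nat.card F = q) (hA : Nat.card A = p * q) (hFn : F.Normal)
    (hsc : ∀ a, a ∉ F → ∀ f ∈ F, Commute a f → f = 1)
    (G : Type u) [Group G] [Finite G] (hG : Group.IsSolvable G) (α : A →* MulAut G)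
    (hcop : (Nat.card G).Coprime (p * q)) (hfpf : ∀ g, (∀ a, α a g = g) → g = 1) :
    Group.IsNilpotent (G ⧸ fittingSubgroup G) := by
  induction hn : Nat.card G using Nat.strong_induction_on generalizing G with
  | _ n ih =>
  subst hn
  rcases subsingleton_or_nontrivial G with h | h
  · infer_instance
  obtain ⟨v, V, hv, hVc, hVa, hVe, hVne⟩ := exists_char_elementary hG
  haveI := Fact.mk hv
  haveI := hVc
  haveI := hVa
  have hVp : IsPGroup v V := fun z => ⟨1, Subtype.ext (by rw [pow_one]; exact hVe z z.2)⟩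
  have hAG : (Nat.card A).Coprime (Nat.card G) := hA ▸ hcop.symm
  have hVinv : ∀ a : A, ∀ x ∈ V, α a x ∈ V := fun a => apply_mem_of_char (α a) V
  letI : MulDistribMulAction A G := MulDistribMulAction.compHom G α
  have hqfpf : ∀ z : G ⧸ V, (∀ a, Generation.quotHom α V hVinv a z = z) → z = 1 := by
    intro z hz
    obtain ⟨x, rfl⟩ := QuotientGroup.mk_surjective z
    obtain ⟨n, hn, hfix⟩ := Cfsg.Agent.Lib.Coprime.Action.exists_mul_fixed (A := A) (N := V) (g := x)
      hVinv (hAG.coprime_dvd_right (Subgroup.card_subgroup_dvd_card V)) (Or.inr inferInstance)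
      (fun a => QuotientGroup.eq.mp (hz a).symm)
    have := hfpf _ hfix
    exact (QuotientGroup.eq_one_iff x).mpr (eq_inv_of_mul_eq_one_left this ▸ V.inv_mem hn)
  have hnil := ih _ (card_quotient_lt V hVne) (G ⧸ V) inferInstance (Generation.quotHom α V hVinv)
    (hcop.coprime_dvd_left (Subgroup.card_quotient_dvd_card V)) hqfpf rfl
  set F₁ := fittingSubgroup (G ⧸ V) with hF₁
  set K := F₁.comap (QuotientGroup.mk' V) with hK
  set Ft := fittingSubgroup G with hFt
  rw [Group.isNilpotent_of_finite_tfae.out 0 3 rfl rfl]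
  intro s hs P'
  obtain ⟨Q, hQinv⟩ := Cfsg.Agent.Lib.Coprime.Action.exists_invariant_sylow (A := A) (G := G) hAG
    (Or.inr hG) s
  set π := QuotientGroup.mk' Ft with hπ
  have hπs : Function.Surjective π := QuotientGroup.mk'_surjective Ft
  set P := Q.mapSurjective (f := π) hπs with hP
  suffices hnormal : (P : Subgroup (G ⧸ Ft)).Normal by
    haveI := Sylow.unique_of_normal P hnormal
    rwa [Subsingleton.elim P' P]
  have hQK : ((Q : Subgroup G) ⊔ K).Normal := by
    set f := (QuotientGroup.mk' F₁).comp (QuotientGroup.mk' V) with hf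
    have hfs : Function.Surjective f :=
      (QuotientGroup.mk'_surjective F₁).comp (QuotientGroup.mk'_surjective V)
    have hker : f.ker = K := by
      ext x
      rw [MonoidHom.mem_ker, hK, Subgroup.mem_comap]
      exact QuotientGroup.eq_one_iff _
    have h1 : ((Q : Subgroup G).map f).Normal := by
      have := Group.isNilpotent_of_finite_tfae.out 0 3 rfl rfl |>.mp hnil s hs
        (Q.mapSurjective (f := f) hfs)
      rwa [Sylow.coe_mapSurjective] at this
    have h2 := h1.comap f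
    rwa [Subgroup.comap_map_eq, hker] at h2
  have key : ∀ x ∈ (Q : Subgroup G), ∀ k ∈ K,
      k * x * k⁻¹ ∈ (Q : Subgroup G) ⊔ Ft := by
    have hle : K ≤
        Subgroup.normalizer (((P : Subgroup (G ⧸ Ft)).comap π : Subgroup G) : Set G) := by
      set P₀ := (P : Subgroup (G ⧸ Ft)).comap π with hP₀
      have hVF : V ≤ Ft := Cfsg.Agent.Lib.Cores.le_fittingSubgroup hVp.isNilpotent
      have hFP : Ft ≤ P₀ := by
        intro x hx
        rw [hP₀, Subgroup.mem_comap, hπ, QuotientGroup.mk'_apply,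
          (QuotientGroup.eq_one_iff x).mpr hx]
        exact one_mem _
      refine comap_fitting_le V _ ((hVF.trans hFP).trans Subgroup.le_normalizer) fun r hr => ?_
      haveI := Fact.mk hr
      set L := (pCore r (G ⧸ V)).comap (QuotientGroup.mk' V) with hL
      by_cases hrv : r = v
      · rw [hL, hrv]
        exact ((comap_pCore_le_fitting V hVp).trans hFP).trans Subgroup.le_normalizer
      by_cases hrs : r = s
      · refine le_trans ?_ Subgroup.le_normalizer
        rw [hP₀, ← Subgroup.map_le_iff_le_comap]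
        haveI : (L.map π).Normal := Subgroup.Normal.map inferInstance _ hπs
        refine le_trans (Cfsg.Agent.Lib.Cores.le_pCore (p := s) ?_)
          (Cfsg.Agent.Lib.Cores.pCore_le_sylow P)
        rintro ⟨_, y, hy, rfl⟩
        obtain ⟨k, hk⟩ := pow_mem_of_mem_comap_pCore V hy
        refine ⟨k, Subtype.ext ?_⟩
        change π y ^ s ^ k = 1
        rw [← map_pow, ← hrs]
        exact (QuotientGroup.eq_one_iff _).mpr (hVF hk)
      have hLinv : ∀ a : A, ∀ y ∈ L, α a y ∈ L := fun a => apply_mem_comap_char (α a) (hVinv a) _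
      have hRp : IsPGroup r (L.map (MulAut.conjNormal : G →* MulAut V)) := by
        rintro ⟨_, y, hy, rfl⟩
        obtain ⟨k, hk⟩ := pow_mem_of_mem_comap_pCore V hy
        refine ⟨k, Subtype.ext ?_⟩
        change (MulAut.conjNormal y : MulAut V) ^ _ = 1
        rw [← map_pow, conjNormal_eq_one_iff, Subgroup.mem_centralizer_iff]
        intro w hw
        exact congrArg Subtype.val (mul_comm (⟨w, hw⟩ : V) ⟨_, hk⟩)
      have hcom := commute_images hp hq hpq hF hA hFn hsc G hG α hcop hfpf V hVe hVne hrv hrs L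
        (Q : Subgroup G) hLinv hQinv (fun x _ y hy => Subgroup.Normal.conj_mem inferInstance y hy x)
        hRp Q.isPGroup'
      have hsmall : ∀ k ∈ L, ∀ x ∈ (Q : Subgroup G), x * k * x⁻¹ * k⁻¹ ∈ Ft := by
        intro k hk x hx
        refine inf_centralizer_le_fitting V L ?_ ⟨L.mul_mem
          (Subgroup.Normal.conj_mem inferInstance k hk x) (L.inv_mem hk), ?_⟩
        · rw [hL, Subgroup.map_comap_eq_self_of_surjective (QuotientGroup.mk'_surjective V)]
          exact (Cfsg.Agent.Lib.Cores.pCore_isPGroup _).isNilpotent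
        · change x * k * x⁻¹ * k⁻¹ ∈ Subgroup.centralizer (V : Set G)
          rw [← conjNormal_eq_one_iff, map_mul, map_mul, map_mul, map_inv, map_inv,
            (hcom x hx k hk).eq]
          group
      intro k hk
      have hmap : ∀ z ∈ (P : Subgroup (G ⧸ Ft)), π k * z * (π k)⁻¹ ∈ (P : Subgroup (G ⧸ Ft)) := by
        intro z hz
        obtain ⟨x, hx, rfl⟩ := hz
        refine ⟨x, hx, ?_⟩
        have h1 : π (x * k * x⁻¹ * k⁻¹) = 1 := (QuotientGroup.eq_one_iff _).mpr (hsmall k hk x hx)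
        simp only [map_mul, map_inv] at h1
        have h2 : π x * π k = π k * π x :=
          mul_inv_eq_iff_eq_mul.mp (mul_inv_eq_one.mp h1)
        rw [← h2, mul_inv_cancel_right]
      rw [Subgroup.mem_normalizer_iff_map_conj_eq]
      refine map_eq_of_invariant (MulAut.conj k) fun z hz => ?_
      rw [hP₀, Subgroup.mem_comap] at hz ⊢
      simpa using hmap _ hz
    intro x hx k hk
    have h1 : k ∈ Subgroup.normalizer (((P : Subgroup (G ⧸ Ft)).comap π : Subgroup G) : Set G) :=
      hle hk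
    have h2 := (Subgroup.mem_normalizer_iff.mp h1 x).mp ⟨x, hx, rfl⟩
    rwa [hP, Sylow.coe_mapSurjective, Subgroup.comap_map_eq, hπ, QuotientGroup.ker_mk'] at h2
  set N := ((Q : Subgroup G) ⊔ K).map π with hN
  haveI : N.Normal := hQK.map _ hπs
  have hPN : (P : Subgroup (G ⧸ Ft)) ≤ N := by
    rw [hP, Sylow.coe_mapSurjective]
    exact Subgroup.map_mono le_sup_left
  have hNle : N ≤ Subgroup.normalizer ((P : Subgroup (G ⧸ Ft)) : Set (G ⧸ Ft)) := by
    rw [hN, Subgroup.map_sup, sup_le_iff]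
    refine ⟨by rw [hP, Sylow.coe_mapSurjective]; exact Subgroup.le_normalizer, ?_⟩
    rintro _ ⟨k, hk, rfl⟩
    rw [Subgroup.mem_normalizer_iff_map_conj_eq]
    refine map_eq_of_invariant (MulAut.conj (π k)) fun z hz => ?_
    obtain ⟨x, hx, rfl⟩ := hz
    have h1 := Subgroup.mem_map_of_mem π (key x hx k hk)
    rw [Subgroup.map_sup, hπ, QuotientGroup.map_mk'_self, sup_bot_eq] at h1
    simpa [hP, hπ] using h1
  have : Subgroup.normalizer ((P : Subgroup (G ⧸ Ft)) : Set (G ⧸ Ft)) ⊔ N = ⊤ :=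
    Sylow.normalizer_sup_eq_top' P hPN
  rw [sup_eq_left.mpr hNle] at this
  exact Subgroup.normalizer_eq_top_iff.mp this

end Cfsg.Agent.Lib.FpfHeight.PQFitting
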