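/-
The extremal case of the counting argument in characteristic two: a semiregular automorphism of
order `P = 2 ^ c` of a nondegenerate central extension, acting with `1 + s + ⋯ + s ^ (P - 1) = 0`,
forces `|Q/R| = (P - 1) ^ 2` and commutes with the centralizer on a nonzero invariant subspace.
-/
import Mathlib.Algebra.CharP.Two
import Mathlib.Algebra.CharP.Algebra
import Mathlib.Data.Nat.Choose.Dvd
import Cfsg.Agent.Lib.FpfHeight.Extraspecial
import Cfsg.Agent.Lib.FpfHeight.Nilpotent

set_option autoImplicit false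

namespace Cfsg.Agent.Lib.FpfHeight.PlaneCount

open Module Extraspecial

theorem odd_choose_two_pow_sub_one (a : ℕ) : ∀ j < 2 ^ a, Odd ((2 ^ a - 1).choose j) := by
  intro j
  induction j with
  | zero => intro _; simp
  | succ j ih =>
    intro hj
    have h := Nat.choose_succ_succ (2 ^ a - 1) j
    rw [Nat.succ_eq_add_one, Nat.sub_add_cancel Nat.one_le_two_pow] at h
    have heven : Even ((2 ^ a).choose (j + 1)) :=
      (even_iff_two_dvd).mpr (Nat.prime_two.dvd_choose_pow (by omega) (by omega))
    rw [h, Nat.even_add] at heven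
    have := ih (by omega)
    rw [← Nat.not_even_iff_odd] at this ⊢
    tauto

variable {k : Type*} [Field k] [IsAlgClosed k] {Q : Type*} [Group Q] [Finite Q]
variable {R : Subgroup Q} [R.Normal] {β : MulAut Q} {μ : R →* k} {P : ℕ}

/-- The centralizer of an operator realizing `β` has dimension at most the number of orbits. -/
theorem finrank_cent_le {U : Type*} [AddCommGroup U] [Module k U] [FiniteDimensional k U]
    [Nontrivial U] (S : Setup R β μ P) (hP : 0 < P) {ρ : Q →* Module.End k U}
    (hρ : IsScalar μ ρ) (hirr : IsIrred ρ) (e : Module.End k U)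
    (he : ∀ y, e * ρ y = ρ (β y) * e) (heP : e ^ P = 1) :
    ∃ r, finrank k (Nilpotent.cent (e - 1)) ≤ r ∧
      finrank k U * finrank k U + P = 1 + P * r ∧
      Nat.card (Q ⧸ R) = finrank k U * finrank k U := by
  classical
  haveI := Fintype.ofFinite (Q ⧸ R)
  let eqv := LinearEquiv.ofBijective (combo R ρ)
    ⟨S.combo_injective hρ, S.combo_surjective hρ hirr⟩
  have hcard : Nat.card (Q ⧸ R) = finrank k U * finrank k U := by
    rw [Nat.card_eq_fintype_card, ← Module.finrank_linearMap k k U U,
      ← eqv.finrank_eq, Module.finrank_pi]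
  have hmapR : R.map (β : Q →* Q) = R := by
    refine Subgroup.eq_of_le_of_card_ge ?_ ?_
    · rintro _ ⟨x, hx, rfl⟩; exact S.inv x hx
    · rw [Subgroup.card_map_of_injective β.injective]
  set βq : MulAut (Q ⧸ R) := QuotientGroup.congr R R β hmapR with hβq
  obtain ⟨reps, hreps, hcount⟩ := exists_reps (k := k) S.ne_top S.pow S.semireg hP βq fun y => rfl
  refine ⟨reps.card, ?_, by rw [← hcard, hcount], hcard⟩
  set C := Nilpotent.cent (e - 1) with hC
  have hmemC : ∀ X, X ∈ C ↔ e * X = X * e := fun X => by
    rw [hC, Nilpotent.mem_cent, sub_mul, mul_sub, one_mul, mul_one, sub_left_inj]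
  let g : C →ₗ[k] (reps → k) :=
    { toFun := fun X c => eqv.symm (X : Module.End k U) c
      map_add' := fun X Y => funext fun c => by simp
      map_smul' := fun t X => funext fun c => by simp }
  have hg : Function.Injective g := by
    refine (injective_iff_map_eq_zero g).mpr fun X hX => ?_
    set a := eqv.symm (X : Module.End k U) with ha
    have hXa : (X : Module.End k U) = ∑ c, a c • ρ c.out := (eqv.apply_symm_apply _).symm
    have hcomm : ∀ c, ∃ t : k, t ≠ 0 ∧ ρ (β c.out) = t • ρ (βq c).out := by
      intro c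
      have h := S.rho_eq_smul hρ (β c.out)
      rwa [show ((β c.out : Q) : Q ⧸ R) = βq c by
        conv_rhs => rw [← QuotientGroup.out_eq' c]
        rfl] at h
    choose t ht ht' using hcomm
    set b : Q ⧸ R → k := fun c => a (βq.symm c) * t (βq.symm c)
    have heq : combo R ρ b * e = combo R ρ a * e := by
      have h1 : e * (X : Module.End k U) = (X : Module.End k U) * e := (hmemC _).mp X.2
      rw [hXa] at h1
      rw [combo_apply, combo_apply, ← h1, Finset.mul_sum, Finset.sum_mul]
      refine (Fintype.sum_bijective βq βq.bijective _ _ fun c => ?_).symm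
      rw [mul_smul_comm, he, ht', smul_mul_assoc, smul_mul_assoc, smul_smul]
      simp [b]
    have hab : b = a := by
      refine S.combo_injective hρ ?_
      have := congrArg (· * e ^ (P - 1)) heq
      simp only [mul_assoc] at this
      rwa [← pow_succ', Nat.sub_add_cancel hP, heP, mul_one, mul_one] at this
    have hrel : ∀ c, a (βq c) = a c * t c := fun c => by
      conv_lhs => rw [← hab]
      simp [b]
    have : a = 0 := hreps a (fun c hc => by rw [hrel, hc, zero_mul])
      (fun c hc => by
        rw [hrel] at hc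
        exact (mul_eq_zero.mp hc).resolve_right (ht c))
      fun c hc => congrFun hX ⟨c, hc⟩
    refine Subtype.ext ?_
    rw [hXa, this]
    simp
  have := LinearMap.finrank_le_finrank_of_injective hg
  simpa using this

/-- An irreducible constituent with an operator realizing `β` as `s` does on one of its images. -/
theorem exists_operator {M : Type*} [AddCommGroup M] [Module k M] [FiniteDimensional k M]
    [Nontrivial M] (S : Setup R β μ P) (hP : 0 < P) {ρ : Q →* Module.End k M}
    (hρ : IsScalar μ ρ) (s : Module.End k M) (hs : ∀ y, s * ρ y = ρ (β y) * s)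
    (hsP : s ^ P = 1) :
    ∃ (U : Submodule k M) (ρU : Q →* Module.End k U) (e : Module.End k U) (f₀ : U →ₗ[k] M),
      U ≠ ⊥ ∧ (∀ y (u : U), (ρU y u : M) = ρ y u) ∧ IsScalar μ ρU ∧ IsIrred ρU ∧
      (∀ y, e * ρU y = ρU (β y) * e) ∧ e ^ P = 1 ∧ Function.Injective f₀ ∧
      (∀ y u, f₀ (ρU y u) = ρ y (f₀ u)) ∧ ∀ u, s (f₀ u) = f₀ (e u) := by
  classical
  obtain ⟨U, ⟨hUinv, hUne⟩, hUmin⟩ := exists_minimal_of_wellFoundedLT
    (fun W : Submodule k M => (∀ y, ∀ w ∈ W, ρ y w ∈ W) ∧ W ≠ ⊥)
    ⟨⊤, fun _ _ _ => Submodule.mem_top, top_ne_bot⟩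
  haveI : Nontrivial U := Submodule.nontrivial_iff_ne_bot.mpr hUne
  let ρU : Q →* Module.End k U :=
    { toFun := fun y => (ρ y).restrict (hUinv y)
      map_one' := LinearMap.ext fun u => Subtype.ext (by simp [LinearMap.restrict_apply])
      map_mul' := fun y z => LinearMap.ext fun u => Subtype.ext (by
        simp [LinearMap.restrict_apply]) }
  have hρUc : ∀ y (u : U), (ρU y u : M) = ρ y u := fun y u => rfl
  have hρU : IsScalar μ ρU := fun r => LinearMap.ext fun u => Subtype.ext (by
    rw [hρUc, hρ]; rfl)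
  have hirr : IsIrred ρU := by
    intro W hW
    rcases eq_or_ne W ⊥ with h | h
    · exact Or.inl h
    refine Or.inr ?_
    have hle := hUmin (y := W.map U.subtype) ⟨fun y w hw => by
        obtain ⟨u, hu, rfl⟩ := hw
        exact ⟨ρU y u, hW y u hu, hρUc y u⟩,
      fun h0 => h (Submodule.map_injective_of_injective U.subtype_injective
        (h0.trans (Submodule.map_bot _).symm))⟩
      (Submodule.map_subtype_le U W)
    rw [eq_top_iff]
    intro u _
    obtain ⟨w, hw, hwu⟩ := hle u.2
    rwa [Subtype.ext hwu] at hw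
  have hρβ : IsScalar μ (ρU.comp β.toMonoidHom) := fun r => by
    have h := hρU ⟨β r, S.inv r r.2⟩
    rw [S.fix] at h
    exact h
  obtain ⟨T, hT0, hT⟩ := S.exists_intertwiner hρU hρβ
  have hTinj : Function.Injective T := by
    rw [← LinearMap.ker_eq_bot]
    refine (hirr _ fun y w hw => ?_).resolve_right fun h => hT0 (LinearMap.ker_eq_top.mp h)
    rw [LinearMap.mem_ker] at hw ⊢
    have := LinearMap.congr_fun (hT y) w
    simp only [LinearMap.comp_apply] at this
    rw [← this, hw, map_zero]
  let Te := LinearEquiv.ofBijective T ⟨hTinj, LinearMap.surjective_of_injective hTinj⟩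
  have hTy : ∀ y (u : U), T (ρU y u) = ρU (β y) (T u) := fun y u =>
    (LinearMap.congr_fun (hT y) u).symm
  let H : Submodule k (U →ₗ[k] M) :=
    { carrier := {f | ∀ y u, f (ρU y u) = ρ y (f u)}
      add_mem' := fun {f g} hf hg y u => by
        simp only [LinearMap.add_apply, hf y u, hg y u, map_add]
      zero_mem' := fun y u => by simp
      smul_mem' := fun t f hf y u => by
        simp only [LinearMap.smul_apply, hf y u, map_smul] }
  have hsub : U.subtype ∈ H := fun y u => hρUc y u
  have hsub0 : U.subtype ≠ 0 := fun h => by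
    obtain ⟨u, hu⟩ := exists_ne (0 : U)
    exact hu (Subtype.ext (LinearMap.congr_fun h u))
  haveI : Nontrivial H := ⟨⟨⟨U.subtype, hsub⟩, 0, fun h => hsub0 (congrArg Subtype.val h)⟩⟩
  let L₀ : Module.End k H :=
    { toFun := fun f => ⟨(s.comp (f : U →ₗ[k] M)).comp Te.symm.toLinearMap, fun y u => by
        obtain ⟨u', rfl⟩ : ∃ u', T u' = u := ⟨Te.symm u, Te.apply_symm_apply u⟩
        obtain ⟨y', rfl⟩ := β.surjective y
        rw [← hTy]
        simp only [LinearMap.comp_apply, LinearEquiv.coe_coe]
        rw [show Te.symm (T (ρU y' u')) = ρU y' u' from Te.symm_apply_apply _,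
          show Te.symm (T u') = u' from Te.symm_apply_apply _, f.2 y' u']
        exact LinearMap.congr_fun (hs y') _⟩
      map_add' := fun f g => by
        refine Subtype.ext (LinearMap.ext fun u => ?_)
        simp
      map_smul' := fun t f => by
        refine Subtype.ext (LinearMap.ext fun u => ?_)
        simp }
  obtain ⟨t, ht⟩ := Module.End.exists_eigenvalue L₀
  obtain ⟨f₀, hf₀⟩ := ht.exists_hasEigenvector
  have hfc : ∀ u, s ((f₀ : U →ₗ[k] M) u) = t • (f₀ : U →ₗ[k] M) (T u) := by
    intro u
    have h := LinearMap.congr_fun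
      (congrArg Subtype.val (Module.End.mem_eigenspace_iff.mp hf₀.1)) (T u)
    simpa [L₀, show Te.symm (T u) = u from Te.symm_apply_apply u] using h
  have hfinj : Function.Injective (f₀ : U →ₗ[k] M) := by
    rw [← LinearMap.ker_eq_bot]
    refine (hirr _ fun y w hw => ?_).resolve_right fun h =>
      hf₀.2 (Subtype.ext (LinearMap.ker_eq_top.mp h))
    rw [LinearMap.mem_ker] at hw ⊢
    rw [f₀.2 y w, hw, map_zero]
  set e : Module.End k U := t • T with he_def
  have hse : ∀ u, s ((f₀ : U →ₗ[k] M) u) = (f₀ : U →ₗ[k] M) (e u) := fun u => by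
    rw [hfc, he_def, LinearMap.smul_apply, map_smul]
  have he : ∀ y, e * ρU y = ρU (β y) * e := fun y => LinearMap.ext fun u => by
    simp only [Module.End.mul_apply, he_def, LinearMap.smul_apply, hTy, map_smul]
  have hepow : ∀ (i : ℕ) u, (s ^ i) ((f₀ : U →ₗ[k] M) u) = (f₀ : U →ₗ[k] M) ((e ^ i) u) := by
    intro i
    induction i with
    | zero => intro u; simp
    | succ i ih =>
      intro u
      rw [pow_succ, Module.End.mul_apply, hse, ih, pow_succ, Module.End.mul_apply]
  have heP : e ^ P = 1 := LinearMap.ext fun u => hfinj (by rw [← hepow, hsP]; rfl)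
  exact ⟨U, ρU, e, f₀, hUne, hρUc, hρU, hirr, he, heP, hfinj, f₀.2, hse⟩

theorem plane {M : Type*} [AddCommGroup M] [Module k M] [FiniteDimensional k M] [Nontrivial M]
    [CharP k 2] (S : Setup R β μ P) (c : ℕ) (hPc : P = 2 ^ c) {ρ : Q →* Module.End k M}
    (hρ : IsScalar μ ρ) (s : Module.End k M) (hs : ∀ y, s * ρ y = ρ (β y) * s)
    (hsum : ∑ i ∈ Finset.range P, s ^ i = 0) :
    (∃ N, Nat.card (Q ⧸ R) = N * N ∧ N + 1 = P ∧ 2 ≤ N ∧ N ≤ finrank k M) ∧
      ∃ X : Submodule k M, X ≠ ⊥ ∧ (∀ x ∈ X, s x ∈ X) ∧
        ∀ b : Module.End k M, (∀ y, b * ρ y = ρ y * b) →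
          ∀ x ∈ X, b x ∈ X ∧ s (b x) = b (s x) := by
  classical
  have hP : 0 < P := hPc ▸ Nat.two_pow_pos c
  haveI : CharP (Module.End k M) 2 := charP_of_injective_algebraMap (algebraMap k _).injective 2
  have hsP : s ^ P = 1 := by
    have h := mul_geom_sum s P
    rw [hsum, mul_zero] at h
    exact sub_eq_zero.mp h.symm
  have hsn : (s - 1) ^ (P - 1) = 0 := by
    rw [hPc, Nilpotent.sub_one_pow_eq_geom, ← hPc, hsum]
  obtain ⟨U, ρU, e, f₀, hUne, hρUc, hρU, hirr, he, heP, hfinj, hf₀H, hse⟩ :=
    exists_operator S hP hρ s hs hsP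
  haveI : Nontrivial U := Submodule.nontrivial_iff_ne_bot.mpr hUne
  let H : Submodule k (U →ₗ[k] M) :=
    { carrier := {f | ∀ y u, f (ρU y u) = ρ y (f u)}
      add_mem' := fun {f g} hf hg y u => by
        simp only [LinearMap.add_apply, hf y u, hg y u, map_add]
      zero_mem' := fun y u => by simp
      smul_mem' := fun t f hf y u => by
        simp only [LinearMap.smul_apply, hf y u, map_smul] }
  have hsub : U.subtype ∈ H := fun y u => hρUc y u
  have hsub0 : U.subtype ≠ 0 := fun h => by
    obtain ⟨u, hu⟩ := exists_ne (0 : U)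
    exact hu (Subtype.ext (LinearMap.congr_fun h u))
  have hepow : ∀ (i : ℕ) u, (s ^ i) (f₀ u) = f₀ ((e ^ i) u) := by
    intro i
    induction i with
    | zero => intro u; simp
    | succ i ih =>
      intro u
      rw [pow_succ, Module.End.mul_apply, hse, ih, pow_succ, Module.End.mul_apply]
  haveI : CharP (Module.End k U) 2 := charP_of_injective_algebraMap (algebraMap k _).injective 2
  set n := e - 1 with hn
  have hnP : n ^ (P - 1) = 0 := by
    rw [hn, hPc, Nilpotent.sub_one_pow_eq_geom, ← hPc]
    refine LinearMap.ext fun u => hfinj ?_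
    have h := LinearMap.congr_fun hsum (f₀ u)
    rw [LinearMap.sum_apply] at h
    rw [LinearMap.sum_apply, map_sum]
    simp only [← hepow, h, LinearMap.zero_apply, map_zero]
  -- the count
  obtain ⟨r, hr, hcount, hcard⟩ := finrank_cent_le S hP hρU hirr e he heP
  obtain ⟨hN1, hN2⟩ := Nilpotent.le_finrank_cent n (P - 1) hnP
  set N := finrank k U with hN
  have hN0 : 2 ≤ N := by
    have h1 : 1 < R.index := Subgroup.one_lt_index_of_ne_top S.ne_top
    rw [Subgroup.index, hcard] at h1
    by_contra hlt
    interval_cases N <;> omega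
  obtain ⟨m, hm⟩ : ∃ m, P = m + 1 := ⟨P - 1, (Nat.sub_add_cancel hP).symm⟩
  have hPm : P - 1 = m := by omega
  rw [hPm, pow_two] at hN1
  have hNr : N ≤ r := hN2.trans hr
  have hN1' : N * N ≤ m * r := hN1.trans (Nat.mul_le_mul_left _ hr)
  subst hm
  have hNle : N ≤ m := by
    by_contra hlt
    push_neg at hlt
    nlinarith [Nat.mul_le_mul hlt hlt]
  have hNge : m ≤ N := by
    by_contra hlt
    push_neg at hlt
    nlinarith [Nat.mul_le_mul (Nat.le_refl N) hlt]
  have hNm : N = m := le_antisymm hNle hNge
  have hrN : r = N := by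
    rw [hNm] at hcount ⊢
    refine Nat.eq_of_mul_eq_mul_left (show 0 < m + 1 by omega) ?_
    linarith [show (m + 1) * m = m * m + m by ring]
  have hnil : n ^ (m - 1) ≠ 0 := by
    intro h0
    have h := (Nilpotent.le_finrank_cent n (m - 1) h0).1
    rw [← hN, pow_two] at h
    have h2 : N * N ≤ (m - 1) * N := h.trans (Nat.mul_le_mul_left _ (hr.trans hrN.le))
    rw [← hNm] at h2
    have := Nat.le_of_mul_le_mul_right h2 (by omega)
    omega
  -- operators on linear maps
  let σ : Module.End k (U →ₗ[k] M) :=
    { toFun := fun f => s.comp f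
      map_add' := fun f g => LinearMap.comp_add f g s
      map_smul' := fun a f => LinearMap.comp_smul s a f }
  let ε : Module.End k (U →ₗ[k] M) :=
    { toFun := fun f => f.comp e
      map_add' := fun f g => LinearMap.add_comp e g f
      map_smul' := fun a f => LinearMap.smul_comp a f e }
  haveI : Nontrivial (U →ₗ[k] M) := ⟨⟨_, _, hsub0⟩⟩
  haveI : CharP (Module.End k (U →ₗ[k] M)) 2 :=
    charP_of_injective_algebraMap (algebraMap k _).injective 2
  have hσε : Commute σ ε := LinearMap.ext fun f => (LinearMap.comp_assoc e f s).symm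
  have hεpow : ∀ (i : ℕ) f u, (ε ^ i) f u = f ((e ^ i) u) := by
    intro i
    induction i with
    | zero => intro f u; simp
    | succ i ih =>
      intro f u
      rw [pow_succ, Module.End.mul_apply, ih, pow_succ', Module.End.mul_apply]
      rfl
  have hσpow : ∀ (i : ℕ) f u, (σ ^ i) f u = (s ^ i) (f u) := by
    intro i
    induction i with
    | zero => intro f u; simp
    | succ i ih =>
      intro f u
      rw [pow_succ, Module.End.mul_apply, ih, pow_succ, Module.End.mul_apply]
      rfl
  have hσn : (σ - 1) ^ m = 0 := by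
    have := Nilpotent.sub_one_pow_eq_geom σ c
    rw [← hPc, Nat.add_sub_cancel] at this
    rw [this]
    refine LinearMap.ext fun f => LinearMap.ext fun u => ?_
    have h := LinearMap.congr_fun hsum (f u)
    rw [LinearMap.sum_apply] at h
    simp only [LinearMap.sum_apply, hσpow, h, LinearMap.zero_apply]
  set nu := ε - 1 with hnu
  have hnupow : ∀ (i : ℕ) f u, (nu ^ i) f u = f ((n ^ i) u) := by
    intro i
    induction i with
    | zero => intro f u; simp
    | succ i ih =>
      intro f u
      rw [pow_succ, Module.End.mul_apply, ih, pow_succ', Module.End.mul_apply, hnu, hn]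
      simp only [LinearMap.sub_apply, Module.End.one_apply, map_sub]
      rfl
  have hnum : nu ^ m = 0 := LinearMap.ext fun f => LinearMap.ext fun u => by
    rw [hnupow, show n ^ m = 0 from hPm ▸ hnP]
    simp
  have hεP : ε ^ (m + 1) = 1 := LinearMap.ext fun f => LinearMap.ext fun u => by
    rw [hεpow, heP]; rfl
  have hσP : σ ^ (m + 1) = 1 := LinearMap.ext fun f => LinearMap.ext fun u => by
    rw [hσpow, hsP]; rfl
  set Lop := σ * ε ^ m with hLop
  have hLε : Lop * ε = σ := by rw [hLop, mul_assoc, ← pow_succ, hεP, mul_one]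
  have hLP : Lop ^ (m + 1) = 1 := by
    rw [hLop, (hσε.pow_right m).mul_pow, hσP, ← pow_mul, Nat.mul_comm, pow_mul, hεP, one_pow,
      one_mul]
  set bop := Lop - 1 with hbop
  have hLH : ∀ f ∈ H, Lop f ∈ H := by
    intro f hf y u
    have hg : ∀ u, Lop f (e u) = s (f u) := fun u => by
      change (ε * Lop) f u = _
      rw [show ε * Lop = σ by
        rw [(((hσε.symm).mul_right (Commute.self_pow ε m)).eq), hLε]]
      rfl
    obtain ⟨u', rfl⟩ : ∃ u', e u' = u := ⟨(e ^ m) u, by
      rw [← Module.End.mul_apply, ← pow_succ', heP, Module.End.one_apply]⟩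
    obtain ⟨y', rfl⟩ := β.surjective y
    rw [← Module.End.mul_apply (ρU (β y')) e, ← he, Module.End.mul_apply e (ρU y'), hg, hf y' u', hg]
    exact LinearMap.congr_fun (hs y') (f u')
  have hbH : ∀ (i : ℕ), ∀ f ∈ H, (bop ^ i) f ∈ H := by
    intro i
    induction i with
    | zero => exact fun f hf => hf
    | succ i ih =>
      intro f hf
      rw [pow_succ, Module.End.mul_apply]
      refine ih _ ?_
      rw [hbop, LinearMap.sub_apply, Module.End.one_apply]
      exact H.sub_mem (hLH f hf) hf
  have hLnu : Commute Lop nu := by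
    refine Commute.sub_right ?_ (Commute.one_right _)
    exact hσε.mul_left (Commute.self_pow ε m).symm
  have hsplit : σ - 1 = Lop * nu + bop := by
    rw [hnu, hbop, mul_sub, mul_one, hLε, sub_add_sub_cancel]
  have hchoose : ∀ j ≤ m, ((m.choose j : ℕ) : Module.End k (U →ₗ[k] M)) = 1 := by
    intro j hj
    obtain ⟨d, hd⟩ := odd_choose_two_pow_sub_one c j (by omega)
    rw [show m = 2 ^ c - 1 by omega, hd, Nat.cast_add, Nat.cast_mul, Nat.cast_ofNat,
      CharTwo.two_eq_zero, zero_mul, zero_add, Nat.cast_one]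
  have hdesc : ∀ d, d ≤ m → ∀ g ∈ H, (bop ^ (m + 1 - d)) g = 0 := by
    intro d
    induction d with
    | zero =>
      intro _ g _
      rw [Nat.sub_zero, pow_succ']
      have h := Nilpotent.sub_one_pow_eq_geom Lop c
      rw [← hPc, Nat.add_sub_cancel] at h
      rw [hbop, h, mul_geom_sum, hLP, sub_self, LinearMap.zero_apply]
    | succ d ih =>
      intro hd g hg
      obtain ⟨j, hj⟩ : ∃ j, m + 1 - (d + 1) = j + 1 := ⟨m - d - 1, by omega⟩
      have hb : (bop ^ (j + 2)) g = 0 := by
        have := ih (by omega) g hg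
        rwa [show m + 1 - d = j + 2 by omega] at this
      rw [hj]
      have hcomb : Commute (Lop * nu) bop :=
        Commute.sub_right ((Commute.refl Lop).mul_left hLnu.symm) (Commute.one_right _)
      have hbig : (nu ^ j * (Lop * nu + bop) ^ m) g = 0 := by
        rw [← hsplit, hσn, mul_zero, LinearMap.zero_apply]
      rw [hcomb.add_pow, Finset.mul_sum, LinearMap.sum_apply,
        Finset.sum_eq_single (m - (j + 1))] at hbig
      · rw [hchoose _ (Nat.sub_le _ _), mul_one, hLnu.mul_pow, show m - (m - (j + 1)) = j + 1 by omega,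
          ← mul_assoc, ← mul_assoc, (hLnu.symm.pow_pow j _).eq, mul_assoc (Lop ^ _), ← pow_add,
          mul_assoc] at hbig
        have hinj : Function.Injective (Lop ^ (m - (j + 1)) : Module.End k (U →ₗ[k] M)) := by
          refine fun a b hab => ?_
          have := congrArg (fun f => (Lop ^ (m + 1 - (m - (j + 1)))) f) hab
          simpa only [← Module.End.mul_apply, ← pow_add, Nat.sub_add_cancel
            (show m - (j + 1) ≤ m + 1 by omega), hLP, Module.End.one_apply] using this
        rw [Module.End.mul_apply, ← map_zero (Lop ^ (m - (j + 1)))] at hbig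
        have h2 := hinj hbig
        rw [show j + (m - (j + 1)) = m - 1 by omega, Module.End.mul_apply] at h2
        set h := (bop ^ (j + 1)) g with hh
        have hhH : h ∈ H := hbH _ g hg
        have hzero : ∀ u, h ((n ^ (m - 1)) u) = 0 := fun u => by
          rw [← hnupow, h2]; rfl
        refine LinearMap.ker_eq_top.mp ((hirr _ fun y w hw => ?_).resolve_left fun hbot => ?_)
        · rw [LinearMap.mem_ker] at hw ⊢
          rw [hhH y w, hw, map_zero]
        · refine hnil (LinearMap.ext fun u => ?_)
          have : (n ^ (m - 1)) u ∈ LinearMap.ker h := hzero u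
          rwa [hbot, Submodule.mem_bot] at this
      · intro i hi hne
        rw [Finset.mem_range] at hi
        rcases Nat.lt_or_gt_of_ne hne with hlt | hgt
        · obtain ⟨l, hl⟩ : ∃ l, m - i = l + (j + 2) := ⟨m - i - (j + 2), by omega⟩
          rw [hl, pow_add, mul_assoc, hchoose _ (by omega), mul_one]
          simp only [Module.End.mul_apply, hb, map_zero]
        · obtain ⟨l, hl⟩ : ∃ l, j + i = m + l := ⟨j + i - m, by omega⟩
          rw [hLnu.mul_pow, ← mul_assoc, ← mul_assoc, ← mul_assoc, (hLnu.symm.pow_pow j i).eq,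
            mul_assoc (Lop ^ i) (nu ^ j), ← pow_add, hl, pow_add, hnum, zero_mul, mul_zero,
            zero_mul, zero_mul, LinearMap.zero_apply]
      · intro h
        exact absurd (Finset.mem_range.mpr (by omega)) h
  have hfix : ∀ f ∈ H, ∀ u, s (f u) = f (e u) := by
    intro f hf u
    have h := hdesc m le_rfl f hf
    rw [Nat.add_sub_cancel_left, pow_one, hbop, LinearMap.sub_apply, Module.End.one_apply,
      sub_eq_zero] at h
    have h' : (ε * Lop) f = ε f := by rw [Module.End.mul_apply, h]
    rw [show ε * Lop = σ by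
      rw [(((hσε.symm).mul_right (Commute.self_pow ε m)).eq), hLε]] at h'
    exact LinearMap.congr_fun h' u
  refine ⟨⟨N, hcard, by omega, hN0, Submodule.finrank_le U⟩, ⨆ f : H, LinearMap.range (f : U →ₗ[k] M), ?_, ?_, ?_⟩
  · intro h
    rw [iSup_eq_bot] at h
    exact hsub0 (LinearMap.range_eq_bot.mp (h ⟨_, hsub⟩))
  · suffices hle : (⨆ f : H, LinearMap.range (f : U →ₗ[k] M)) ≤
        Submodule.comap s (⨆ f : H, LinearMap.range (f : U →ₗ[k] M)) from hle
    refine iSup_le fun f => ?_
    rintro _ ⟨u, rfl⟩
    rw [Submodule.mem_comap, hfix f f.2]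
    exact Submodule.mem_iSup_of_mem f ⟨e u, rfl⟩
  · intro b hb
    suffices hle : (⨆ f : H, LinearMap.range (f : U →ₗ[k] M)) ≤
        Submodule.comap b (⨆ f : H, LinearMap.range (f : U →ₗ[k] M)) ⊓
          LinearMap.ker (s * b - b * s) from fun x hx => ⟨(hle hx).1, sub_eq_zero.mp (hle hx).2⟩
    refine iSup_le fun f => ?_
    rintro _ ⟨u, rfl⟩
    have hbf : b.comp (f : U →ₗ[k] M) ∈ H := fun y v => by
      simp only [LinearMap.comp_apply]
      rw [f.2 y v]
      exact LinearMap.congr_fun (hb y) _
    refine ⟨Submodule.mem_iSup_of_mem ⟨_, hbf⟩ ⟨u, rfl⟩, ?_⟩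
    rw [SetLike.mem_coe, LinearMap.mem_ker, LinearMap.sub_apply, Module.End.mul_apply,
      Module.End.mul_apply, hfix f f.2, sub_eq_zero]
    exact hfix _ hbf u

/-- The same configuration in odd or zero characteristic. -/
theorem plane_of_ne_two {M : Type*} [AddCommGroup M] [Module k M] [FiniteDimensional k M]
    [Nontrivial M] (h2 : (2 : k) ≠ 0) (S : Setup R β μ P) (c : ℕ) (hPc : P = 2 ^ c)
    {ρ : Q →* Module.End k M} (hρ : IsScalar μ ρ) (s : Module.End k M)
    (hs : ∀ y, s * ρ y = ρ (β y) * s) (hsum : ∑ i ∈ Finset.range P, s ^ i = 0) :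
    (∃ N, Nat.card (Q ⧸ R) = N * N ∧ N + 1 = P ∧ 2 ≤ N ∧ N ≤ finrank k M) ∧
      ∃ X : Submodule k M, X ≠ ⊥ ∧ (∀ x ∈ X, s x ∈ X) ∧
        ∀ b : Module.End k M, (∀ y, b * ρ y = ρ y * b) →
          ∀ x ∈ X, b x ∈ X ∧ s (b x) = b (s x) := by
  classical
  have hP : 0 < P := hPc ▸ Nat.two_pow_pos c
  have hPk : (P : k) ≠ 0 := by rw [hPc, Nat.cast_pow, Nat.cast_two]; exact pow_ne_zero _ h2
  have hsP : s ^ P = 1 := by
    have h := mul_geom_sum s P
    rw [hsum, mul_zero] at h
    exact sub_eq_zero.mp h.symm
  have hfixM : ∀ v : M, s v = v → v = 0 := by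
    intro v hv
    have h := LinearMap.congr_fun hsum v
    rw [LinearMap.sum_apply] at h
    have hi : ∀ i : ℕ, (s ^ i) v = v := fun i => by
      induction i with
      | zero => rfl
      | succ i ih => rw [pow_succ, Module.End.mul_apply, hv, ih]
    rw [Finset.sum_congr rfl fun i _ => hi i, Finset.sum_const, Finset.card_range,
      LinearMap.zero_apply, ← Nat.cast_smul_eq_nsmul k] at h
    exact (smul_eq_zero.mp h).resolve_left hPk
  obtain ⟨U, ρU, e, f₀, hUne, hρUc, hρU, hirr, he, heP, hfinj, hf₀H, hse⟩ :=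
    exists_operator S hP hρ s hs hsP
  haveI : Nontrivial U := Submodule.nontrivial_iff_ne_bot.mpr hUne
  obtain ⟨r, hr, hcount, hcard⟩ := finrank_cent_le S hP hρU hirr e he heP
  set N := finrank k U with hN
  have hN0 : 2 ≤ N := by
    have h1 : 1 < R.index := Subgroup.one_lt_index_of_ne_top S.ne_top
    rw [Subgroup.index, hcard] at h1
    by_contra hlt
    interval_cases N <;> omega
  -- eigenspaces
  have hsep : (Polynomial.X ^ P - 1 : Polynomial k).Separable := by
    have := Polynomial.separable_X_pow_sub_C (n := P) (1 : k) hPk one_ne_zero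
    simpa using this
  have hss : e.IsSemisimple :=
    Module.End.isSemisimple_of_squarefree_aeval_eq_zero hsep.squarefree (by simp [heP])
  set Sv : Finset k := (Polynomial.nthRootsFinset P (1 : k)).erase 1 with hSv
  have hroot : ∀ (t : k) (u : U), e u = t • u → u ≠ 0 → t ∈ Sv := by
    intro t u hu hne
    have hpow : ∀ i : ℕ, (e ^ i) u = t ^ i • u := by
      intro i
      induction i with
      | zero => simp
      | succ i ih => rw [pow_succ', Module.End.mul_apply, ih, map_smul, hu, smul_smul, pow_succ]
    have h1 := hpow P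
    rw [heP, Module.End.one_apply] at h1
    have ht1 : t ^ P = 1 := smul_left_injective k hne (h1.symm.trans (one_smul k u).symm)
    rw [hSv, Finset.mem_erase, Polynomial.mem_nthRootsFinset hP]
    refine ⟨fun h => ?_, ht1⟩
    refine hne (hfinj ?_)
    rw [map_zero]
    exact hfixM _ (by rw [hse, hu, h, one_smul])
  set Se := Sv.filter (fun t => Module.End.eigenspace e t ≠ ⊥) with hSe
  let E : Se → Submodule k U := fun t => Module.End.eigenspace e (t : k)
  have hindep : iSupIndep E := (Module.End.eigenspaces_iSupIndep e).comp Subtype.val_injective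
  have htop : ⨆ t, E t = ⊤ := by
    refine le_antisymm le_top (hss.iSup_eigenspace_eq_top ▸ iSup_le fun t => ?_)
    intro u hu
    rcases eq_or_ne u 0 with rfl | hne
    · exact Submodule.zero_mem _
    have hu' := Module.End.mem_eigenspace_iff.mp hu
    exact Submodule.mem_iSup_of_mem ⟨t, Finset.mem_filter.mpr ⟨hroot t u hu' hne, fun h => hne
      (Submodule.mem_bot k |>.mp (h ▸ hu))⟩⟩ hu
  have hint : DirectSum.IsInternal E :=
    DirectSum.isInternal_submodule_of_iSupIndep_of_iSup_eq_top hindep htop
  let e0 := LinearEquiv.ofBijective (DirectSum.coeLinearMap E) hint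
  have hdim : ∑ t, finrank k (E t) = N := by
    rw [hN, ← e0.finrank_eq, Module.finrank_directSum]
  let F : ((t : Se) → Module.End k (E t)) →ₗ[k] Module.End k U :=
    { toFun := fun f => (e0.toLinearMap.comp (DirectSum.lmap f)).comp e0.symm.toLinearMap
      map_add' := fun f g => by
        refine LinearMap.ext fun x => ?_
        simp only [LinearMap.comp_apply, LinearMap.add_apply, LinearEquiv.coe_coe]
        rw [← map_add e0]
        refine congrArg e0 (DFinsupp.ext fun t => ?_)
        rw [DirectSum.add_apply, DirectSum.lmap_apply, DirectSum.lmap_apply, DirectSum.lmap_apply]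
        rfl
      map_smul' := fun c f => by
        refine LinearMap.ext fun x => ?_
        simp only [LinearMap.comp_apply, LinearMap.smul_apply, LinearEquiv.coe_coe,
          RingHom.id_apply]
        rw [← map_smul e0]
        refine congrArg e0 (DFinsupp.ext fun t => ?_)
        rw [DirectSum.smul_apply, DirectSum.lmap_apply, DirectSum.lmap_apply]
        rfl }
  have hFE : ∀ f t (u : E t), F f (u : U) = ((f t u : E t) : U) := by
    intro f t u
    have h1 : e0.symm (u : U) = DirectSum.lof k Se (fun t => E t) t u := by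
      rw [LinearEquiv.symm_apply_eq]
      exact (DirectSum.coeLinearMap_of E t u).symm
    change e0 (DirectSum.lmap f (e0.symm (u : U))) = _
    rw [h1, DirectSum.lmap_lof]
    exact DirectSum.coeLinearMap_of E t (f t u)
  have hFinj : Function.Injective F := fun f g h => funext fun t => LinearMap.ext fun u =>
    Subtype.ext (by rw [← hFE f t u, ← hFE g t u, h])
  have hFC : ∀ f, F f ∈ Nilpotent.cent (e - 1) := by
    intro f
    rw [Nilpotent.mem_cent, sub_mul, mul_sub, one_mul, mul_one, sub_left_inj]
    have hle : ∀ t, E t ≤ LinearMap.ker (e * F f - F f * e) := by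
      intro t u hu
      rw [LinearMap.mem_ker, LinearMap.sub_apply, Module.End.mul_apply, Module.End.mul_apply,
        sub_eq_zero]
      have hu' : e u = (t : k) • u := Module.End.mem_eigenspace_iff.mp hu
      rw [hFE f t ⟨u, hu⟩, hu', map_smul, hFE f t ⟨u, hu⟩]
      exact Module.End.mem_eigenspace_iff.mp (f t ⟨u, hu⟩).2
    have h1 : LinearMap.ker (e * F f - F f * e) = ⊤ := top_unique (htop ▸ iSup_le hle)
    exact sub_eq_zero.mp (LinearMap.ker_eq_top.mp h1)
  have hlower : ∑ t, finrank k (E t) ^ 2 ≤ r := by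
    refine le_trans ?_ hr
    have h := LinearMap.finrank_le_finrank_of_injective
      (f := F.codRestrict _ hFC) (fun a b h => hFinj (congrArg Subtype.val h))
    rw [Module.finrank_pi_fintype] at h
    refine le_of_eq_of_le (Finset.sum_congr rfl fun t _ => ?_) h
    rw [Module.finrank_linearMap, sq]
  have hone : (1 : k) ∈ Polynomial.nthRootsFinset P (1 : k) := by
    rw [Polynomial.mem_nthRootsFinset hP, one_pow]
  have hSle : Sv.card + 1 ≤ P := by
    rw [hSv, Finset.card_erase_add_one hone, Polynomial.nthRootsFinset_def]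
    exact (Multiset.toFinset_card_le _).trans (Polynomial.card_nthRoots P 1)
  have hCS : N ^ 2 ≤ Se.card * ∑ t, finrank k (E t) ^ 2 := by
    have h := sq_sum_le_card_mul_sum_sq (s := (Finset.univ : Finset Se))
      (f := fun t => finrank k (E t))
    rw [hdim, Finset.card_univ, Fintype.card_coe] at h
    exact h
  have hNr : N ≤ r := by
    refine le_trans ?_ hlower
    rw [← hdim]
    exact Finset.sum_le_sum fun t _ => Nat.le_self_pow two_ne_zero _
  obtain ⟨m, hm⟩ : ∃ m, P = m + 1 := ⟨P - 1, (Nat.sub_add_cancel hP).symm⟩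
  have hSeSv : Se.card ≤ Sv.card := Finset.card_filter_le _ _
  have h1 : N * N ≤ m * r := by
    rw [← pow_two]
    exact hCS.trans (Nat.mul_le_mul (by omega) hlower)
  subst hm
  have hNle : N ≤ m := by
    by_contra hlt
    push_neg at hlt
    nlinarith [Nat.mul_le_mul hlt hlt]
  have hNge : m ≤ N := by
    by_contra hlt
    push_neg at hlt
    nlinarith [Nat.mul_le_mul (Nat.le_refl N) hlt]
  have hNm : N = m := le_antisymm hNle hNge
  have hrN : r = N := by
    rw [hNm] at hcount ⊢
    refine Nat.eq_of_mul_eq_mul_left (show 0 < m + 1 by omega) ?_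
    linarith [show (m + 1) * m = m * m + m by ring]
  have hSeEq : Se = Sv := by
    refine Finset.eq_of_subset_of_card_le (Finset.filter_subset _ _) ?_
    have h2 : N * N ≤ Se.card * N := by
      rw [← pow_two]
      exact hCS.trans (Nat.mul_le_mul_left _ (hlower.trans hrN.le))
    have h3 := Nat.le_of_mul_le_mul_right h2 (by omega)
    omega
  -- every operator intertwining agrees with `s`
  have hei : ∀ u : U, e ((e ^ m) u) = u := fun u => by
    rw [← Module.End.mul_apply, ← pow_succ', heP, Module.End.one_apply]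
  let H : Submodule k (U →ₗ[k] M) :=
    { carrier := {f | ∀ y u, f (ρU y u) = ρ y (f u)}
      add_mem' := fun {f g} hf hg y u => by
        simp only [LinearMap.add_apply, hf y u, hg y u, map_add]
      zero_mem' := fun y u => by simp
      smul_mem' := fun t f hf y u => by
        simp only [LinearMap.smul_apply, hf y u, map_smul] }
  have hsub : U.subtype ∈ H := fun y u => hρUc y u
  let L : Module.End k H :=
    { toFun := fun f => ⟨(s.comp (f : U →ₗ[k] M)).comp (e ^ m), fun y u => by
        obtain ⟨y', rfl⟩ := β.surjective y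
        simp only [LinearMap.comp_apply]
        have h2 : (e ^ m) (ρU (β y') u) = ρU y' ((e ^ m) u) := by
          conv_lhs => rw [← hei u]
          rw [← Module.End.mul_apply (ρU (β y')), ← he, ← Module.End.mul_apply,
            ← mul_assoc, ← pow_succ, heP, one_mul]
        rw [h2, f.2 y']
        exact LinearMap.congr_fun (hs y') _⟩
      map_add' := fun f g => Subtype.ext (LinearMap.ext fun u => by simp)
      map_smul' := fun t f => Subtype.ext (LinearMap.ext fun u => by simp) }
  have hLpow : ∀ (i : ℕ) (f : H) (u : U),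
      ((L ^ i) f : U →ₗ[k] M) u = (s ^ i) ((f : U →ₗ[k] M) (((e ^ m) ^ i) u)) := by
    intro i
    induction i with
    | zero => intro f u; simp
    | succ i ih =>
      intro f u
      rw [pow_succ, Module.End.mul_apply, ih, pow_succ s, Module.End.mul_apply,
        pow_succ' (e ^ m), Module.End.mul_apply]
      rfl
  have hLP : L ^ (m + 1) = 1 := LinearMap.ext fun f => Subtype.ext (LinearMap.ext fun u => by
    rw [hLpow, hsP, ← pow_mul, Nat.mul_comm, pow_mul, heP, one_pow]; rfl)
  have hLss : L.IsSemisimple :=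
    Module.End.isSemisimple_of_squarefree_aeval_eq_zero hsep.squarefree (by simp [hLP])
  have hfix : ∀ f : H, L f = f := by
    have hle : (⊤ : Submodule k H) ≤ LinearMap.ker (L - 1) := by
      refine hLss.iSup_eigenspace_eq_top.symm.le.trans (iSup_le fun t => ?_)
      intro f hf
      have hf' := Module.End.mem_eigenspace_iff.mp hf
      rw [LinearMap.mem_ker, LinearMap.sub_apply, Module.End.one_apply, sub_eq_zero]
      rcases eq_or_ne f 0 with rfl | hne
      · exact map_zero L
      by_contra hLf
      have ht1 : t ≠ 1 := fun h => hLf (by rw [hf', h, one_smul])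
      have htP : t ^ (m + 1) = 1 := by
        have hpow : ∀ i : ℕ, (L ^ i) f = t ^ i • f := by
          intro i
          induction i with
          | zero => simp
          | succ i ih => rw [pow_succ', Module.End.mul_apply, ih, map_smul, hf', smul_smul, pow_succ]
        have h2 := hpow (m + 1)
        rw [hLP, Module.End.one_apply] at h2
        exact smul_left_injective k hne (h2.symm.trans (one_smul k f).symm)
      have ht0 : t ≠ 0 := fun h => by rw [h, zero_pow (by omega)] at htP; exact zero_ne_one htP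
      have hmem : t⁻¹ ∈ Se := by
        rw [hSeEq, hSv, Finset.mem_erase, Polynomial.mem_nthRootsFinset hP]
        exact ⟨fun h => ht1 (inv_eq_one.mp h), by rw [inv_pow, htP, inv_one]⟩
      obtain ⟨u, hu, hu0⟩ := Submodule.exists_mem_ne_zero_of_ne_bot (Finset.mem_filter.mp hmem).2
      rw [Module.End.mem_eigenspace_iff] at hu
      have hfu : s ((f : U →ₗ[k] M) u) = (f : U →ₗ[k] M) u := by
        have h2 := LinearMap.congr_fun (congrArg Subtype.val hf') (e u)
        change s ((f : U →ₗ[k] M) ((e ^ m) (e u))) = t • (f : U →ₗ[k] M) (e u) at h2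
        rw [← Module.End.mul_apply (e ^ m), ← pow_succ, heP, Module.End.one_apply, hu, map_smul,
          smul_smul, mul_inv_cancel₀ ht0, one_smul] at h2
        exact h2
      have hzero := hfixM _ hfu
      have hker : LinearMap.ker (f : U →ₗ[k] M) = ⊤ := by
        refine (hirr _ fun y v hv => ?_).resolve_left fun hbot => hu0 ?_
        · rw [LinearMap.mem_ker] at hv ⊢
          rw [f.2 y v, hv, map_zero]
        · exact (Submodule.mem_bot k).mp (hbot ▸ LinearMap.mem_ker.mpr hzero)
      exact hne (Subtype.ext (LinearMap.ker_eq_top.mp hker))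
    exact fun f => sub_eq_zero.mp (LinearMap.mem_ker.mp (hle Submodule.mem_top))
  have hfix' : ∀ f ∈ H, ∀ u, s (f u) = f (e u) := by
    intro f hf u
    have h2 := LinearMap.congr_fun (congrArg Subtype.val (hfix ⟨f, hf⟩)) (e u)
    change s (f ((e ^ m) (e u))) = f (e u) at h2
    rwa [← Module.End.mul_apply (e ^ m), ← pow_succ, heP, Module.End.one_apply] at h2
  refine ⟨⟨N, hcard, by omega, hN0, Submodule.finrank_le U⟩,
    ⨆ f : H, LinearMap.range (f : U →ₗ[k] M), ?_, ?_, ?_⟩
  · intro h
    rw [iSup_eq_bot] at h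
    obtain ⟨u, hu⟩ := exists_ne (0 : U)
    exact hu (Subtype.ext (LinearMap.congr_fun (LinearMap.range_eq_bot.mp (h ⟨_, hsub⟩)) u))
  · suffices hle : (⨆ f : H, LinearMap.range (f : U →ₗ[k] M)) ≤
        Submodule.comap s (⨆ f : H, LinearMap.range (f : U →ₗ[k] M)) from hle
    refine iSup_le fun f => ?_
    rintro _ ⟨u, rfl⟩
    rw [Submodule.mem_comap, hfix' f f.2]
    exact Submodule.mem_iSup_of_mem f ⟨e u, rfl⟩
  · intro b hb
    suffices hle : (⨆ f : H, LinearMap.range (f : U →ₗ[k] M)) ≤
        Submodule.comap b (⨆ f : H, LinearMap.range (f : U →ₗ[k] M)) ⊓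
          LinearMap.ker (s * b - b * s) from fun x hx => ⟨(hle hx).1, sub_eq_zero.mp (hle hx).2⟩
    refine iSup_le fun f => ?_
    rintro _ ⟨u, rfl⟩
    have hbf : b.comp (f : U →ₗ[k] M) ∈ H := fun y v => by
      simp only [LinearMap.comp_apply]
      rw [f.2 y v]
      exact LinearMap.congr_fun (hb y) _
    refine ⟨Submodule.mem_iSup_of_mem ⟨_, hbf⟩ ⟨u, rfl⟩, ?_⟩
    rw [SetLike.mem_coe, LinearMap.mem_ker, LinearMap.sub_apply, Module.End.mul_apply,
      Module.End.mul_apply, hfix' f f.2, sub_eq_zero]
    exact hfix' _ hbf u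

/-- The configuration in every characteristic. -/
theorem plane' {M : Type*} [AddCommGroup M] [Module k M] [FiniteDimensional k M]
    [Nontrivial M] (S : Setup R β μ P) (c : ℕ) (hPc : P = 2 ^ c)
    {ρ : Q →* Module.End k M} (hρ : IsScalar μ ρ) (s : Module.End k M)
    (hs : ∀ y, s * ρ y = ρ (β y) * s) (hsum : ∑ i ∈ Finset.range P, s ^ i = 0) :
    (∃ N, Nat.card (Q ⧸ R) = N * N ∧ N + 1 = P ∧ 2 ≤ N ∧ N ≤ finrank k M) ∧
      ∃ X : Submodule k M, X ≠ ⊥ ∧ (∀ x ∈ X, s x ∈ X) ∧
        ∀ b : Module.End k M, (∀ y, b * ρ y = ρ y * b) →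
          ∀ x ∈ X, b x ∈ X ∧ s (b x) = b (s x) := by
  by_cases h2 : (2 : k) = 0
  · haveI : CharP k 2 :=
      (CharP.charP_iff_prime_eq_zero Nat.prime_two).mpr (by exact_mod_cast h2)
    exact plane S c hPc hρ s hs hsum
  · exact plane_of_ne_two h2 S c hPc hρ s hs hsum

end Cfsg.Agent.Lib.FpfHeight.PlaneCount
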