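/-
A `2`-element with `1 + x + ⋯ + x ^ (2 ^ e - 1) = 0` in characteristic two, normalizing an odd
`q`-group `P` of class two: on `P` modulo the radical of a weight, either `x ^ 2 ^ (e - 1)` is
trivial or `x ^ 2 ^ (e - 2)` has a plane of displacements inverted by its square.
-/
import Mathlib.GroupTheory.Index
import Mathlib.GroupTheory.PGroup
import Cfsg.Agent.Lib.FpfHeight.EigenChar
import Cfsg.Agent.Lib.FpfHeight.OddPower
import Cfsg.Agent.Lib.FpfHeight.Arith
import Cfsg.Agent.Lib.FpfHeight.PlaneCount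

set_option autoImplicit false

namespace Cfsg.Agent.Lib.FpfHeight.PlaneTwo

open Module

theorem sum_range_mul {A : Type*} [AddCommMonoid A] (g : ℕ → A) (d L : ℕ) :
    ∑ i ∈ Finset.range (d * L), g i =
      ∑ r ∈ Finset.range d, ∑ l ∈ Finset.range L, g (d * l + r) := by
  induction L with
  | zero => simp
  | succ L ih =>
    rw [Nat.mul_succ, Finset.sum_range_add, ih, ← Finset.sum_add_distrib]
    exact Finset.sum_congr rfl fun r _ =>
      (Finset.sum_range_succ (fun l => g (d * l + r)) L).symm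

section Stabilizer

variable {k : Type*} [Field k] [IsAlgClosed k] {M : Type*} [AddCommGroup M] [Module k M]
variable [FiniteDimensional k M] {Z : Type*} [Group Z] [Finite Z]

omit [IsAlgClosed k] [FiniteDimensional k M] in
/-- The stabilizer of a weight inherits the trace condition on the weight space. -/
theorem exists_stabilizer (ρ : Z →* Module.End k M) (hcard : (Nat.card Z : k) ≠ 0)
    (s : Module.End k M) (β : MulAut Z) (hs : ∀ z, s * ρ z = ρ (β z) * s) (a : ℕ)
    (hβ : β ^ 2 ^ a = 1) (hsum : ∑ i ∈ Finset.range (2 ^ a), s ^ i = 0) {w : M} (hw0 : w ≠ 0)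
    {μ : Z →* k} (hw : ∀ z, ρ z w = μ z • w) :
    ∃ f < a, (∀ z, μ ((β ^ 2 ^ f) z) = μ z) ∧ (∀ v, (∀ z, ρ z v = μ z • v) →
      ∑ i ∈ Finset.range (2 ^ (a - f)), ((s ^ 2 ^ f) ^ i) v = 0) ∧
      (0 < f → ∀ v, (∀ z, ρ z v = μ z • v) → ∀ t : k, s v = t • v → v = 0) := by
  classical
  have hex : ∃ n, 0 < n ∧ ∀ z, μ ((β ^ n) z) = μ z :=
    ⟨2 ^ a, Nat.two_pow_pos a, fun z => by rw [hβ]; rfl⟩
  obtain ⟨hd0, hd⟩ := Nat.find_spec hex
  have hmin : ∀ m < Nat.find hex, 0 < m → ¬∀ z, μ ((β ^ m) z) = μ z := fun m hm hm0 h =>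
    Nat.find_min hex hm ⟨hm0, h⟩
  set d := Nat.find hex with hddef
  have hdvd : d ∣ 2 ^ a := by
    rw [Nat.dvd_iff_mod_eq_zero]
    by_contra h
    refine hmin _ (Nat.mod_lt _ hd0) (Nat.pos_of_ne_zero h) fun z => ?_
    have h1 : β ^ 2 ^ a = (β ^ d) ^ (2 ^ a / d) * β ^ (2 ^ a % d) := by
      rw [← pow_mul, ← pow_add, Nat.div_add_mod]
    have h2 := OddPower.char_pow_apply hd (2 ^ a / d) ((β ^ (2 ^ a % d)) z)
    rw [← MulAut.mul_apply, ← h1, hβ] at h2
    exact h2.symm
  obtain ⟨f, hfa, hdf⟩ := (Nat.dvd_prime_pow Nat.prime_two).mp hdvd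
  rw [hdf] at hd hmin
  have key : ∀ v, (∀ z, ρ z v = μ z • v) →
      ∑ i ∈ Finset.range (2 ^ (a - f)), ((s ^ 2 ^ f) ^ i) v = 0 := by
    intro v hv
    set u := ∑ l ∈ Finset.range (2 ^ (a - f)), ((s ^ 2 ^ f) ^ l) v with hu
    have hu' : ∀ z, ρ z u = μ z • u := fun z => by
      rw [hu, map_sum, Finset.smul_sum]
      refine Finset.sum_congr rfl fun l _ => ?_
      have h := EigenChar.pow_apply_eigen ρ s β hs hv (2 ^ f * l) z
      rw [pow_mul] at h
      rw [h]
      congr 1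
      have h2 := OddPower.char_pow_apply hd l ((β ^ (2 ^ f * l)).symm z)
      rw [← pow_mul, MulEquiv.apply_symm_apply] at h2
      exact h2.symm
    have h := EigenChar.eq_zero_of_sum_eq_zero ρ hcard (Finset.range (2 ^ f))
      (fun r => μ.comp (β ^ r).symm.toMonoidHom) (fun r => (s ^ r) u)
      (fun r _ z => EigenChar.pow_apply_eigen ρ s β hs hu' r z) ?_ ?_ 0
      (Finset.mem_range.mpr (Nat.two_pow_pos f))
    · simpa using h
    · intro i hi j hj hij
      rw [Finset.mem_range] at hi hj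
      by_contra hne
      rcases Nat.lt_or_gt_of_ne hne with hlt | hlt
      · refine hmin (j - i) (by omega) (by omega) fun z => ?_
        have h1 := DFunLike.congr_fun hij ((β ^ j) z)
        simp only [MonoidHom.comp_apply, MulEquiv.coe_toMonoidHom, MulEquiv.symm_apply_apply] at h1
        rw [← h1]
        congr 1
        rw [MulEquiv.eq_symm_apply, ← MulAut.mul_apply, ← pow_add, Nat.add_sub_cancel' hlt.le]
      · refine hmin (i - j) (by omega) (by omega) fun z => ?_
        have h1 := DFunLike.congr_fun hij ((β ^ i) z)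
        simp only [MonoidHom.comp_apply, MulEquiv.coe_toMonoidHom, MulEquiv.symm_apply_apply] at h1
        rw [h1]
        congr 1
        rw [MulEquiv.eq_symm_apply, ← MulAut.mul_apply, ← pow_add, Nat.add_sub_cancel' hlt.le]
    · have h2 := LinearMap.congr_fun hsum v
      rw [LinearMap.sum_apply, LinearMap.zero_apply,
        show (2 : ℕ) ^ a = 2 ^ f * 2 ^ (a - f) by rw [← pow_add]; congr 1; omega,
        sum_range_mul] at h2
      rw [← h2]
      refine Finset.sum_congr rfl fun r _ => ?_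
      rw [hu, map_sum]
      refine Finset.sum_congr rfl fun l _ => ?_
      rw [← Module.End.mul_apply, ← pow_mul, ← pow_add, Nat.add_comm]
  refine ⟨f, lt_of_le_of_ne hfa fun h => hw0 ?_, hd, key, fun hf0 v hv t ht => ?_⟩
  · have := key w hw
    simpa [h] using this
  by_contra hv0
  have hsP : s ^ 2 ^ a = 1 := by
    have h := mul_geom_sum s (2 ^ a)
    rw [hsum, mul_zero] at h
    exact sub_eq_zero.mp h.symm
  have ht0 : t ≠ 0 := fun h0 => hv0 (by
    have h1 := LinearMap.congr_fun hsP v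
    rw [← Nat.sub_add_cancel (Nat.one_le_two_pow (n := a)), pow_succ, Module.End.mul_apply, ht, h0,
      zero_smul, map_zero, Module.End.one_apply] at h1
    exact h1.symm)
  refine hmin 1 (Nat.one_lt_two_pow hf0.ne') one_pos fun z => ?_
  have h1 := EigenChar.pow_apply_eigen ρ s β hs hv 1 ((β ^ 1) z)
  rw [pow_one, MulEquiv.symm_apply_apply, pow_one, ht, map_smul, hv, smul_comm] at h1
  rw [pow_one]
  exact smul_left_injective k (smul_ne_zero ht0 hv0) (by
    change μ (β z) • t • v = μ z • t • v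
    exact h1)

end Stabilizer

section Radical

variable {H : Type*} [Group H] {k : Type*} [Field k]

/-- `Z` is a central subgroup of `P` containing its commutators. -/
structure Central (P Z : Subgroup H) : Prop where
  le : Z ≤ P
  comm : ∀ u ∈ P, ∀ v ∈ P, u * v * u⁻¹ * v⁻¹ ∈ Z
  cen : ∀ z ∈ Z, ∀ u ∈ P, z * u = u * z

variable {P Z : Subgroup H}

/-- The commutator as an element of `Z`. -/
def com (hc : Central P Z) (u p : P) : Z :=
  ⟨(u : H) * p * (u : H)⁻¹ * (p : H)⁻¹, hc.comm u u.2 p p.2⟩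

theorem com_mul_right (hc : Central P Z) (u p q : P) : com hc u (p * q) = com hc u p * com hc u q :=
  Subtype.ext (by
    simp only [com, Subgroup.coe_mul]
    have h1 : (u : H) * (p * q) * (u : H)⁻¹ * ((p : H) * q)⁻¹ =
        (u * p * (u : H)⁻¹ * (p : H)⁻¹) * (p * (u * q * (u : H)⁻¹ * (q : H)⁻¹) * (p : H)⁻¹) := by
      group
    rw [h1, ← hc.cen _ (hc.comm u u.2 q q.2) p p.2, mul_inv_cancel_right])

theorem com_swap (hc : Central P Z) (u p : P) : com hc u p * com hc p u = 1 :=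
  Subtype.ext (by simp [com, mul_assoc])

theorem com_self (hc : Central P Z) (u : P) : com hc u u = 1 := Subtype.ext (by simp [com])

theorem com_one_right (hc : Central P Z) (u : P) : com hc u 1 = 1 := Subtype.ext (by simp [com])

/-- The pairing `λ [u, p]`. -/
def pair (hc : Central P Z) (lam : Z →* k) (u p : P) : k := lam (com hc u p)

theorem pair_mul_right (hc : Central P Z) (lam : Z →* k) (u p q : P) :
    pair hc lam u (p * q) = pair hc lam u p * pair hc lam u q := by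
  rw [pair, com_mul_right, map_mul]; rfl

theorem pair_swap (hc : Central P Z) (lam : Z →* k) (u p : P) :
    pair hc lam u p * pair hc lam p u = 1 := by
  rw [pair, pair, ← map_mul, com_swap, map_one]

theorem pair_mul_left (hc : Central P Z) (lam : Z →* k) (u v p : P) :
    pair hc lam (u * v) p = pair hc lam u p * pair hc lam v p := by
  have h := pair_swap hc lam (u * v) p
  rw [pair_mul_right] at h
  have h1 := pair_swap hc lam u p
  have h2 := pair_swap hc lam v p
  calc pair hc lam (u * v) p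
      = pair hc lam (u * v) p *
          ((pair hc lam u p * pair hc lam p u) * (pair hc lam v p * pair hc lam p v)) := by
        rw [h1, h2, mul_one, mul_one]
    _ = (pair hc lam (u * v) p * (pair hc lam p u * pair hc lam p v)) *
          (pair hc lam u p * pair hc lam v p) := by ring
    _ = _ := by rw [h, one_mul]

/-- The radical of the pairing. -/
def radP (hc : Central P Z) (lam : Z →* k) : Subgroup P where
  carrier := {p | ∀ u, pair hc lam u p = 1}
  one_mem' u := by rw [pair, com_one_right, map_one]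
  mul_mem' {p q} hp hq u := by rw [pair_mul_right, hp, hq, one_mul]
  inv_mem' {p} hp u := by
    have h := pair_mul_right hc lam u p p⁻¹
    rw [mul_inv_cancel, hp, one_mul, pair, com_one_right, map_one] at h
    exact h.symm

theorem mem_radP {hc : Central P Z} {lam : Z →* k} {p : P} :
    p ∈ radP hc lam ↔ ∀ u, pair hc lam u p = 1 := Iff.rfl

theorem mem_radP_of_mem (hc : Central P Z) (lam : Z →* k) {p : P} (hp : (p : H) ∈ Z) :
    p ∈ radP hc lam := fun u => by
  rw [pair, show com hc u p = 1 from Subtype.ext (by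
    simp only [com, OneMemClass.coe_one]
    rw [← hc.cen _ hp u u.2]; group), map_one]

theorem radP_normal (hc : Central P Z) (lam : Z →* k) : (radP hc lam).Normal := ⟨fun r hr p => by
  have h : p * r * p⁻¹ = (p * r * p⁻¹ * r⁻¹) * r := by group
  rw [h]
  exact (radP hc lam).mul_mem (mem_radP_of_mem hc lam (hc.comm p p.2 r r.2)) hr⟩

end Radical

section Main

variable {H : Type*} [Group H] [Finite H] {k : Type*} [Field k] [IsAlgClosed k]
variable {M : Type*} [AddCommGroup M] [Module k M] [FiniteDimensional k M]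

theorem cast_card_ne_zero {G : Type*} [Group G] [Finite G] {q : ℕ} [Fact q.Prime]
    (hG : IsPGroup q G) (hqk : (q : k) ≠ 0) : (Nat.card G : k) ≠ 0 := by
  obtain ⟨n, hn⟩ := IsPGroup.iff_card.mp hG
  rw [hn, Nat.cast_pow]
  exact pow_ne_zero _ hqk

theorem cast_ne_zero_of_odd [CharP k 2] {n : ℕ} (h : Odd n) : (n : k) ≠ 0 := by
  obtain ⟨d, rfl⟩ := h
  rw [Nat.cast_add, Nat.cast_mul, Nat.cast_ofNat, CharTwo.two_eq_zero, zero_mul, zero_add,
    Nat.cast_one]
  exact one_ne_zero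

/-- The weight of the center is fixed by the involutory power. -/
theorem weight_fixed (ρ : H →* Module.End k M) (s : Module.End k M) (e : ℕ) (Z : Subgroup H)
    {q : ℕ} [Fact q.Prime] (hqk : (q : k) ≠ 0) (hZ : IsPGroup q Z) (βZ : MulAut Z)
    (hβZe : βZ ^ 2 ^ e = 1) (hsZ : ∀ z : Z, s * ρ (z : H) = ρ ((βZ z : Z) : H) * s)
    (hsum : ∑ i ∈ Finset.range (2 ^ e), s ^ i = 0) (lam : Z →* k) (w : M) (hw0 : w ≠ 0)
    (hw : ∀ z : Z, ρ (z : H) w = lam z • w) :
    ∀ z, lam ((βZ ^ 2 ^ (e - 1)) z) = lam z := by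
  obtain ⟨f, hf, hlam, -⟩ := exists_stabilizer (ρ.comp Z.subtype) (cast_card_ne_zero hZ hqk) s βZ
    hsZ e hβZe hsum hw0 hw
  intro z
  rw [show 2 ^ (e - 1) = 2 ^ f * 2 ^ (e - 1 - f) by rw [← pow_add]; congr 1; omega, pow_mul]
  exact OddPower.char_pow_apply hlam _ z

theorem plane_general (ρ : H →* Module.End k M) (s : Module.End k M) (e : ℕ) (P Z : Subgroup H)
    (hc : Central P Z) {q : ℕ} [Fact q.Prime] (hq : q ≠ 2) (hqk : (q : k) ≠ 0)
    (hP : IsPGroup q P) (β : MulAut P) (βZ : MulAut Z)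
    (hres : ∀ z : Z, ((β ⟨z, hc.le z.2⟩ : P) : H) = ((βZ z : Z) : H))
    (hβe : β ^ 2 ^ e = 1) (hsP : ∀ p : P, s * ρ (p : H) = ρ ((β p : P) : H) * s)
    (hsum : ∑ i ∈ Finset.range (2 ^ e), s ^ i = 0) (lam : Z →* k) (w : M) (hw0 : w ≠ 0)
    (hw : ∀ z : Z, ρ (z : H) w = lam z • w) :
    (∀ p, (β ^ 2 ^ (e - 1)) p * p⁻¹ ∈ radP hc lam) ∨
      (2 ≤ e ∧ (∀ z, lam ((βZ ^ 2 ^ (e - 2)) z) = lam z) ∧
        ∃ A : Subgroup P, radP hc lam ≤ A ∧ (radP hc lam).relIndex A = q ^ 2 ∧
          (∀ p, (β ^ 2 ^ (e - 2)) p * p⁻¹ ∈ A) ∧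
          (∀ a ∈ A, (β ^ 2 ^ (e - 1)) a * a ∈ radP hc lam) ∧
          ∃ c, 2 ≤ c ∧ c ≤ e ∧ q + 1 = 2 ^ c ∧ (∀ z, lam ((βZ ^ 2 ^ (e - c)) z) = lam z) ∧
            (∀ p, (β ^ 2 ^ (e - c)) p * p⁻¹ ∈ A) ∧
            ∃ W : Submodule k M, q ≤ finrank k W ∧
              (c < e → ∀ v ∈ W, ∀ a : k, s v = a • v → v = 0)) := by
  classical
  have hqodd : Odd q := (Fact.out : q.Prime).odd_of_ne_two hq
  have hoddP : Odd (Nat.card P) := by
    obtain ⟨n, hn⟩ := IsPGroup.iff_card.mp hP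
    rw [hn]; exact hqodd.pow
  have hodd : ∀ K : Subgroup P, Odd (Nat.card K) := fun K =>
    hoddP.of_dvd_nat (Subgroup.card_subgroup_dvd_card K)
  have hoddZ : Odd (Nat.card Z) := hoddP.of_dvd_nat (Subgroup.card_dvd_of_le hc.le)
  haveI hRn := radP_normal hc lam
  set R := radP hc lam with hR
  -- the weight of `Z`
  set ρZ : Z →* Module.End k M := ρ.comp Z.subtype with hρZ
  set ρP : P →* Module.End k M := ρ.comp P.subtype with hρP
  have hresp : ∀ (i : ℕ) (z : Z),
      (((β ^ i) ⟨z, hc.le z.2⟩ : P) : H) = (((βZ ^ i) z : Z) : H) := by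
    intro i
    induction i with
    | zero => intro z; rfl
    | succ i ih =>
      intro z
      rw [pow_succ, pow_succ, MulAut.mul_apply, MulAut.mul_apply,
        show β ⟨z, hc.le z.2⟩ = ⟨βZ z, hc.le (βZ z).2⟩ from Subtype.ext (hres z)]
      exact ih (βZ z)
  have hsZ : ∀ z, s * ρZ z = ρZ (βZ z) * s := fun z => by
    have h := hsP ⟨z, hc.le z.2⟩
    rw [hres] at h
    exact h
  have hβZe : βZ ^ 2 ^ e = 1 := MulEquiv.ext fun z => Subtype.ext (by
    rw [← hresp, hβe]; rfl)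
  have hcardZ : (Nat.card Z : k) ≠ 0 := cast_card_ne_zero (hP.to_le hc.le) hqk
  obtain ⟨f₁, hf₁, hlam₁, hsum₁, hmov₁⟩ := exists_stabilizer ρZ hcardZ s βZ hsZ e
    hβZe hsum hw0 hw
  have hlamm : ∀ (l : ℕ) z, lam ((βZ ^ (2 ^ f₁ * l)) z) = lam z := fun l z => by
    rw [pow_mul]; exact OddPower.char_pow_apply hlam₁ l z
  have hpairβ : ∀ (l : ℕ) (u p : P), pair hc lam ((β ^ (2 ^ f₁ * l)) u) ((β ^ (2 ^ f₁ * l)) p) =
      pair hc lam u p := by
    intro l u p
    rw [pair, pair, ← hlamm l (com hc u p)]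
    refine congrArg lam (Subtype.ext ?_)
    rw [← hresp, show (⟨(com hc u p : H), hc.le (com hc u p).2⟩ : P) = u * p * u⁻¹ * p⁻¹ from
      Subtype.ext rfl, map_mul, map_mul, map_mul, map_inv, map_inv]
    rfl
  set W := OddPower.eigSub ρZ lam with hWdef
  have hwW : w ∈ W := OddPower.mem_eigSub.mpr hw
  haveI : Nontrivial W := ⟨⟨⟨w, hwW⟩, 0, fun h => hw0 (congrArg Subtype.val h)⟩⟩
  have hWP : ∀ p : P, ∀ v ∈ W, ρP p v ∈ W := by
    intro p v hv
    rw [hWdef, OddPower.mem_eigSub] at hv ⊢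
    intro z
    change ρ (z : H) (ρ (p : H) v) = lam z • ρ (p : H) v
    rw [← Module.End.mul_apply, ← map_mul, hc.cen z z.2 p p.2, map_mul, Module.End.mul_apply,
      ← map_smul]
    exact congrArg (ρ (p : H)) (hv z)
  set ρW : P →* Module.End k W := OddPower.resRep ρP W hWP with hρW
  have hscal : ∀ p : P, ∀ hp : (p : H) ∈ Z, ρW p = lam ⟨p, hp⟩ • (1 : Module.End k W) :=
    fun p hp => LinearMap.ext fun v => Subtype.ext (OddPower.mem_eigSub.mp v.2 ⟨p, hp⟩)
  have hswap : ∀ u p : P, ρW u * ρW p = pair hc lam u p • (ρW p * ρW u) := fun u p => by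
    have h : u * p = (⟨(u : H) * p * (u : H)⁻¹ * (p : H)⁻¹, hc.le (hc.comm u u.2 p p.2)⟩ : P) *
        (p * u) := Subtype.ext (by simp [mul_assoc])
    rw [← map_mul, h, map_mul ρW, hscal _ (hc.comm u u.2 p p.2), smul_mul_assoc, one_mul, map_mul]
    rfl
  have hWs : ∀ v ∈ W, (s ^ 2 ^ f₁) v ∈ W := by
    intro v hv
    rw [hWdef, OddPower.mem_eigSub] at hv ⊢
    intro z
    have h := EigenChar.pow_apply_eigen ρZ s βZ hsZ hv (2 ^ f₁) z
    rw [h]
    congr 1
    conv_rhs => rw [← MulEquiv.apply_symm_apply (βZ ^ 2 ^ f₁) z, hlam₁]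
  set s₁ : Module.End k W := (s ^ 2 ^ f₁).restrict hWs with hs₁def
  have hs₁ : ∀ p : P, s₁ * ρW p = ρW ((β ^ 2 ^ f₁) p) * s₁ := fun p =>
    LinearMap.ext fun v => Subtype.ext (by
      exact LinearMap.congr_fun (OddPower.pow_semiconj (ρ := ρP) hsP (2 ^ f₁) p) (v : M))
  have hsum₁' : ∑ i ∈ Finset.range (2 ^ (e - f₁)), s₁ ^ i = 0 :=
    LinearMap.ext fun v => Subtype.ext (by
      have h := hsum₁ (v : M) (OddPower.mem_eigSub.mp v.2)
      rw [LinearMap.sum_apply, AddSubmonoidClass.coe_finsetSum, LinearMap.zero_apply,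
        ZeroMemClass.coe_zero, ← h]
      refine Finset.sum_congr rfl fun i _ => ?_
      rw [hs₁def, Module.End.pow_restrict]
      rfl)
  -- the weight of the radical
  have hR₁ : ∀ r ∈ R, (β ^ 2 ^ f₁) r ∈ R := fun r hr u => by
    obtain ⟨u', rfl⟩ := (β ^ 2 ^ f₁).surjective u
    have h := hpairβ 1 u' r
    rw [mul_one] at h
    rw [h]; exact hr u'
  set βR : MulAut R := OddPower.subAut (β ^ 2 ^ f₁) R hR₁ with hβR
  have hβRp : ∀ (i : ℕ) (r : R), (((βR ^ i) r : R) : P) = (β ^ (2 ^ f₁ * i)) r := fun i r => by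
    rw [hβR, OddPower.coe_subAut_pow, ← pow_mul]
  set ρR : R →* Module.End k W := ρW.comp R.subtype with hρR
  have hRcomm : ∀ a b : R, Commute (ρR a) (ρR b) := fun a b => by
    have h : pair hc lam (a : P) (b : P) = 1 := b.2 _
    change ρW (a : P) * ρW (b : P) = ρW (b : P) * ρW (a : P)
    rw [hswap, h, one_smul]
  obtain ⟨v₀, μ, -, hv₀, hμ⟩ := EigenChar.exists_common_eigenvector ρR hRcomm ⊤ top_ne_bot
    fun _ _ _ => Submodule.mem_top
  have hβRe : βR ^ 2 ^ (e - f₁) = 1 := MulEquiv.ext fun r => Subtype.ext (by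
    rw [hβRp, ← pow_add, Nat.add_sub_cancel' hf₁.le, hβe]; rfl)
  have hsR : ∀ r, s₁ * ρR r = ρR (βR r) * s₁ := fun r => by
    have h := hβRp 1 r
    rw [pow_one, mul_one] at h
    simp only [hρR, MonoidHom.comp_apply, Subgroup.coe_subtype, h]
    exact hs₁ r
  obtain ⟨f₂, hf₂, hμ₂, hsum₂, hmov₂⟩ := exists_stabilizer ρR
    (cast_card_ne_zero (hP.to_subgroup R) hqk) s₁ βR hsR (e - f₁) hβRe hsum₁' hv₀ hμ
  obtain ⟨c, hc'⟩ : ∃ c, e = f₁ + f₂ + (c + 1) := ⟨e - f₁ - f₂ - 1, by omega⟩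
  set β₂ := β ^ (2 ^ f₁ * 2 ^ f₂) with hβ₂
  have hβ₂p : ∀ i, β₂ ^ i = β ^ (2 ^ f₁ * (2 ^ f₂ * i)) := fun i => by
    rw [hβ₂, ← pow_mul, mul_assoc]
  have he1 : 2 ^ (e - 1) = 2 ^ f₁ * 2 ^ f₂ * 2 ^ c := by
    rw [← pow_add, ← pow_add]; congr 1; omega
  set T := β ^ 2 ^ (e - 1) with hTdef
  have hTβ₂ : T = β₂ ^ 2 ^ c := by rw [hTdef, hβ₂, ← pow_mul, he1]
  have hβ₂P : β₂ ^ 2 ^ (c + 1) = 1 := by
    rw [hβ₂, ← pow_mul, ← pow_add, ← pow_add, ← hc', hβe]
  have hRβ₂ : ∀ r ∈ R, β₂ r ∈ R := fun r hr => by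
    rw [hβ₂, pow_mul]; exact OddPower.pow_invariant _ hR₁ _ r hr
  have hRT : ∀ r ∈ R, T r ∈ R := fun r hr => by
    rw [hTβ₂]; exact OddPower.pow_invariant _ hRβ₂ _ r hr
  by_cases hfix : ∀ p, T p * p⁻¹ ∈ R
  · exact Or.inl hfix
  refine Or.inr ?_
  set π := QuotientGroup.mk' R with hπ
  have hπ1 : ∀ p, π p = 1 ↔ p ∈ R := fun p => QuotientGroup.eq_one_iff p
  have hπcomm : ∀ p p' : P, Commute (π p) (π p') := fun p p' => by
    change π p * π p' = π p' * π p
    rw [← map_mul, ← map_mul, hπ, QuotientGroup.mk'_apply, QuotientGroup.mk'_apply,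
      QuotientGroup.eq]
    refine mem_radP_of_mem hc lam ?_
    have h : ((p * p')⁻¹ * (p' * p) : P) = (p'⁻¹ * p⁻¹ * p'⁻¹⁻¹ * p⁻¹⁻¹ : P) := by group
    rw [h]
    exact hc.comm _ (P.inv_mem p'.2) _ (P.inv_mem p.2)
  have hπT : ∀ p p', π p = π p' → π (T p) = π (T p') := fun p p' h =>
    QuotientGroup.eq.mpr (by rw [← map_inv, ← map_mul]; exact hRT _ (QuotientGroup.eq.mp h))
  have hπβ : ∀ p p', π p = π p' → π (β₂ p) = π (β₂ p') := fun p p' h =>
    QuotientGroup.eq.mpr (by rw [← map_inv, ← map_mul]; exact hRβ₂ _ (QuotientGroup.eq.mp h))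
  have hTT : ∀ p, T (T p) = p := fun p => by
    rw [← MulAut.mul_apply, hTdef, ← pow_add, ← Nat.two_mul, ← pow_succ',
      show e - 1 + 1 = e by omega, hβe]
    rfl
  let A : Subgroup P :=
    { carrier := {p | π (T p) * π p = 1}
      one_mem' := by simp
      mul_mem' := fun {p p'} (hp : _ = 1) (hp' : _ = 1) => by
        change π (T (p * p')) * π (p * p') = 1
        rw [map_mul T, map_mul, map_mul, (hπcomm (T p') p).mul_mul_mul_comm, hp, hp', mul_one]
      inv_mem' := fun {p} (hp : _ = 1) => by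
        change π (T p⁻¹) * π p⁻¹ = 1
        rw [map_inv T, map_inv, map_inv, ← mul_inv_rev, ← (hπcomm (T p) p).eq, hp, inv_one] }
  let B : Subgroup P :=
    { carrier := {p | π (T p) = π p}
      one_mem' := by simp
      mul_mem' := fun {p p'} (hp : _ = _) (hp' : _ = _) => by
        change π (T (p * p')) = π (p * p')
        rw [map_mul T, map_mul, hp, hp', ← map_mul]
      inv_mem' := fun {p} (hp : _ = _) => by
        change π (T p⁻¹) = π p⁻¹
        rw [map_inv T, map_inv, hp, ← map_inv] }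
  have hRA : R ≤ A := fun r hr => by
    change π (T r) * π r = 1
    rw [(hπ1 _).mpr (hRT r hr), (hπ1 r).mpr hr, one_mul]
  obtain ⟨n, hn⟩ : ∃ n, n + n = Nat.card P + 1 := by
    obtain ⟨d, hd⟩ := hoddP
    exact ⟨d + 1, by omega⟩
  have hhalf : ∀ p : P, (p ^ n) ^ 2 = p := fun p => by
    rw [← pow_mul, show n * 2 = Nat.card P + 1 by omega, pow_succ, pow_card_eq_one', one_mul]
  have hdecomp : ∀ p, ∃ a ∈ A, ∃ b ∈ B, π p = π a * π b := by
    intro p
    refine ⟨(p * (T p)⁻¹) ^ n, A.pow_mem ?_ n, (p * T p) ^ n, B.pow_mem ?_ n, ?_⟩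
    · change π (T (p * (T p)⁻¹)) * π (p * (T p)⁻¹) = 1
      rw [map_mul T, map_inv T, hTT, ← map_mul,
        show T p * p⁻¹ * (p * (T p)⁻¹) = 1 by group, map_one]
    · change π (T (p * T p)) = π (p * T p)
      rw [map_mul T, hTT, map_mul, map_mul, hπcomm]
    · rw [map_pow, map_pow, ← (hπcomm _ _).mul_pow, map_mul, map_mul, map_inv,
        (hπcomm p (T p)).eq, mul_assoc, inv_mul_cancel_left]
      rw [← pow_two, ← pow_mul, Nat.mul_comm, pow_mul, ← map_pow, ← map_pow]
      rw [hhalf]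
  have hpairπ : ∀ u p p' : P, π p = π p' → pair hc lam u p = pair hc lam u p' := fun u p p' h => by
    have h' : p⁻¹ * p' ∈ R := QuotientGroup.eq.mp h
    rw [← mul_inv_cancel_left p p', pair_mul_right, h' u, mul_one]
  have hpairinv : ∀ u p : P, pair hc lam u p * pair hc lam u p⁻¹ = 1 := fun u p => by
    rw [← pair_mul_right, mul_inv_cancel, pair, com_one_right, map_one]
  have hTpair : ∀ u p, pair hc lam (T u) (T p) = pair hc lam u p := fun u p => by
    rw [hTdef, he1, mul_assoc]; exact hpairβ _ u p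
  have horth : ∀ a ∈ A, ∀ b ∈ B, pair hc lam b a = 1 ∧ pair hc lam a b = 1 := by
    intro a ha b hb
    have h1 : pair hc lam b a * pair hc lam b a = 1 := by
      have h2 : π (T a) = π a⁻¹ := by
        rw [map_inv]; exact mul_eq_one_iff_eq_inv.mp ha
      calc pair hc lam b a * pair hc lam b a = pair hc lam (T b) (T a) * pair hc lam b a := by
            rw [hTpair]
        _ = pair hc lam b a⁻¹ * pair hc lam b a := by
            rw [hpairπ _ _ _ h2]
            have h3 := pair_swap hc lam (T b) a⁻¹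
            have h4 := pair_swap hc lam b a⁻¹
            rw [hpairπ a⁻¹ (T b) b hb] at h3
            rw [mul_right_cancel₀ (right_ne_zero_of_mul_eq_one h4) (h3.trans h4.symm)]
        _ = 1 := by rw [mul_comm, hpairinv]
    have h5 : pair hc lam b a ^ Nat.card Z = 1 := by
      rw [pair, ← map_pow, pow_card_eq_one', map_one]
    have h6 : pair hc lam b a = 1 := by
      obtain ⟨d, hd⟩ := hoddZ
      rwa [hd, pow_succ, pow_mul, pow_two, h1, one_pow, one_mul] at h5
    exact ⟨h6, by rw [← pair_swap hc lam b a, h6, one_mul]⟩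
  -- the configuration on `A`
  have hAβ₂ : ∀ a ∈ A, β₂ a ∈ A := fun a ha => by
    change π (T (β₂ a)) * π (β₂ a) = 1
    have hcom : T (β₂ a) = β₂ (T a) := by
      rw [hTβ₂, ← MulAut.mul_apply, ← MulAut.mul_apply, ← pow_succ, ← pow_succ']
    rw [hcom, ← map_mul, ← map_mul, hπ1]
    exact hRβ₂ _ ((hπ1 _).mp (by rw [map_mul]; exact ha))
  haveI hRAn : (R.subgroupOf A).Normal := hRn.subgroupOf A
  set βA : MulAut A := OddPower.subAut β₂ A hAβ₂ with hβA
  have hβAp : ∀ (i : ℕ) (a : A), (((βA ^ i) a : A) : P) = (β₂ ^ i) a := fun i a => by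
    rw [hβA, OddPower.coe_subAut_pow]
  have hsqR : ∀ p : P, p * p ∈ R → p ∈ R := fun p hp => by
    rw [← hhalf p, ← pow_mul, Nat.mul_comm, pow_mul, pow_two]
    exact R.pow_mem hp n
  obtain ⟨a₁, ha₁, ha₁R⟩ : ∃ a ∈ A, a ∉ R := by
    by_contra hne
    push_neg at hne
    refine hfix fun p => ?_
    obtain ⟨a, ha, b, hb, hab⟩ := hdecomp p
    have h1 : π p = π b := by rw [hab, (hπ1 a).mpr (hne a ha), one_mul]
    rw [← hπ1, map_mul, map_inv, hπT p b h1, hb, h1, mul_inv_cancel]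
  set ι : R.subgroupOf A →* R := (Subgroup.subgroupOfEquivOfLe hRA).toMonoidHom with hι
  have hιv : ∀ r, ((ι r : R) : P) = ((r : A) : P) := fun r => rfl
  set μ' : R.subgroupOf A →* k := μ.comp ι with hμ'
  set W' := OddPower.eigSub ρR μ with hW'def
  haveI : Nontrivial W' :=
    ⟨⟨⟨v₀, OddPower.mem_eigSub.mpr hμ⟩, 0, fun h => hv₀ (congrArg Subtype.val h)⟩⟩
  have hμlam : ∀ z : P, ∀ hz : (z : H) ∈ Z,
      μ ⟨z, mem_radP_of_mem hc lam hz⟩ = lam ⟨z, hz⟩ := fun z hz => by
    refine smul_left_injective k hv₀ ?_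
    change μ ⟨z, _⟩ • v₀ = lam ⟨z, hz⟩ • v₀
    rw [← hμ ⟨z, mem_radP_of_mem hc lam hz⟩]
    exact LinearMap.congr_fun (hscal z hz) v₀
  have hAcomm : ∀ u a : A, u * a * u⁻¹ * a⁻¹ ∈ R.subgroupOf A := fun u a =>
    mem_radP_of_mem hc lam (hc.comm _ (u : P).2 _ (a : P).2)
  have hμcom : ∀ u a : A, μ' (Extraspecial.comEl hAcomm u a) = pair hc lam (u : P) (a : P) :=
    fun u a => hμlam ⟨_, hc.le (hc.comm _ (u : P).2 _ (a : P).2)⟩ (hc.comm _ (u : P).2 _ (a : P).2)
  have hP2 : 0 < 2 ^ (c + 1) := Nat.two_pow_pos _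
  have S : Extraspecial.Setup (R.subgroupOf A) βA μ' (2 ^ (c + 1)) :=
    { comm := hAcomm
      nondeg := fun a ha => by
        have hex : ∃ u, pair hc lam u (a : P) ≠ 1 := by
          by_contra h
          push_neg at h
          exact ha h
        obtain ⟨u, hu⟩ := hex
        obtain ⟨a', ha', b, hb, hab⟩ := hdecomp u
        refine ⟨⟨a', ha'⟩, fun h => hu ?_⟩
        rw [hμcom] at h
        change pair hc lam a' (a : P) = 1 at h
        have h2 : pair hc lam u (a : P) = pair hc lam (a' * b) (a : P) := by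
          have h3 := pair_swap hc lam u (a : P)
          have h4 := pair_swap hc lam (a' * b) (a : P)
          rw [hpairπ (a : P) u (a' * b) (hab.trans (map_mul π _ _).symm)] at h3
          exact mul_right_cancel₀ (right_ne_zero_of_mul_eq_one h4) (h3.trans h4.symm)
        rw [h2, pair_mul_left, h, (horth a a.2 b hb).1, one_mul]
      ne_top := fun h => ha₁R (by
        have : (⟨a₁, ha₁⟩ : A) ∈ R.subgroupOf A := h ▸ Subgroup.mem_top _
        exact this)
      inv := fun r hr => hRβ₂ _ hr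
      fix := fun r => by
        have h := hμ₂ (ι r)
        refine Eq.trans ?_ h
        refine congrArg μ (Subtype.ext ?_)
        rw [hβRp]
        exact hβAp 1 r |>.trans (by rw [pow_one, hβ₂]; rfl)
      pow := MulEquiv.ext fun a => Subtype.ext (by rw [hβAp, hβ₂P]; rfl)
      semireg := fun i hi hiP a ha => by
        obtain ⟨l, hl⟩ := Arith.exists_mul_mod_eq Nat.prime_two hi hiP
        rw [Nat.add_sub_cancel] at hl
        have h1 : (a : P)⁻¹ * (β₂ ^ i) (a : P) ∈ R := by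
          rw [← hβAp]; exact ha
        have h2 := OddPower.pow_inv_mul_mem (β₂ ^ i)
          (OddPower.pow_invariant _ hRβ₂ i) h1 l
        have h3 : (β₂ ^ i) ^ l = T := by
          rw [← pow_mul, ← Nat.mod_add_div (i * l) (2 ^ (c + 1)), hl, pow_add, pow_mul β₂ (2 ^ (c + 1)),
            hβ₂P, one_pow, mul_one, hTβ₂]
        rw [h3] at h2
        have h4 : π (T a) = π (a : P) := (QuotientGroup.eq.mpr h2).symm
        have h5 : π (T a) * π (a : P) = 1 := a.2
        rw [h4, ← map_mul, hπ1] at h5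
        exact hsqR _ h5
      cast_card := cast_card_ne_zero (hP.to_subgroup A) hqk }
  have hW'A : ∀ a : A, ∀ v ∈ W', ρW (a : P) v ∈ W' := by
    intro a v hv
    rw [hW'def, OddPower.mem_eigSub] at hv ⊢
    intro r
    have h : ρW (r : P) * ρW (a : P) = ρW (a : P) * ρW (r : P) := by
      have := pair_swap hc lam (r : P) (a : P)
      rw [show pair hc lam (a : P) (r : P) = 1 from r.2 _, mul_one] at this
      rw [hswap, this, one_smul]
    change ρW (r : P) (ρW (a : P) v) = μ r • ρW (a : P) v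
    rw [← Module.End.mul_apply, h, Module.End.mul_apply, ← map_smul]
    exact congrArg (ρW (a : P)) (hv r)
  have hW'P : ∀ p : P, ∀ v ∈ W', ρW p v ∈ W' := by
    intro p v hv
    rw [hW'def, OddPower.mem_eigSub] at hv ⊢
    intro r
    have h : ρW (r : P) * ρW p = ρW p * ρW (r : P) := by
      have := pair_swap hc lam (r : P) p
      rw [show pair hc lam p (r : P) = 1 from r.2 _, mul_one] at this
      rw [hswap, this, one_smul]
    change ρW (r : P) (ρW p v) = μ r • ρW p v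
    rw [← Module.End.mul_apply, h, Module.End.mul_apply, ← map_smul]
    exact congrArg (ρW p) (hv r)
  have hW's : ∀ v ∈ W', (s₁ ^ 2 ^ f₂) v ∈ W' := by
    intro v hv
    rw [hW'def, OddPower.mem_eigSub] at hv ⊢
    intro r
    rw [EigenChar.pow_apply_eigen ρR s₁ βR hsR hv (2 ^ f₂) r]
    congr 1
    conv_rhs => rw [← MulEquiv.apply_symm_apply (βR ^ 2 ^ f₂) r, hμ₂]
  set ρ' : P →* Module.End k W' := OddPower.resRep ρW W' hW'P with hρ'
  set ρA : A →* Module.End k W' := ρ'.comp A.subtype with hρA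
  set s' : Module.End k W' := (s₁ ^ 2 ^ f₂).restrict hW's with hs'def
  have hs' : ∀ p : P, s' * ρ' p = ρ' (β₂ p) * s' := fun p =>
    LinearMap.ext fun v => Subtype.ext (by
      have h := LinearMap.congr_fun (OddPower.pow_semiconj hs₁ (2 ^ f₂) p) (v : W)
      rw [← pow_mul] at h
      exact h)
  have hscalA : Extraspecial.IsScalar μ' ρA := fun r =>
    LinearMap.ext fun v => Subtype.ext (OddPower.mem_eigSub.mp v.2 (ι r))
  have hsum' : ∑ i ∈ Finset.range (2 ^ (c + 1)), s' ^ i = 0 :=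
    LinearMap.ext fun v => Subtype.ext (by
      have h := hsum₂ (v : W) (OddPower.mem_eigSub.mp v.2)
      rw [show e - f₁ - f₂ = c + 1 by omega] at h
      rw [LinearMap.sum_apply, AddSubmonoidClass.coe_finsetSum, LinearMap.zero_apply,
        ZeroMemClass.coe_zero, ← h]
      refine Finset.sum_congr rfl fun i _ => ?_
      rw [hs'def, Module.End.pow_restrict]
      rfl)
  obtain ⟨⟨N, hN, hNP, hN2, hNW⟩, X, hX0, hXs, hXb⟩ := PlaneCount.plane' S (c + 1) rfl hscalA s'
    (fun a => by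
      have h := hs' (a : P)
      rwa [show ((β₂ (a : P)) : P) = ((βA a : A) : P) from rfl] at h) hsum'
  -- the number of classes
  have hc1 : 1 ≤ c := by
    by_contra h
    have : c = 0 := by omega
    subst this
    norm_num at hNP
    omega
  have hNq : N = q := by
    obtain ⟨d, hd⟩ := IsPGroup.iff_card.mp (((hP.to_subgroup A).to_quotient (R.subgroupOf A)))
    have hdvd : N ∣ q ^ d := ⟨N, by rw [← hd, hN]⟩
    obtain ⟨m, -, hm⟩ := (Nat.dvd_prime_pow (Fact.out : q.Prime)).mp hdvd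
    have hm0 : 0 < m := by
      rcases Nat.eq_zero_or_pos m with h | h
      · rw [h, pow_zero] at hm; omega
      · exact h
    rw [hm, Nilpotent.eq_one_of_pow_add_one hqodd (Fact.out : q.Prime).one_lt hm0
      (a := c + 1) (by rw [← hm, hNP]), pow_one]
  have hcR : R.relIndex A = q ^ 2 := by
    rw [Subgroup.relIndex, Subgroup.index, hN, hNq, pow_two]
  -- `β₂` is trivial on `B` modulo `R`
  have hs'inj : Function.Injective s' := fun a b hab => by
    have hsP : s' ^ 2 ^ (c + 1) = 1 := by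
      have h := mul_geom_sum s' (2 ^ (c + 1))
      rw [hsum', mul_zero] at h
      exact sub_eq_zero.mp h.symm
    have h := congrArg (fun v => (s' ^ (2 ^ (c + 1) - 1) : Module.End k W') v) hab
    simpa only [← Module.End.mul_apply, ← pow_succ, Nat.sub_add_cancel hP2, hsP,
      Module.End.one_apply] using h
  have hBβ₂ : ∀ b ∈ B, β₂ b ∈ B := fun b hb => by
    change π (T (β₂ b)) = π (β₂ b)
    have hcom : T (β₂ b) = β₂ (T b) := by
      rw [hTβ₂, ← MulAut.mul_apply, ← MulAut.mul_apply, ← pow_succ, ← pow_succ']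
    rw [hcom]
    exact hπβ _ _ hb
  have hcommB : ∀ b ∈ B, ∀ a : A, ρ' b * ρA a = ρA a * ρ' b := fun b hb a =>
    LinearMap.ext fun v => Subtype.ext (by
      have h := LinearMap.congr_fun (hswap b (a : P)) (v : W)
      rw [(horth _ a.2 b hb).1, one_smul] at h
      exact h)
  have hzfix : ∀ b ∈ B, ∀ v ∈ X, ρ' (b⁻¹ * β₂ b) v = v := by
    intro b hb v hv
    have hsurj : Function.Surjective (s'.restrict hXs : Module.End k X) :=
      LinearMap.injective_iff_surjective.mp (fun (a a' : X) h =>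
        Subtype.ext (hs'inj (show s' (a : W') = s' (a' : W') from congrArg Subtype.val h)))
    obtain ⟨u, hu⟩ := hsurj ⟨v, hv⟩
    have hu' : s' (u : W') = v := congrArg Subtype.val hu
    have h2 := (hXb (ρ' b) (fun a => hcommB b hb a) u u.2).2
    have h3 := LinearMap.congr_fun (hs' b) (u : W')
    rw [Module.End.mul_apply, Module.End.mul_apply, h2, hu'] at h3
    rw [map_mul, Module.End.mul_apply, ← h3, ← Module.End.mul_apply, ← map_mul, inv_mul_cancel,
      map_one, Module.End.one_apply]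
  have hBR : ∀ b ∈ B, π (β₂ b) = π b := by
    intro b hb
    symm
    rw [hπ, QuotientGroup.mk'_apply, QuotientGroup.mk'_apply, QuotientGroup.eq]
    by_contra hz
    have hzB : b⁻¹ * β₂ b ∈ B := B.mul_mem (B.inv_mem hb) (hBβ₂ b hb)
    rw [mem_radP] at hz
    push_neg at hz
    obtain ⟨u, hu⟩ := hz
    obtain ⟨a, ha, b', hb', hab⟩ := hdecomp u
    have hne : pair hc lam b' (b⁻¹ * β₂ b) ≠ 1 := fun h => hu (by
      have h3 := pair_swap hc lam u (b⁻¹ * β₂ b)
      have h4 := pair_swap hc lam (a * b') (b⁻¹ * β₂ b)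
      rw [hpairπ _ u (a * b') (hab.trans (map_mul π _ _).symm)] at h3
      rw [mul_right_cancel₀ (right_ne_zero_of_mul_eq_one h4) (h3.trans h4.symm), pair_mul_left,
        (horth a ha _ hzB).2, h, one_mul])
    obtain ⟨v, hv, hv0⟩ := Submodule.exists_mem_ne_zero_of_ne_bot hX0
    have hv' := (hXb (ρ' b') (fun a => hcommB b' hb' a) v hv).1
    have hsw : ρ' b' (ρ' (b⁻¹ * β₂ b) v) =
        pair hc lam b' (b⁻¹ * β₂ b) • ρ' (b⁻¹ * β₂ b) (ρ' b' v) :=
      Subtype.ext (LinearMap.congr_fun (hswap b' (b⁻¹ * β₂ b)) (v : W))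
    rw [hzfix b hb v hv, hzfix b hb _ hv'] at hsw
    refine hne (smul_left_injective k (fun h0 : ρ' b' v = 0 => hv0 ?_)
      (show pair hc lam b' (b⁻¹ * β₂ b) • ρ' b' v = (1 : k) • ρ' b' v from
        hsw.symm.trans (one_smul k _).symm))
    have h6 := congrArg (ρ' b'⁻¹) h0
    rwa [← Module.End.mul_apply, ← map_mul, inv_mul_cancel, map_one, Module.End.one_apply,
      map_zero] at h6
  have he2 : 2 ^ (e - 2) = 2 ^ f₁ * 2 ^ f₂ * 2 ^ (c - 1) := by
    rw [← pow_add, ← pow_add]; congr 1; omega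
  have hmovA : ∀ (i : ℕ) (p : P), (β₂ ^ i) p * p⁻¹ ∈ A := by
    intro i₀ p
    obtain ⟨a, ha, b, hb, hab⟩ := hdecomp p
    have hpow : ∀ i, π ((β₂ ^ i) p) = π ((β₂ ^ i) a) * π b := by
      intro i
      induction i with
      | zero => simpa using hab
      | succ i ih =>
        rw [pow_succ', MulAut.mul_apply, MulAut.mul_apply,
          hπβ _ _ (ih.trans (map_mul π _ _).symm), map_mul β₂, map_mul, hBR b hb]
    set a' := (β₂ ^ i₀) a with ha'
    have ha'A : a' * a⁻¹ ∈ A :=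
      A.mul_mem (OddPower.pow_invariant _ hAβ₂ _ a ha) (A.inv_mem ha)
    have heq : π ((β₂ ^ i₀) p * p⁻¹) = π (a' * a⁻¹) := by
      rw [map_mul, map_inv, hpow, hab, mul_inv_rev, mul_assoc, mul_inv_cancel_left, map_mul,
        map_inv]
    have h7 := QuotientGroup.eq.mp heq.symm
    have h8 := A.mul_mem ha'A (hRA h7)
    rwa [mul_inv_cancel_left] at h8
  have hec : 2 ^ (e - (c + 1)) = 2 ^ f₁ * 2 ^ f₂ := by rw [← pow_add]; congr 1; omega
  refine ⟨by omega, fun z => ?_, A, hRA, hcR, fun p => ?_, fun a ha => ?_, c + 1, by omega,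
    by omega, ?_, fun z => ?_, fun p => ?_, W'.map W.subtype, ?_, fun hce v hv t ht => ?_⟩
  · rw [he2, mul_assoc]; exact hlamm _ z
  · have hy : β ^ 2 ^ (e - 2) = β₂ ^ 2 ^ (c - 1) := by rw [hβ₂, ← pow_mul, he2]
    rw [hy]; exact hmovA _ p
  · rw [← hπ1, map_mul]; exact ha
  · rw [← hNP, hNq]
  · rw [hec]; exact hlamm _ z
  · rw [hec, ← hβ₂, ← pow_one β₂]; exact hmovA 1 p
  · rw [← (Submodule.equivMapOfInjective _ W.subtype_injective W').finrank_eq, ← hNq]
    exact hNW
  · obtain ⟨v, hv, rfl⟩ := hv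
    rcases Nat.eq_zero_or_pos f₁ with hf | hf
    · have hsv : s₁ v = t • v := Subtype.ext (by
        rw [hs₁def, LinearMap.restrict_apply]
        subst hf
        simpa using ht)
      rw [Submodule.coe_subtype, hmov₂ (by omega) v (OddPower.mem_eigSub.mp hv) t hsv]
      rfl
    · exact hmov₁ hf _ (OddPower.mem_eigSub.mp v.2) t ht

theorem plane_or_fixed [CharP k 2] (ρ : H →* Module.End k M) (x : H) (e : ℕ) (hx : x ^ 2 ^ e = 1)
    (hsum : ∑ i ∈ Finset.range (2 ^ e), ρ x ^ i = 0) (P Z : Subgroup H) (hc : Central P Z)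
    {q : ℕ} [Fact q.Prime] (hq : q ≠ 2) (hP : IsPGroup q P) (β : MulAut P)
    (hβ : ∀ p : P, ((β p : P) : H) = x * p * x⁻¹) (βZ : MulAut Z)
    (hβZ : ∀ z : Z, ((βZ z : Z) : H) = x * z * x⁻¹) (lam : Z →* k) (w : M) (hw0 : w ≠ 0)
    (hw : ∀ z : Z, ρ (z : H) w = lam z • w) :
    (∀ p, (β ^ 2 ^ (e - 1)) p * p⁻¹ ∈ radP hc lam) ∨
      (2 ≤ e ∧ (∀ z, lam ((βZ ^ 2 ^ (e - 2)) z) = lam z) ∧
        ∃ A : Subgroup P, radP hc lam ≤ A ∧ (radP hc lam).relIndex A = q ^ 2 ∧
          (∀ p, (β ^ 2 ^ (e - 2)) p * p⁻¹ ∈ A) ∧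
          ∀ a ∈ A, (β ^ 2 ^ (e - 1)) a * a ∈ radP hc lam) := by
  classical
  have hqk : (q : k) ≠ 0 := cast_ne_zero_of_odd ((Fact.out : q.Prime).odd_of_ne_two hq)
  have hβp : ∀ (i : ℕ) (p : P), (((β ^ i) p : P) : H) = x ^ i * p * (x ^ i)⁻¹ := by
    intro i
    induction i with
    | zero => intro p; simp
    | succ i ih => intro p; rw [pow_succ, MulAut.mul_apply, ih, hβ]; group
  refine (plane_general ρ (ρ x) e P Z hc hq hqk hP β βZ (fun z => ?_) ?_ (fun p => ?_) hsum lam w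
    hw0 hw).imp id fun ⟨h1, h2, A, hA1, hA2, hA3, hA4, _⟩ => ⟨h1, h2, A, hA1, hA2, hA3, hA4⟩
  · rw [hβ, hβZ]
  · exact MulEquiv.ext fun p => Subtype.ext (by rw [hβp, hx]; simp)
  · rw [hβ, ← map_mul, ← map_mul, inv_mul_cancel_right]

end Main

end Cfsg.Agent.Lib.FpfHeight.PlaneTwo
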