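/-
The key step in Gross's bound on the `2`-length: if every `2`-element `x` of a solvable group with
trivial `2`-core satisfies `1 + x + ⋯ + x ^ (2 ^ e - 1) = 0` on a faithful module in characteristic
two, then `x ^ 2 ^ (e - 1)` lies in `O_{2',2}`.
-/
import Mathlib.GroupTheory.Perm.Cycle.Type
import Cfsg.Agent.Lib.PSolvable.PLength
import Cfsg.Agent.Lib.Cores.Basic
import Cfsg.Agent.Lib.OddOrder.BenderLocal
import Cfsg.Agent.Lib.FpfHeight.PlaneTwo
import Cfsg.Agent.Lib.FpfHeight.PlaneSquare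
import Cfsg.Agent.Lib.FpfHeight.ScalarExt

set_option autoImplicit false

namespace Cfsg.Agent.Lib.FpfHeight.PlaneExponent

open Module Cfsg
open scoped commutatorElement

universe u

variable {H : Type u} [Group H] [Finite H] {k : Type*} [Field k] [IsAlgClosed k] [CharP k 2]
variable {M : Type*} [AddCommGroup M] [Module k M] [FiniteDimensional k M]

omit [Finite H] in
theorem eq_one_of_fixed_conj {h x z : H} {n m : ℕ} (hz : h * z * h⁻¹ = z)
    (hx : h * x * h⁻¹ = z * x) (hn : h ^ n = 1) (hm : z ^ m = 1) (hnm : n.Coprime m) : z = 1 := by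
  have hpow : ∀ i : ℕ, h ^ i * x * (h ^ i)⁻¹ = z ^ i * x := by
    intro i
    induction i with
    | zero => simp
    | succ i ih =>
      calc h ^ (i + 1) * x * (h ^ (i + 1))⁻¹ = h * (h ^ i * x * (h ^ i)⁻¹) * h⁻¹ := by
            rw [pow_succ']; group
        _ = h * (z ^ i * x) * h⁻¹ := by rw [ih]
        _ = h * z ^ i * h⁻¹ * (h * x * h⁻¹) := by group
        _ = z ^ i * (z * x) := by rw [← conj_pow, hz, hx]
        _ = z ^ (i + 1) * x := by rw [pow_succ]; exact (mul_assoc _ _ _).symm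
  have h1 := hpow n
  rw [hn] at h1
  have h2 : z ^ n = 1 := by simpa using h1
  have h3 := Nat.dvd_gcd (orderOf_dvd_of_pow_eq_one h2) (orderOf_dvd_of_pow_eq_one hm)
  rw [hnm.gcd_eq_one, Nat.dvd_one] at h3
  exact orderOf_eq_one_iff.mp h3

/-- A power of `x` of order two fixes every odd abelian subgroup invariant under `x`. -/
theorem centralizes_abelian (ρ : H →* Module.End k M) (hρ : Function.Injective ρ) (x : H) (e : ℕ)
    (hx : x ^ 2 ^ e = 1) (he : 1 ≤ e) (hsum : ∑ i ∈ Finset.range (2 ^ e), ρ x ^ i = 0)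
    (A : Subgroup H) (hA : Odd (Nat.card A)) (habel : ∀ a ∈ A, ∀ b ∈ A, a * b = b * a)
    (hxA : ∀ a ∈ A, x * a * x⁻¹ ∈ A) :
    ∀ a ∈ A, x ^ 2 ^ (e - 1) * a = a * x ^ 2 ^ (e - 1) := by
  set t := x ^ 2 ^ (e - 1) with ht
  have htt : t * t = 1 := by
    rw [ht, ← pow_add, ← two_mul, ← pow_succ', show e - 1 + 1 = e by omega, hx]
  have hxi : ∀ (i : ℕ), ∀ a ∈ A, x ^ i * a * (x ^ i)⁻¹ ∈ A := by
    intro i
    induction i with
    | zero => intro a ha; simpa using ha
    | succ i ih =>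
      intro a ha
      rw [show x ^ (i + 1) * a * (x ^ (i + 1))⁻¹ = x * (x ^ i * a * (x ^ i)⁻¹) * x⁻¹ by
        rw [pow_succ']; group]
      exact hxA _ (ih a ha)
  let Qi : Subgroup H :=
    { carrier := {a | a ∈ A ∧ t * a * t⁻¹ = a⁻¹}
      one_mem' := ⟨one_mem _, by simp⟩
      mul_mem' := fun {a b} ha hb => ⟨mul_mem ha.1 hb.1, by
        rw [show t * (a * b) * t⁻¹ = t * a * t⁻¹ * (t * b * t⁻¹) by group, ha.2, hb.2,
          ← mul_inv_rev, habel a ha.1 b hb.1]⟩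
      inv_mem' := fun {a} ha => ⟨inv_mem ha.1, by
        rw [show t * a⁻¹ * t⁻¹ = (t * a * t⁻¹)⁻¹ by group, ha.2]⟩ }
  have hQ : Odd (Nat.card Qi) :=
    hA.of_dvd_nat (Subgroup.card_dvd_of_le (fun a (ha : a ∈ Qi) => ha.1))
  have hcast : (Nat.card Qi : k) ≠ 0 := PlaneTwo.cast_ne_zero_of_odd hQ
  have hkey := Basic.frob_op ρ Qi x (n := 2 ^ e) (Nat.two_pow_pos e) ?_ ?_ 1
    (fun _ _ => Commute.one_left _) (by simpa [map_pow] using hsum)
  · have hone : ∀ a ∈ Qi, a = 1 := fun a ha => by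
      refine hρ ?_
      rw [map_one]
      have h := hkey a ha
      rw [one_mul] at h
      refine LinearMap.ext fun v => ?_
      have h1 := LinearMap.congr_fun h v
      rw [Module.End.mul_apply, LinearMap.sub_apply, Module.End.one_apply, LinearMap.zero_apply,
        Module.End.natCast_apply, ← Nat.cast_smul_eq_nsmul k, smul_eq_zero] at h1
      exact sub_eq_zero.mp (h1.resolve_left hcast)
    intro a ha
    have ht' : t⁻¹ = t := inv_eq_of_mul_eq_one_right htt
    have hmem : t * a * t⁻¹ * a⁻¹ ∈ Qi := by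
      refine ⟨mul_mem (hxi _ a ha) (inv_mem ha), ?_⟩
      rw [show t * (t * a * t⁻¹ * a⁻¹) * t⁻¹ = (t * t) * a * (t⁻¹ * a⁻¹ * t⁻¹) by group, htt,
        one_mul, ht']
      nth_rw 1 [← ht']
      group
      simp [ht']
    exact mul_inv_eq_iff_eq_mul.mp (mul_inv_eq_one.mp (hone _ hmem))
  · rintro a ⟨ha, hta⟩
    refine ⟨hxA a ha, ?_⟩
    have hc : t * x = x * t := by rw [ht, ← pow_succ, ← pow_succ']
    rw [show t * (x * a * x⁻¹) * t⁻¹ = (t * x) * a * (t * x)⁻¹ by group, hc,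
      show x * t * a * (x * t)⁻¹ = x * (t * a * t⁻¹) * x⁻¹ by group, hta]
    group
  · rintro i hi hie a ⟨ha, hta⟩ hfix
    obtain ⟨l, hl⟩ := Arith.exists_mul_mod_eq Nat.prime_two hi hie
    have hcomm : Commute (x ^ i) a := mul_inv_eq_iff_eq_mul.mp hfix
    have hti : t = (x ^ i) ^ l := by
      rw [ht, ← pow_mul, ← Nat.mod_add_div (i * l) (2 ^ e), hl, pow_add, pow_mul x (2 ^ e), hx,
        one_pow, mul_one]
    have hct : t * a = a * t := by rw [hti]; exact (hcomm.pow_left l).eq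
    rw [hct, mul_inv_cancel_right] at hta
    have h2 : a ^ 2 = 1 := by rw [pow_two]; conv_lhs => arg 1; rw [hta]
                              exact inv_mul_cancel a
    have h3 : (⟨a, ha⟩ : A) ^ Nat.card A = 1 := pow_card_eq_one'
    exact InvolutionConj.eq_one_of_two_pow (a := 1) (by rw [pow_one]; exact h2)
      (congrArg Subtype.val h3) hA

/-- A nontrivial element of an odd abelian subgroup is moved by some weight. -/
theorem exists_weight (ρ : H →* Module.End k M) (hρ : Function.Injective ρ) {Z : Subgroup H}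
    (hZ : Odd (Nat.card Z)) (habel : ∀ a ∈ Z, ∀ b ∈ Z, a * b = b * a) {z : Z} (hz : z ≠ 1) :
    ∃ (w : M) (μ : Z →* k), w ≠ 0 ∧ (∀ a : Z, ρ (a : H) w = μ a • w) ∧ μ z ≠ 1 := by
  set ρZ : Z →* Module.End k M := ρ.comp Z.subtype
  have hcomm : ∀ a b : Z, Commute (ρZ a) (ρZ b) := fun a b =>
    (show Commute a b from Subtype.ext (habel a a.2 b b.2)).map ρZ
  obtain ⟨w, μ, hwW, hw, hμ⟩ := EigenChar.exists_common_eigenvector ρZ hcomm
    (LinearMap.range (ρZ z - 1))
    (by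
      intro h
      rw [LinearMap.range_eq_bot, sub_eq_zero] at h
      exact hz (Subtype.ext (hρ (h.trans (map_one ρ).symm))))
    (by
      rintro a _ ⟨u, rfl⟩
      refine ⟨ρZ a u, ?_⟩
      rw [LinearMap.sub_apply, LinearMap.sub_apply, Module.End.one_apply, Module.End.one_apply,
        map_sub]
      exact congrArg (· - _) (LinearMap.congr_fun (hcomm z a) u))
  refine ⟨w, μ, hw, hμ, fun h1 => hw ?_⟩
  obtain ⟨u, hu⟩ := hwW
  rw [LinearMap.sub_apply, Module.End.one_apply] at hu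
  have h3 := hμ z
  rw [h1, one_smul, ← hu] at h3
  have h4 := EigenChar.eq_of_apply_sub_fixed (ρZ z) (o := Nat.card Z)
    (by rw [← map_pow, pow_card_eq_one', map_one]) (PlaneTwo.cast_ne_zero_of_odd hZ) u h3
  rw [← hu, h4, sub_self]

/-- The two subgroups attached to a weight. -/
theorem exists_pair_of_weight [Group.IsSolvable H] (ρ : H →* Module.End k M) (e : ℕ)
    (he : 2 ≤ e) (hexp : ∀ x : H, (∃ a : ℕ, x ^ 2 ^ a = 1) →
      x ^ 2 ^ e = 1 ∧ ∑ i ∈ Finset.range (2 ^ e), ρ x ^ i = 0)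
    (H₁ : Subgroup H) [H₁.Normal] (P Z : Subgroup H) [P.Normal] [Z.Normal]
    (hc : PlaneTwo.Central P Z) {q : ℕ} [Fact q.Prime] (hq : q ≠ 2) (hP : IsPGroup q P)
    (hPexp : ∀ p ∈ P, p ^ q ∈ Z) (hH₁Z : ∀ g ∈ H₁, ∀ z ∈ Z, g * z = z * g)
    (lam : Z →* k) (w : M) (hw0 : w ≠ 0) (hw : ∀ z : Z, ρ (z : H) w = lam z • w) :
    ∃ N O : Subgroup H₁, N.Normal ∧ O.Normal ∧
      (∀ h ∈ N, ∀ n : ℕ, Odd n → h ^ n = 1 → h ∈ O) ∧
      (∀ g ∈ O, ∀ a : ℕ, g ^ 2 ^ a = 1 →
        ∀ p : P, MulAut.conjNormal (g : H) p * p⁻¹ ∈ PlaneTwo.radP hc lam) ∧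
      ∀ (x : H), (∃ a : ℕ, x ^ 2 ^ a = 1) → ∀ h : x ^ 2 ^ (e - 1) ∈ H₁,
        (⟨x ^ 2 ^ (e - 1), h⟩ : H₁) ∈ N := by
  classical
  haveI hRn := PlaneTwo.radP_normal hc lam
  set R := PlaneTwo.radP hc lam with hR
  let Γ : Subgroup H :=
    { carrier := {g | ∀ z : Z, lam (MulAut.conjNormal g z) = lam z}
      one_mem' := fun z => by rw [map_one]; rfl
      mul_mem' := fun {g g'} hg hg' z => by rw [map_mul, MulAut.mul_apply, hg, hg']
      inv_mem' := fun {g} hg z => by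
        have h := hg (MulAut.conjNormal g⁻¹ z)
        rw [← MulAut.mul_apply, ← map_mul, mul_inv_cancel, map_one] at h
        exact h.symm }
  have hH₁Γ : H₁ ≤ Γ := fun g hg z => congrArg lam (Subtype.ext (by
    rw [MulAut.conjNormal_apply, hH₁Z g hg z z.2, mul_inv_cancel_right]))
  have hRinv : ∀ g : Γ, ∀ r ∈ R, MulAut.conjNormal (H := P) (g : H) r ∈ R := by
    intro g r hr v
    obtain ⟨v', rfl⟩ := (MulAut.conjNormal (H := P) (g : H)).surjective v
    rw [PlaneTwo.pair, ← hr v', PlaneTwo.pair, ← g.2 (PlaneTwo.com hc v' r)]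
    refine congrArg lam (Subtype.ext ?_)
    simp only [PlaneTwo.com, MulAut.conjNormal_apply]
    group
  let act : Γ →* MulAut (P ⧸ R) :=
    { toFun := fun g => Basic.quotAut (MulAut.conjNormal (H := P) (g : H)) R (hRinv g)
      map_one' := MulEquiv.ext fun c => by
        obtain ⟨p, rfl⟩ := QuotientGroup.mk_surjective c
        simp
      map_mul' := fun g g' => MulEquiv.ext fun c => by
        obtain ⟨p, rfl⟩ := QuotientGroup.mk_surjective c
        simp [MulAut.mul_apply] }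
  have hact : ∀ (g : Γ) (p : P), act g (p : P ⧸ R) =
      ((MulAut.conjNormal (H := P) (g : H) p : P) : P ⧸ R) := fun g p => rfl
  have hZR : ∀ p : P, (p : H) ∈ Z → (p : P ⧸ R) = 1 := fun p hp =>
    (QuotientGroup.eq_one_iff p).mpr (PlaneTwo.mem_radP_of_mem hc lam hp)
  letI : CommGroup (P ⧸ R) :=
    { (inferInstance : Group (P ⧸ R)) with
      mul_comm := fun a b => by
        obtain ⟨a, rfl⟩ := QuotientGroup.mk_surjective a
        obtain ⟨b, rfl⟩ := QuotientGroup.mk_surjective b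
        rw [← QuotientGroup.mk_mul, ← QuotientGroup.mk_mul, QuotientGroup.eq]
        refine PlaneTwo.mem_radP_of_mem hc lam ?_
        rw [show ((a * b)⁻¹ * (b * a) : P) = (b⁻¹ * a⁻¹ * b⁻¹⁻¹ * a⁻¹⁻¹ : P) by group]
        exact hc.comm _ (P.inv_mem b.2) _ (P.inv_mem a.2) }
  have hqS : ∀ c : Additive (P ⧸ R), q • c = 0 := fun c => by
    obtain ⟨p, hp⟩ := QuotientGroup.mk_surjective (Additive.toMul c)
    change Additive.ofMul (Additive.toMul c ^ q) = Additive.ofMul 1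
    rw [← hp, ← QuotientGroup.mk_pow, hZR _ (by rw [Subgroup.coe_pow]; exact hPexp p p.2)]
  obtain ⟨M', i1, i2, i3, L, hL, hrk⟩ := ScalarExt.exists_rep_rank q (Additive (P ⧸ R)) hqS
  set k' := AlgebraicClosure (ZMod q)
  have h2k : (2 : k') ≠ 0 := by
    intro h
    haveI : CharP k' q := charP_of_injective_algebraMap (algebraMap (ZMod q) k').injective q
    have h' := (CharP.cast_eq_zero_iff k' q 2).mp (by simpa using h)
    exact hq ((Nat.prime_dvd_prime_iff_eq Fact.out Nat.prime_two).mp h')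
  let ρ' : act.range →* Module.End k' M' :=
    (L.toMonoidHom.comp Basic.toEnd).comp act.range.subtype
  have hρ' : Function.Injective ρ' := fun g g' h => Subtype.ext (MulEquiv.ext fun c => by
    have h' := DFunLike.congr_fun (hL h) (Additive.ofMul c)
    exact Additive.ofMul.injective h')
  set L₁ := (H₁.subgroupOf Γ).map act.rangeRestrict with hL₁
  haveI : L₁.Normal :=
    Subgroup.Normal.map inferInstance _ act.rangeRestrict_surjective
  haveI : Group.IsSolvable act.range :=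
    Group.isSolvable_of_surjective (f := act.rangeRestrict) act.rangeRestrict_surjective
  let ψ : H₁ →* L₁ := (act.rangeRestrict.comp (Subgroup.inclusion hH₁Γ)).codRestrict L₁
    fun g => ⟨Subgroup.inclusion hH₁Γ g, g.2, rfl⟩
  have hψ : ∀ g : H₁, ((ψ g : act.range) : MulAut (P ⧸ R)) = act (Subgroup.inclusion hH₁Γ g) :=
    fun g => rfl
  haveI : Fact (Nat.Prime 2) := ⟨Nat.prime_two⟩
  refine ⟨(pPrimePCore 2 L₁).comap ψ, (pPrimeCore 2 L₁).comap ψ,
    PSolvable.pPrimePCore_normal'.comap ψ, PSolvable.pPrimeCore_normal'.comap ψ, ?_, ?_, ?_⟩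
  · intro h hh n hn hhn
    obtain ⟨a, ha⟩ := PSolvable.isPGroup_pCore ⟨_, hh⟩
    change ψ h ∈ pPrimeCore 2 L₁
    rw [← QuotientGroup.eq_one_iff]
    exact InvolutionConj.eq_one_of_two_pow (congrArg Subtype.val ha)
      (by rw [← QuotientGroup.mk_pow, ← map_pow, hhn, map_one]; rfl) hn
  · intro g hg a hga p
    have hcard : Odd (Nat.card (pPrimeCore 2 L₁)) :=
      Nat.coprime_two_right.mp PSolvable.card_pPrimeCore_coprime
    have h1 : (⟨ψ g, hg⟩ : pPrimeCore 2 L₁) ^ Nat.card (pPrimeCore 2 L₁) = 1 := pow_card_eq_one'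
    have hψ1 : ψ g = 1 := InvolutionConj.eq_one_of_two_pow (a := a)
      (by rw [← map_pow, hga, map_one]) (congrArg Subtype.val h1) hcard
    have h2 : act (Subgroup.inclusion hH₁Γ g) = 1 := by rw [← hψ, hψ1]; rfl
    have h3 := MulEquiv.congr_fun h2 (p : P ⧸ R)
    rw [hact, MulAut.one_apply] at h3
    rw [← QuotientGroup.eq_one_iff, QuotientGroup.mk_mul, QuotientGroup.mk_inv]
    exact mul_inv_eq_one.mpr h3
  · intro x hx2 ht
    obtain ⟨hxe, hxs⟩ := hexp x hx2
    change ψ ⟨x ^ 2 ^ (e - 1), ht⟩ ∈ pPrimePCore 2 L₁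
    rcases PlaneTwo.plane_or_fixed ρ x e hxe hxs P Z hc hq hP (MulAut.conjNormal x)
        (fun p => MulAut.conjNormal_apply x p) (MulAut.conjNormal x)
        (fun z => MulAut.conjNormal_apply x z) lam w hw0 hw with hfix | ⟨-, hlam, A, hRA, hA, hyA, htA⟩
    · suffices ψ ⟨x ^ 2 ^ (e - 1), ht⟩ = 1 by rw [this]; exact one_mem _
      refine Subtype.ext (Subtype.ext (MulEquiv.ext fun c => ?_))
      obtain ⟨p, rfl⟩ := QuotientGroup.mk_surjective c
      rw [hψ, hact]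
      change _ = (p : P ⧸ R)
      have h := (QuotientGroup.eq_one_iff _).mpr (hfix p)
      rw [QuotientGroup.mk_mul, QuotientGroup.mk_inv, mul_inv_eq_one] at h
      rw [← h, ← map_pow]
      rfl
    set y := x ^ 2 ^ (e - 2) with hy
    have hyΓ : y ∈ Γ := fun z => by rw [hy, map_pow]; exact hlam z
    have hyy : y ^ 2 = x ^ 2 ^ (e - 1) := by
      rw [hy, ← pow_mul, ← pow_succ]; congr 2; omega
    set y' : act.range := act.rangeRestrict ⟨y, hyΓ⟩ with hy'
    have hy2 : y' ^ 2 = ((ψ ⟨x ^ 2 ^ (e - 1), ht⟩ : L₁) : act.range) := by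
      rw [hy', ← map_pow]
      exact congrArg act.rangeRestrict (Subtype.ext hyy)
    have hy2L : y' ^ 2 ∈ L₁ := hy2 ▸ (ψ ⟨x ^ 2 ^ (e - 1), ht⟩).2
    set Ey : AddMonoid.End (Additive (P ⧸ R)) := Basic.toEnd (act ⟨y, hyΓ⟩) with hEy
    have hρy : ρ' y' = L Ey := rfl
    have hEy1 : ∀ p : P, (Ey - 1) (Additive.ofMul (p : P ⧸ R)) =
        Additive.ofMul (((MulAut.conjNormal (H := P) y p * p⁻¹ : P)) : P ⧸ R) := fun p => by
      rw [QuotientGroup.mk_mul, QuotientGroup.mk_inv, ← div_eq_mul_inv]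
      rfl
    have hconj : (MulAut.conjNormal (H := P) x) ^ 2 ^ (e - 2) = MulAut.conjNormal (H := P) y := by
      rw [hy, map_pow]
    have hsq := PlaneSquare.square_mem h2k ρ' hρ' L₁ y' hy2L ?_ ?_
    · have : ψ ⟨x ^ 2 ^ (e - 1), ht⟩ = ⟨y' ^ 2, hy2L⟩ := Subtype.ext hy2.symm
      rw [this]
      exact hsq
    · rw [hρy, ← map_one L, ← map_sub]
      refine hrk _ (Subgroup.toAddSubgroup (A.map (QuotientGroup.mk' R))) 2 (fun c => ?_) ?_
      · obtain ⟨p, hp⟩ := QuotientGroup.mk_surjective (Additive.toMul c)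
        have hcp : c = Additive.ofMul (p : P ⧸ R) := by rw [hp]; rfl
        rw [hcp, hEy1]
        exact ⟨_, hconj ▸ hyA p, rfl⟩
      · refine le_of_eq ?_
        have h := Subgroup.relIndex_ker (K := A) (QuotientGroup.mk' R)
        rw [QuotientGroup.ker_mk', hA] at h
        rw [h]
        exact Nat.card_congr Additive.toMul
    · rw [hρy, ← map_mul, ← map_one L, ← map_sub, ← map_add, ← map_mul]
      refine (congrArg L ?_).trans (map_zero L)
      refine AddMonoidHom.ext fun c => ?_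
      obtain ⟨p, hp⟩ := QuotientGroup.mk_surjective (Additive.toMul c)
      have hcp : c = Additive.ofMul (p : P ⧸ R) := by rw [hp]; rfl
      set a := MulAut.conjNormal (H := P) y p * p⁻¹ with ha
      have haA : a ∈ A := by rw [ha, ← hconj]; exact hyA p
      rw [hcp]
      change (Ey * Ey + 1) ((Ey - 1) (Additive.ofMul (p : P ⧸ R))) = 0
      rw [hEy1]
      change Additive.ofMul (act ⟨y, hyΓ⟩ (act ⟨y, hyΓ⟩ (a : P ⧸ R)) * (a : P ⧸ R)) =
        Additive.ofMul 1
      rw [hact, hact, ← MulAut.mul_apply, ← map_mul, ← pow_two, hyy, ← QuotientGroup.mk_mul,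
        map_pow]
      exact congrArg Additive.ofMul ((QuotientGroup.eq_one_iff _).mpr (htA a haA))

/-- Gross's key step. -/
theorem pow_mem_pPrimePCore [Group.IsSolvable H] (hO : pCore 2 H = ⊥) (ρ : H →* Module.End k M)
    (hρ : Function.Injective ρ) (e : ℕ) (he : 2 ≤ e)
    (hexp : ∀ x : H, (∃ a : ℕ, x ^ 2 ^ a = 1) →
      x ^ 2 ^ e = 1 ∧ ∑ i ∈ Finset.range (2 ^ e), ρ x ^ i = 0)
    (x : H) (hx : ∃ a : ℕ, x ^ 2 ^ a = 1) : x ^ 2 ^ (e - 1) ∈ pPrimePCore 2 H := by
  classical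
  haveI : Fact (Nat.Prime 2) := ⟨Nat.prime_two⟩
  let ι := {q : ℕ // q.Prime ∧ q ≠ 2}
  haveI : ∀ i : ι, Fact (i : ℕ).Prime := fun i => ⟨i.2.1⟩
  have hcrit : ∀ i : ι, ∃ C : Subgroup (pCore (i : ℕ) H), C.Characteristic ∧
      Subgroup.centralizer (C : Set (pCore (i : ℕ) H)) ≤ C ∧
      (∀ y ∈ C, y ^ (i : ℕ) ∈ C ⊓ Subgroup.centralizer (C : Set (pCore (i : ℕ) H))) ∧
      ∀ y ∈ C, ∀ g : pCore (i : ℕ) H,
        ⁅y, g⁆ ∈ C ⊓ Subgroup.centralizer (C : Set (pCore (i : ℕ) H)) := fun i =>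
    Transfer.Critical.exists_critical (Cores.pCore_isPGroup (i : ℕ))
  choose C hCchar hCcen hCpow hCcomm using hcrit
  let P : ι → Subgroup H := fun i => (C i).map (pCore (i : ℕ) H).subtype
  let Z : ι → Subgroup H := fun i => P i ⊓ Subgroup.centralizer (P i : Set H)
  haveI hPn : ∀ i : ι, (P i).Normal := fun i => by
    haveI := hCchar i
    exact ConjAct.normal_of_characteristic_of_normal
  haveI hZn : ∀ i : ι, (Z i).Normal := fun i => Subgroup.normal_inf_normal _ _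
  have hPle : ∀ i : ι, P i ≤ pCore (i : ℕ) H := fun i => Subgroup.map_subtype_le _
  have hPp : ∀ i : ι, IsPGroup (i : ℕ) (P i) := fun i => (Cores.pCore_isPGroup _).to_le (hPle i)
  have hZmem : ∀ (i : ι) (y : pCore (i : ℕ) H),
      y ∈ C i ⊓ Subgroup.centralizer (C i : Set (pCore (i : ℕ) H)) → (y : H) ∈ Z i := by
    intro i y hy
    refine ⟨⟨y, hy.1, rfl⟩, Subgroup.mem_centralizer_iff.mpr ?_⟩
    rintro _ ⟨v, hv, rfl⟩
    exact congrArg Subtype.val (Subgroup.mem_centralizer_iff.mp hy.2 v hv)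
  have hcen : ∀ i : ι, ∀ z ∈ Z i, ∀ v ∈ P i, z * v = v * z := fun i z hz v hv =>
    (Subgroup.mem_centralizer_iff.mp hz.2 v hv).symm
  have hc : ∀ i : ι, PlaneTwo.Central (P i) (Z i) := fun i =>
    { le := inf_le_left
      comm := by
        rintro _ ⟨v, hv, rfl⟩ _ ⟨v', hv', rfl⟩
        exact hZmem i _ (hCcomm i v hv v')
      cen := hcen i }
  have hPexp : ∀ i : ι, ∀ p ∈ P i, p ^ (i : ℕ) ∈ Z i := by
    rintro i _ ⟨v, hv, rfl⟩
    exact hZmem i _ (hCpow i v hv)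
  have hoddP : ∀ i : ι, Odd (Nat.card (P i)) := fun i => by
    obtain ⟨n, hn⟩ := IsPGroup.iff_card.mp (hPp i)
    rw [hn]; exact (i.2.1.odd_of_ne_two i.2.2).pow
  have hoddZ : ∀ i : ι, Odd (Nat.card (Z i)) := fun i =>
    (hoddP i).of_dvd_nat (Subgroup.card_dvd_of_le inf_le_left)
  have habelZ : ∀ i : ι, ∀ a ∈ Z i, ∀ b ∈ Z i, a * b = b * a := fun i a ha b hb => hcen i a ha b hb.1
  set H₁ := ⨅ i, Subgroup.centralizer (Z i : Set H) with hH₁
  haveI : H₁.Normal := Subgroup.normal_iInf_normal fun i => Subgroup.normal_centralizer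
  have hH₁Z : ∀ i : ι, ∀ g ∈ H₁, ∀ z ∈ Z i, g * z = z * g := fun i g hg z hz =>
    (Subgroup.mem_centralizer_iff.mp (Subgroup.mem_iInf.mp hg i) z hz).symm
  have htH₁ : ∀ y : H, (∃ a : ℕ, y ^ 2 ^ a = 1) → y ^ 2 ^ (e - 1) ∈ H₁ := by
    intro y hy
    obtain ⟨hye, hys⟩ := hexp y hy
    refine Subgroup.mem_iInf.mpr fun i => Subgroup.mem_centralizer_iff.mpr fun z hz => ?_
    exact (centralizes_abelian ρ hρ y e hye (by omega) hys (Z i) (hoddZ i) (habelZ i)
      (fun a ha => (hZn i).conj_mem a ha y) z hz).symm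
  let J := Σ i : ι, {lam : Z i →* k // ∃ w : M, w ≠ 0 ∧ ∀ z : Z i, ρ (z : H) w = lam z • w}
  have hJ : ∀ j : J, ∃ N O : Subgroup H₁, N.Normal ∧ O.Normal ∧
      (∀ h ∈ N, ∀ n : ℕ, Odd n → h ^ n = 1 → h ∈ O) ∧
      (∀ g ∈ O, ∀ a : ℕ, g ^ 2 ^ a = 1 → ∀ p : P j.1,
        MulAut.conjNormal (g : H) p * p⁻¹ ∈ PlaneTwo.radP (hc j.1) j.2.1) ∧
      ∀ (y : H), (∃ a : ℕ, y ^ 2 ^ a = 1) → ∀ h : y ^ 2 ^ (e - 1) ∈ H₁,
        (⟨y ^ 2 ^ (e - 1), h⟩ : H₁) ∈ N := fun ⟨i, lam, w, hw0, hw⟩ =>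
    exists_pair_of_weight ρ e he hexp H₁ (P i) (Z i) (hc i) i.2.2 (hPp i) (hPexp i) (hH₁Z i)
      lam w hw0 hw
  choose N O hNn hOn hNO hO1 htN using hJ
  set N₂ := ⨅ j, N j with hN₂
  set O₂ := ⨅ j, O j with hO₂
  haveI : N₂.Normal := Subgroup.normal_iInf_normal hNn
  haveI : O₂.Normal := Subgroup.normal_iInf_normal hOn
  -- `2`-elements of `O₂` are trivial
  have hO2 : ∀ g ∈ O₂, ∀ a : ℕ, g ^ 2 ^ a = 1 → g = 1 := by
    intro g hg a hga
    have hga' : (g : H) ^ 2 ^ a = 1 := congrArg Subtype.val hga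
    have hP1 : ∀ i : ι, ∀ v ∈ P i, (g : H) * v = v * g := by
      intro i v hv
      set d : P i := MulAut.conjNormal (g : H) ⟨v, hv⟩ * (⟨v, hv⟩ : P i)⁻¹ with hd
      have hdv : (d : H) = (g : H) * v * (g : H)⁻¹ * v⁻¹ := by
        rw [hd, Subgroup.coe_mul, MulAut.conjNormal_apply, Subgroup.coe_inv]
      have hdZ : (d : H) ∈ Z i := by
        refine ⟨d.2, Subgroup.mem_centralizer_iff.mpr fun v' hv' => ?_⟩
        by_contra hne
        set z := PlaneTwo.com (hc i) ⟨v', hv'⟩ d with hz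
        have hz1 : z ≠ 1 := fun h => hne (by
          have h' : (v' * (d : H) * v'⁻¹ * (d : H)⁻¹) = 1 := congrArg Subtype.val h
          exact mul_inv_eq_iff_eq_mul.mp (mul_inv_eq_one.mp h'))
        obtain ⟨w, lam, hw0, hw, hlamz⟩ := exists_weight ρ hρ (hoddZ i) (habelZ i) hz1
        exact hlamz (hO1 ⟨i, lam, w, hw0, hw⟩ g (Subgroup.mem_iInf.mp hg _) a hga ⟨v, hv⟩ ⟨v', hv'⟩)
      rw [hdv] at hdZ
      obtain ⟨b, hb⟩ := (hPp i).to_le inf_le_left ⟨_, hdZ⟩
      have h1 := eq_one_of_fixed_conj (h := (g : H)) (x := v)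
        (by rw [hH₁Z i g g.2 _ hdZ, mul_inv_cancel_right])
        (by group) hga' (congrArg Subtype.val hb)
        (Nat.Coprime.pow _ _ ((Nat.coprime_primes Nat.prime_two i.2.1).mpr (Ne.symm i.2.2)))
      exact mul_inv_eq_iff_eq_mul.mp (mul_inv_eq_one.mp h1)
    have hcore : ∀ i : ι, ∀ v ∈ pCore (i : ℕ) H, v * (g : H) = g * v := by
      intro i v hv
      set d := (g : H) * v * (g : H)⁻¹ * v⁻¹ with hd
      have hvC : ⟨d, by
          rw [hd]; exact mul_mem ((PSolvable.pCore_normal' (p := (i : ℕ))).conj_mem v hv g) (inv_mem hv)⟩ ∈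
          Subgroup.centralizer (C i : Set (pCore (i : ℕ) H)) := by
        rw [Subgroup.mem_centralizer_iff]
        intro u hu
        refine Subtype.ext ?_
        have hu' : (u : H) ∈ P i := ⟨u, hu, rfl⟩
        have hvu : v⁻¹ * u * v ∈ P i := by
          simpa using (hPn i).conj_mem _ hu' v⁻¹
        have h1 := hP1 i _ hu'
        have h2 := hP1 i _ hvu
        change (u : H) * d = d * u
        calc (u : H) * d = (u * g) * v * (g : H)⁻¹ * v⁻¹ := by rw [hd]; group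
          _ = (g * u) * v * (g : H)⁻¹ * v⁻¹ := by rw [h1]
          _ = g * v * ((v⁻¹ * u * v) * (g : H)⁻¹) * v⁻¹ := by group
          _ = g * v * ((g : H)⁻¹ * (v⁻¹ * u * v)) * v⁻¹ := by
            rw [show (v⁻¹ * u * v) * (g : H)⁻¹ = (g : H)⁻¹ * (v⁻¹ * u * v) by
              rw [eq_inv_mul_iff_mul_eq, ← mul_assoc, h2, mul_inv_cancel_right]]
          _ = d * u := by rw [hd]; group
      have hdP : d ∈ P i := ⟨_, hCcen i hvC, rfl⟩
      obtain ⟨b, hb⟩ := hPp i ⟨d, hdP⟩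
      have h1 := eq_one_of_fixed_conj (h := (g : H)) (x := v) (z := d)
        (by rw [hP1 i d hdP, mul_inv_cancel_right]) (by rw [hd]; group) hga'
        (congrArg Subtype.val hb)
        (Nat.Coprime.pow _ _ ((Nat.coprime_primes Nat.prime_two i.2.1).mpr (Ne.symm i.2.2)))
      exact (mul_inv_eq_iff_eq_mul.mp (mul_inv_eq_one.mp h1)).symm
    have hgF : (g : H) ∈ Subgroup.centralizer (fittingSubgroup H : Set H) := by
      have hle : fittingSubgroup H ≤ Subgroup.centralizer {(g : H)} := by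
        rw [Cores.fittingSubgroup_eq_iSup_pCore]
        refine iSup_le fun q => ?_
        by_cases hq : (q : ℕ) = 2
        · rw [hq, hO]; exact bot_le
        · intro v hv
          rw [Subgroup.mem_centralizer_singleton_iff]
          exact (hcore ⟨q, q.2, hq⟩ v hv)
      rw [Subgroup.mem_centralizer_iff]
      intro v hv
      exact Subgroup.mem_centralizer_singleton_iff.mp (hle hv)
    have hodd := InvolutionConj.centralizer_pPrimeCore_le hO
    have hF : fittingSubgroup H ≤ pPrimeCore 2 H := by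
      rw [Cores.fittingSubgroup_eq_iSup_pCore]
      refine iSup_le fun q => ?_
      haveI : Fact (q : ℕ).Prime := ⟨q.2⟩
      by_cases hq : (q : ℕ) = 2
      · rw [hq, hO]; exact bot_le
      refine Cores.le_pPrimeCore (hN := inferInstance) ?_
      obtain ⟨b, hb⟩ := IsPGroup.iff_card.mp (Cores.pCore_isPGroup (G := H) (q : ℕ))
      rw [hb]
      exact ((Nat.coprime_primes q.2 Nat.prime_two).mpr hq).pow_left b
    have hgO : (g : H) ∈ pPrimeCore 2 H := hF (Cores.centralizer_fittingSubgroup_le hgF)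
    have h1 : (⟨(g : H), hgO⟩ : pPrimeCore 2 H) ^ Nat.card (pPrimeCore 2 H) = 1 := pow_card_eq_one'
    exact Subtype.ext (InvolutionConj.eq_one_of_two_pow hga' (congrArg Subtype.val h1)
      (Nat.coprime_two_right.mp PSolvable.card_pPrimeCore_coprime))
  have hO2le : O₂ ≤ pPrimeCore 2 H₁ := by
    refine PSolvable.le_pPrimeCore inferInstance (Nat.coprime_two_right.mpr ?_)
    rw [← Nat.not_even_iff_odd, even_iff_two_dvd]
    intro hdvd
    obtain ⟨g, hg⟩ := exists_prime_orderOf_dvd_card' 2 hdvd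
    have h1 : (g : H₁) = 1 := hO2 g g.2 1 (by
      have := congrArg Subtype.val (hg ▸ pow_orderOf_eq_one g)
      simpa using this)
    rw [show g = 1 from Subtype.ext h1, orderOf_one] at hg
    norm_num at hg
  have hN2le : N₂ ≤ pPrimePCore 2 H₁ := by
    rw [pPrimePCore, ← Subgroup.map_le_iff_le_comap]
    refine PSolvable.le_pCore
      (Subgroup.Normal.map inferInstance _ (QuotientGroup.mk'_surjective _)) ?_
    rintro ⟨_, s, hs, rfl⟩
    obtain ⟨a, n, hn, han⟩ :=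
      Nat.exists_eq_pow_mul_and_not_dvd (orderOf_pos s).ne' 2 (by norm_num)
    refine ⟨a, Subtype.ext ?_⟩
    change QuotientGroup.mk' _ s ^ 2 ^ a = 1
    rw [← map_pow, QuotientGroup.mk'_apply, QuotientGroup.eq_one_iff]
    refine hO2le (Subgroup.mem_iInf.mpr fun j => hNO j _ (pow_mem (Subgroup.mem_iInf.mp hs j) _) n
      (Nat.odd_iff.mpr (by omega)) ?_)
    rw [← pow_mul, ← han, pow_orderOf_eq_one]
  haveI := OddOrder.BenderLocal.pPrimePCore_characteristic (K := H₁) 2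
  haveI : ((pPrimePCore 2 H₁).map H₁.subtype).Normal := ConjAct.normal_of_characteristic_of_normal
  have hup : (pPrimePCore 2 H₁).map H₁.subtype ≤ pPrimePCore 2 H := by
    rw [pPrimePCore, pPrimePCore, ← Subgroup.map_le_iff_le_comap]
    refine PSolvable.le_pCore (Subgroup.Normal.map (by assumption) _
      (QuotientGroup.mk'_surjective _)) ?_
    rintro ⟨_, _, ⟨s, hs, rfl⟩, rfl⟩
    obtain ⟨a, ha⟩ := PSolvable.isPGroup_pCore ⟨_, hs⟩
    refine ⟨a, Subtype.ext ?_⟩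
    change QuotientGroup.mk' _ (H₁.subtype s) ^ 2 ^ a = 1
    rw [← map_pow, ← map_pow, QuotientGroup.mk'_apply, QuotientGroup.eq_one_iff]
    exact PSolvable.pPrimeCore_map_le_of_normal H₁
      ⟨_, (QuotientGroup.eq_one_iff _).mp (congrArg Subtype.val ha), rfl⟩
  exact hup ⟨⟨_, htH₁ x hx⟩, hN2le (Subgroup.mem_iInf.mpr fun j => htN j x hx (htH₁ x hx)), rfl⟩

end Cfsg.Agent.Lib.FpfHeight.PlaneExponent
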