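/-
An element of order `2 ^ c`, `q + 1 = 2 ^ c`, with a two-dimensional displacement space in
characteristic `q`, normalizing an odd solvable group `L`: the commutators of its involutory power
with `L` lie in `O_q` of the image of `L`.
-/
import Mathlib.Algebra.CharP.Lemmas
import Mathlib.LinearAlgebra.Quotient.Basic
import Cfsg.Agent.Lib.FpfHeight.PlaneExponent

set_option autoImplicit false

namespace Cfsg.Agent.Lib.FpfHeight.PlaneOdd

open Module Cfsg
open scoped commutatorElement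

universe u w

section Groups

variable {H : Type u} [Group H]

/-- An element centralizing a self-centralizing subgroup, of order prime to the group, centralizes
the group. -/
theorem centralizes_of_subgroup {g : H} {n : ℕ} (hg : g ^ n = 1) (P C : Subgroup H) (hCP : C ≤ P)
    (hnorm : ∀ v ∈ P, ∀ x ∈ C, v * x * v⁻¹ ∈ C)
    (hcen : ∀ v ∈ P, (∀ x ∈ C, x * v = v * x) → v ∈ C)
    (hgP : ∀ v ∈ P, g * v * g⁻¹ ∈ P) (hgC : ∀ x ∈ C, g * x = x * g)
    (hP : ∀ v ∈ P, ∃ m : ℕ, v ^ m = 1 ∧ n.Coprime m) : ∀ v ∈ P, g * v = v * g := by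
  intro v hv
  set d := g * v * g⁻¹ * v⁻¹ with hd
  have hdP : d ∈ P := mul_mem (hgP v hv) (inv_mem hv)
  have hdC : d ∈ C := hcen d hdP fun x hx => by
    have hvx : v⁻¹ * x * v ∈ C := by simpa using hnorm v⁻¹ (inv_mem hv) x hx
    have h1 := hgC x hx
    have h2 := hgC _ hvx
    calc x * d = (x * g) * v * g⁻¹ * v⁻¹ := by rw [hd]; group
      _ = (g * x) * v * g⁻¹ * v⁻¹ := by rw [h1]
      _ = g * v * ((v⁻¹ * x * v) * g⁻¹) * v⁻¹ := by group
      _ = g * v * (g⁻¹ * (v⁻¹ * x * v)) * v⁻¹ := by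
        rw [show (v⁻¹ * x * v) * g⁻¹ = g⁻¹ * (v⁻¹ * x * v) by
          rw [eq_inv_mul_iff_mul_eq, ← mul_assoc, h2, mul_inv_cancel_right]]
      _ = d * x := by rw [hd]; group
  obtain ⟨m, hm, hnm⟩ := hP d hdP
  have h1 := PlaneExponent.eq_one_of_fixed_conj (h := g) (x := v) (z := d)
    (by rw [hgC d hdC, mul_inv_cancel_right]) (by rw [hd]; group) hg hm hnm
  exact mul_inv_eq_iff_eq_mul.mp (mul_inv_eq_one.mp h1)

/-- An element stabilizing the series `1 ≤ Z ≤ P`, of order prime to `Z`, centralizes `P`. -/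
theorem centralizes_of_series {g : H} {n : ℕ} (hg : g ^ n = 1) (P Z : Subgroup H)
    (hgZ : ∀ z ∈ Z, g * z = z * g) (hgP : ∀ v ∈ P, g * v * g⁻¹ * v⁻¹ ∈ Z)
    (hZ : ∀ z ∈ Z, ∃ m : ℕ, z ^ m = 1 ∧ n.Coprime m) : ∀ v ∈ P, g * v = v * g := by
  intro v hv
  obtain ⟨m, hm, hnm⟩ := hZ _ (hgP v hv)
  have h1 := PlaneExponent.eq_one_of_fixed_conj (h := g) (x := v)
    (by rw [hgZ _ (hgP v hv), mul_inv_cancel_right]) (by group) hg hm hnm
  exact mul_inv_eq_iff_eq_mul.mp (mul_inv_eq_one.mp h1)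

/-- An involution centralizing the Fitting subgroup of an odd solvable group centralizes it. -/
theorem centralizes_of_fitting [Finite H] (L : Subgroup H) [L.Normal] [Group.IsSolvable L]
    (hL : Odd (Nat.card L)) (t : H) (ht : t * t = 1)
    (htF : ∀ f ∈ fittingSubgroup L, t * (f : H) = f * t) : ∀ l ∈ L, t * l = l * t := by
  intro l hl
  have hcL : t * l * t⁻¹ * l⁻¹ ∈ L :=
    mul_mem ((inferInstance : L.Normal).conj_mem l hl t) (inv_mem hl)
  set c : L := ⟨t * l * t⁻¹ * l⁻¹, hcL⟩ with hc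
  have hcF : c ∈ fittingSubgroup L := by
    refine Cores.centralizer_fittingSubgroup_le ?_
    rw [Subgroup.mem_centralizer_iff]
    intro f hf
    refine Subtype.ext ?_
    have hf' : (⟨l, hl⟩⁻¹ * f * ⟨l, hl⟩ : L) ∈ fittingSubgroup L := by
      simpa using Subgroup.Normal.conj_mem inferInstance f hf (⟨l, hl⟩⁻¹ : L)
    have h1 := htF f hf
    have h2 : t * (l⁻¹ * (f : H) * l) = l⁻¹ * (f : H) * l * t := htF _ hf'
    change (f : H) * (t * l * t⁻¹ * l⁻¹) = t * l * t⁻¹ * l⁻¹ * (f : H)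
    calc (f : H) * (t * l * t⁻¹ * l⁻¹) = (f * t) * l * t⁻¹ * l⁻¹ := by group
      _ = (t * f) * l * t⁻¹ * l⁻¹ := by rw [h1]
      _ = t * l * ((l⁻¹ * (f : H) * l) * t⁻¹) * l⁻¹ := by group
      _ = t * l * (t⁻¹ * (l⁻¹ * (f : H) * l)) * l⁻¹ := by
        rw [show (l⁻¹ * (f : H) * l) * t⁻¹ = t⁻¹ * (l⁻¹ * (f : H) * l) by
          rw [eq_inv_mul_iff_mul_eq, ← mul_assoc, h2, mul_inv_cancel_right]]
      _ = t * l * t⁻¹ * l⁻¹ * (f : H) := by group
  have h3 : (c : H) ^ Nat.card L = 1 := congrArg Subtype.val (pow_card_eq_one' (x := c))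
  have h4 := PlaneExponent.eq_one_of_fixed_conj (h := t) (x := l) (z := (c : H))
    (by rw [htF c hcF, mul_inv_cancel_right]) (by rw [hc]; group) (n := 2) (by rw [pow_two, ht]) h3
    (Nat.coprime_two_left.mpr hL)
  exact mul_inv_eq_iff_eq_mul.mp (mul_inv_eq_one.mp h4)

end Groups

variable {k : Type*} [Field k] [IsAlgClosed k]

/-- A nontrivial element of an abelian subgroup of order invertible in `k` is moved by a weight. -/
theorem exists_weight {H : Type u} [Group H] [Finite H] {M : Type w} [AddCommGroup M] [Module k M]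
    [FiniteDimensional k M] (ρ : H →* Module.End k M) {Z : Subgroup H}
    (hZ : (Nat.card Z : k) ≠ 0) (habel : ∀ a ∈ Z, ∀ b ∈ Z, a * b = b * a) {z : Z}
    (hz : ρ (z : H) ≠ 1) :
    ∃ (v : M) (μ : Z →* k), v ≠ 0 ∧ (∀ a : Z, ρ (a : H) v = μ a • v) ∧ μ z ≠ 1 := by
  set ρZ : Z →* Module.End k M := ρ.comp Z.subtype
  have hcomm : ∀ a b : Z, Commute (ρZ a) (ρZ b) := fun a b =>
    (show Commute a b from Subtype.ext (habel a a.2 b b.2)).map ρZ
  obtain ⟨v, μ, hvW, hv, hμ⟩ := EigenChar.exists_common_eigenvector ρZ hcomm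
    (LinearMap.range (ρZ z - 1))
    (by
      intro h
      rw [LinearMap.range_eq_bot, sub_eq_zero] at h
      exact hz h)
    (by
      rintro a _ ⟨x, rfl⟩
      refine ⟨ρZ a x, ?_⟩
      rw [LinearMap.sub_apply, LinearMap.sub_apply, Module.End.one_apply, Module.End.one_apply,
        map_sub]
      exact congrArg (· - _) (LinearMap.congr_fun (hcomm z a) x))
  refine ⟨v, μ, hv, hμ, fun h1 => hv ?_⟩
  obtain ⟨x, hx⟩ := hvW
  rw [LinearMap.sub_apply, Module.End.one_apply] at hx
  have h3 := hμ z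
  rw [h1, one_smul, ← hx] at h3
  have h4 := EigenChar.eq_of_apply_sub_fixed (ρZ z) (o := Nat.card Z)
    (by rw [← map_pow, pow_card_eq_one', map_one]) hZ x h3
  rw [← hx, h4, sub_self]

theorem commutes_of_irreducible {Γ : Type u} [Group Γ] [Finite Γ] {M : Type w} [AddCommGroup M]
    [Module k M] [FiniteDimensional k M] [Nontrivial M] {q c : ℕ} [Fact q.Prime] [CharP k q]
    (hqc : q + 1 = 2 ^ c) (hc2 : 2 ≤ c) (ρ : Γ →* Module.End k M) (hρ : Function.Injective ρ)
    (L : Subgroup Γ) [L.Normal] [Group.IsSolvable L] (hL : Odd (Nat.card L)) (x : Γ)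
    (hrank : finrank k (LinearMap.range (ρ x - 1)) ≤ 2)
    (hquad : (ρ x ^ 2 ^ (c - 1) + 1) * (ρ x - 1) = 0)
    (hirr : ∀ U : Submodule k M, (∀ g, ∀ v ∈ U, ρ g v ∈ U) → U = ⊥ ∨ U = ⊤) :
    ∀ l ∈ L, x ^ 2 ^ (c - 1) * l = l * x ^ 2 ^ (c - 1) := by
  classical
  set t := x ^ 2 ^ (c - 1) with ht
  set X := ρ x with hX
  have hqodd : q ≠ 2 := by
    rintro rfl
    rw [← Nat.sub_add_cancel (show 1 ≤ c by omega), pow_succ] at hqc
    omega
  have h2 : (2 : k) ≠ 0 := by
    intro h
    have h' := (CharP.cast_eq_zero_iff k q 2).mp (by simpa using h)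
    exact hqodd ((Nat.prime_dvd_prime_iff_eq Fact.out Nat.prime_two).mp h')
  have hXP : X ^ 2 ^ c = 1 := by
    rw [show 2 ^ c = 2 ^ (c - 1) * 2 by rw [← pow_succ]; congr 1; omega, pow_mul, ← sub_eq_zero]
    have h1 : X ^ 2 ^ (c - 1) - 1 = (X - 1) * ∑ i ∈ Finset.range (2 ^ (c - 1)), X ^ i :=
      (mul_geom_sum X _).symm
    calc (X ^ 2 ^ (c - 1)) ^ 2 - 1 = (X ^ 2 ^ (c - 1) + 1) * (X ^ 2 ^ (c - 1) - 1) := by
          noncomm_ring
      _ = 0 := by rw [h1, ← mul_assoc, hquad, zero_mul]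
  have hxP : x ^ 2 ^ c = 1 := hρ (by rw [map_pow, map_one, hXP])
  have htt : t * t = 1 := by
    rw [ht, ← pow_add, ← two_mul, ← pow_succ', show c - 1 + 1 = c by omega, hxP]
  set s : Module.End k M := -X with hs
  have hsum : ∑ i ∈ Finset.range (2 ^ c), s ^ i = 0 := by
    have hsP : s ^ 2 ^ c = 1 := by
      rw [hs, Even.neg_pow ((Nat.even_pow).mpr ⟨even_two, by omega⟩), hXP]
    have h := mul_geom_sum s (2 ^ c)
    rw [hsP, sub_self] at h
    refine LinearMap.ext fun v => ?_
    have h' := LinearMap.congr_fun h v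
    rw [Module.End.mul_apply, LinearMap.zero_apply, LinearMap.sub_apply, Module.End.one_apply,
      hs, LinearMap.neg_apply, sub_eq_zero] at h'
    set u := (∑ i ∈ Finset.range (2 ^ c), (-X) ^ i) v
    have hXu : X u = -u := (neg_eq_iff_eq_neg.mp h')
    have hpow : ∀ i : ℕ, (X ^ (2 * i)) u = u := by
      intro i
      induction i with
      | zero => simp
      | succ i ih =>
        rw [Nat.mul_succ, pow_add, Module.End.mul_apply, pow_two, Module.End.mul_apply, hXu,
          map_neg, hXu, neg_neg, ih]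
    have h3 := LinearMap.congr_fun hquad u
    rw [Module.End.mul_apply, LinearMap.sub_apply, Module.End.one_apply, hXu, map_sub, map_neg,
      LinearMap.add_apply, Module.End.one_apply,
      show 2 ^ (c - 1) = 2 * 2 ^ (c - 2) by rw [← pow_succ']; congr 1; omega, hpow,
      LinearMap.zero_apply] at h3
    have h4 : (-(2 * 2) : k) • u = 0 := by
      rw [← h3, neg_smul, mul_smul, two_smul k u, two_smul k (u + u)]; abel
    exact (smul_eq_zero.mp h4).resolve_left (neg_ne_zero.mpr (mul_ne_zero h2 h2))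
  refine centralizes_of_fitting L hL t htt ?_
  have hF : fittingSubgroup L ≤ (Subgroup.centralizer {t}).comap L.subtype := by
    rw [Cores.fittingSubgroup_eq_iSup_pCore]
    refine iSup_le fun r => ?_
    haveI : Fact (r : ℕ).Prime := ⟨r.2⟩
    set O := pCore (r : ℕ) L with hO
    set Or := O.map L.subtype with hOr
    haveI hOn : Or.Normal := ConjAct.normal_of_characteristic_of_normal
    have hOp : IsPGroup (r : ℕ) Or := (Cores.pCore_isPGroup _).map _
    suffices h : ∀ v ∈ Or, t * v = v * t by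
      intro v hv
      rw [Subgroup.mem_comap, Subgroup.mem_centralizer_singleton_iff]
      exact (h _ ⟨v, hv, rfl⟩).symm
    by_cases hrq : (r : ℕ) = q
    · -- the `q`-core is trivial
      suffices hbot : Or = ⊥ by
        intro v hv
        rw [hbot, Subgroup.mem_bot] at hv
        simp [hv]
      by_contra hne
      haveI : Nontrivial Or := (Subgroup.nontrivial_iff_ne_bot _).mpr hne
      haveI := hOp.center_nontrivial
      set Z := (Subgroup.center Or).map Or.subtype with hZ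
      haveI : Z.Normal := ConjAct.normal_of_characteristic_of_normal
      have hZne : Z ≠ ⊥ := fun h => by
        rw [Subgroup.map_eq_bot_iff_of_injective _ Or.subtype_injective] at h
        exact (Subgroup.nontrivial_iff_ne_bot _).mp inferInstance h
      have hcomm : ∀ a b : Z, Commute (ρ (a : Γ)) (ρ (b : Γ)) := by
        rintro ⟨_, a, ha, rfl⟩ ⟨_, b, hb, rfl⟩
        exact (show Commute (a : Γ) (b : Γ) from
          congrArg Subtype.val (Subgroup.mem_center_iff.mp ha b).symm).map ρ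
      obtain ⟨v, μ, -, hv, hμ⟩ := EigenChar.exists_common_eigenvector (ρ.comp Z.subtype) hcomm ⊤
        top_ne_bot fun _ _ _ => Submodule.mem_top
      have hμ1 : ∀ a, μ a = 1 := fun a => by
        obtain ⟨i, hi⟩ := (hOp.to_le (Subgroup.map_subtype_le _)) a
        rw [hrq] at hi
        have h1 : μ a ^ q ^ i = 1 := by rw [← map_pow, hi, map_one]
        have h3 : (μ a - 1) ^ q ^ i = 0 := by rw [sub_pow_char_pow, h1, one_pow, sub_self]
        exact sub_eq_zero.mp (pow_eq_zero_iff (pow_ne_zero i (Fact.out : q.Prime).ne_zero) |>.mp h3)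
      set U := OddPower.eigSub (ρ.comp Z.subtype) (1 : Z →* k) with hU
      have hUinv : ∀ g, ∀ m ∈ U, ρ g m ∈ U := by
        intro g m hm
        rw [hU, OddPower.mem_eigSub] at hm ⊢
        intro a
        have h1 : (g⁻¹ * a * g : Γ) ∈ Z := by
          simpa using (inferInstance : Z.Normal).conj_mem a a.2 g⁻¹
        have h3 : ρ (g⁻¹ * a * g) m = m := by simpa using hm ⟨_, h1⟩
        change ρ (a : Γ) (ρ g m) = (1 : k) • ρ g m
        rw [one_smul, ← Module.End.mul_apply, ← map_mul,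
          show (a : Γ) * g = g * (g⁻¹ * a * g) by group, map_mul, Module.End.mul_apply, h3]
      rcases hirr U hUinv with hU0 | hU1
      · refine hv ((Submodule.mem_bot k).mp (hU0 ▸ OddPower.mem_eigSub.mpr fun a => ?_))
        rw [hμ, hμ1]; rfl
      · obtain ⟨a, ha, ha1⟩ := (Subgroup.ne_bot_iff_exists_ne_one.mp hZne).elim
          fun a ha => (⟨a, a.2, fun h => ha (Subtype.ext h)⟩ : ∃ g, g ∈ Z ∧ g ≠ 1)
        refine ha1 (hρ (LinearMap.ext fun m => ?_))
        have hm : m ∈ U := hU1 ▸ Submodule.mem_top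
        rw [map_one]
        simpa using OddPower.mem_eigSub.mp hm ⟨a, ha⟩
    by_cases hr2 : (r : ℕ) = 2
    · intro v hv
      obtain ⟨i, hi⟩ := hOp ⟨v, hv⟩
      have h1 : v ^ 2 ^ i = 1 := by rw [← hr2]; exact congrArg Subtype.val hi
      have h3 : (⟨v, Subgroup.map_subtype_le _ hv⟩ : L) ^ Nat.card L = 1 := pow_card_eq_one'
      rw [InvolutionConj.eq_one_of_two_pow h1 (congrArg Subtype.val h3) hL, mul_one, one_mul]
    have hrk : ((r : ℕ) : k) ≠ 0 := fun h => hrq ((Nat.prime_dvd_prime_iff_eq Fact.out r.2).mp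
      ((CharP.cast_eq_zero_iff k q r).mp h)).symm
    obtain ⟨C₀, hC₀, hC₀cen, hC₀pow, hC₀comm⟩ := Transfer.Critical.exists_critical hOp
    set C := C₀.map Or.subtype with hC
    haveI : C.Normal := by haveI := hC₀; exact ConjAct.normal_of_characteristic_of_normal
    set Z := C ⊓ Subgroup.centralizer (C : Set Γ) with hZ
    haveI : Z.Normal := Subgroup.normal_inf_normal _ _
    have hCle : C ≤ Or := Subgroup.map_subtype_le _
    have hcen : ∀ z ∈ Z, ∀ v ∈ C, z * v = v * z := fun z hz v hv =>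
      (Subgroup.mem_centralizer_iff.mp hz.2 v hv).symm
    have hcentral : PlaneTwo.Central C Z :=
      { le := inf_le_left
        comm := by
          rintro _ ⟨v, hv, rfl⟩ _ ⟨v', hv', rfl⟩
          refine ⟨⟨⁅v, v'⁆, (hC₀comm v hv v').1, rfl⟩, Subgroup.mem_centralizer_iff.mpr ?_⟩
          rintro _ ⟨u, hu, rfl⟩
          exact congrArg Subtype.val (Subgroup.mem_centralizer_iff.mp (hC₀comm v hv v').2 u hu)
        cen := hcen }
    have hCp : IsPGroup (r : ℕ) C := hOp.to_le hCle
    have hcardZ : (Nat.card Z : k) ≠ 0 :=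
      PlaneTwo.cast_card_ne_zero (hCp.to_le inf_le_left) hrk
    have habel : ∀ a ∈ Z, ∀ b ∈ Z, a * b = b * a := fun a ha b hb => hcen a ha b hb.1
    have hconj : ∀ (N : Subgroup Γ) [N.Normal] (i : ℕ) (z : N),
        (((MulAut.conjNormal (H := N) x) ^ i) z : Γ) = x ^ i * z * (x ^ i)⁻¹ := fun N _ i z => by
      rw [← map_pow, MulAut.conjNormal_apply]
    have hsemi : ∀ g : Γ, s * ρ g = ρ (x * g * x⁻¹) * s := fun g => by
      rw [hs, neg_mul, mul_neg, hX, ← map_mul, ← map_mul, inv_mul_cancel_right]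
    have hcop : ∀ v ∈ Or, ∃ m : ℕ, v ^ m = 1 ∧ (2 : ℕ).Coprime m := fun v hv => by
      obtain ⟨i, hi⟩ := hOp ⟨v, hv⟩
      exact ⟨(r : ℕ) ^ i, congrArg Subtype.val hi,
        Nat.Coprime.pow_right _ ((Nat.coprime_primes Nat.prime_two r.2).mpr (Ne.symm hr2))⟩
    -- `t` centralizes `Z`
    have htZ : ∀ z ∈ Z, t * z = z * t := by
      intro z hz
      by_contra hne
      set d : Z := MulAut.conjNormal t ⟨z, hz⟩ * (⟨z, hz⟩ : Z)⁻¹ with hd
      have hd' : (d : Γ) = t * z * t⁻¹ * z⁻¹ := by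
        rw [hd, Subgroup.coe_mul, MulAut.conjNormal_apply, Subgroup.coe_inv]
      have hd1 : ρ (d : Γ) ≠ 1 := fun h => hne (mul_inv_eq_iff_eq_mul.mp (mul_inv_eq_one.mp
        (hd' ▸ hρ (h.trans (map_one ρ).symm))))
      obtain ⟨v, μ, hv, hμ, hμd⟩ := exists_weight ρ hcardZ habel hd1
      refine hμd ?_
      have h1 := PlaneTwo.weight_fixed ρ s c Z hrk (hCp.to_le inf_le_left)
        (MulAut.conjNormal (H := Z) x)
        (MulEquiv.ext fun a => Subtype.ext (by rw [hconj, hxP]; simp))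
        (fun a => by rw [hsemi, MulAut.conjNormal_apply]) hsum μ v hv hμ ⟨z, hz⟩
      rw [hd, map_mul, ht, map_pow, h1, ← map_mul, mul_inv_cancel, map_one]
    have htt' : t ^ 2 = 1 := by rw [pow_two, htt]
    have htC : ∀ v ∈ C, t * v = v * t := by
      refine centralizes_of_series htt' C Z htZ (fun v hv => ?_)
        fun z hz => hcop z (hCle hz.1)
      set d : C := MulAut.conjNormal t ⟨v, hv⟩ * (⟨v, hv⟩ : C)⁻¹ with hd
      have hd' : (d : Γ) = t * v * t⁻¹ * v⁻¹ := by
        rw [hd, Subgroup.coe_mul, MulAut.conjNormal_apply, Subgroup.coe_inv]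
      rw [← hd']
      refine ⟨d.2, Subgroup.mem_centralizer_iff.mpr fun v' hv' => ?_⟩
      by_contra hne
      set z := PlaneTwo.com hcentral ⟨v', hv'⟩ d with hz
      have hz1 : ρ (z : Γ) ≠ 1 := fun h => hne (by
        have h' : (v' * (d : Γ) * v'⁻¹ * (d : Γ)⁻¹) = 1 := hρ (h.trans (map_one ρ).symm)
        exact mul_inv_eq_iff_eq_mul.mp (mul_inv_eq_one.mp h'))
      obtain ⟨m, lam, hm0, hm, hlamz⟩ := exists_weight ρ hcardZ habel hz1
      rcases PlaneTwo.plane_general ρ s c C Z hcentral hr2 hrk hCp (MulAut.conjNormal (H := C) x)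
          (MulAut.conjNormal (H := Z) x) (fun a => by simp [MulAut.conjNormal_apply])
          (MulEquiv.ext fun a => Subtype.ext (by rw [hconj, hxP]; simp))
          (fun a => by rw [hsemi, MulAut.conjNormal_apply]) hsum lam m hm0 hm with
        hfix | ⟨-, -, A, -, -, -, -, c', -, hc'c, hrc, -, -, W, hrW, hW⟩
      · exact hlamz (by
          have := hfix ⟨v, hv⟩ ⟨v', hv'⟩
          rwa [← map_pow] at this)
      · rcases hc'c.lt_or_eq with hlt | heq
        · have hinj : Function.Injective ((X - 1).domRestrict W) :=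
            (injective_iff_map_eq_zero _).mpr fun y hy => Subtype.ext (hW hlt y y.2 (-1) (by
              rw [LinearMap.domRestrict_apply, LinearMap.sub_apply, Module.End.one_apply,
                sub_eq_zero] at hy
              rw [hs, LinearMap.neg_apply, hy, neg_smul, one_smul]))
          have h1 : finrank k W ≤ finrank k (LinearMap.range (X - 1)) := by
            rw [← LinearMap.finrank_range_of_inj hinj]
            refine Submodule.finrank_mono ?_
            rintro _ ⟨y, rfl⟩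
            exact ⟨y, rfl⟩
          have := r.2.two_le
          omega
        · rw [heq, ← hqc] at hrc
          exact hrq (by omega)
    refine centralizes_of_subgroup htt' Or C hCle
      (fun v _ y hy => (inferInstance : C.Normal).conj_mem y hy v) (fun v hv h => ?_)
      (fun v hv => hOn.conj_mem v hv t) htC hcop
    refine ⟨⟨v, hv⟩, hC₀cen (Subgroup.mem_centralizer_iff.mpr fun y hy => Subtype.ext ?_), rfl⟩
    exact h y ⟨y, hy, rfl⟩
  exact fun f hf => (Subgroup.mem_centralizer_singleton_iff.mp (hF hf)).symm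

/-- The kernel of a representation on a subgroup. -/
def kerOn {Γ : Type u} [Group Γ] {M : Type w} [AddCommGroup M] [Module k M]
    (ρ : Γ →* Module.End k M) (L : Subgroup Γ) : Subgroup L := (ρ.comp L.subtype).ker

omit [IsAlgClosed k] in
theorem mem_kerOn {Γ : Type u} [Group Γ] {M : Type w} [AddCommGroup M] [Module k M]
    {ρ : Γ →* Module.End k M} {L : Subgroup Γ} {l : L} : l ∈ kerOn ρ L ↔ ρ (l : Γ) = 1 := Iff.rfl

instance {Γ : Type u} [Group Γ] {M : Type w} [AddCommGroup M] [Module k M]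
    (ρ : Γ →* Module.End k M) (L : Subgroup Γ) : (kerOn ρ L).Normal :=
  MonoidHom.normal_ker _

/-- Elements acting as `q`-elements modulo a normal `q`-image. -/
def coreOn {Γ : Type u} [Group Γ] {M : Type w} [AddCommGroup M] [Module k M] (q : ℕ)
    (ρ : Γ →* Module.End k M) (L : Subgroup Γ) : Subgroup L :=
  (pCore q (L ⧸ kerOn ρ L)).comap (QuotientGroup.mk' (kerOn ρ L))

instance {Γ : Type u} [Group Γ] {M : Type w} [AddCommGroup M] [Module k M] (q : ℕ)
    (ρ : Γ →* Module.End k M) (L : Subgroup Γ) : (coreOn q ρ L).Normal :=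
  PSolvable.pCore_normal'.comap _

theorem comm_mem_coreOn {Γ : Type u} [Group Γ] [Finite Γ] {q c : ℕ} [Fact q.Prime] [CharP k q]
    (hqc : q + 1 = 2 ^ c) (hc2 : 2 ≤ c) (L : Subgroup Γ) [L.Normal] [Group.IsSolvable L]
    (hL : Odd (Nat.card L)) (x : Γ) :
    ∀ (M : Type w) [AddCommGroup M] [Module k M] [FiniteDimensional k M]
      (ρ : Γ →* Module.End k M), finrank k (LinearMap.range (ρ x - 1)) ≤ 2 →
      (ρ x ^ 2 ^ (c - 1) + 1) * (ρ x - 1) = 0 →
      ∀ l : L, (⟨x ^ 2 ^ (c - 1) * l * (x ^ 2 ^ (c - 1))⁻¹,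
        (inferInstance : L.Normal).conj_mem l l.2 _⟩ : L) * l⁻¹ ∈ coreOn q ρ L := by
  intro M
  intro i1 i2 i3 ρ
  induction hd : finrank k M using Nat.strong_induction_on generalizing M with
  | _ d ih =>
  subst hd
  intro hrank hquad l
  classical
  rcases subsingleton_or_nontrivial M with h | h
  · refine (show kerOn ρ L ≤ coreOn q ρ L from QuotientGroup.le_comap_mk' _ _) ?_
    exact LinearMap.ext fun m => Subsingleton.elim _ _
  by_cases hirr : ∀ U : Submodule k M, (∀ g, ∀ v ∈ U, ρ g v ∈ U) → U = ⊥ ∨ U = ⊤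
  · -- irreducible
    refine (show kerOn ρ L ≤ coreOn q ρ L from QuotientGroup.le_comap_mk' _ _) ?_
    let ρ' : Γ ⧸ ρ.ker →* Module.End k M := QuotientGroup.lift ρ.ker ρ fun g hg => hg
    have hρ' : Function.Injective ρ' := (injective_iff_map_eq_one ρ').mpr fun a ha => by
      obtain ⟨g, rfl⟩ := QuotientGroup.mk_surjective a
      exact (QuotientGroup.eq_one_iff g).mpr ha
    set π := QuotientGroup.mk' ρ.ker
    haveI : (L.map π).Normal :=
      Subgroup.Normal.map inferInstance _ (QuotientGroup.mk'_surjective _)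
    haveI : Group.IsSolvable (L.map π) :=
      Group.isSolvable_of_surjective (f := π.subgroupMap L) (π.subgroupMap_surjective L)
    have h1 := commutes_of_irreducible hqc hc2 ρ' hρ' (L.map π)
      (hL.of_dvd_nat (Subgroup.card_map_dvd L π)) (π x) hrank hquad
      (fun U hU => hirr U fun g => hU (π g)) (π l) ⟨l, l.2, rfl⟩
    rw [← map_pow, ← map_mul, ← map_mul] at h1
    have h3 : ρ (x ^ 2 ^ (c - 1) * l) = ρ (l * x ^ 2 ^ (c - 1)) := congrArg ρ' h1
    rw [mem_kerOn]
    change ρ (x ^ 2 ^ (c - 1) * (l : Γ) * (x ^ 2 ^ (c - 1))⁻¹ * (l : Γ)⁻¹) = 1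
    rw [map_mul ρ, map_mul ρ, h3, ← map_mul ρ, ← map_mul ρ, mul_inv_cancel_right, mul_inv_cancel,
      map_one]
  push_neg at hirr
  obtain ⟨U, hUinv, hU0, hU1⟩ := hirr
  let ρU : Γ →* Module.End k U := OddPower.resRep ρ U hUinv
  let ρQ : Γ →* Module.End k (M ⧸ U) :=
    { toFun := fun g => U.mapQ U (ρ g) fun v hv => hUinv g v hv
      map_one' := Submodule.linearMap_qext _ (LinearMap.ext fun v => by simp)
      map_mul' := fun a b => Submodule.linearMap_qext _ (LinearMap.ext fun v => by simp) }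
  have hρQ : ∀ g v, ρQ g (Submodule.Quotient.mk v) = Submodule.Quotient.mk (ρ g v) :=
    fun g v => rfl
  have hltU : finrank k U < finrank k M := Submodule.finrank_lt hU1
  have hltQ : finrank k (M ⧸ U) < finrank k M := by
    have h1 := Submodule.finrank_quotient_add_finrank U
    have h3 : 0 < finrank k U := by
      haveI : Nontrivial U := Submodule.nontrivial_iff_ne_bot.mpr hU0
      exact finrank_pos
    omega
  have hU' := ih _ hltU U ρU rfl ?_ ?_ l
  rotate_left
  · refine le_trans ?_ hrank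
    let D : LinearMap.range (ρU x - 1) →ₗ[k] LinearMap.range (ρ x - 1) :=
      (U.subtype.comp (LinearMap.range (ρU x - 1)).subtype).codRestrict _ (by
        rintro ⟨_, m, rfl⟩
        exact ⟨(m : M), rfl⟩)
    exact LinearMap.finrank_le_finrank_of_injective (f := D) fun a a' h =>
      Subtype.ext (Subtype.ext (congrArg Subtype.val h : _))
  · refine LinearMap.ext fun m => Subtype.ext ?_
    rw [← map_pow]
    have h1 := LinearMap.congr_fun hquad (m : M)
    rw [← map_pow] at h1
    exact h1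
  have hQ' := ih _ hltQ (M ⧸ U) ρQ rfl ?_ ?_ l
  rotate_left
  · refine le_trans ?_ hrank
    have hle : LinearMap.range (ρQ x - 1) ≤ (LinearMap.range (ρ x - 1)).map U.mkQ := by
      rintro _ ⟨m, rfl⟩
      obtain ⟨m, rfl⟩ := Submodule.Quotient.mk_surjective U m
      exact ⟨_, ⟨m, rfl⟩, rfl⟩
    exact (Submodule.finrank_mono hle).trans (Submodule.finrank_map_le _ _)
  · refine Submodule.linearMap_qext _ (LinearMap.ext fun m => ?_)
    rw [← map_pow]
    have h1 := LinearMap.congr_fun hquad m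
    rw [← map_pow] at h1
    exact congrArg U.mkQ h1
  -- the intersection acts as a `q`-group
  haveI : CharP (Module.End k M) q := charP_of_injective_algebraMap (algebraMap k _).injective q
  have hle : coreOn q ρU L ⊓ coreOn q ρQ L ≤ coreOn q ρ L := by
    haveI : (coreOn q ρU L ⊓ coreOn q ρQ L).Normal := Subgroup.normal_inf_normal _ _
    change _ ≤ (pCore q (L ⧸ kerOn ρ L)).comap _
    rw [← Subgroup.map_le_iff_le_comap]
    refine PSolvable.le_pCore
      (Subgroup.Normal.map inferInstance _ (QuotientGroup.mk'_surjective _)) ?_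
    rintro ⟨_, h, ⟨hhU, hhQ⟩, rfl⟩
    obtain ⟨a, ha⟩ := PSolvable.isPGroup_pCore ⟨_, hhU⟩
    obtain ⟨b, hb⟩ := PSolvable.isPGroup_pCore ⟨_, hhQ⟩
    have ha' : h ^ q ^ a ∈ kerOn ρU L := (QuotientGroup.eq_one_iff _).mp (congrArg Subtype.val ha)
    have hb' : h ^ q ^ b ∈ kerOn ρQ L := (QuotientGroup.eq_one_iff _).mp (congrArg Subtype.val hb)
    set g := h ^ q ^ (a + b) with hg
    have hgU : ρU (g : Γ) = 1 := by
      have h1 := Subgroup.pow_mem _ ha' (q ^ b)
      rwa [← pow_mul, ← pow_add] at h1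
    have hgQ : ρQ (g : Γ) = 1 := by
      have h1 := Subgroup.pow_mem _ hb' (q ^ a)
      rwa [← pow_mul, ← pow_add, Nat.add_comm] at h1
    refine ⟨a + b + 1, Subtype.ext ?_⟩
    change QuotientGroup.mk' _ h ^ q ^ (a + b + 1) = 1
    rw [← map_pow, QuotientGroup.mk'_apply, QuotientGroup.eq_one_iff, mem_kerOn, pow_succ q,
      pow_mul, ← hg, Subgroup.coe_pow, map_pow, ← sub_eq_zero]
    have hsq : (ρ (g : Γ) - 1) ^ 2 = 0 := by
      refine LinearMap.ext fun m => ?_
      have h1 : (ρ (g : Γ) - 1) m ∈ U := by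
        rw [← Submodule.Quotient.mk_eq_zero, LinearMap.sub_apply, Submodule.Quotient.mk_sub,
          ← hρQ, hgQ]
        simp
      have h3 := congrArg Subtype.val (LinearMap.congr_fun hgU ⟨_, h1⟩)
      rw [pow_two, Module.End.mul_apply, LinearMap.zero_apply, LinearMap.sub_apply (f := ρ (g : Γ)),
        Module.End.one_apply, sub_eq_zero]
      exact h3
    have h4 : (ρ (g : Γ) - 1) ^ q = 0 := pow_eq_zero_of_le (Fact.out : q.Prime).two_le hsq
    rwa [sub_pow_char_of_commute _ (Commute.one_right _), one_pow] at h4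
  exact hle ⟨hU', hQ'⟩

end Cfsg.Agent.Lib.FpfHeight.PlaneOdd
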