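/-
For a fixed-point-free automorphism `σ` with `σ ^ (2 ^ n) = 1`, `2 ≤ n`, of a finite solvable group
`G`, the power `σ ^ (2 ^ (n - 1))` acts trivially on the second Fitting quotient of `G`.
-/
import Cfsg.Agent.Lib.Cores.Basic
import Cfsg.Agent.Lib.Coprime.Commutator
import Cfsg.Agent.Lib.PGroups.Frattini
import Cfsg.Agent.Lib.OddLocal.PStable
import Cfsg.Agent.Lib.FpfHeight.Abelian
import Cfsg.Agent.Lib.FpfHeight.PlaneOdd

set_option autoImplicit false

namespace Cfsg.Agent.Lib.FpfHeight.PlaneFitting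

open Module Cfsg
open scoped commutatorElement

universe u

/-- A normal subgroup that is an `r`-group modulo `F(G)` and whose `r`-elements centralize the
other cores lies in `F(G)`. -/
theorem le_fitting_of_pElements {G : Type u} [Group G] [Finite G] (N : Subgroup G) [N.Normal]
    {r : ℕ} [Fact r.Prime] (hN : ∀ g ∈ N, ∃ a : ℕ, g ^ r ^ a ∈ fittingSubgroup G)
    (hcen : ∀ g ∈ N, (∃ a : ℕ, g ^ r ^ a = 1) →
      ∀ q : ℕ, q.Prime → q ≠ r → ∀ v ∈ pCore q G, g * v = v * g) :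
    N ≤ fittingSubgroup G := by
  classical
  have hr : r.Prime := Fact.out
  set D := ⨆ q : {q : Nat.Primes // (q : ℕ) ≠ r}, pCore ((q.1 : ℕ)) G with hD
  haveI : ∀ q : {q : Nat.Primes // (q : ℕ) ≠ r}, (pCore ((q.1 : ℕ)) G).Normal := fun q =>
    PSolvable.pCore_normal'
  haveI : D.Normal := Subgroup.iSup_normal _
  set X := N ⊓ Subgroup.centralizer (D : Set G) with hX
  haveI : (Subgroup.centralizer (D : Set G)).Normal := Subgroup.normal_centralizer
  haveI : X.Normal := Subgroup.normal_inf_normal _ _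
  -- the elements of `F(G)` of order prime to `r` lie in `D`
  have hFD : ∀ h ∈ fittingSubgroup G, ∀ m : ℕ, h ^ m = 1 → m.Coprime r → h ∈ D := by
    intro h hh m hm hmr
    have hle : fittingSubgroup G ≤ pCore r G ⊔ D := by
      rw [Cores.fittingSubgroup_eq_iSup_pCore]
      refine iSup_le fun q => ?_
      by_cases hq : (q : ℕ) = r
      · rw [hq]; exact le_sup_left
      · exact (le_iSup (fun q : {q : Nat.Primes // (q : ℕ) ≠ r} => pCore ((q.1 : ℕ)) G)
          ⟨q, hq⟩).trans le_sup_right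
    obtain ⟨o, ho, d, hd, hod⟩ := Subgroup.mem_sup_of_normal_right.mp (hle hh)
    obtain ⟨i, hi⟩ := Cores.pCore_isPGroup r ⟨o, ho⟩
    have hi' : o ^ r ^ i = 1 := congrArg Subtype.val hi
    have h1 : (h : G ⧸ D) = (o : G ⧸ D) := by
      rw [← hod, QuotientGroup.mk_mul, (QuotientGroup.eq_one_iff d).mpr hd, mul_one]
    have h2 : (h : G ⧸ D) ^ m = 1 := by rw [← QuotientGroup.mk_pow, hm, QuotientGroup.mk_one]
    have h3 : (h : G ⧸ D) ^ r ^ i = 1 := by
      rw [h1, ← QuotientGroup.mk_pow, hi', QuotientGroup.mk_one]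
    have h4 := Nat.dvd_gcd (orderOf_dvd_of_pow_eq_one h2) (orderOf_dvd_of_pow_eq_one h3)
    rw [(hmr.pow_right i).gcd_eq_one, Nat.dvd_one] at h4
    exact (QuotientGroup.eq_one_iff h).mp (orderOf_eq_one_iff.mp h4)
  have hsplit : ∀ g : G, ∃ a m : ℕ, orderOf g = r ^ a * m ∧ m.Coprime r := fun g => by
    obtain ⟨a, m, hm, ham⟩ :=
      Nat.exists_eq_pow_mul_and_not_dvd (orderOf_pos g).ne' r hr.ne_one
    exact ⟨a, m, ham, ((hr.coprime_iff_not_dvd).mpr hm).symm⟩
  have hX' : X ≤ fittingSubgroup G := by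
    refine Cores.le_fittingSubgroup (Group.of_quotient_center_nilpotent ?_)
    refine IsPGroup.isNilpotent (p := r) fun c => ?_
    obtain ⟨⟨g, hgN, hgC⟩, rfl⟩ := QuotientGroup.mk_surjective c
    obtain ⟨a, m, ham, hmr⟩ := hsplit g
    refine ⟨a, ?_⟩
    rw [← QuotientGroup.mk_pow, QuotientGroup.eq_one_iff, Subgroup.mem_center_iff]
    intro y
    refine Subtype.ext ?_
    have hm1 : (g ^ r ^ a) ^ m = 1 := by rw [← pow_mul, ← ham, pow_orderOf_eq_one]
    obtain ⟨b, hb⟩ := hN g hgN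
    have hgF : g ^ r ^ a ∈ fittingSubgroup G := by
      have h1 : ((g ^ r ^ a : G) : G ⧸ fittingSubgroup G) ^ m = 1 := by
        rw [← QuotientGroup.mk_pow, hm1, QuotientGroup.mk_one]
      have h2 : ((g ^ r ^ a : G) : G ⧸ fittingSubgroup G) ^ r ^ b = 1 := by
        rw [← QuotientGroup.mk_pow, QuotientGroup.eq_one_iff, ← pow_mul, Nat.mul_comm, pow_mul]
        exact Subgroup.pow_mem _ hb _
      have h4 := Nat.dvd_gcd (orderOf_dvd_of_pow_eq_one h1) (orderOf_dvd_of_pow_eq_one h2)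
      rw [(hmr.pow_right b).gcd_eq_one, Nat.dvd_one] at h4
      exact (QuotientGroup.eq_one_iff _).mp (orderOf_eq_one_iff.mp h4)
    exact (Subgroup.mem_centralizer_iff.mp y.2.2 _ (hFD _ hgF m hm1 hmr)).symm
  intro g hg
  obtain ⟨a, m, ham, hmr⟩ := hsplit g
  have hgm : g ^ m ∈ X := by
    refine ⟨pow_mem hg m, ?_⟩
    have hle : D ≤ Subgroup.centralizer {g ^ m} := by
      refine iSup_le fun q => ?_
      intro v hv
      rw [Subgroup.mem_centralizer_singleton_iff]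
      exact (hcen _ (pow_mem hg m) ⟨a, by rw [← pow_mul, Nat.mul_comm, ← ham, pow_orderOf_eq_one]⟩
        _ q.1.2 q.2 v hv).symm
    exact Subgroup.mem_centralizer_iff.mpr fun v hv =>
      Subgroup.mem_centralizer_singleton_iff.mp (hle hv)
  obtain ⟨b, hb⟩ := hN g hg
  have h1 : (g : G ⧸ fittingSubgroup G) ^ m = 1 := by
    rw [← QuotientGroup.mk_pow, QuotientGroup.eq_one_iff]; exact hX' hgm
  have h2 : (g : G ⧸ fittingSubgroup G) ^ r ^ b = 1 := by
    rw [← QuotientGroup.mk_pow, QuotientGroup.eq_one_iff]; exact hb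
  have h4 := Nat.dvd_gcd (orderOf_dvd_of_pow_eq_one h1) (orderOf_dvd_of_pow_eq_one h2)
  rw [(hmr.pow_right b).gcd_eq_one, Nat.dvd_one] at h4
  exact (QuotientGroup.eq_one_iff g).mp (orderOf_eq_one_iff.mp h4)

/-- The module of `G/F(G)` on the Frattini quotient of `O_v(G)`, with the operator of `σ`. -/
theorem exists_module {G : Type u} [Group G] [Finite G] (σ : MulAut G) {n : ℕ}
    (hσ : σ ^ 2 ^ n = 1) (hfpf : ∀ g, σ g = g → g = 1)
    (hinv : ∀ g ∈ fittingSubgroup G, σ g ∈ fittingSubgroup G) (v : ℕ) [Fact v.Prime] :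
    ∃ (M : Type u) (_ : AddCommGroup M) (_ : Module (AlgebraicClosure (ZMod v)) M)
      (_ : FiniteDimensional (AlgebraicClosure (ZMod v)) M)
      (ρ : G ⧸ fittingSubgroup G →* Module.End (AlgebraicClosure (ZMod v)) M)
      (s : Module.End (AlgebraicClosure (ZMod v)) M),
      (∀ c, s * ρ c = ρ (Basic.quotAut σ (fittingSubgroup G) hinv c) * s) ∧
      ∑ i ∈ Finset.range (2 ^ n), s ^ i = 0 ∧
      ∀ g : G, ρ (g : G ⧸ fittingSubgroup G) = 1 → ∀ w ∈ pCore v G,
        g * w * g⁻¹ * w⁻¹ ∈ (frattini ↥(pCore v G)).map (pCore v G).subtype := by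
  classical
  set T := pCore v G with hT
  have hTp : IsPGroup v T := Cores.pCore_isPGroup v
  haveI : IsMulCommutative (↥T ⧸ frattini ↥T) := by
    have h := (Cfsg.Agent.Lib.PGroups.frattiniQuotient_elemAb hTp).1
    exact ⟨⟨fun a b => congrArg Subtype.val
      (h.is_comm.comm ⟨a, Subgroup.mem_top a⟩ ⟨b, Subgroup.mem_top b⟩)⟩⟩
  letI : CommGroup (↥T ⧸ frattini ↥T) :=
    { (inferInstance : Group (↥T ⧸ frattini ↥T)) with
      mul_comm := fun a b => mul_comm' a b }
  set V := Additive (↥T ⧸ frattini ↥T)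
  have hV : ∀ w : V, v • w = 0 := fun w => by
    change Additive.ofMul (Additive.toMul w ^ v) = Additive.ofMul 1
    rw [(Cfsg.Agent.Lib.PGroups.frattiniQuotient_elemAb hTp).2 _ (Subgroup.mem_top _)]
  obtain ⟨M, i1, i2, i3, L, hL⟩ := ScalarExt.exists_rep v V hV
  let r : G →* AddMonoid.End V := OddLocal.PStable.frattiniRep T
  have hr : ∀ (g : G) (w : T), r g (Additive.ofMul (w : ↥T ⧸ frattini ↥T)) =
      Additive.ofMul ((MulAut.conjNormal g w : ↥T) : ↥T ⧸ frattini ↥T) := fun g w => rfl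
  have hext : ∀ (f f' : AddMonoid.End V), (∀ w : T, f (Additive.ofMul (w : ↥T ⧸ frattini ↥T)) =
      f' (Additive.ofMul (w : ↥T ⧸ frattini ↥T))) → f = f' := fun f f' h =>
    AddMonoidHom.ext fun x => by
      obtain ⟨w, hw⟩ := QuotientGroup.mk_surjective (Additive.toMul x)
      have hx : x = Additive.ofMul (w : ↥T ⧸ frattini ↥T) := by rw [hw]; rfl
      rw [hx]; exact h w
  have hFr : fittingSubgroup G ≤ r.ker := by
    rw [Cores.fittingSubgroup_eq_iSup_pCore]
    refine iSup_le fun w => ?_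
    intro g hg
    refine MonoidHom.mem_ker.mpr (hext _ _ fun z => ?_)
    refine (hr g z).trans (congrArg Additive.ofMul ?_)
    by_cases hwv : (w : ℕ) = v
    · have hg' : g ∈ T := by rw [hT, ← hwv]; exact hg
      rw [show MulAut.conjNormal g z = ⟨g, hg'⟩ * z * (⟨g, hg'⟩ : T)⁻¹ from Subtype.ext (by simp),
        QuotientGroup.mk_mul, QuotientGroup.mk_mul, QuotientGroup.mk_inv,
        mul_comm' ((⟨g, hg'⟩ : T) : ↥T ⧸ frattini ↥T), mul_inv_cancel_right]
    · haveI : Fact (w : ℕ).Prime := ⟨w.2⟩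
      have hdis : Disjoint (pCore (w : ℕ) G) T :=
        IsPGroup.disjoint_of_ne (w : ℕ) v hwv _ _ (Cores.pCore_isPGroup _) hTp
      have hc : Commute g (z : G) :=
        Subgroup.commute_of_normal_of_disjoint _ _ inferInstance inferInstance hdis g z hg z.2
      rw [show MulAut.conjNormal g z = z from Subtype.ext (by
        rw [MulAut.conjNormal_apply, hc.eq, mul_inv_cancel_right])]
  let σT : MulAut T := OddPower.subAut σ T (Basic.apply_mem_of_char σ T)
  have hΦ : ∀ x ∈ frattini ↥T, σT x ∈ frattini ↥T := Basic.apply_mem_of_char σT _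
  set s₀ := Basic.quotAut σT (frattini ↥T) hΦ with hs₀
  have hσT : σT ^ 2 ^ n = 1 := MulEquiv.ext fun z => Subtype.ext (by
    rw [OddPower.coe_subAut_pow, hσ]; rfl)
  have hsum₀ : ∑ i ∈ Finset.range (2 ^ n), Basic.toEnd (s₀ ^ i) = 0 :=
    Basic.sum_pow_eq_zero s₀ (Basic.quotAut_pow_eq_one σT _ hΦ hσT)
      (Basic.quotAut_fpf σT _ hΦ fun z hz => Subtype.ext (hfpf z (congrArg Subtype.val hz)))
  let ρ : G ⧸ fittingSubgroup G →* Module.End (AlgebraicClosure (ZMod v)) M :=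
    QuotientGroup.lift _ (L.toMonoidHom.comp r) (fun g hg => MonoidHom.mem_ker.mpr (by
      change L (r g) = 1
      rw [MonoidHom.mem_ker.mp (hFr hg), map_one]))
  refine ⟨M, i1, i2, i3, ρ, L (Basic.toEnd s₀), fun c => ?_, ?_, fun g hg w hw => ?_⟩
  · obtain ⟨g, rfl⟩ := QuotientGroup.mk_surjective c
    change L (Basic.toEnd s₀) * L (r g) = L (r (σ g)) * L (Basic.toEnd s₀)
    rw [← map_mul, ← map_mul]
    refine congrArg L (hext _ _ fun z => ?_)
    change Additive.ofMul (s₀ ((MulAut.conjNormal g z : T) : ↥T ⧸ frattini ↥T)) =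
      Additive.ofMul (((MulAut.conjNormal (σ g) (σT z) : T)) : ↥T ⧸ frattini ↥T)
    rw [hs₀, Basic.quotAut_mk]
    refine congrArg Additive.ofMul (congrArg _ (Subtype.ext ?_))
    change σ ((MulAut.conjNormal g z : T) : G) = _
    rw [MulAut.conjNormal_apply, MulAut.conjNormal_apply, map_mul, map_mul, map_inv]
    rfl
  · have h := congrArg L hsum₀
    rw [map_sum, map_zero] at h
    rw [← h]
    exact Finset.sum_congr rfl fun i _ => by rw [← map_pow, map_pow Basic.toEnd]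
  · have hg' : r g = 1 := hL (hg.trans (map_one L).symm)
    have h1 := congrArg Additive.toMul (DFunLike.congr_fun hg'
      (Additive.ofMul ((⟨w, hw⟩ : T) : ↥T ⧸ frattini ↥T)))
    rw [hr] at h1
    change ((MulAut.conjNormal g (⟨w, hw⟩ : T) : T) : ↥T ⧸ frattini ↥T) =
      ((⟨w, hw⟩ : T) : ↥T ⧸ frattini ↥T) at h1
    rw [← mul_inv_eq_one, ← QuotientGroup.mk_inv, ← QuotientGroup.mk_mul,
      QuotientGroup.eq_one_iff] at h1
    exact ⟨_, h1, by simp⟩

/-- An element of the `q`-core of `G/F(G)` acting trivially on all modules of other characteristic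
is trivial. -/
theorem eq_one_of_trivial {G : Type u} [Group G] [Finite G] {q : ℕ} [Fact q.Prime]
    (c : G ⧸ fittingSubgroup G) (hc : c ∈ pCore q (G ⧸ fittingSubgroup G))
    (htriv : ∀ g : G, (g : G ⧸ fittingSubgroup G) = c → ∀ v : ℕ, v.Prime → v ≠ q →
      ∀ w ∈ pCore v G, g * w * g⁻¹ * w⁻¹ ∈ (frattini ↥(pCore v G)).map (pCore v G).subtype) :
    c = 1 := by
  classical
  let K : Subgroup G :=
    { carrier := {g | ∀ v : ℕ, v.Prime → v ≠ q → ∀ w ∈ pCore v G,
        g * w * g⁻¹ * w⁻¹ ∈ (frattini ↥(pCore v G)).map (pCore v G).subtype}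
      one_mem' := fun v _ _ w _ => by simp [one_mem]
      mul_mem' := fun {a b} ha hb v hv hvq w hw => by
        have h1 := hb v hv hvq w hw
        have h2 := ha v hv hvq _ ((inferInstance : (pCore v G).Normal).conj_mem w hw b)
        rw [show a * b * w * (a * b)⁻¹ * w⁻¹ =
          (a * (b * w * b⁻¹) * a⁻¹ * (b * w * b⁻¹)⁻¹) * (b * w * b⁻¹ * w⁻¹) by group]
        exact mul_mem h2 h1
      inv_mem' := fun {a} ha v hv hvq w hw => by
        have h1 := ha v hv hvq _ ((inferInstance : (pCore v G).Normal).conj_mem w hw a⁻¹)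
        have h2 := inv_mem h1
        rwa [show (a * (a⁻¹ * w * a⁻¹⁻¹) * a⁻¹ * (a⁻¹ * w * a⁻¹⁻¹)⁻¹)⁻¹ =
          a⁻¹ * w * a⁻¹⁻¹ * w⁻¹ by group] at h2 }
  haveI : K.Normal := ⟨fun a ha g v hv hvq w hw => by
    haveI : ((frattini ↥(pCore v G)).map (pCore v G).subtype).Normal :=
      ConjAct.normal_of_characteristic_of_normal
    have h1 := ha v hv hvq _ ((inferInstance : (pCore v G).Normal).conj_mem w hw g⁻¹)
    have h2 := (inferInstance : ((frattini ↥(pCore v G)).map (pCore v G).subtype).Normal).conj_mem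
      _ h1 g
    rwa [show g * (a * (g⁻¹ * w * g⁻¹⁻¹) * a⁻¹ * (g⁻¹ * w * g⁻¹⁻¹)⁻¹) * g⁻¹ =
      g * a * g⁻¹ * w * (g * a * g⁻¹)⁻¹ * w⁻¹ by group] at h2⟩
  set N := (pCore q (G ⧸ fittingSubgroup G)).comap (QuotientGroup.mk' (fittingSubgroup G)) ⊓ K with hN
  haveI : N.Normal := Subgroup.normal_inf_normal _ _
  have hle : N ≤ fittingSubgroup G := by
    refine le_fitting_of_pElements N (r := q) (fun g hg => Abelian.pow_mem_of_mem_comap_pCore (fittingSubgroup G) hg.1) ?_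
    rintro g hg ⟨a, ha⟩ v hv hvq w hw
    haveI : Fact v.Prime := ⟨hv⟩
    have hcent : Subgroup.zpowers g ≤ Subgroup.centralizer (pCore v G : Set G) := by
      refine Coprime.le_centralizer_of_frattini ?_ ?_ fun b hb y hy => ?_
      · rw [Subgroup.normalizer_eq_top_iff.mpr inferInstance]; exact le_top
      · obtain ⟨m, hm⟩ :=
          IsPGroup.iff_card.mp ((Cores.pCore_isPGroup v).to_subgroup (frattini ↥(pCore v G)))
        rw [hm, Nat.card_zpowers]
        exact Nat.Coprime.of_dvd_left (orderOf_dvd_of_pow_eq_one ha)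
          (Nat.coprime_pow_primes a m Fact.out hv (Ne.symm hvq))
      · exact (Subgroup.zpowers_le.mpr hg.2 : _) hb v hv hvq y hy
    exact (Subgroup.mem_centralizer_iff.mp (hcent (Subgroup.mem_zpowers g)) w hw).symm
  obtain ⟨g, hg⟩ := QuotientGroup.mk_surjective c
  rw [← hg]
  refine (QuotientGroup.eq_one_iff g).mpr (hle ⟨?_, htriv g hg⟩)
  change (g : G ⧸ fittingSubgroup G) ∈ pCore q (G ⧸ fittingSubgroup G)
  rw [hg]; exact hc

/-- The subgroup attached to a weight. -/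
theorem exists_core_of_weight {K : Type u} [Group K] [Finite K] [Group.IsSolvable K]
    (hKodd : Odd (Nat.card K)) (σ : MulAut K) {n : ℕ} (hσ : σ ^ 2 ^ n = 1) (H₁ : Subgroup K)
    [H₁.Normal] (hH₁σ : ∀ h ∈ H₁, σ h ∈ H₁) (P Z : Subgroup K) [P.Normal] [Z.Normal]
    (hσP : ∀ p ∈ P, σ p ∈ P) (hσZ : ∀ z ∈ Z, σ z ∈ Z) (hc : PlaneTwo.Central P Z)
    {q : ℕ} [Fact q.Prime] (hq : q ≠ 2) (hP : IsPGroup q P) (hPexp : ∀ p ∈ P, p ^ q ∈ Z)
    (hH₁Z : ∀ g ∈ H₁, ∀ z ∈ Z, g * z = z * g) {k : Type*} [Field k] [IsAlgClosed k]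
    (hqk : (q : k) ≠ 0) {M : Type*} [AddCommGroup M] [Module k M] [FiniteDimensional k M]
    (ρ : K →* Module.End k M) (s : Module.End k M) (hs : ∀ c, s * ρ c = ρ (σ c) * s)
    (hsum : ∑ i ∈ Finset.range (2 ^ n), s ^ i = 0) (lam : Z →* k) (w : M) (hw0 : w ≠ 0)
    (hw : ∀ z : Z, ρ (z : K) w = lam z • w) :
    ∃ W : Subgroup H₁, W.Normal ∧
      (∀ h ∈ W, ∀ m : ℕ, m.Coprime q → h ^ m = 1 →
        ∀ p : P, MulAut.conjNormal (h : K) p * p⁻¹ ∈ PlaneTwo.radP hc lam) ∧
      ∀ (h : H₁) (h' : H₁), (h' : K) = (σ ^ 2 ^ (n - 1)) (h : K) → h' * h⁻¹ ∈ W := by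
  classical
  haveI hRn := PlaneTwo.radP_normal hc lam
  set R := PlaneTwo.radP hc lam with hR
  set β := OddPower.subAut σ P hσP with hβ
  set βZ := OddPower.subAut σ Z hσZ with hβZ
  have hβp : ∀ (i : ℕ) (p : P), (((β ^ i) p : P) : K) = (σ ^ i) p := fun i p =>
    OddPower.coe_subAut_pow σ P hσP i p
  have hβzp : ∀ (i : ℕ) (z : Z), (((βZ ^ i) z : Z) : K) = (σ ^ i) z := fun i z =>
    OddPower.coe_subAut_pow σ Z hσZ i z
  have hβe : β ^ 2 ^ n = 1 := MulEquiv.ext fun p => Subtype.ext (by rw [hβp, hσ]; rfl)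
  have hRH : ∀ h : H₁, ∀ r ∈ R, MulAut.conjNormal (H := P) (h : K) r ∈ R := by
    intro h r hr v
    obtain ⟨v', rfl⟩ := (MulAut.conjNormal (H := P) (h : K)).surjective v
    rw [PlaneTwo.pair, ← hr v', PlaneTwo.pair]
    refine congrArg lam (Subtype.ext ?_)
    have h1 := hH₁Z h h.2 _ (PlaneTwo.com hc v' r).2
    calc ((PlaneTwo.com hc (MulAut.conjNormal (h : K) v') (MulAut.conjNormal (h : K) r) : Z) : K)
        = (h : K) * (PlaneTwo.com hc v' r : K) * (h : K)⁻¹ := by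
          simp only [PlaneTwo.com, MulAut.conjNormal_apply]; group
      _ = _ := by rw [h1, mul_inv_cancel_right]
  let act : H₁ →* MulAut (P ⧸ R) :=
    { toFun := fun g => Basic.quotAut (MulAut.conjNormal (H := P) (g : K)) R (hRH g)
      map_one' := MulEquiv.ext fun c => by
        obtain ⟨p, rfl⟩ := QuotientGroup.mk_surjective c
        simp
      map_mul' := fun g g' => MulEquiv.ext fun c => by
        obtain ⟨p, rfl⟩ := QuotientGroup.mk_surjective c
        simp [MulAut.mul_apply] }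
  have hact : ∀ (g : H₁) (p : P), act g (p : P ⧸ R) =
      ((MulAut.conjNormal (H := P) (g : K) p : P) : P ⧸ R) := fun g p => rfl
  have hactker : ∀ h : H₁, act h = 1 →
      ∀ p : P, MulAut.conjNormal (h : K) p * p⁻¹ ∈ R := by
    intro h hh p
    have h3 := MulEquiv.congr_fun hh (p : P ⧸ R)
    rw [hact, MulAut.one_apply] at h3
    rw [← QuotientGroup.eq_one_iff, QuotientGroup.mk_mul, QuotientGroup.mk_inv]
    exact mul_inv_eq_one.mpr h3
  -- conjugation by a power of `σ` preserving the weight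
  have hsemi : ∀ (i : ℕ) (hRi : ∀ r ∈ R, (β ^ i) r ∈ R) (h h' : H₁), (h' : K) = (σ ^ i) h →
      Basic.quotAut (β ^ i) R hRi * act h = act h' * Basic.quotAut (β ^ i) R hRi := by
    intro i hRi h h' hh'
    refine MulEquiv.ext fun c => ?_
    obtain ⟨p, rfl⟩ := QuotientGroup.mk_surjective c
    rw [MulAut.mul_apply, MulAut.mul_apply, hact, Basic.quotAut_mk, Basic.quotAut_mk, hact]
    refine congrArg _ (Subtype.ext ?_)
    rw [hβp, MulAut.conjNormal_apply, MulAut.conjNormal_apply, hβp, hh', map_mul, map_mul,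
      map_inv]
  have hHσ : ∀ i : ℕ, ∀ h ∈ H₁, (σ ^ i) h ∈ H₁ := OddPower.pow_invariant σ hH₁σ
  have hRpow : ∀ i : ℕ, (∀ z, lam ((βZ ^ i) z) = lam z) → ∀ r ∈ R, (β ^ i) r ∈ R := by
    intro i hi r hr v
    obtain ⟨v', rfl⟩ := (β ^ i).surjective v
    rw [PlaneTwo.pair, ← hr v', PlaneTwo.pair, ← hi (PlaneTwo.com hc v' r)]
    refine congrArg lam (Subtype.ext ?_)
    rw [hβzp]
    simp only [PlaneTwo.com, hβp, map_mul, map_inv]
  rcases PlaneTwo.plane_general ρ s n P Z hc hq hqk hP β βZ (fun z => rfl) hβe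
      (fun p => hs (p : K)) hsum lam w hw0 hw with
    hfix | ⟨hn2, -, A, hRA, hA, -, htA, c, hc2, hcn, hqc, hlamx, hxA, -⟩
  · refine ⟨act.ker, MonoidHom.normal_ker act, fun h hh m _ _ => hactker h hh,
      fun h h' hh' => ?_⟩
    have hRτ : ∀ r ∈ R, (β ^ 2 ^ (n - 1)) r ∈ R := fun r hr => by
      have h1 := R.mul_mem (hfix r) hr
      rwa [inv_mul_cancel_right] at h1
    have h1 : Basic.quotAut (β ^ 2 ^ (n - 1)) R hRτ = 1 := by
      refine MulEquiv.ext fun c => ?_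
      obtain ⟨p, rfl⟩ := QuotientGroup.mk_surjective c
      rw [Basic.quotAut_mk, MulAut.one_apply]
      have h2 := (QuotientGroup.eq_one_iff _).mpr (hfix p)
      rw [QuotientGroup.mk_mul, QuotientGroup.mk_inv, mul_inv_eq_one] at h2
      exact h2
    have h2 := hsemi _ hRτ h h' hh'
    rw [h1, one_mul, mul_one] at h2
    rw [MonoidHom.mem_ker, map_mul, map_inv, h2, mul_inv_cancel]
  -- the plane
  set d := 2 ^ (n - c) with hd
  have hRd : ∀ r ∈ R, (β ^ d) r ∈ R := hRpow d hlamx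
  set x₀ := Basic.quotAut (β ^ d) R hRd with hx₀
  set Γ := Subgroup.normalizer (act.range : Set (MulAut (P ⧸ R))) with hΓ
  have hx₀Γ : x₀ ∈ Γ := by
    rw [hΓ, Subgroup.mem_normalizer_iff]
    intro a
    constructor
    · rintro ⟨h, rfl⟩
      refine ⟨⟨(σ ^ d) h, hHσ d h h.2⟩, ?_⟩
      rw [eq_mul_inv_iff_mul_eq]
      exact (hsemi d hRd h _ rfl).symm
    · rintro ⟨h, hh⟩
      have h₀ : ((σ ^ d)⁻¹ : MulAut K) h ∈ H₁ := by
        have hinj : Function.Injective fun y : H₁ => (⟨(σ ^ d) y, hHσ d y y.2⟩ : H₁) :=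
          fun a b hab => Subtype.ext ((σ ^ d).injective (congrArg Subtype.val hab))
        obtain ⟨y, hy⟩ := Finite.surjective_of_injective hinj h
        have : ((σ ^ d)⁻¹ : MulAut K) h = y := by rw [← hy]; exact (σ ^ d).symm_apply_apply y
        rw [this]; exact y.2
      refine ⟨⟨_, h₀⟩, ?_⟩
      have h1 := hsemi d hRd ⟨_, h₀⟩ h ((σ ^ d).apply_symm_apply _).symm
      rw [← hx₀, hh] at h1
      rw [← mul_left_cancel_iff (a := x₀), h1]
      group
  set L := act.range.subgroupOf Γ with hL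
  haveI : L.Normal := Subgroup.normal_in_normalizer
  have hle : act.range ≤ Γ := Subgroup.le_normalizer
  let ψ : H₁ →* L := ((Subgroup.subgroupOfEquivOfLe hle).symm.toMonoidHom).comp act.rangeRestrict
  have hψ : ∀ h : H₁, (((ψ h : L) : Γ) : MulAut (P ⧸ R)) = act h := fun h => rfl
  have hψs : Function.Surjective ψ :=
    (Subgroup.subgroupOfEquivOfLe hle).symm.surjective.comp act.rangeRestrict_surjective
  haveI : Group.IsSolvable H₁ := inferInstance
  haveI : Group.IsSolvable L := Group.isSolvable_of_surjective (f := ψ) hψs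
  have hLodd : Odd (Nat.card L) := (hKodd.of_dvd_nat (Subgroup.card_subgroup_dvd_card H₁)).of_dvd_nat
    (Subgroup.card_dvd_of_surjective ψ hψs)
  letI : CommGroup (P ⧸ R) :=
    { (inferInstance : Group (P ⧸ R)) with
      mul_comm := fun a b => by
        obtain ⟨a, rfl⟩ := QuotientGroup.mk_surjective a
        obtain ⟨b, rfl⟩ := QuotientGroup.mk_surjective b
        rw [← QuotientGroup.mk_mul, ← QuotientGroup.mk_mul, QuotientGroup.eq]
        refine PlaneTwo.mem_radP_of_mem hc lam ?_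
        rw [show ((a * b)⁻¹ * (b * a) : P) = (b⁻¹ * a⁻¹ * b⁻¹⁻¹ * a⁻¹⁻¹ : P) by group]
        exact hc.comm _ (P.inv_mem b.2) _ (P.inv_mem a.2) }
  have hqS : ∀ z : Additive (P ⧸ R), q • z = 0 := fun z => by
    obtain ⟨p, hp⟩ := QuotientGroup.mk_surjective (Additive.toMul z)
    change Additive.ofMul (Additive.toMul z ^ q) = Additive.ofMul 1
    rw [← hp, ← QuotientGroup.mk_pow, (QuotientGroup.eq_one_iff _).mpr
      (PlaneTwo.mem_radP_of_mem hc lam (by rw [Subgroup.coe_pow]; exact hPexp p p.2))]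
  obtain ⟨M', i1, i2, i3, Lr, hLr, hrk⟩ := ScalarExt.exists_rep_rank q (Additive (P ⧸ R)) hqS
  set k' := AlgebraicClosure (ZMod q)
  haveI : CharP k' q := charP_of_injective_algebraMap (algebraMap (ZMod q) k').injective q
  let ρ' : Γ →* Module.End k' M' := (Lr.toMonoidHom.comp Basic.toEnd).comp Γ.subtype
  have hρ' : Function.Injective ρ' := fun g g' h => Subtype.ext (MulEquiv.ext fun z => by
    have h' := DFunLike.congr_fun (hLr h) (Additive.ofMul z)
    exact Additive.ofMul.injective h')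
  set x : Γ := ⟨x₀, hx₀Γ⟩ with hx
  have hxpow : ∀ (i : ℕ) (p : P), (x₀ ^ i) (p : P ⧸ R) = (((β ^ (d * i)) p : P) : P ⧸ R) :=
    fun i p => by rw [hx₀, Basic.quotAut_pow, ← pow_mul]
  have hdt : d * 2 ^ (c - 1) = 2 ^ (n - 1) := by rw [hd, ← pow_add]; congr 1; omega
  have hx1 : ∀ p : P, (Basic.toEnd x₀ - 1) (Additive.ofMul (p : P ⧸ R)) =
      Additive.ofMul ((((β ^ d) p * p⁻¹ : P)) : P ⧸ R) := fun p => by
    rw [QuotientGroup.mk_mul, QuotientGroup.mk_inv, ← div_eq_mul_inv]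
    rfl
  have key := PlaneOdd.comm_mem_coreOn hqc hc2 L hLodd x M' ρ' ?_ ?_
  · refine ⟨(PlaneOdd.coreOn q ρ' L).comap ψ, inferInstance, ?_, fun h h' hh' => ?_⟩
    · intro h hh m hmq hhm
      refine hactker h ?_
      obtain ⟨a, ha⟩ := PSolvable.isPGroup_pCore ⟨_, hh⟩
      have h1 : QuotientGroup.mk' (PlaneOdd.kerOn ρ' L) (ψ h) = 1 := by
        have h2 : QuotientGroup.mk' (PlaneOdd.kerOn ρ' L) (ψ h) ^ q ^ a = 1 :=
          congrArg Subtype.val ha
        have h3 : QuotientGroup.mk' (PlaneOdd.kerOn ρ' L) (ψ h) ^ m = 1 := by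
          rw [← map_pow, ← map_pow, hhm, map_one, map_one]
        have h4 := Nat.dvd_gcd (orderOf_dvd_of_pow_eq_one h3) (orderOf_dvd_of_pow_eq_one h2)
        rw [(hmq.pow_right a).gcd_eq_one, Nat.dvd_one] at h4
        exact orderOf_eq_one_iff.mp h4
      have h5 : ρ' ((ψ h : L) : Γ) = 1 := (QuotientGroup.eq_one_iff _).mp h1
      rw [← hψ, show ((ψ h : L) : Γ) = 1 from hρ' (h5.trans (map_one ρ').symm)]
      rfl
    · rw [Subgroup.mem_comap, map_mul, map_inv]
      have h1 := key (ψ h)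
      convert h1 using 2
      refine Subtype.ext (Subtype.ext ?_)
      rw [hψ]
      change act h' = x₀ ^ 2 ^ (c - 1) * act h * (x₀ ^ 2 ^ (c - 1))⁻¹
      rw [eq_mul_inv_iff_mul_eq]
      refine MulEquiv.ext fun z => ?_
      obtain ⟨p, rfl⟩ := QuotientGroup.mk_surjective z
      rw [MulAut.mul_apply, MulAut.mul_apply, hxpow, hact, hact, hxpow, hdt]
      refine congrArg _ (Subtype.ext ?_)
      rw [MulAut.conjNormal_apply, hβp, hβp, MulAut.conjNormal_apply, hh', map_mul, map_mul,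
        map_inv]
  · have e : ρ' x - 1 = Lr (Basic.toEnd x₀ - 1) := by rw [map_sub, map_one]; rfl
    suffices ∀ f, f = Lr (Basic.toEnd x₀ - 1) →
        Module.finrank k' (LinearMap.range f) ≤ 2 from this _ e
    rintro _ rfl
    refine hrk _ (Subgroup.toAddSubgroup (A.map (QuotientGroup.mk' R))) 2 (fun z => ?_) ?_
    · obtain ⟨p, hp⟩ := QuotientGroup.mk_surjective (Additive.toMul z)
      have hzp : z = Additive.ofMul (p : P ⧸ R) := by rw [hp]; rfl
      rw [hzp, hx1]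
      exact ⟨_, hxA p, rfl⟩
    · refine le_of_eq ?_
      have h := Subgroup.relIndex_ker (K := A) (QuotientGroup.mk' R)
      rw [QuotientGroup.ker_mk', hA] at h
      rw [h]
      exact Nat.card_congr Additive.toMul
  · change (Lr (Basic.toEnd x₀) ^ 2 ^ (c - 1) + 1) * (Lr (Basic.toEnd x₀) - 1) = 0
    rw [← map_pow, ← map_pow Basic.toEnd, ← map_one Lr, ← map_sub, ← map_add, ← map_mul]
    refine (congrArg Lr ?_).trans (map_zero Lr)
    refine AddMonoidHom.ext fun z => ?_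
    obtain ⟨p, hp⟩ := QuotientGroup.mk_surjective (Additive.toMul z)
    have hzp : z = Additive.ofMul (p : P ⧸ R) := by rw [hp]; rfl
    rw [hzp]
    set Et : AddMonoid.End (Additive (P ⧸ R)) := Basic.toEnd (x₀ ^ 2 ^ (c - 1))
    set Ex : AddMonoid.End (Additive (P ⧸ R)) := Basic.toEnd x₀
    change (Et + 1) ((Ex - 1) (Additive.ofMul (p : P ⧸ R))) = 0
    rw [hx1]
    change Additive.ofMul ((x₀ ^ 2 ^ (c - 1)) (((β ^ d) p * p⁻¹ : P) : P ⧸ R) *
      (((β ^ d) p * p⁻¹ : P) : P ⧸ R)) = Additive.ofMul 1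
    rw [hxpow, hdt, ← QuotientGroup.mk_mul]
    exact congrArg Additive.ofMul ((QuotientGroup.eq_one_iff _).mpr (htA _ (hxA p)))

set_option maxHeartbeats 1000000 in
/-- The involutory power of a fixed-point-free `2`-power automorphism centralizes the second
Fitting quotient. -/
theorem inv_mul_pow_mem_fitting {G : Type u} [Group G] [Finite G] [Group.IsSolvable G]
    (σ : MulAut G) {n : ℕ} (hn : 0 < n) (hσ : σ ^ 2 ^ n = 1) (hfpf : ∀ g, σ g = g → g = 1)
    (hinv : ∀ g ∈ fittingSubgroup G, σ g ∈ fittingSubgroup G) :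
    ∀ x : G ⧸ fittingSubgroup G,
      x⁻¹ * (Basic.quotAut σ (fittingSubgroup G) hinv ^ 2 ^ (n - 1)) x ∈
        fittingSubgroup (G ⧸ fittingSubgroup G) := by
  classical
  haveI : Fact (Nat.Prime 2) := ⟨Nat.prime_two⟩
  set K := G ⧸ fittingSubgroup G
  haveI : Group.IsSolvable K :=
    Group.isSolvable_of_surjective (f := QuotientGroup.mk' (fittingSubgroup G))
      (QuotientGroup.mk'_surjective _)
  set σK := Basic.quotAut σ (fittingSubgroup G) hinv with hσK
  have hσKe : σK ^ 2 ^ n = 1 := Basic.quotAut_pow_eq_one σ _ hinv hσ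
  have hKodd : Odd (Nat.card K) := Nat.coprime_two_left.mp
    (Basic.coprime_card_of_fpf (p := 2) σK (k := n) hσKe (Basic.quotAut_fpf σ _ hinv hfpf))
  set τ := σK ^ 2 ^ (n - 1) with hτ
  let ι := {q : ℕ // q.Prime ∧ q ≠ 2}
  haveI : ∀ i : ι, Fact (i : ℕ).Prime := fun i => ⟨i.2.1⟩
  have hcrit : ∀ i : ι, ∃ C : Subgroup (pCore (i : ℕ) K), C.Characteristic ∧
      Subgroup.centralizer (C : Set (pCore (i : ℕ) K)) ≤ C ∧
      (∀ y ∈ C, y ^ (i : ℕ) ∈ C ⊓ Subgroup.centralizer (C : Set (pCore (i : ℕ) K))) ∧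
      ∀ y ∈ C, ∀ g : pCore (i : ℕ) K,
        ⁅y, g⁆ ∈ C ⊓ Subgroup.centralizer (C : Set (pCore (i : ℕ) K)) := fun i =>
    Transfer.Critical.exists_critical (Cores.pCore_isPGroup (i : ℕ))
  choose C hCchar hCcen hCpow hCcomm using hcrit
  let P : ι → Subgroup K := fun i => (C i).map (pCore (i : ℕ) K).subtype
  let Z : ι → Subgroup K := fun i => P i ⊓ Subgroup.centralizer (P i : Set K)
  haveI hPn : ∀ i : ι, (P i).Normal := fun i => by
    haveI := hCchar i
    exact ConjAct.normal_of_characteristic_of_normal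
  haveI hZn : ∀ i : ι, (Z i).Normal := fun i => Subgroup.normal_inf_normal _ _
  have hPle : ∀ i : ι, P i ≤ pCore (i : ℕ) K := fun i => Subgroup.map_subtype_le _
  have hPp : ∀ i : ι, IsPGroup (i : ℕ) (P i) := fun i => (Cores.pCore_isPGroup _).to_le (hPle i)
  have hσP : ∀ (i : ι), ∀ p ∈ P i, σK p ∈ P i := by
    rintro i _ ⟨p, hp, rfl⟩
    haveI := hCchar i
    exact ⟨_, Basic.apply_mem_of_char (OddPower.subAut σK (pCore (i : ℕ) K)
      (Basic.apply_mem_of_char σK _)) (C i) p hp, rfl⟩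
  have hσZ : ∀ (i : ι), ∀ z ∈ Z i, σK z ∈ Z i := by
    intro i z hz
    refine ⟨hσP i z hz.1, Subgroup.mem_centralizer_iff.mpr fun v hv => ?_⟩
    have hinj : Function.Injective fun y : P i => (⟨σK y, hσP i y y.2⟩ : P i) := fun a b hab =>
      Subtype.ext (σK.injective (congrArg Subtype.val hab))
    obtain ⟨y, hy⟩ := Finite.surjective_of_injective hinj ⟨v, hv⟩
    have hy' : σK y = v := congrArg Subtype.val hy
    rw [← hy', ← map_mul, ← map_mul, Subgroup.mem_centralizer_iff.mp hz.2 y y.2]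
  have hcen : ∀ i : ι, ∀ z ∈ Z i, ∀ v ∈ P i, z * v = v * z := fun i z hz v hv =>
    (Subgroup.mem_centralizer_iff.mp hz.2 v hv).symm
  have hc : ∀ i : ι, PlaneTwo.Central (P i) (Z i) := fun i =>
    { le := inf_le_left
      comm := by
        rintro _ ⟨v, hv, rfl⟩ _ ⟨v', hv', rfl⟩
        refine ⟨⟨⁅v, v'⁆, (hCcomm i v hv v').1, rfl⟩, Subgroup.mem_centralizer_iff.mpr ?_⟩
        rintro _ ⟨u, hu, rfl⟩
        exact congrArg Subtype.val (Subgroup.mem_centralizer_iff.mp (hCcomm i v hv v').2 u hu)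
      cen := hcen i }
  have hPexp : ∀ i : ι, ∀ p ∈ P i, p ^ (i : ℕ) ∈ Z i := by
    rintro i _ ⟨v, hv, rfl⟩
    refine ⟨⟨v ^ (i : ℕ), (hCpow i v hv).1, rfl⟩, Subgroup.mem_centralizer_iff.mpr ?_⟩
    rintro _ ⟨u, hu, rfl⟩
    exact congrArg Subtype.val (Subgroup.mem_centralizer_iff.mp (hCpow i v hv).2 u hu)
  -- the modules
  let Pr := {v : ℕ // v.Prime}
  haveI : ∀ v : Pr, Fact (v : ℕ).Prime := fun v => ⟨v.2⟩
  have hmod := fun v : Pr => exists_module σ hσ hfpf hinv (v : ℕ)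
  choose Mv iA iM iF ρv sv hsv hsumv hρv using hmod
  have hne : ∀ (i : ι) (v : Pr), (v : ℕ) ≠ i →
      (((i : ℕ)) : AlgebraicClosure (ZMod (v : ℕ))) ≠ 0 := by
    intro i v hvi h
    haveI : CharP (AlgebraicClosure (ZMod (v : ℕ))) (v : ℕ) :=
      charP_of_injective_algebraMap (algebraMap (ZMod (v : ℕ)) _).injective _
    exact hvi ((Nat.prime_dvd_prime_iff_eq v.2 i.2.1).mp ((CharP.cast_eq_zero_iff _ (v : ℕ) i).mp h))
  -- weights separate
  have hsep : ∀ (i : ι) (z : Z i), z ≠ 1 → ∃ (v : Pr) (w : Mv v)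
      (lam : Z i →* AlgebraicClosure (ZMod (v : ℕ))), (v : ℕ) ≠ i ∧ w ≠ 0 ∧
        (∀ a : Z i, ρv v (a : K) w = lam a • w) ∧ lam z ≠ 1 := by
    intro i z hz
    by_contra hno
    refine hz (Subtype.ext ?_)
    refine eq_one_of_trivial (q := (i : ℕ)) (z : K) (hPle i z.2.1) fun g hg v hv hvq y hy => ?_
    refine hρv ⟨v, hv⟩ g ?_ y hy
    by_contra hρ
    rw [hg] at hρ
    obtain ⟨w, lam, hw0, hw, hlam⟩ := PlaneOdd.exists_weight (ρv ⟨v, hv⟩)
      (Z := Z i) (PlaneTwo.cast_card_ne_zero ((hPp i).to_le inf_le_left) (hne i ⟨v, hv⟩ hvq))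
      (fun a ha b hb => hcen i a ha b hb.1) hρ
    exact hno ⟨⟨v, hv⟩, w, lam, hvq, hw0, hw, hlam⟩
  -- `τ` centralizes every `Z`
  have hτZ : ∀ (i : ι), ∀ z ∈ Z i, τ z = z := by
    intro i z hz
    by_contra hne'
    let d : Z i := (OddPower.subAut σK (Z i) (hσZ i) ^ 2 ^ (n - 1)) ⟨z, hz⟩ * (⟨z, hz⟩ : Z i)⁻¹
    have hd : d = (OddPower.subAut σK (Z i) (hσZ i) ^ 2 ^ (n - 1)) ⟨z, hz⟩ * (⟨z, hz⟩ : Z i)⁻¹ := rfl
    have hd1 : d ≠ 1 := fun h => hne' (by
      have h' := congrArg Subtype.val (mul_inv_eq_one.mp h)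
      rwa [OddPower.coe_subAut_pow] at h')
    obtain ⟨v, w, lam, hvi, hw0, hw, hlam⟩ := hsep i d hd1
    refine hlam ?_
    have h1 := PlaneTwo.weight_fixed (ρv v) (sv v) n (Z i) (hne i v hvi)
      ((hPp i).to_le inf_le_left) (OddPower.subAut σK (Z i) (hσZ i))
      (MulEquiv.ext fun a => Subtype.ext (by rw [OddPower.coe_subAut_pow, hσKe]; rfl))
      (fun a => hsv v (a : K)) (hsumv v) lam w hw0 hw ⟨z, hz⟩
    rw [hd, map_mul, h1, ← map_mul, mul_inv_cancel, map_one]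
  let H₁ : Subgroup K := ⨅ i, Subgroup.centralizer (Z i : Set K)
  haveI : H₁.Normal := Subgroup.normal_iInf_normal fun i => Subgroup.normal_centralizer
  have hH₁Z : ∀ i : ι, ∀ g ∈ H₁, ∀ z ∈ Z i, g * z = z * g := fun i g hg z hz =>
    (Subgroup.mem_centralizer_iff.mp (Subgroup.mem_iInf.mp hg i) z hz).symm
  have hH₁σ : ∀ g ∈ H₁, σK g ∈ H₁ := by
    intro g hg
    refine Subgroup.mem_iInf.mpr fun i => Subgroup.mem_centralizer_iff.mpr fun z hz => ?_
    have hinj : Function.Injective fun y : Z i => (⟨σK y, hσZ i y y.2⟩ : Z i) := fun a b hab =>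
      Subtype.ext (σK.injective (congrArg Subtype.val hab))
    obtain ⟨y, hy⟩ := Finite.surjective_of_injective hinj ⟨z, hz⟩
    have hy' : σK y = z := congrArg Subtype.val hy
    rw [← hy', ← map_mul, ← map_mul, hH₁Z i g hg y y.2]
  let J := Σ i : ι, Σ v : Pr, {lam : Z i →* AlgebraicClosure (ZMod (v : ℕ)) //
    (v : ℕ) ≠ i ∧ ∃ w : Mv v, w ≠ 0 ∧ ∀ z : Z i, ρv v (z : K) w = lam z • w}
  have hJ : ∀ j : J, ∃ W : Subgroup H₁, W.Normal ∧
      (∀ h ∈ W, ∀ m : ℕ, m.Coprime (j.1 : ℕ) → h ^ m = 1 →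
        ∀ p : P j.1, MulAut.conjNormal (h : K) p * p⁻¹ ∈ PlaneTwo.radP (hc j.1) j.2.2.1) ∧
      ∀ (h : H₁) (h' : H₁), (h' : K) = τ (h : K) → h' * h⁻¹ ∈ W :=
    fun ⟨i, v, lam, hvi, w, hw0, hw⟩ =>
      exists_core_of_weight hKodd σK hσKe H₁ hH₁σ (P i) (Z i) (hσP i) (hσZ i) (hc i) i.2.2 (hPp i)
        (hPexp i) (hH₁Z i) (hne i v hvi) (ρv v) (sv v) (hsv v) (hsumv v) lam w hw0 hw
  choose W hWn hW1 hW2 using hJ
  let W₁ := ⨅ j, W j
  haveI : W₁.Normal := Subgroup.normal_iInf_normal hWn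
  -- elements of order prime to `i` in `W₁` centralize the `i`-core
  have hWcen : ∀ g ∈ W₁, ∀ m : ℕ, g ^ m = 1 → ∀ i : ι, m.Coprime (i : ℕ) →
      ∀ y ∈ pCore (i : ℕ) K, (g : K) * y = y * g := by
    intro g hg m hgm i hmi
    have hgm' : (g : K) ^ m = 1 := congrArg Subtype.val hgm
    have hcop : ∀ y ∈ pCore (i : ℕ) K, ∃ o : ℕ, y ^ o = 1 ∧ m.Coprime o := fun y hy => by
      obtain ⟨b, hb⟩ := Cores.pCore_isPGroup (i : ℕ) ⟨y, hy⟩
      exact ⟨(i : ℕ) ^ b, congrArg Subtype.val hb, hmi.pow_right b⟩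
    have hgP : ∀ v ∈ P i, (g : K) * v = v * g := by
      refine PlaneOdd.centralizes_of_series hgm' (P i) (Z i) (hH₁Z i g g.2) (fun v hv => ?_)
        fun z hz => hcop z (hPle i hz.1)
      let d : P i := MulAut.conjNormal (g : K) ⟨v, hv⟩ * (⟨v, hv⟩ : P i)⁻¹
      have hd : d = MulAut.conjNormal (g : K) ⟨v, hv⟩ * (⟨v, hv⟩ : P i)⁻¹ := rfl
      have hdv : (d : K) = (g : K) * v * (g : K)⁻¹ * v⁻¹ := by
        rw [hd, Subgroup.coe_mul, MulAut.conjNormal_apply, Subgroup.coe_inv]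
      rw [← hdv]
      refine ⟨d.2, Subgroup.mem_centralizer_iff.mpr fun v' hv' => ?_⟩
      by_contra hne'
      let z := PlaneTwo.com (hc i) ⟨v', hv'⟩ d
      have hz1 : z ≠ 1 := fun h => hne' (by
        have h' : (v' * (d : K) * v'⁻¹ * (d : K)⁻¹) = 1 := congrArg Subtype.val h
        exact mul_inv_eq_iff_eq_mul.mp (mul_inv_eq_one.mp h'))
      obtain ⟨v₀, w, lam, hvi, hw0, hw, hlam⟩ := hsep i z hz1
      exact hlam (hW1 ⟨i, v₀, lam, hvi, w, hw0, hw⟩ g (Subgroup.mem_iInf.mp hg _) m hmi hgm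
        ⟨v, hv⟩ ⟨v', hv'⟩)
    refine PlaneOdd.centralizes_of_subgroup hgm' _ (P i) (hPle i)
      (fun v _ y hy => (hPn i).conj_mem y hy v) (fun v hv h => ?_)
      (fun v hv => (inferInstance : (pCore (i : ℕ) K).Normal).conj_mem v hv g) hgP hcop
    refine ⟨⟨v, hv⟩, hCcen i (Subgroup.mem_centralizer_iff.mpr fun y hy => Subtype.ext ?_), rfl⟩
    exact h y ⟨y, hy, rfl⟩
  have h2bot : pCore 2 K = ⊥ := by
    obtain ⟨a, ha⟩ := IsPGroup.iff_card.mp (Cores.pCore_isPGroup (G := K) 2)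
    rw [← Subgroup.card_eq_one, ha]
    rcases Nat.eq_zero_or_pos a with rfl | h0
    · rfl
    · exfalso
      have h1 := hKodd.of_dvd_nat (Subgroup.card_subgroup_dvd_card (pCore 2 K))
      rw [ha] at h1
      exact (Nat.not_even_iff_odd.mpr h1) ((Nat.even_pow).mpr ⟨even_two, h0.ne'⟩)
  have hFW : W₁ ≤ fittingSubgroup H₁ := by
    have hFH : ∀ g : H₁, (g : K) ∈ fittingSubgroup K → g ∈ fittingSubgroup H₁ := fun g hg => by
      have h1 : (g : K) ∈ (fittingSubgroup H₁).map H₁.subtype := by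
        rw [Cores.map_subtype_fittingSubgroup]; exact ⟨g.2, hg⟩
      obtain ⟨y, hy, hyg⟩ := h1
      rwa [← Subtype.ext hyg]
    have hprime : ∀ (r : ℕ) [Fact r.Prime], ∀ g ∈ W₁, (∃ a : ℕ, g ^ r ^ a = 1) →
        g ∈ fittingSubgroup H₁ := by
      intro r _ g hg hga
      let N : Subgroup H₁ :=
        W₁ ⊓ ⨅ i : {i : ι // (i : ℕ) ≠ r},
          (Subgroup.centralizer (pCore ((i : ι) : ℕ) K : Set K)).comap H₁.subtype
      haveI : (⨅ i : {i : ι // (i : ℕ) ≠ r}, (Subgroup.centralizer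
          (pCore ((i : ι) : ℕ) K : Set K)).comap H₁.subtype).Normal :=
        Subgroup.normal_iInf_normal fun i => (Subgroup.normal_centralizer).comap _
      haveI : N.Normal := Subgroup.normal_inf_normal _ _
      have hN : N ≤ fittingSubgroup H₁ := by
        refine le_fitting_of_pElements N (r := r) (fun y hy => ?_) ?_
        · obtain ⟨a, m, hm, ham⟩ :=
            Nat.exists_eq_pow_mul_and_not_dvd (orderOf_pos y).ne' r (Fact.out : r.Prime).ne_one
          refine ⟨a, hFH _ (Cores.centralizer_fittingSubgroup_le ?_)⟩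
          have hle : fittingSubgroup K ≤ Subgroup.centralizer {((y ^ r ^ a : H₁) : K)} := by
            rw [Cores.fittingSubgroup_eq_iSup_pCore (G := K)]
            refine iSup_le fun q => ?_
            by_cases hq2 : (q : ℕ) = 2
            · rw [hq2, h2bot]; exact bot_le
            intro v hv
            rw [Subgroup.mem_centralizer_singleton_iff]
            symm
            by_cases hqr : (q : ℕ) = r
            · refine hWcen _ (pow_mem hy.1 _) m (by rw [← pow_mul, ← ham, pow_orderOf_eq_one])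
                ⟨q, q.2, hq2⟩ ?_ v hv
              change m.Coprime (q : ℕ)
              rw [hqr]
              exact ((Fact.out : r.Prime).coprime_iff_not_dvd.mpr hm).symm
            · have h1 : y ∈ (Subgroup.centralizer (pCore (q : ℕ) K : Set K)).comap H₁.subtype :=
                Subgroup.mem_iInf.mp hy.2 ⟨⟨q, q.2, hq2⟩, hqr⟩
              exact (Subgroup.mem_centralizer_iff.mp (Subgroup.mem_comap.mp (pow_mem h1 _)) v
                hv).symm
          exact Subgroup.mem_centralizer_iff.mpr fun v hv =>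
            Subgroup.mem_centralizer_singleton_iff.mp (hle hv)
        · intro y hy _ q hq hqr v hv
          have h2 : (v : K) ∈ pCore q K := by
            have := PSolvable.pCore_map_le_of_normal (p := q) H₁ ⟨v, hv, rfl⟩
            exact this
          by_cases hq2 : q = 2
          · subst hq2
            rw [h2bot, Subgroup.mem_bot] at h2
            have h3 : v = 1 := Subtype.ext h2
            rw [h3, mul_one, one_mul]
          · have h1 : y ∈ (Subgroup.centralizer (pCore q K : Set K)).comap H₁.subtype :=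
              Subgroup.mem_iInf.mp hy.2 ⟨⟨q, hq, hq2⟩, hqr⟩
            exact Subtype.ext (Subgroup.mem_centralizer_iff.mp h1 (v : K) h2).symm
      refine hN ⟨hg, Subgroup.mem_iInf.mpr fun i => Subgroup.mem_comap.mpr
        (Subgroup.mem_centralizer_iff.mpr fun v hv => ?_)⟩
      obtain ⟨a, ha⟩ := hga
      exact (hWcen g hg _ ha i ((Nat.coprime_primes Fact.out i.1.2.1).mpr
        (Ne.symm i.2) |>.pow_left a) v hv).symm
    intro g hg
    by_contra hgF
    obtain ⟨r, hr, hrd⟩ := Nat.exists_prime_and_dvd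
      (n := orderOf (g : H₁ ⧸ fittingSubgroup H₁))
      (fun h => hgF ((QuotientGroup.eq_one_iff g).mp (orderOf_eq_one_iff.mp h)))
    haveI := Fact.mk hr
    obtain ⟨a, m, hm, ham⟩ := Nat.exists_eq_pow_mul_and_not_dvd (orderOf_pos g).ne' r hr.ne_one
    have h1 := hprime r (g ^ m) (pow_mem hg m)
      ⟨a, by rw [← pow_mul, Nat.mul_comm, ← ham, pow_orderOf_eq_one]⟩
    refine hm (hrd.trans (orderOf_dvd_of_pow_eq_one ?_))
    rw [← QuotientGroup.mk_pow, QuotientGroup.eq_one_iff]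
    exact h1
  -- conclusion
  intro x
  let c := x⁻¹ * τ x
  have hcdef : c = x⁻¹ * τ x := rfl
  have hcH : c ∈ H₁ := by
    refine Subgroup.mem_iInf.mpr fun i => Subgroup.mem_centralizer_iff.mpr fun z hz => ?_
    have hxz : x * z * x⁻¹ ∈ Z i := (hZn i).conj_mem z hz x
    have h1 : τ x * z * (τ x)⁻¹ = x * z * x⁻¹ := by
      conv_lhs => arg 1; arg 2; rw [← hτZ i z hz]
      rw [← map_mul, ← map_inv, ← map_mul, hτZ i _ hxz]
    have h2 : c * z * c⁻¹ = z := by
      calc c * z * c⁻¹ = x⁻¹ * (τ x * z * (τ x)⁻¹) * x := by rw [hcdef]; group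
        _ = z := by rw [h1]; group
    exact (mul_inv_eq_iff_eq_mul.mp h2).symm
  have hτH : τ c ∈ H₁ := OddPower.pow_invariant σK hH₁σ _ c hcH
  have hW : (⟨τ c, hτH⟩ : H₁) * (⟨c, hcH⟩ : H₁)⁻¹ ∈ W₁ :=
    Subgroup.mem_iInf.mpr fun j => hW2 j ⟨c, hcH⟩ ⟨τ c, hτH⟩ rfl
  have hF : τ c * c⁻¹ ∈ fittingSubgroup K := by
    have h1 : τ c * c⁻¹ ∈ (fittingSubgroup H₁).map H₁.subtype := ⟨_, hFW hW, rfl⟩
    rw [Cores.map_subtype_fittingSubgroup] at h1
    exact h1.2
  have hττ : τ (τ x) = x := by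
    rw [hτ, ← MulAut.mul_apply, ← pow_add, ← two_mul, ← pow_succ', Nat.sub_add_cancel hn, hσKe]
    rfl
  have hτc : τ c = c⁻¹ := by
    rw [hcdef, map_mul, map_inv, hττ, mul_inv_rev, inv_inv]
  rw [hτc] at hF
  set F := fittingSubgroup K
  have h2 : (c : K ⧸ F) ^ 2 = 1 := by
    rw [← QuotientGroup.mk_pow, QuotientGroup.eq_one_iff, pow_two, ← inv_mem_iff, mul_inv_rev]
    exact hF
  have h3 : (c : K ⧸ F) ^ Nat.card K = 1 := by
    rw [← QuotientGroup.mk_pow, pow_card_eq_one', QuotientGroup.mk_one]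
  exact (QuotientGroup.eq_one_iff c).mp
    (InvolutionConj.eq_one_of_two_pow (a := 1) (by rw [pow_one]; exact h2) h3 hKodd)

end Cfsg.Agent.Lib.FpfHeight.PlaneFitting
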