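/-
An element `y` with a two-dimensional commutator space on which `y ^ 2` is `-1`, normalizing a
`2`-group `C` of class two with central subgroup `Z`, in odd or zero characteristic: `y ^ 2`
centralizes `Z` and its commutators with `C` centralize `C`.
-/
import Mathlib.GroupTheory.PGroup
import Mathlib.GroupTheory.QuotientGroup.Basic
import Mathlib.LinearAlgebra.FiniteDimensional.Lemmas
import Cfsg.Agent.Lib.FpfHeight.EigenChar
import Cfsg.Agent.Lib.FpfHeight.OddPower

set_option autoImplicit false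

namespace Cfsg.Agent.Lib.FpfHeight.PlanePiece

open Module

section Linear

variable {k : Type*} [Field k] {W : Type*} [AddCommGroup W] [Module k W] [FiniteDimensional k W]

theorem finrank_halves (h2 : (2 : k) ≠ 0) (H Q : Module.End k W) (hQ : Function.Injective Q)
    (hQH : Q * H = -(H * Q)) {κ : k} (hκ : κ ≠ 0) (hH : H * H = κ ^ 2 • 1) :
    2 * finrank k (LinearMap.ker (H - κ • 1)) = finrank k W := by
  set A := LinearMap.ker (H - κ • (1 : Module.End k W))
  set B := LinearMap.ker (H + κ • (1 : Module.End k W))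
  have hA : ∀ x, x ∈ A ↔ H x = κ • x := fun x => by simp [A, sub_eq_zero]
  have hB : ∀ x, x ∈ B ↔ H x = -(κ • x) := fun x => by simp [B, add_eq_zero_iff_eq_neg]
  have hmap : ∀ x, H (Q x) = -(Q (H x)) := fun x => by
    have h := LinearMap.congr_fun hQH x
    rw [Module.End.mul_apply, LinearMap.neg_apply, Module.End.mul_apply] at h
    rw [h, neg_neg]
  have h1 : finrank k A ≤ finrank k B := by
    refine LinearMap.finrank_le_finrank_of_injective (f := Q.restrict (p := A) (q := B) fun x hx => ?_) ?_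
    · rw [hB, hmap, (hA x).mp hx, map_smul]
    · exact fun a b h => Subtype.ext (hQ (congrArg Subtype.val h))
  have h1' : finrank k B ≤ finrank k A := by
    refine LinearMap.finrank_le_finrank_of_injective (f := Q.restrict (p := B) (q := A) fun x hx => ?_) ?_
    · rw [hA, hmap, (hB x).mp hx, map_neg, map_smul, neg_neg]
    · exact fun a b h => Subtype.ext (hQ (congrArg Subtype.val h))
  have hinf : A ⊓ B = ⊥ := by
    rw [eq_bot_iff]
    intro x hx
    have h := ((hA x).mp hx.1).symm.trans ((hB x).mp hx.2)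
    rw [eq_neg_iff_add_eq_zero, ← two_smul k, smul_smul, smul_eq_zero] at h
    exact h.resolve_left (mul_ne_zero h2 hκ)
  have hsup : A ⊔ B = ⊤ := by
    rw [eq_top_iff]
    intro x _
    have hHH : H (H x) = κ ^ 2 • x := LinearMap.congr_fun hH x
    have e : x = (2 * κ)⁻¹ • (H x + κ • x) + (-(2 * κ)⁻¹) • (H x - κ • x) := by
      rw [neg_smul, ← sub_eq_add_neg, ← smul_sub,
        show H x + κ • x - (H x - κ • x) = (2 * κ) • x by rw [two_mul, add_smul]; abel,
        smul_smul, inv_mul_cancel₀ (mul_ne_zero h2 hκ), one_smul]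
    rw [e]
    refine Submodule.add_mem_sup (Submodule.smul_mem _ _ ?_) (Submodule.smul_mem _ _ ?_)
    · rw [hA, map_add, map_smul, hHH, smul_add, smul_smul, pow_two, add_comm]
    · rw [hB, map_sub, map_smul, hHH, smul_sub, smul_smul, pow_two, neg_sub]
  have h := Submodule.finrank_sup_add_finrank_inf_eq A B
  rw [hsup, hinf, finrank_top, finrank_bot] at h
  omega

/-- The operator configuration that cannot occur. -/
theorem no_plane [Nontrivial W] (h2 : (2 : k) ≠ 0) (Y V G H Qh Qg : Module.End k W) (c d γ : k)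
    (hd : d ≠ 0) (hγ : γ ≠ 0) (hY : Function.Injective Y) (hV : Function.Injective V)
    (hQh : Function.Injective Qh) (hQg : Function.Injective Qg)
    (hrank : finrank k (LinearMap.range (Y - 1)) ≤ 2)
    (hquad : (Y * Y + 1) * (Y - 1) = 0)
    (hYV : Y * V = V * G * Y) (hYG : Y * G = G * H * Y) (hYH : Y * H = c • (H * Y))
    (hHV : H * V = V * H) (hHG : H * G = G * H) (hHH : H * H = d • 1) (hGG : G * G = γ • 1)
    (haH : Qh * H = -(H * Qh)) (haG : Qg * G = -(G * Qg)) : False := by
  have hnoneg : ∀ w, Y w = -w → w = 0 := by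
    intro w hw
    have h := LinearMap.congr_fun hquad w
    simp only [Module.End.mul_apply, LinearMap.sub_apply, LinearMap.add_apply,
      Module.End.one_apply, hw, map_sub, map_neg, neg_neg, LinearMap.zero_apply] at h
    have h' : (2 * 2 : k) • w = 0 := by
      rw [mul_smul, two_smul k w, two_smul k (w + w), ← neg_eq_zero, ← h]; abel
    exact (smul_eq_zero.mp h').resolve_left (mul_ne_zero h2 h2)
  have hHinj : Function.Injective H := fun a b h => by
    have h' := congrArg H h
    rw [← Module.End.mul_apply, ← Module.End.mul_apply, hHH] at h'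
    exact smul_right_injective W hd h'
  -- a fixed vector exists
  obtain ⟨w₁, hw₁, hw₁0⟩ : ∃ w, Y w = w ∧ w ≠ 0 := by
    by_contra hne
    push_neg at hne
    have hinj : Function.Injective (Y - 1 : Module.End k W) :=
      (injective_iff_map_eq_zero _).mpr fun x hx => hne x (sub_eq_zero.mp hx)
    have hYY : ∀ w, Y (Y w) = -w := fun w => by
      obtain ⟨v, hv⟩ := LinearMap.surjective_of_injective hinj w
      have h := LinearMap.congr_fun hquad v
      rw [Module.End.mul_apply, hv, LinearMap.add_apply, Module.End.mul_apply,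
        Module.End.one_apply, LinearMap.zero_apply, add_eq_zero_iff_eq_neg] at h
      exact h
    have hscal : ∀ w, γ • H w = w := fun w => by
      refine hV ?_
      calc V (γ • H w) = V (G (G (H w))) := by
            rw [← Module.End.mul_apply G G, hGG]; rfl
        _ = -(V (G (G (H (Y (Y w)))))) := by
            rw [hYY, map_neg, map_neg, map_neg, map_neg, neg_neg]
        _ = -(Y (Y (V w))) := by
            have e1 := LinearMap.congr_fun hYV w
            have e2 := LinearMap.congr_fun hYV (G (Y w))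
            have e3 := LinearMap.congr_fun hYG (Y w)
            simp only [Module.End.mul_apply] at e1 e2 e3
            rw [e1, e2, e3]
        _ = V w := by rw [hYY, neg_neg]
    obtain ⟨x, hx⟩ := exists_ne (0 : W)
    have h := LinearMap.congr_fun haH x
    rw [Module.End.mul_apply, LinearMap.neg_apply, Module.End.mul_apply] at h
    have hH' : ∀ w, H w = γ⁻¹ • w := fun w => by
      conv_rhs => rw [← hscal w, smul_smul, inv_mul_cancel₀ hγ, one_smul]
    rw [hH', hH', map_smul, eq_neg_iff_add_eq_zero, ← two_smul k, smul_smul, smul_eq_zero] at h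
    exact hx (hQh ((h.resolve_left (mul_ne_zero h2 (inv_ne_zero hγ))).trans (map_zero Qh).symm))
  -- `H` commutes with `Y`
  have hc : c = 1 := by
    have e := LinearMap.congr_fun hYH
    simp only [Module.End.mul_apply, LinearMap.smul_apply] at e
    have h1 : d • w₁ = (c * c) • (d • w₁) := by
      have h := e (H w₁)
      rw [← Module.End.mul_apply H H, hHH, LinearMap.smul_apply, Module.End.one_apply, map_smul,
        hw₁, e, hw₁, map_smul, ← Module.End.mul_apply H H, hHH, LinearMap.smul_apply,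
        Module.End.one_apply, smul_smul c c] at h
      exact h
    have h2' : c * c = 1 :=
      (smul_left_injective k (smul_ne_zero hd hw₁0) (h1.symm.trans (one_smul k _).symm))
    rcases mul_self_eq_one_iff.mp h2' with h | h
    · exact h
    exfalso
    refine hw₁0 (hHinj ?_)
    rw [map_zero]
    refine hnoneg _ ?_
    rw [e, hw₁, h, neg_smul, one_smul]
  subst hc
  rw [one_smul] at hYH
  have hYH' : ∀ w, Y (H w) = H (Y w) := fun w => LinearMap.congr_fun hYH w
  -- so `H² = 1`
  have key : ∀ (κ : k) (w : W), H w = κ • w → Y (G w) = κ • G (Y w) := fun κ w hw => by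
    have e := LinearMap.congr_fun hYG w
    simp only [Module.End.mul_apply] at e
    rw [e, ← hYH', hw, map_smul, map_smul]
  have hd1 : d = 1 := by
    have hGGw : ∀ w, G (G w) = γ • w := fun w => LinearMap.congr_fun hGG w
    have hHHw : ∀ w, H (H w) = d • w := fun w => LinearMap.congr_fun hHH w
    have eY : ∀ w, Y (G w) = G (H (Y w)) := fun w => LinearMap.congr_fun hYG w
    have eG : ∀ w, H (G w) = G (H w) := fun w => LinearMap.congr_fun hHG w
    have h := eY (G w₁)
    rw [hGGw, map_smul, hw₁, eY, hw₁, eG, hHHw, map_smul, map_smul, hGGw, smul_smul] at h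
    have h' := smul_left_injective k hw₁0 h
    have : (d - 1) * γ = 0 := by rw [sub_mul, one_mul, ← h', sub_self]
    exact sub_eq_zero.mp ((mul_eq_zero.mp this).resolve_right hγ)
  subst hd1
  have hHH1 : H * H = (1 : k) ^ 2 • 1 := by rw [one_pow]; exact hHH
  have hHH2 : H * H = (-1 : k) ^ 2 • 1 := by rw [neg_one_sq]; exact hHH
  have hP := finrank_halves h2 H Qh hQh haH one_ne_zero hHH1
  have hN := finrank_halves h2 H Qh hQh haH (neg_ne_zero.mpr one_ne_zero) hHH2
  set Ep := LinearMap.ker (H - (1 : k) • (1 : Module.End k W)) with hEp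
  set En := LinearMap.ker (H - (-1 : k) • (1 : Module.End k W)) with hEn
  have hmp : ∀ x, x ∈ Ep ↔ H x = x := fun x => by simp [hEp, sub_eq_zero]
  have hmn : ∀ x, x ∈ En ↔ H x = -x := fun x => by simp [hEn, add_eq_zero_iff_eq_neg]
  have hGp : ∀ x ∈ En, Y (G x) = -(G (Y x)) := fun x hx => by
    rw [key (-1) x (by rw [(hmn x).mp hx, neg_smul, one_smul]), neg_smul, one_smul]
  have hGinj : Function.Injective G := fun a b h => by
    have h' := congrArg G h
    rw [← Module.End.mul_apply, ← Module.End.mul_apply, hGG] at h'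
    exact smul_right_injective W hγ h'
  have hinj : ∀ x ∈ En, Y x = x → x = 0 := fun x hx hYx => by
    refine hGinj ?_
    rw [map_zero]
    exact hnoneg _ (by rw [hGp x hx, hYx])
  let D : En →ₗ[k] LinearMap.range (Y - 1) :=
    ((Y - 1).comp En.subtype).codRestrict _ fun x => LinearMap.mem_range_self _ _
  have hD : Function.Injective D := (injective_iff_map_eq_zero D).mpr fun x hx => Subtype.ext
    (hinj x x.2 (sub_eq_zero.mp (congrArg Subtype.val hx)))
  have hle := LinearMap.finrank_le_finrank_of_injective hD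
  have hpos : 0 < finrank k W := finrank_pos
  rcases (show finrank k En = 1 ∨ finrank k En = 2 by omega) with h1 | h1
  · -- a line
    obtain ⟨x, hx0, hspan⟩ := finrank_eq_one_iff'.mp h1
    have hYn : ∀ z ∈ En, Y z ∈ En := fun z hz => by
      rw [hmn, ← hYH', (hmn z).mp hz, map_neg]
    have hGn : ∀ z ∈ En, G z ∈ En := fun z hz => by
      have e : H (G z) = G (H z) := LinearMap.congr_fun hHG z
      rw [hmn, e, (hmn z).mp hz, map_neg]
    obtain ⟨a, ha⟩ := hspan ⟨Y x, hYn _ x.2⟩
    obtain ⟨b, hb⟩ := hspan ⟨G x, hGn _ x.2⟩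
    have ha' : Y (x : W) = a • (x : W) := (congrArg Subtype.val ha).symm
    have hb' : G (x : W) = b • (x : W) := (congrArg Subtype.val hb).symm
    have h := hGp x x.2
    rw [hb', map_smul, ha', map_smul, hb', smul_comm a b, eq_neg_iff_add_eq_zero, ← two_smul k,
      smul_smul, smul_smul, smul_eq_zero] at h
    have hx0' : (x : W) ≠ 0 := fun h0 => hx0 (Subtype.ext h0)
    have hb0 : b ≠ 0 := fun h0 => hx0' (hGinj (by rw [hb', h0, zero_smul, map_zero]))
    have ha0 : a ≠ 0 := fun h0 => hx0' (hY (by rw [ha', h0, zero_smul, map_zero]))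
    exact mul_ne_zero (mul_ne_zero h2 hb0) ha0 (h.resolve_right hx0')
  -- a plane: `Y` fixes `Ep`
  have hsurj : Function.Surjective D :=
    (LinearMap.injective_iff_surjective_of_finrank_eq_finrank (by omega)).mp hD
  have hfixp : ∀ x ∈ Ep, Y x = x := fun x hx => by
    obtain ⟨z, hz⟩ := hsurj ⟨_, LinearMap.mem_range_self (Y - 1) x⟩
    have hz' : Y (z : W) - z = Y x - x := congrArg Subtype.val hz
    have h1 : H (Y x - x) = Y x - x := by rw [map_sub, ← hYH', (hmp x).mp hx]
    have h3 : H (Y x - x) = -(Y x - x) := by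
      rw [← hz', map_sub, ← hYH', (hmn _).mp z.2, map_neg, neg_sub]
      abel
    have h4 := h1.symm.trans h3
    rw [eq_neg_iff_add_eq_zero, ← two_smul k, smul_eq_zero] at h4
    exact sub_eq_zero.mp (h4.resolve_left h2)
  have hGfix : ∀ x ∈ Ep, G x = x := fun x hx => by
    have hVx : V x ∈ Ep := by
      rw [hmp, ← Module.End.mul_apply, hHV, Module.End.mul_apply, (hmp x).mp hx]
    have h := LinearMap.congr_fun hYV x
    simp only [Module.End.mul_apply] at h
    rw [hfixp x hx, hfixp _ hVx] at h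
    exact (hV h).symm
  have hEppos : 0 < finrank k Ep := by omega
  haveI : Nontrivial Ep := Module.nontrivial_of_finrank_pos hEppos
  obtain ⟨x₀, hx₀⟩ := exists_ne (0 : Ep)
  have hγ1 : γ = 1 := by
    have h := LinearMap.congr_fun hGG (x₀ : W)
    rw [Module.End.mul_apply, hGfix _ x₀.2, hGfix _ x₀.2, LinearMap.smul_apply,
      Module.End.one_apply] at h
    exact (smul_left_injective k (fun h0 => hx₀ (Subtype.ext h0)) ((one_smul k _).trans h)).symm
  have hG1 := finrank_halves h2 G Qg hQg haG one_ne_zero (by rw [one_pow, hGG, hγ1])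
  have heq : Ep = LinearMap.ker (G - (1 : k) • (1 : Module.End k W)) :=
    Submodule.eq_of_le_of_finrank_eq (fun x hx => by simp [sub_eq_zero, hGfix x hx]) (by omega)
  haveI : Nontrivial En := Module.nontrivial_of_finrank_pos (R := k) (by omega)
  obtain ⟨x, hx0⟩ := exists_ne (0 : En)
  have hYn : ∀ z ∈ En, Y z ∈ En := fun z hz => by rw [hmn, ← hYH', (hmn z).mp hz, map_neg]
  have hGn : ∀ z ∈ En, G z ∈ En := fun z hz => by
    have e : H (G z) = G (H z) := LinearMap.congr_fun hHG z
    rw [hmn, e, (hmn z).mp hz, map_neg]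
  have hneg : ∀ z ∈ En, G z = -z := by
    intro z hz
    have hsum : G z + z ∈ Ep := by
      rw [heq]
      have hGGz : G (G z) = z := by
        rw [← Module.End.mul_apply, hGG, hγ1, one_smul, Module.End.one_apply]
      simp [map_add, hGGz, sub_eq_zero, add_comm]
    have hs2 : G z + z ∈ En := En.add_mem (hGn z hz) hz
    have h4 := ((hmp _).mp hsum).symm.trans ((hmn _).mp hs2)
    rw [eq_neg_iff_add_eq_zero, ← two_smul k, smul_eq_zero] at h4
    exact eq_neg_of_add_eq_zero_left (h4.resolve_left h2)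
  have h := hGp x x.2
  rw [hneg _ x.2, hneg _ (hYn _ x.2), map_neg, neg_neg, neg_eq_iff_add_eq_zero, ← two_smul k,
    smul_eq_zero] at h
  exact hx0 (Subtype.ext (hY ((h.resolve_left h2).trans (map_zero Y).symm)))

end Linear

section Group

/-- The fourth iterate of `p ↦ p⁻¹ β p` is trivial modulo squares and commutators when `β⁴ = 1`. -/
theorem iterate_four_mem {C : Type*} [Group C] (β : MulAut C) (hβ : ∀ p, β (β (β (β p))) = p)
    (N : Subgroup C) [N.Normal] (hN : ∀ p ∈ N, β p ∈ N) (hsq : ∀ p, p * p ∈ N)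
    (hcomm : ∀ p q, p * q * p⁻¹ * q⁻¹ ∈ N) (p : C) :
    (fun a => a⁻¹ * β a)^[4] p ∈ N := by
  set π := QuotientGroup.mk' N
  have hinv : ∀ a, (π a)⁻¹ = π a := fun a => inv_eq_of_mul_eq_one_right (by
    rw [← map_mul]; exact (QuotientGroup.eq_one_iff _).mpr (hsq a))
  have hc : ∀ a b, π a * π b = π b * π a := fun a b => by
    have h : π (a * b * a⁻¹ * b⁻¹) = 1 := (QuotientGroup.eq_one_iff _).mpr (hcomm a b)
    simp only [map_mul, map_inv] at h
    exact mul_inv_eq_iff_eq_mul.mp (mul_inv_eq_one.mp h)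
  have hπβ : ∀ a b, π a = π b → π (β a) = π (β b) := fun a b h =>
    QuotientGroup.eq.mpr (by rw [← map_inv, ← map_mul]; exact hN _ (QuotientGroup.eq.mp h))
  have h2 : ∀ a, π ((fun a => a⁻¹ * β a)^[2] a) = π a * π (β (β a)) := fun a => by
    have h1 : ((π a)⁻¹ * π (β a))⁻¹ * π (β (a⁻¹ * β a)) = π a * π (β (β a)) := by
      rw [map_mul β, map_inv β, map_mul π, map_inv π, hinv, hinv, ← map_mul, hinv, map_mul,
        mul_assoc, ← mul_assoc (π (β a)), show π (β a) * π (β a) = 1 by
          rw [← map_mul]; exact (QuotientGroup.eq_one_iff _).mpr (hsq _), one_mul]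
    rw [← h1]
    simp only [Function.iterate_succ, Function.iterate_zero, Function.comp_apply, id_eq, map_mul,
      map_inv]
  rw [← QuotientGroup.eq_one_iff]
  change π _ = 1
  rw [show (4 : ℕ) = 2 + 2 from rfl, Function.iterate_add_apply, h2,
    hπβ _ _ (hπβ _ _ ((h2 p).trans (map_mul π _ _).symm)), map_mul β, map_mul β, map_mul, hβ, h2,
    hc (β (β p)) p, ← map_mul π p (β (β p)),
    show π (p * β (β p)) * π (p * β (β p)) = 1 by
      conv_lhs => arg 1; rw [← hinv]
      rw [inv_mul_cancel]]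

variable {k : Type*} [Field k] [IsAlgClosed k] {M : Type*} [AddCommGroup M] [Module k M]
  [FiniteDimensional k M] {Γ : Type*} [Group Γ] [Finite Γ]

theorem two_pow_cast_ne_zero (h2 : (2 : k) ≠ 0) {Z : Subgroup Γ} (hZ : IsPGroup 2 Z) :
    (Nat.card Z : k) ≠ 0 := by
  haveI : Fact (Nat.Prime 2) := ⟨Nat.prime_two⟩
  obtain ⟨a, ha⟩ := IsPGroup.iff_card.mp hZ
  rw [ha, Nat.cast_pow, Nat.cast_two]
  exact pow_ne_zero _ h2

/-- A nontrivial element of an abelian `2`-subgroup is moved by some weight. -/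
theorem exists_weight (h2 : (2 : k) ≠ 0) {ρ : Γ →* Module.End k M} (hρ : Function.Injective ρ)
    {Z : Subgroup Γ} (hZ : IsPGroup 2 Z) (habel : ∀ a ∈ Z, ∀ b ∈ Z, a * b = b * a)
    {z : Z} (hz : z ≠ 1) :
    ∃ (w : M) (μ : Z →* k), w ≠ 0 ∧ (∀ a : Z, ρ (a : Γ) w = μ a • w) ∧ μ z ≠ 1 := by
  set ρZ : Z →* Module.End k M := ρ.comp Z.subtype
  have hcomm : ∀ a b : Z, Commute (ρZ a) (ρZ b) := fun a b =>
    (show Commute a b from Subtype.ext (habel a a.2 b b.2)).map ρZ
  obtain ⟨w, μ, hwW, hw, hμ⟩ := EigenChar.exists_common_eigenvector ρZ hcomm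
    (LinearMap.range (ρZ z - 1))
    (by
      intro h
      rw [LinearMap.range_eq_bot, sub_eq_zero] at h
      exact hz (Subtype.ext (hρ (h.trans (map_one ρ).symm))))
    (by
      rintro a _ ⟨u, rfl⟩
      refine ⟨ρZ a u, ?_⟩
      rw [LinearMap.sub_apply, LinearMap.sub_apply, Module.End.one_apply, Module.End.one_apply,
        map_sub]
      exact congrArg (· - _) (LinearMap.congr_fun (hcomm z a) u))
  refine ⟨w, μ, hw, hμ, fun h1 => hw ?_⟩
  obtain ⟨u, hu⟩ := hwW
  rw [LinearMap.sub_apply, Module.End.one_apply] at hu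
  have h3 := hμ z
  rw [h1, one_smul, ← hu] at h3
  have h4 := EigenChar.eq_of_apply_sub_fixed (ρZ z) (o := Nat.card Z)
    (by rw [← map_pow, pow_card_eq_one', map_one]) (two_pow_cast_ne_zero h2 hZ) u h3
  rw [← hu, h4, sub_self]

theorem commutes_of_plane (h2 : (2 : k) ≠ 0) (ρ : Γ →* Module.End k M)
    (hρ : Function.Injective ρ) (y : Γ)
    (hrank : finrank k (LinearMap.range (ρ y - 1)) ≤ 2)
    (hquad : (ρ y * ρ y + 1) * (ρ y - 1) = 0)
    (C Z : Subgroup Γ) (hC : IsPGroup 2 C) (hZC : Z ≤ C)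
    (hcen : ∀ z ∈ Z, ∀ u ∈ C, z * u = u * z) (hsq : ∀ u ∈ C, u ^ 2 ∈ Z)
    (hcomm : ∀ u ∈ C, ∀ v ∈ C, u * v * u⁻¹ * v⁻¹ ∈ Z)
    (hyC : ∀ u ∈ C, y * u * y⁻¹ ∈ C) (hyZ : ∀ z ∈ Z, y * z * y⁻¹ ∈ Z) :
    (∀ z ∈ Z, y ^ 2 * z = z * y ^ 2) ∧
      ∀ u ∈ C, ∀ v ∈ C, y ^ 2 * u * (y ^ 2)⁻¹ * u⁻¹ * v = v * (y ^ 2 * u * (y ^ 2)⁻¹ * u⁻¹) := by
  classical
  set Y := ρ y with hYdef
  have hZp : IsPGroup 2 Z := hC.to_le hZC
  have habel : ∀ a ∈ Z, ∀ b ∈ Z, a * b = b * a := fun a ha b hb => hcen a ha b (hZC hb)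
  have hy4 : y ^ 4 = 1 := hρ (by
    rw [map_pow, map_one, ← hYdef, ← sub_eq_zero]
    calc Y ^ 4 - 1 = (Y * Y + 1) * (Y - 1) * (Y + 1) := by noncomm_ring
      _ = 0 := by rw [hquad, zero_mul])
  set βZ := OddPower.subAut (MulAut.conj y) Z (fun z hz => by rw [MulAut.conj_apply]; exact hyZ z hz)
    with hβZ
  have hβZc : ∀ (i : ℕ) (z : Z), (((βZ ^ i) z : Z) : Γ) = y ^ i * z * (y ^ i)⁻¹ := fun i z => by
    rw [hβZ, OddPower.coe_subAut_pow, ← map_pow, MulAut.conj_apply]
  have hβ4 : βZ ^ 4 = 1 := MulEquiv.ext fun z => Subtype.ext (by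
    rw [hβZc, hy4]; simp)
  set ρZ : Z →* Module.End k M := ρ.comp Z.subtype
  have hSZ : ∀ z : Z, Y * ρZ z = ρZ (βZ z) * Y := fun z => by
    change ρ y * ρ (z : Γ) = ρ ((βZ z : Z) : Γ) * ρ y
    have := hβZc 1 z
    rw [pow_one, pow_one] at this
    rw [this, ← map_mul, ← map_mul, inv_mul_cancel_right]
  -- every weight is fixed by `y ^ 2`
  have hfix2 : ∀ (w : M) (μ : Z →* k), w ≠ 0 → (∀ a : Z, ρ (a : Γ) w = μ a • w) →
      ∀ z : Z, μ ((βZ ^ 2) z) = μ z := by
    intro w μ hw hμ
    by_contra hne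
    push_neg at hne
    obtain ⟨z₀, hz₀⟩ := hne
    have hpow : ∀ (a : ℕ), μ.comp (βZ ^ a).symm.toMonoidHom = μ.comp (βZ ^ (a + 1)).symm.toMonoidHom →
        ∀ z, μ (βZ z) = μ z := by
      intro a h z
      have h1 := DFunLike.congr_fun h ((βZ ^ (a + 1)) z)
      simp only [MonoidHom.comp_apply, MulEquiv.coe_toMonoidHom, MulEquiv.symm_apply_apply] at h1
      rw [← h1]
      congr 1
      rw [MulEquiv.eq_symm_apply, ← MulAut.mul_apply, ← pow_succ]
    have hne1 : ∀ a, μ.comp (βZ ^ a).symm.toMonoidHom ≠ μ.comp (βZ ^ (a + 1)).symm.toMonoidHom := by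
      intro a h
      refine hz₀ ?_
      rw [pow_two, MulAut.mul_apply, hpow a h, hpow a h]
    have hne2 : ∀ a, μ.comp (βZ ^ a).symm.toMonoidHom ≠ μ.comp (βZ ^ (a + 2)).symm.toMonoidHom := by
      intro a h
      refine hz₀ ?_
      have h1 := DFunLike.congr_fun h ((βZ ^ (a + 2)) z₀)
      simp only [MonoidHom.comp_apply, MulEquiv.coe_toMonoidHom, MulEquiv.symm_apply_apply] at h1
      rw [← h1]
      congr 1
      rw [MulEquiv.eq_symm_apply, ← MulAut.mul_apply, ← pow_add]
    have hne3 : μ.comp (βZ ^ 0).symm.toMonoidHom ≠ μ.comp (βZ ^ 3).symm.toMonoidHom := by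
      intro h
      refine hne1 3 ?_
      rw [show βZ ^ (3 + 1) = βZ ^ 0 by rw [pow_zero]; exact hβ4]
      exact h.symm
    have hdist : ∀ i ∈ Finset.range 4, ∀ j ∈ Finset.range 4,
        μ.comp (βZ ^ i).symm.toMonoidHom = μ.comp (βZ ^ j).symm.toMonoidHom → i = j := by
      intro i hi j hj h
      rw [Finset.mem_range] at hi hj
      interval_cases i <;> interval_cases j <;> first
        | rfl | exact absurd h (hne1 _) | exact absurd h.symm (hne1 _) | exact absurd h (hne2 _)
        | exact absurd h.symm (hne2 _) | exact absurd h hne3 | exact absurd h.symm hne3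
    have heig : ∀ (c : ℕ → k), c 0 • w + c 1 • Y w + c 2 • (Y ^ 2) w + c 3 • (Y ^ 3) w = 0 →
        ∀ i < 4, c i = 0 := by
      intro c hc i hi
      have h := EigenChar.eq_zero_of_sum_eq_zero ρZ (two_pow_cast_ne_zero h2 hZp) (Finset.range 4)
        (fun i => μ.comp (βZ ^ i).symm.toMonoidHom) (fun i => c i • (Y ^ i) w)
        (fun i _ z => by
          rw [map_smul, EigenChar.pow_apply_eigen ρZ Y βZ hSZ hμ i z, smul_comm]; rfl)
        hdist (by simpa [Finset.sum_range_succ, pow_zero, pow_one] using hc) i (Finset.mem_range.mpr hi)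
      refine (smul_eq_zero.mp h).resolve_right fun h0 => hw ?_
      have h' := congrArg (fun m => (Y ^ (4 - i) : Module.End k M) m) h0
      rwa [← Module.End.mul_apply, ← pow_add, show 4 - i + i = 4 by omega, hYdef, ← map_pow, hy4,
        map_one, Module.End.one_apply, map_zero] at h'
    let d : Fin 3 → LinearMap.range (Y - 1) := fun i =>
      ⟨(Y - 1 : Module.End k M) (((Y ^ (i : ℕ)) : Module.End k M) w), LinearMap.mem_range_self _ _⟩
    have hli : LinearIndependent k d := by
      rw [Fintype.linearIndependent_iff]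
      intro g hg
      have h := congrArg Subtype.val hg
      simp only [Fin.sum_univ_three, Submodule.coe_add, Submodule.coe_smul, d, ZeroMemClass.coe_zero,
        LinearMap.sub_apply, Module.End.one_apply] at h
      simp only [Fin.val_zero, Fin.val_one, Fin.val_two, pow_zero, pow_one,
        Module.End.one_apply] at h
      rw [← Module.End.mul_apply Y Y, ← pow_two, ← Module.End.mul_apply Y (Y ^ 2), ← pow_succ'] at h
      have hz := heig (fun i => match i with
        | 0 => -g 0 | 1 => g 0 - g 1 | 2 => g 1 - g 2 | _ => g 2) (by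
          simp only [neg_smul, sub_smul]
          rw [← h]
          simp only [smul_sub]
          abel)
      have e0 : -g 0 = 0 := hz 0 (by norm_num)
      have e1 : g 0 - g 1 = 0 := hz 1 (by norm_num)
      have e2 : g 2 = 0 := hz 3 (by norm_num)
      have e0' : g 0 = 0 := neg_eq_zero.mp e0
      have e1' : g 1 = 0 := by rwa [e0', zero_sub, neg_eq_zero] at e1
      intro i
      fin_cases i
      exacts [e0', e1', e2]
    have := hli.fintype_card_le_finrank
    rw [Fintype.card_fin] at this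
    omega
  refine ⟨fun z hz => ?_, fun u hu v hv => ?_⟩
  · by_contra hne
    set c : Z := (βZ ^ 2) ⟨z, hz⟩ * ⟨z, hz⟩⁻¹ with hc
    have hc1 : c ≠ 1 := fun h => hne (by
      have h' := congrArg Subtype.val (mul_inv_eq_one.mp h)
      rw [hβZc] at h'
      exact mul_inv_eq_iff_eq_mul.mp h')
    obtain ⟨w, μ, hw, hμ, hμc⟩ := exists_weight h2 hρ hZp habel hc1
    refine hμc ?_
    rw [hc, map_mul, hfix2 w μ hw hμ, ← map_mul, mul_inv_cancel, map_one]
  by_contra hne
  set c := y ^ 2 * u * (y ^ 2)⁻¹ * u⁻¹ with hc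
  have hcC : c ∈ C := by
    refine C.mul_mem ?_ (C.inv_mem hu)
    have := hyC _ (hyC u hu)
    rw [pow_two, mul_inv_rev]
    simpa [mul_assoc] using this
  set z : Z := ⟨c * v * c⁻¹ * v⁻¹, hcomm c hcC v hv⟩ with hzdef
  have hz1 : z ≠ 1 := fun h => hne (mul_inv_eq_iff_eq_mul.mp (mul_inv_eq_one.mp
    (congrArg Subtype.val h)))
  obtain ⟨w, μ, hw, hμ, hμz⟩ := exists_weight h2 hρ hZp habel hz1
  set W := OddPower.eigSub ρZ μ with hW
  have hwW : w ∈ W := OddPower.mem_eigSub.mpr hμ
  have hWC : ∀ p ∈ C, ∀ x ∈ W, ρ p x ∈ W := by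
    intro p hp x hx
    rw [hW, OddPower.mem_eigSub] at hx ⊢
    intro a
    change ρ (a : Γ) (ρ p x) = μ a • ρ p x
    rw [← Module.End.mul_apply, ← map_mul, hcen a a.2 p hp, map_mul, Module.End.mul_apply,
      ← map_smul]
    exact congrArg (ρ p) (hx a)
  haveI : Nontrivial W := ⟨⟨⟨w, hwW⟩, 0, fun h => hw (congrArg Subtype.val h)⟩⟩
  by_cases hmoved : ∀ a : Z, μ (βZ a) = μ a
  swap
  · -- a moved weight
    push_neg at hmoved
    obtain ⟨a₀, ha₀⟩ := hmoved
    have hdisj : ∀ x ∈ W, Y x ∈ W → x = 0 := by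
      intro x hx hYx
      by_contra hx0
      refine ha₀ ?_
      have h1 := LinearMap.congr_fun (hSZ a₀) x
      rw [Module.End.mul_apply, Module.End.mul_apply, OddPower.mem_eigSub.mp hx a₀,
        OddPower.mem_eigSub.mp hYx (βZ a₀), map_smul] at h1
      refine (smul_left_injective k (fun h0 => hx0 ?_) h1).symm
      have h' := congrArg (fun m => (Y ^ 3 : Module.End k M) m) h0
      rwa [← Module.End.mul_apply, ← pow_succ, show (3 + 1 : ℕ) = 4 from rfl, hYdef, ← map_pow, hy4,
        map_one, Module.End.one_apply, map_zero] at h'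
    let D : W →ₗ[k] LinearMap.range (Y - 1) :=
      ((Y - 1).comp W.subtype).codRestrict _ fun x => LinearMap.mem_range_self _ _
    have hD : Function.Injective D := (injective_iff_map_eq_zero D).mpr fun x hx => by
      have h : Y (x : M) = x := sub_eq_zero.mp (congrArg Subtype.val hx)
      exact Subtype.ext (hdisj x x.2 (h.symm ▸ x.2))
    have hle := LinearMap.finrank_le_finrank_of_injective hD
    have hW2 : 2 ≤ finrank k W := by
      by_contra hlt
      have h1 : finrank k W = 1 := by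
        have : 0 < finrank k W := finrank_pos
        omega
      obtain ⟨x, hx0, hspan⟩ := finrank_eq_one_iff'.mp h1
      obtain ⟨a, ha⟩ := hspan ⟨ρ c x, hWC c hcC x x.2⟩
      obtain ⟨b, hb⟩ := hspan ⟨ρ v x, hWC v hv x x.2⟩
      have ha' : ρ c (x : M) = a • (x : M) := (congrArg Subtype.val ha).symm
      have hb' : ρ v (x : M) = b • (x : M) := (congrArg Subtype.val hb).symm
      have hx0' : (x : M) ≠ 0 := fun h => hx0 (Subtype.ext h)
      refine hμz ?_
      have hz : ρ (z : Γ) (ρ (v * c) (x : M)) = ρ (c * v) (x : M) := by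
        rw [← Module.End.mul_apply, ← map_mul]
        refine congrArg (fun g => ρ g (x : M)) ?_
        rw [hzdef]
        group
      have hez : ρ (z : Γ) (ρ (v * c) (x : M)) = μ z • ρ (v * c) (x : M) :=
        OddPower.mem_eigSub.mp (hWC _ (C.mul_mem hv hcC) x x.2) z
      rw [hez, map_mul ρ v c, map_mul ρ c v,
        Module.End.mul_apply, Module.End.mul_apply, ha', hb', map_smul, map_smul, ha', hb',
        smul_comm a b] at hz
      refine smul_left_injective k (?_ : b • a • (x : M) ≠ 0) (hz.trans (one_smul k _).symm)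
      have hinv : ∀ g : Γ, ∀ m : M, ρ g m = 0 → m = 0 := fun g m h => by
        have := congrArg (ρ g⁻¹) h
        rwa [← Module.End.mul_apply, ← map_mul, inv_mul_cancel, map_one, Module.End.one_apply,
          map_zero] at this
      exact smul_ne_zero (fun h => hx0' (hinv v _ (by rw [hb', h, zero_smul])))
        (smul_ne_zero (fun h => hx0' (hinv c _ (by rw [ha', h, zero_smul]))) hx0')
    have hsurj : Function.Surjective D :=
      (LinearMap.injective_iff_surjective_of_finrank_eq_finrank (by omega)).mp hD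
    have hYY : ∀ x ∈ W, Y (Y x) ∈ W := by
      intro x hx
      rw [hW, OddPower.mem_eigSub] at hx ⊢
      intro a
      have h := EigenChar.pow_apply_eigen ρZ Y βZ hSZ hx 2 a
      rw [pow_two, Module.End.mul_apply] at h
      rw [h]
      congr 1
      have h' := hfix2 w μ hw hμ ((βZ ^ 2).symm a)
      rw [MulEquiv.apply_symm_apply] at h'
      exact h'.symm
    have ht : ∀ x ∈ W, Y (Y x) = x := by
      intro x hx
      obtain ⟨x', hx'⟩ := hsurj ⟨_, LinearMap.mem_range_self (Y - 1) (Y x)⟩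
      have h : Y (x' : M) - x' = Y (Y x) - Y x := congrArg Subtype.val hx'
      have h0 : (x : M) + x' = 0 := by
        refine hdisj _ (W.add_mem hx x'.2) ?_
        rw [map_add, show Y x + Y (x' : M) = Y (Y x) + x' by
          rw [sub_eq_iff_eq_add] at h; rw [h]; abel]
        exact W.add_mem (hYY x hx) x'.2
      rw [eq_neg_of_add_eq_zero_right h0, map_neg, sub_neg_eq_add] at h
      have h5 : Y (Y x) = x := by
        have h6 := sub_eq_zero.mpr h
        rw [← sub_eq_zero]
        calc Y (Y x) - x = -(-Y x + x - (Y (Y x) - Y x)) := by abel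
          _ = 0 := by rw [h6, neg_zero]
      exact h5
    refine hμz ?_
    have hone : ∀ x ∈ W, ρ c x = x := by
      intro x hx
      have hux : ρ u⁻¹ x ∈ W := hWC _ (C.inv_mem hu) x hx
      have ht' : ∀ m ∈ W, ρ (y ^ 2)⁻¹ m = m := fun m hm => by
        have h := congrArg (ρ (y ^ 2)⁻¹) (ht m hm)
        rw [← Module.End.mul_apply Y Y, hYdef, ← map_mul, ← pow_two, ← Module.End.mul_apply,
          ← map_mul, inv_mul_cancel, map_one, Module.End.one_apply] at h
        exact h.symm
      rw [hc, map_mul, map_mul, map_mul, Module.End.mul_apply, Module.End.mul_apply,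
        Module.End.mul_apply, ht' _ hux, ← Module.End.mul_apply (ρ u), ← map_mul, mul_inv_cancel,
        map_one, Module.End.one_apply, pow_two, map_mul, Module.End.mul_apply, ht x hx]
    have hz' : ρ (z : Γ) w = w := by
      rw [hzdef]
      change ρ (c * v * c⁻¹ * v⁻¹) w = w
      have hv' : ρ v⁻¹ w ∈ W := hWC _ (C.inv_mem hv) w hwW
      have hc' : ∀ m ∈ W, ρ c⁻¹ m = m := fun m hm => by
        have h := congrArg (ρ c⁻¹) (hone m hm)
        rw [← Module.End.mul_apply, ← map_mul, inv_mul_cancel, map_one, Module.End.one_apply] at h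
        exact h.symm
      rw [map_mul, map_mul, map_mul, Module.End.mul_apply, Module.End.mul_apply,
        Module.End.mul_apply, hc' _ hv', ← Module.End.mul_apply (ρ v), ← map_mul, mul_inv_cancel,
        map_one, Module.End.one_apply, hone w hwW]
    rw [hμ z] at hz'
    exact smul_left_injective k hw (hz'.trans (one_smul k w).symm)
  -- a fixed weight
  set β := OddPower.subAut (MulAut.conj y) C (fun p hp => by rw [MulAut.conj_apply]; exact hyC p hp)
    with hβ
  have hβc : ∀ (i : ℕ) (p : C), (((β ^ i) p : C) : Γ) = y ^ i * p * (y ^ i)⁻¹ := fun i p => by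
    rw [hβ, OddPower.coe_subAut_pow, ← map_pow, MulAut.conj_apply]
  have hcomc : ∀ p q : C, p * q * p⁻¹ * q⁻¹ ∈ Subgroup.center C := fun p q => by
    rw [Subgroup.mem_center_iff]
    exact fun g => Subtype.ext (hcen _ (hcomm p p.2 q q.2) g g.2).symm
  let cm : C → C → Z := fun p q =>
    ⟨(p : Γ) * q * (p : Γ)⁻¹ * (q : Γ)⁻¹, hcomm p p.2 q q.2⟩
  let b : C → C → k := fun p q => μ (cm p q)
  have hbmul : ∀ p q r, b p (q * r) = b p q * b p r := fun p q r => by
    rw [← map_mul]
    exact congrArg μ (Subtype.ext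
      ((congrArg Subtype.val (OddPower.com_mul hcomc p q r) : _)))
  have hbβ : ∀ p q, b (β p) (β q) = b p q := fun p q => by
    have h1 := fun r => hβc 1 r
    have : cm (β p) (β q) = βZ (cm p q) := Subtype.ext (by
      have h2 := hβZc 1 (cm p q)
      rw [pow_one, pow_one] at h2
      rw [h2]
      change ((β p : C) : Γ) * (β q : C) * ((β p : C) : Γ)⁻¹ * ((β q : C) : Γ)⁻¹ = _
      have hp := h1 p
      have hq := h1 q
      rw [pow_one, pow_one] at hp hq
      rw [hp, hq]
      simp only [cm]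
      group)
    simp only [b]
    rw [this, hmoved]
  have hb1 : ∀ p, b p 1 = 1 := fun p => by
    have h : cm p 1 = 1 := Subtype.ext (by simp [cm])
    simp only [b]; rw [h, map_one]
  have hbsymm : ∀ p q, b p q * b q p = 1 := fun p q => by
    have h : cm p q * cm q p = 1 := Subtype.ext (by simp [cm, mul_assoc])
    simp only [b]; rw [← map_mul, h, map_one]
  have hbsq : ∀ p q, b p q * b p q = 1 := fun p q => by
    rw [← hbmul, ← pow_two]
    have h : cm p (q ^ 2) = 1 := Subtype.ext (by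
      simp only [cm, Subgroup.coe_pow, OneMemClass.coe_one]
      rw [← hcen _ (hsq q q.2) p p.2]
      group)
    simp only [b]; rw [h, map_one]
  have hbc : ∀ p q, b p q = b q p := fun p q =>
    mul_left_cancel₀ (left_ne_zero_of_mul_eq_one (hbsq p q)) ((hbsq p q).trans (hbsymm p q).symm)
  let Rad : Subgroup C :=
    { carrier := {p | ∀ q, b q p = 1}
      one_mem' := hb1
      mul_mem' := fun {p p'} hp hp' q => by rw [hbmul, hp, hp', one_mul]
      inv_mem' := fun {p} hp q => by
        have h := hbmul q p p⁻¹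
        rw [mul_inv_cancel, hb1, hp, one_mul] at h
        exact h.symm }
  have hZRad : ∀ p : C, (p : Γ) ∈ Z → p ∈ Rad := fun p hp q => by
    have h : cm q p = 1 := Subtype.ext (by
      simp only [cm, OneMemClass.coe_one]
      rw [← hcen _ hp q q.2]; group)
    simp only [b]; rw [h, map_one]
  haveI : Rad.Normal := ⟨fun r hr p => by
    have h : p * r * p⁻¹ = (p * r * p⁻¹ * r⁻¹) * r := by group
    rw [h]
    exact Rad.mul_mem (hZRad _ (hcomm p p.2 r r.2)) hr⟩
  set π := QuotientGroup.mk' Rad with hπ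
  have hπsq : ∀ p : C, π p * π p = 1 := fun p => by
    rw [← map_mul, hπ, QuotientGroup.mk'_apply, QuotientGroup.eq_one_iff]
    exact hZRad _ (by rw [Subgroup.coe_mul, ← pow_two]; exact hsq p p.2)
  have hπcomm : ∀ p q : C, π p * π q = π q * π p := fun p q => by
    rw [← map_mul, ← map_mul, hπ, QuotientGroup.mk'_apply, QuotientGroup.mk'_apply,
      ← mul_inv_eq_one, ← QuotientGroup.mk_inv, ← QuotientGroup.mk_mul, QuotientGroup.eq_one_iff,
      mul_inv_rev, ← mul_assoc]
    exact hZRad _ (hcomm p p.2 q q.2)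
  have hπinv : ∀ p : C, (π p)⁻¹ = π p := fun p => inv_eq_of_mul_eq_one_right (hπsq p)
  have hbπ : ∀ p q r, π q = π r → b p q = b p r := fun p q r h => by
    obtain ⟨s, hs, hqr⟩ : ∃ s ∈ Rad, r = q * s :=
      ⟨q⁻¹ * r, QuotientGroup.eq.mp h, (mul_inv_cancel_left q r).symm⟩
    rw [hqr, hbmul, hs, mul_one]
  have hRβ : ∀ r ∈ Rad, β r ∈ Rad := fun r hr q => by
    obtain ⟨q', rfl⟩ := β.surjective q
    rw [hbβ]; exact hr q'
  have hπβ : ∀ p q : C, π p = π q → π (β p) = π (β q) := fun p q h =>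
    QuotientGroup.eq.mpr (by rw [← map_inv, ← map_mul]; exact hRβ _ (QuotientGroup.eq.mp h))
  have hβ4' : ∀ p, β (β (β (β p))) = p := fun p => by
    have h : (β ^ 4) p = p := Subtype.ext (by rw [hβc, hy4]; simp)
    simpa [pow_succ, MulAut.mul_apply] using h
  -- the chain `v₁, g, h`
  let ν : C → C := fun p => p⁻¹ * β p
  have hν : ∀ p, π (ν p) = π p * π (β p) := fun p => by rw [map_mul, map_inv, hπinv]
  have hν2 : ∀ p, π (ν (ν p)) = π p * π (β (β p)) := fun p => by
    rw [hν, hν, show π (β (ν p)) = π (β p) * π (β (β p)) by rw [map_mul β, map_inv β, map_mul, map_inv, hπinv],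
      mul_assoc, ← mul_assoc (π (β p)), hπsq, one_mul]
  have hν3 : ∀ p, π (ν (ν (ν p))) = π p * π (β p) * π (β (β p)) * π (β (β (β p))) := fun p => by
    rw [hν2, hν]
    rw [show π (β (β (ν p))) = π (β (β p)) * π (β (β (β p))) by
      rw [map_mul β, map_mul β, map_inv β, map_inv β, map_mul, map_inv, hπinv]]
    simp only [mul_assoc]
  set u' : C := ⟨u, hu⟩
  have hu2 : π (ν (ν u')) = π ⟨c, hcC⟩ := by
    rw [hν2, ← hπinv u', ← map_inv, ← map_mul]
    have hc' : (⟨c, hcC⟩ : C) = β (β u') * u'⁻¹ := Subtype.ext (by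
      have h := hβc 2 u'
      rw [pow_two β, MulAut.mul_apply] at h
      rw [Subgroup.coe_mul, h]; exact hc)
    rw [hc', map_mul, map_mul, hπcomm]
  have hu2R : ν (ν u') ∉ Rad := by
    intro h
    refine hμz ?_
    have h' : (⟨c, hcC⟩ : C) ∈ Rad := by
      rw [← QuotientGroup.eq_one_iff]
      exact hu2.symm.trans ((QuotientGroup.eq_one_iff _).mpr h)
    exact (hbc _ _).trans (h' ⟨v, hv⟩)
  haveI hZn : (Z.subgroupOf C).Normal := ⟨fun r hr p => by
    rw [Subgroup.mem_subgroupOf] at hr ⊢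
    rw [Subgroup.coe_mul, Subgroup.coe_mul, Subgroup.coe_inv,
      ← hcen _ hr p p.2, mul_inv_cancel_right]
    exact hr⟩
  have hν4 : ∀ p : C, ν (ν (ν (ν p))) ∈ Z.subgroupOf C := fun p => by
    have h := iterate_four_mem β hβ4' (Z.subgroupOf C) (fun q hq => by
        rw [Subgroup.mem_subgroupOf] at hq ⊢
        have h1 := hβc 1 q
        rw [pow_one, pow_one] at h1
        rw [h1]; exact hyZ _ hq)
      (fun q => by rw [Subgroup.mem_subgroupOf, Subgroup.coe_mul, ← pow_two]; exact hsq q q.2)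
      (fun q q' => hcomm q q.2 q' q'.2) p
    simpa [Function.iterate_succ, ν] using h
  obtain ⟨v₁, hv2, hv3⟩ : ∃ v₁, ν (ν v₁) ∉ Rad ∧ ν (ν (ν v₁)) ∈ Rad := by
    by_cases h : ν (ν (ν u')) ∈ Rad
    · exact ⟨u', hu2R, h⟩
    · exact ⟨ν u', h, hZRad _ (hν4 u')⟩
  have hbt : b v₁ (β (β v₁)) = 1 := by
    have h := hv3 v₁
    rw [hbπ v₁ _ (v₁ * β v₁ * β (β v₁) * β (β (β v₁))) (by
      rw [hν3, map_mul, map_mul, map_mul]), hbmul, hbmul, hbmul] at h
    have e1 : b v₁ v₁ = 1 := by
      have h : cm v₁ v₁ = 1 := Subtype.ext (by simp [cm])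
      simp only [b]; rw [h, map_one]
    have e2 : b v₁ (β (β (β v₁))) = b v₁ (β v₁) := by
      rw [← hbβ v₁ (β (β (β v₁))), hβ4', hbc]
    rw [e1, e2, one_mul, mul_right_comm, hbsq, one_mul] at h
    exact h
  set g₁ := ν v₁ with hg₁
  set h₁ := ν g₁ with hh₁
  have e1 : b v₁ v₁ = 1 := by
    have h : cm v₁ v₁ = 1 := Subtype.ext (by simp [cm])
    simp only [b]; rw [h, map_one]
  have hbvh : b v₁ h₁ = 1 := by
    rw [hbπ v₁ h₁ (v₁ * β (β v₁)) ((hν2 v₁).trans (map_mul π _ _).symm), hbmul, e1, one_mul, hbt]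
  have hbgh : b g₁ h₁ = 1 := by
    rw [hbπ g₁ h₁ (v₁ * β (β v₁)) ((hν2 v₁).trans (map_mul π _ _).symm), hbc,
      hbπ _ g₁ (v₁ * β v₁) ((hν v₁).trans (map_mul π _ _).symm), hbmul, hbc (v₁ * β (β v₁)) v₁,
      hbc (v₁ * β (β v₁)) (β v₁), hbmul, hbmul, e1, one_mul, hbt, one_mul, hbβ, hbc (β v₁) v₁, hbsq]
  -- operators on `W`
  have hWY : ∀ x ∈ W, Y x ∈ W := by
    intro x hx
    rw [hW, OddPower.mem_eigSub] at hx ⊢
    intro a
    obtain ⟨a, rfl⟩ := βZ.surjective a
    have h := LinearMap.congr_fun (hSZ a) x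
    rw [Module.End.mul_apply, Module.End.mul_apply, hx, map_smul] at h
    rw [hmoved]; exact h.symm
  let ρW : C →* Module.End k W := OddPower.resRep (ρ.comp C.subtype) W fun p x hx => hWC p p.2 x hx
  let YW : Module.End k W := Y.restrict hWY
  have hYWc : ∀ p : C, YW * ρW p = ρW (β p) * YW := fun p => LinearMap.ext fun x => Subtype.ext (by
    change ρ y (ρ (p : Γ) (x : M)) = ρ ((β p : C) : Γ) (ρ y (x : M))
    have h := hβc 1 p
    rw [pow_one, pow_one] at h
    rw [h, ← Module.End.mul_apply, ← Module.End.mul_apply, ← map_mul, ← map_mul, inv_mul_cancel_right])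
  have hscal : ∀ a : C, ∀ ha : (a : Γ) ∈ Z, ρW a = μ ⟨a, ha⟩ • 1 := fun a ha =>
    LinearMap.ext fun x => Subtype.ext (OddPower.mem_eigSub.mp x.2 ⟨a, ha⟩)
  have hswap : ∀ p q : C, ρW p * ρW q = b p q • (ρW q * ρW p) := fun p q => by
    have h : p * q = (⟨(p : Γ) * q * (p : Γ)⁻¹ * (q : Γ)⁻¹, hZC (hcomm p p.2 q q.2)⟩ : C) * (q * p) :=
      Subtype.ext (by simp [mul_assoc])
    rw [← map_mul, h, map_mul ρW, hscal _ (hcomm p p.2 q q.2), smul_mul_assoc, one_mul, map_mul]
  have hinjρ : ∀ p : C, Function.Injective (ρW p) := fun p a a' h => by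
    have h' := congrArg (ρW p⁻¹) h
    rwa [← Module.End.mul_apply, ← Module.End.mul_apply, ← map_mul, inv_mul_cancel, map_one,
      Module.End.one_apply, Module.End.one_apply] at h'
  have hunit : ∀ a : Z, μ a ≠ 0 := fun a h => by
    have h1 := map_mul μ a a⁻¹
    rw [mul_inv_cancel, map_one, h, zero_mul] at h1
    exact one_ne_zero h1
  have hnoneg : ∀ x : M, Y x = -x → x = 0 := by
    intro x hx
    have h := LinearMap.congr_fun hquad x
    simp only [Module.End.mul_apply, LinearMap.sub_apply, LinearMap.add_apply,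
      Module.End.one_apply, hx, map_sub, map_neg, neg_neg, LinearMap.zero_apply] at h
    have h' : (2 * 2 : k) • x = 0 := by
      rw [mul_smul, two_smul k x, two_smul k (x + x), ← neg_eq_zero, ← h]; abel
    exact (smul_eq_zero.mp h').resolve_left (mul_ne_zero h2 h2)
  -- `Y²` is not `-1` on `W`
  obtain ⟨x₁, hx₁, hx₁Y, hx₁0⟩ : ∃ x, x ∈ W ∧ Y x = x ∧ x ≠ 0 := by
    by_contra hno
    push_neg at hno
    have hinj : Function.Injective (YW - 1 : Module.End k W) :=
      (injective_iff_map_eq_zero _).mpr fun x hx => Subtype.ext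
        (hno x x.2 (congrArg Subtype.val (sub_eq_zero.mp hx)))
    have hneg : ∀ m ∈ W, Y (Y m) = -m := fun m hm => by
      obtain ⟨q, hq⟩ := LinearMap.surjective_of_injective hinj ⟨m, hm⟩
      have hq' : Y (q : M) - q = m := congrArg Subtype.val hq
      have h := LinearMap.congr_fun hquad (q : M)
      rw [Module.End.mul_apply, LinearMap.sub_apply, Module.End.one_apply, hq',
        LinearMap.add_apply, Module.End.mul_apply, Module.End.one_apply, LinearMap.zero_apply,
        add_eq_zero_iff_eq_neg] at h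
      exact h
    have hinv : ∀ m ∈ W, ρ (y ^ 2)⁻¹ m = -m := fun m hm => by
      have h := congrArg (ρ (y ^ 2)⁻¹) (hneg m hm)
      rw [← Module.End.mul_apply Y Y, hYdef, ← map_mul, ← pow_two, ← Module.End.mul_apply,
        ← map_mul, inv_mul_cancel, map_one, Module.End.one_apply, map_neg] at h
      rw [eq_neg_iff_add_eq_zero] at h ⊢
      rw [add_comm]
      exact h
    have hone : ∀ m ∈ W, ρ c m = m := fun m hm => by
      rw [hc, map_mul, map_mul, map_mul, Module.End.mul_apply, Module.End.mul_apply,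
        Module.End.mul_apply, hinv _ (hWC _ (C.inv_mem hu) m hm), map_neg, map_neg,
        ← Module.End.mul_apply (ρ u), ← map_mul, mul_inv_cancel, map_one, Module.End.one_apply,
        pow_two, map_mul, Module.End.mul_apply, hneg m hm, neg_neg]
    refine hμz ?_
    have hz' : ρ (z : Γ) w = w := by
      rw [hzdef]
      change ρ (c * v * c⁻¹ * v⁻¹) w = w
      have hv' : ρ v⁻¹ w ∈ W := hWC _ (C.inv_mem hv) w hwW
      have hc' : ∀ m ∈ W, ρ c⁻¹ m = m := fun m hm => by
        have h := congrArg (ρ c⁻¹) (hone m hm)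
        rw [← Module.End.mul_apply, ← map_mul, inv_mul_cancel, map_one, Module.End.one_apply] at h
        exact h.symm
      rw [map_mul, map_mul, map_mul, Module.End.mul_apply, Module.End.mul_apply,
        Module.End.mul_apply, hc' _ hv', ← Module.End.mul_apply (ρ v), ← map_mul, mul_inv_cancel,
        map_one, Module.End.one_apply, hone w hwW]
    rw [hμ z] at hz'
    exact smul_left_injective k hw (hz'.trans (one_smul k w).symm)
  -- the radical element `r` is central in the piece
  set r := ν h₁ with hr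
  set z' : C := r⁻¹ * β r with hz'
  have hz'Z : (z' : Γ) ∈ Z := hν4 v₁
  have hrsq : ((r * r : C) : Γ) ∈ Z := by rw [Subgroup.coe_mul, ← pow_two]; exact hsq r r.2
  have hrr : ρW r * ρW r = μ ⟨_, hrsq⟩ • (1 : Module.End k W) := by
    rw [← map_mul, hscal _ hrsq]
  have hcr : YW * ρW r = μ ⟨_, hz'Z⟩ • (ρW r * YW) := by
    rw [hYWc, show β r = r * z' by rw [hz', mul_inv_cancel_left], map_mul, hscal _ hz'Z,
      mul_smul_comm, mul_one, smul_mul_assoc]
  set c' := μ ⟨_, hz'Z⟩ with hc'
  have hc'1 : c' = 1 := by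
    set ε := μ ⟨_, hrsq⟩ with hε
    have e : ∀ m : W, YW (ρW r m) = c' • ρW r (YW m) := fun m => LinearMap.congr_fun hcr m
    have e2 : ∀ m : W, ρW r (ρW r m) = ε • m := fun m => LinearMap.congr_fun hrr m
    let x₂ : W := ⟨x₁, hx₁⟩
    have hx2 : YW x₂ = x₂ := Subtype.ext hx₁Y
    have hx20 : x₂ ≠ 0 := fun h => hx₁0 (congrArg Subtype.val h)
    have h := e (ρW r x₂)
    rw [e2, map_smul, hx2, e, hx2, map_smul, e2, smul_smul, smul_smul] at h
    have h' := smul_left_injective k hx20 h
    have hcc : (c' * c' - 1) * ε = 0 := by rw [sub_mul, one_mul, ← h', sub_self]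
    rcases mul_self_eq_one_iff.mp (sub_eq_zero.mp ((mul_eq_zero.mp hcc).resolve_right (hunit _)))
      with h1 | h1
    · exact h1
    exfalso
    have h3 : YW (ρW r x₂) = -(ρW r x₂) := by rw [e, hx2, h1, neg_smul, one_smul]
    have h4 := hnoneg _ (congrArg Subtype.val h3)
    exact hx20 (hinjρ r ((Subtype.ext h4).trans (map_zero (ρW r)).symm))
  rw [hc'1, one_smul] at hcr
  have hrcomm : ∀ p : C, ρW r * ρW p = ρW p * ρW r := fun p => by
    rw [hswap, hbc, show b p r = 1 from hv3 p, one_smul]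
  obtain ⟨e, he⟩ := Module.End.exists_eigenvalue (ρW r)
  set W₁ := Module.End.eigenspace (ρW r) e with hW₁
  haveI : Nontrivial W₁ := Submodule.nontrivial_iff_ne_bot.mpr (Module.End.hasEigenvalue_iff.mp he)
  have hW1 : ∀ T : Module.End k W, ρW r * T = T * ρW r → ∀ m ∈ W₁, T m ∈ W₁ := by
    intro T hT m hm
    rw [hW₁, Module.End.mem_eigenspace_iff] at hm ⊢
    rw [← Module.End.mul_apply, hT, Module.End.mul_apply, hm, map_smul]
  have hWp : ∀ p : C, ∀ m ∈ W₁, ρW p m ∈ W₁ := fun p => hW1 _ (hrcomm p)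
  have hWYr : ∀ m ∈ W₁, YW m ∈ W₁ := hW1 _ hcr.symm
  let ρ₁ : C →* Module.End k W₁ := OddPower.resRep ρW W₁ hWp
  let Y₁ : Module.End k W₁ := YW.restrict hWYr
  have hY₁c : ∀ p : C, Y₁ * ρ₁ p = ρ₁ (β p) * Y₁ := fun p => LinearMap.ext fun m => Subtype.ext
    (LinearMap.congr_fun (hYWc p) (m : W))
  have hscal₁ : ∀ a : C, ∀ ha : (a : Γ) ∈ Z, ρ₁ a = μ ⟨a, ha⟩ • 1 := fun a ha =>
    LinearMap.ext fun m => Subtype.ext (LinearMap.congr_fun (hscal a ha) (m : W))
  have hswap₁ : ∀ p q : C, ρ₁ p * ρ₁ q = b p q • (ρ₁ q * ρ₁ p) := fun p q =>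
    LinearMap.ext fun m => Subtype.ext (LinearMap.congr_fun (hswap p q) (m : W))
  have hinj₁ : ∀ p : C, Function.Injective (ρ₁ p) := fun p m m' h =>
    Subtype.ext (hinjρ p (congrArg Subtype.val h))
  have hr₁ : ρ₁ r = e • 1 := LinearMap.ext fun m => Subtype.ext
    (Module.End.mem_eigenspace_iff.mp m.2)
  have hY₁inj : Function.Injective Y₁ := fun m m' h => by
    refine Subtype.ext (Subtype.ext ?_)
    have h' : Y ((m : W) : M) = Y ((m' : W) : M) := congrArg (fun x : W₁ => ((x : W) : M)) h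
    have h'' := congrArg (fun m => (Y ^ 3 : Module.End k M) m) h'
    rwa [← Module.End.mul_apply, ← Module.End.mul_apply, ← pow_succ,
      show (3 + 1 : ℕ) = 4 from rfl, hYdef, ← map_pow, hy4, map_one, Module.End.one_apply,
      Module.End.one_apply] at h''
  obtain ⟨qh, hqh⟩ : ∃ q, b q h₁ = -1 := by
    obtain ⟨q, hq⟩ : ∃ q, b q h₁ ≠ 1 := by
      by_contra h
      push_neg at h
      exact hv2 h
    exact ⟨q, (mul_self_eq_one_iff.mp (hbsq q h₁)).resolve_left hq⟩
  obtain ⟨qg, hqg⟩ : ∃ q, b q g₁ = -1 := by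
    obtain ⟨q, hq⟩ : ∃ q, b q g₁ ≠ 1 := by
      by_contra h
      push_neg at h
      refine hv2 fun q => ?_
      change b q h₁ = 1
      obtain ⟨q', rfl⟩ := β.surjective q
      rw [hh₁, hbπ _ _ (g₁ * β g₁) ((hν g₁).trans (map_mul π _ _).symm), hbmul, h (β q'), one_mul,
        hbβ, h q']
    exact ⟨q, (mul_self_eq_one_iff.mp (hbsq q g₁)).resolve_left hq⟩
  have hsqC : ∀ p : C, ((p * p : C) : Γ) ∈ Z := fun p => by
    rw [Subgroup.coe_mul, ← pow_two]; exact hsq p p.2
  refine no_plane h2 Y₁ (ρ₁ v₁) (ρ₁ g₁) (ρ₁ h₁) (ρ₁ qh) (ρ₁ qg) e (μ ⟨_, hsqC h₁⟩) (μ ⟨_, hsqC g₁⟩)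
    (hunit _) (hunit _) hY₁inj (hinj₁ _) (hinj₁ _) (hinj₁ _) ?_ ?_ ?_ ?_ ?_ ?_ ?_ ?_ ?_ ?_ ?_
  · refine le_trans ?_ hrank
    let D : LinearMap.range (Y₁ - 1) →ₗ[k] LinearMap.range (Y - 1) :=
      ((W.subtype.comp W₁.subtype).comp (LinearMap.range (Y₁ - 1)).subtype).codRestrict _ (by
        rintro ⟨_, m, rfl⟩
        exact ⟨((m : W) : M), rfl⟩)
    exact LinearMap.finrank_le_finrank_of_injective (f := D) fun a a' h =>
      Subtype.ext (Subtype.ext (Subtype.ext (congrArg Subtype.val h : _)))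
  · exact LinearMap.ext fun m => Subtype.ext (Subtype.ext
      (LinearMap.congr_fun hquad ((m : W) : M)))
  · rw [hY₁c, show β v₁ = v₁ * g₁ by rw [hg₁]; exact (mul_inv_cancel_left v₁ _).symm, map_mul]
  · rw [hY₁c, show β g₁ = g₁ * h₁ by rw [hh₁]; exact (mul_inv_cancel_left g₁ _).symm, map_mul]
  · rw [hY₁c, show β h₁ = h₁ * r by rw [hr]; exact (mul_inv_cancel_left h₁ _).symm, map_mul, hr₁,
      mul_smul_comm, mul_one, smul_mul_assoc]
  · rw [hswap₁, hbc, hbvh, one_smul]
  · rw [hswap₁, hbc, hbgh, one_smul]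
  · rw [← map_mul, hscal₁ _ (hsqC h₁)]
  · rw [← map_mul, hscal₁ _ (hsqC g₁)]
  · rw [hswap₁, hqh]; exact neg_one_smul k (ρ₁ h₁ * ρ₁ qh)
  · rw [hswap₁, hqg]; exact neg_one_smul k (ρ₁ g₁ * ρ₁ qg)

end Group

end Cfsg.Agent.Lib.FpfHeight.PlanePiece
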