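/-
An element with a two-dimensional displacement space whose square is `-1` there, in odd
characteristic: its square lies in `O_{2',2}` of every solvable normal subgroup containing it.
-/
import Cfsg.Agent.Lib.PSolvable.PLength
import Cfsg.Agent.Lib.Transfer.Critical
import Cfsg.Agent.Lib.Balance.LBalance
import Cfsg.Agent.Lib.FpfHeight.PlanePiece
import Cfsg.Agent.Lib.FpfHeight.InvolutionConj

set_option autoImplicit false

namespace Cfsg.Agent.Lib.FpfHeight.PlaneSquare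

open Module Cfsg

universe u

variable {k : Type*} [Field k] [IsAlgClosed k] {M : Type*} [AddCommGroup M] [Module k M]
  [FiniteDimensional k M] {Γ : Type u} [Group Γ] [Finite Γ]

theorem square_mem (h2 : (2 : k) ≠ 0) (ρ : Γ →* Module.End k M) (hρ : Function.Injective ρ)
    (L : Subgroup Γ) [L.Normal] [Group.IsSolvable L] (y : Γ) (hy : y ^ 2 ∈ L)
    (hrank : finrank k (LinearMap.range (ρ y - 1)) ≤ 2)
    (hquad : (ρ y * ρ y + 1) * (ρ y - 1) = 0) :
    (⟨y ^ 2, hy⟩ : L) ∈ pPrimePCore 2 L := by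
  classical
  haveI : Fact (Nat.Prime 2) := ⟨Nat.prime_two⟩
  have hy4 : y ^ 4 = 1 := hρ (by
    rw [map_pow, map_one, ← sub_eq_zero]
    calc ρ y ^ 4 - 1 = (ρ y * ρ y + 1) * (ρ y - 1) * (ρ y + 1) := by noncomm_ring
      _ = 0 := by rw [hquad, zero_mul])
  have hyp : IsPGroup 2 (Subgroup.zpowers y) := by
    obtain ⟨i, -, hi⟩ := (Nat.dvd_prime_pow Nat.prime_two).mp
      (show orderOf y ∣ 2 ^ 2 from orderOf_dvd_of_pow_eq_one hy4)
    exact IsPGroup.of_card (n := i) (by rw [Nat.card_zpowers, hi])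
  obtain ⟨S, hS⟩ := hyp.exists_le_sylow
  haveI : (pPrimePCore 2 L).Characteristic := by
    refine Subgroup.characteristic_iff_map_le.mpr fun φ => ?_
    have hO : (pPrimeCore 2 L).map φ.toMonoidHom = pPrimeCore 2 L :=
      Subgroup.characteristic_iff_map_eq.mp inferInstance φ
    rw [pPrimePCore, ← Subgroup.map_le_iff_le_comap, Subgroup.map_map]
    refine PSolvable.le_pCore (Subgroup.Normal.map inferInstance _ fun x => ?_) ?_
    · obtain ⟨l, rfl⟩ := QuotientGroup.mk'_surjective _ x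
      obtain ⟨l', rfl⟩ := φ.surjective l
      exact ⟨l', rfl⟩
    · rintro ⟨_, l, hl, rfl⟩
      obtain ⟨a, ha⟩ := PSolvable.isPGroup_pCore ⟨_, hl⟩
      refine ⟨a, Subtype.ext ?_⟩
      have h1 : l ^ 2 ^ a ∈ pPrimeCore 2 L :=
        (QuotientGroup.eq_one_iff _).mp (congrArg Subtype.val ha)
      change ((QuotientGroup.mk' _).comp φ.toMonoidHom) l ^ 2 ^ a = 1
      rw [← map_pow, MonoidHom.comp_apply, QuotientGroup.mk'_apply, QuotientGroup.eq_one_iff]
      exact hO.le ⟨_, h1, rfl⟩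
  set K := (pPrimePCore 2 L).map L.subtype with hK
  haveI hKn : K.Normal := ConjAct.normal_of_characteristic_of_normal
  obtain ⟨Q, hQ⟩ := Balance.exists_sylow_inf_normal (p := 2) S K
  set E := (S : Subgroup Γ) ⊓ K with hE
  have hEp : IsPGroup 2 E := S.isPGroup'.to_le inf_le_left
  have hQE : (Q : Subgroup K).map K.subtype = E := by rw [hQ, Subgroup.subgroupOf_map_subtype]
  set NE := Subgroup.normalizer (E : Set Γ) with hNE
  have hfr : NE ⊔ K = ⊤ := by
    have h := Sylow.normalizer_sup_eq_top Q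
    rw [hQE] at h
    exact h
  have hyE : ∀ g ∈ (S : Subgroup Γ), g ∈ NE := fun g hg => by
    rw [hNE, Subgroup.mem_normalizer_iff]
    intro e
    constructor
    · rintro ⟨h1, h3⟩
      exact ⟨(S : Subgroup Γ).mul_mem ((S : Subgroup Γ).mul_mem hg h1)
        ((S : Subgroup Γ).inv_mem hg), hKn.conj_mem _ h3 g⟩
    · rintro ⟨h1, h3⟩
      have h4 := (S : Subgroup Γ).mul_mem
        ((S : Subgroup Γ).mul_mem ((S : Subgroup Γ).inv_mem hg) h1) hg
      have h5 := hKn.conj_mem _ h3 g⁻¹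
      rw [show g⁻¹ * (g * e * g⁻¹) * g = e by group] at h4
      rw [show g⁻¹ * (g * e * g⁻¹) * g⁻¹⁻¹ = e by group] at h5
      exact ⟨h4, h5⟩
  have hyS : y ∈ (S : Subgroup Γ) := hS (Subgroup.mem_zpowers y)
  -- the critical subgroup
  obtain ⟨C₀, hC₀, hC₀cen, hC₀pow, hC₀comm⟩ := Transfer.Critical.exists_critical hEp
  set C := C₀.map E.subtype with hC
  set Z := C ⊓ Subgroup.centralizer (C : Set Γ) with hZ
  have hCE : C ≤ E := Subgroup.map_subtype_le _
  have hCconj : ∀ g ∈ NE, ∀ u ∈ C, g * u * g⁻¹ ∈ C := by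
    rintro g hg _ ⟨u, hu, rfl⟩
    haveI := hC₀
    have hgE : ∀ e ∈ E, MulAut.conj g e ∈ E := fun e he => by
      rw [MulAut.conj_apply]; exact (Subgroup.mem_normalizer_iff.mp hg e).mp he
    exact ⟨_, Basic.apply_mem_of_char (OddPower.subAut (MulAut.conj g) E hgE) C₀ u hu, rfl⟩
  have hmemZ : ∀ x, x ∈ Z ↔ x ∈ C ∧ ∀ u ∈ C, u * x = x * u := fun x => by
    rw [hZ, Subgroup.mem_inf, Subgroup.mem_centralizer_iff]; rfl
  have hZconj : ∀ g ∈ NE, ∀ z ∈ Z, g * z * g⁻¹ ∈ Z := by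
    intro g hg z hz
    rw [hmemZ] at hz ⊢
    refine ⟨hCconj g hg z hz.1, fun u hu => ?_⟩
    have h1 := hz.2 _ (hCconj g⁻¹ (inv_mem hg) u hu)
    rw [inv_inv] at h1
    calc u * (g * z * g⁻¹) = g * ((g⁻¹ * u * g) * z) * g⁻¹ := by group
      _ = g * (z * (g⁻¹ * u * g)) * g⁻¹ := by rw [h1]
      _ = g * z * g⁻¹ * u := by group
  have hZ₀ : ∀ x : E, x ∈ C₀ ⊓ Subgroup.centralizer (C₀ : Set E) → (x : Γ) ∈ Z := fun x hx => by
    rw [hmemZ]
    refine ⟨⟨x, hx.1, rfl⟩, ?_⟩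
    rintro _ ⟨u, hu, rfl⟩
    exact congrArg Subtype.val (Subgroup.mem_centralizer_iff.mp hx.2 u hu)
  have hsq : ∀ u ∈ C, u ^ 2 ∈ Z := by
    rintro _ ⟨u, hu, rfl⟩
    exact hZ₀ (u ^ 2) (hC₀pow u hu)
  have hcomm : ∀ u ∈ C, ∀ v ∈ C, u * v * u⁻¹ * v⁻¹ ∈ Z := by
    rintro _ ⟨u, hu, rfl⟩ _ ⟨v, hv, rfl⟩
    exact hZ₀ _ (hC₀comm u hu v)
  have hcen : ∀ z ∈ Z, ∀ u ∈ C, z * u = u * z := fun z hz u hu => (((hmemZ z).mp hz).2 u hu).symm
  have hyC : ∀ u ∈ C, y * u * y⁻¹ ∈ C := hCconj y (hyE y hyS)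
  have hyZ : ∀ z ∈ Z, y * z * y⁻¹ ∈ Z := hZconj y (hyE y hyS)
  obtain ⟨hy2Z, hy2C⟩ := PlanePiece.commutes_of_plane h2 ρ hρ y hrank hquad C Z (hEp.to_le hCE)
    inf_le_left hcen hsq hcomm hyC hyZ
  -- the stabilizer of the series `1 ≤ Z ≤ C`
  let St : Subgroup Γ :=
    { carrier := {h | h ∈ L ∧ h ∈ NE ∧ (∀ z ∈ Z, h * z = z * h) ∧
        ∀ u ∈ C, h * u * h⁻¹ * u⁻¹ ∈ Z}
      one_mem' := ⟨one_mem _, one_mem _, fun z _ => by simp, fun u _ => by simp [Z.one_mem]⟩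
      mul_mem' := fun {a b} ha hb => ⟨mul_mem ha.1 hb.1, mul_mem ha.2.1 hb.2.1,
        fun z hz => by rw [mul_assoc, hb.2.2.1 z hz, ← mul_assoc, ha.2.2.1 z hz, mul_assoc],
        fun u hu => by
          have h1 : a * b * u * (a * b)⁻¹ * u⁻¹ =
              (a * (b * u * b⁻¹ * u⁻¹) * a⁻¹) * (a * u * a⁻¹ * u⁻¹) := by group
          rw [h1]
          exact mul_mem (hZconj a ha.2.1 _ (hb.2.2.2 u hu)) (ha.2.2.2 u hu)⟩
      inv_mem' := fun {a} ha => ⟨inv_mem ha.1, inv_mem ha.2.1,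
        fun z hz => by
          rw [inv_mul_eq_iff_eq_mul, ← mul_assoc, ha.2.2.1 z hz, mul_inv_cancel_right],
        fun u hu => by
          have h1 := inv_mem (ha.2.2.2 _ (hCconj a⁻¹ (inv_mem ha.2.1) u hu))
          simp only [inv_inv] at h1 ⊢
          rwa [show (a * (a⁻¹ * u * a) * a⁻¹ * (a⁻¹ * u * a)⁻¹)⁻¹ = a⁻¹ * u * a * u⁻¹ by
            group] at h1⟩ }
  have hy2St : y ^ 2 ∈ St := by
    refine ⟨hy, pow_mem (hyE y hyS) 2, hy2Z, fun u hu => ?_⟩
    rw [hmemZ]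
    exact ⟨mul_mem (hCconj _ (pow_mem (hyE y hyS) 2) u hu) (inv_mem hu),
      fun v hv => (hy2C u hu v hv).symm⟩
  have hSt : ∀ g ∈ NE, ∀ h ∈ St, g * h * g⁻¹ ∈ St := by
    rintro g hg h ⟨hL, hN, hz', hc⟩
    refine ⟨Subgroup.Normal.conj_mem inferInstance _ hL g, mul_mem (mul_mem hg hN) (inv_mem hg),
      fun z hz => ?_, fun u hu => ?_⟩
    · have h1 := hz' _ (hZconj g⁻¹ (inv_mem hg) z hz)
      rw [inv_inv] at h1
      calc g * h * g⁻¹ * z = g * (h * (g⁻¹ * z * g)) * g⁻¹ := by group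
        _ = g * ((g⁻¹ * z * g) * h) * g⁻¹ := by rw [h1]
        _ = z * (g * h * g⁻¹) := by group
    · have h1 := hc _ (hCconj g⁻¹ (inv_mem hg) u hu)
      have h3 : g * h * g⁻¹ * u * (g * h * g⁻¹)⁻¹ * u⁻¹ =
          g * (h * (g⁻¹ * u * g⁻¹⁻¹) * h⁻¹ * (g⁻¹ * u * g⁻¹⁻¹)⁻¹) * g⁻¹ := by group
      rw [h3]
      exact hZconj g hg _ h1
  -- odd elements of the stabilizer centralize `E`
  have hodd : ∀ h ∈ St, ∀ n : ℕ, Odd n → h ^ n = 1 → ∀ e ∈ E, h * e = e * h := by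
    intro h hh n hn hhn
    have hC1 : ∀ u ∈ C, h * u = u * h := by
      intro u hu
      set z := h * u * h⁻¹ * u⁻¹ with hz
      have hzh : h * z * h⁻¹ = z := by rw [hh.2.2.1 z (hh.2.2.2 u hu), mul_inv_cancel_right]
      have hpow : ∀ i : ℕ, h ^ i * u * (h ^ i)⁻¹ = z ^ i * u := by
        intro i
        induction i with
        | zero => simp
        | succ i ih =>
          calc h ^ (i + 1) * u * (h ^ (i + 1))⁻¹ = h * (h ^ i * u * (h ^ i)⁻¹) * h⁻¹ := by
                rw [pow_succ']; group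
            _ = h * (z ^ i * u) * h⁻¹ := by rw [ih]
            _ = h * z ^ i * h⁻¹ * (h * u * h⁻¹) := by group
            _ = z ^ i * (z * u) := by rw [← conj_pow, hzh, show h * u * h⁻¹ = z * u by rw [hz, inv_mul_cancel_right]]
            _ = z ^ (i + 1) * u := by rw [pow_succ]; exact (mul_assoc _ _ _).symm
      have hzn : z ^ n = 1 := by
        have h1 := hpow n
        rw [hhn] at h1
        simpa using h1
      obtain ⟨a, ha⟩ := (hEp.to_le hCE) ⟨z, (hh.2.2.2 u hu).1⟩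
      have hz1 : z = 1 := InvolutionConj.eq_one_of_two_pow (congrArg Subtype.val ha) hzn hn
      exact mul_inv_eq_iff_eq_mul.mp (mul_inv_eq_one.mp hz1)
    intro e he
    set c := e⁻¹ * (h * e * h⁻¹) with hc
    have hcE : c ∈ E := mul_mem (inv_mem he) ((Subgroup.mem_normalizer_iff.mp hh.2.1 e).mp he)
    have hcC : c ∈ C := by
      refine ⟨⟨c, hcE⟩, hC₀cen ?_, rfl⟩
      rw [Subgroup.mem_centralizer_iff]
      intro u hu
      refine Subtype.ext ?_
      have hu' : (u : Γ) ∈ C := ⟨u, hu, rfl⟩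
      have heu := hCconj e (by rw [hNE]; exact Subgroup.le_normalizer he) _ hu'
      have h1 := hC1 _ hu'
      have h3 := hC1 _ heu
      calc (u : Γ) * c = e⁻¹ * ((e * u * e⁻¹) * h) * e * h⁻¹ := by rw [hc]; group
        _ = e⁻¹ * (h * (e * u * e⁻¹)) * e * h⁻¹ := by rw [h3]
        _ = e⁻¹ * h * e * (u * h⁻¹) := by group
        _ = e⁻¹ * h * e * (h⁻¹ * u) := by
          rw [show (u : Γ) * h⁻¹ = h⁻¹ * u by
            rw [eq_inv_mul_iff_mul_eq, ← mul_assoc, h1, mul_inv_cancel_right]]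
        _ = c * u := by rw [hc]; group
    have hch : h * c * h⁻¹ = c := by rw [hC1 c hcC, mul_inv_cancel_right]
    have hpow : ∀ i : ℕ, h ^ i * e * (h ^ i)⁻¹ = e * c ^ i := by
      intro i
      induction i with
      | zero => simp
      | succ i ih =>
        calc h ^ (i + 1) * e * (h ^ (i + 1))⁻¹ = h * (h ^ i * e * (h ^ i)⁻¹) * h⁻¹ := by
              rw [pow_succ']; group
          _ = h * (e * c ^ i) * h⁻¹ := by rw [ih]
          _ = (h * e * h⁻¹) * (h * c ^ i * h⁻¹) := by group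
          _ = e * c * c ^ i := by rw [← conj_pow, hch, hc]; group
          _ = e * c ^ (i + 1) := by rw [pow_succ', mul_assoc]
    have hcn : c ^ n = 1 := by
      have h1 := hpow n
      rw [hhn] at h1
      simpa using h1
    obtain ⟨a, ha⟩ := hEp ⟨c, hcE⟩
    have hc1 : c = 1 := InvolutionConj.eq_one_of_two_pow (congrArg Subtype.val ha) hcn hn
    rw [hc, inv_mul_eq_one] at hc1
    exact mul_inv_eq_iff_eq_mul.mp hc1.symm
  -- in `L / O(L)`
  set O := pPrimeCore 2 L with hO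
  set π := QuotientGroup.mk' O
  haveI : Group.IsSolvable (L ⧸ O) :=
    Group.isSolvable_of_surjective (f := π) (QuotientGroup.mk'_surjective O)
  have hHH := PSolvable.centralizer_pCore_le (p := 2) (PSolvable.isPSolvable_of_isSolvable (G := L ⧸ O))
    (PSolvable.pPrimeCore_quotient_eq_bot O rfl)
  set EL := E.subgroupOf L with hEL
  have hcore : pCore 2 (L ⧸ O) ≤ EL.map π := by
    have hmap : (pPrimePCore 2 L).map π = pCore 2 (L ⧸ O) :=
      Subgroup.map_comap_eq_self_of_surjective (QuotientGroup.mk'_surjective O) _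
    have hrel : ¬ 2 ∣ EL.relIndex (pPrimePCore 2 L) := by
      have h1 : EL.relIndex (pPrimePCore 2 L) = E.relIndex K := by
        rw [hEL, hK, ← Subgroup.relIndex_comap]; rfl
      rw [h1, hE, Subgroup.inf_relIndex_right, Subgroup.relIndex, ← hQ]
      exact Q.not_dvd_index
    rw [← hmap, ← Subgroup.relIndex_eq_one]
    obtain ⟨m, hm⟩ := IsPGroup.iff_card.mp (hmap ▸ (PSolvable.isPGroup_pCore : IsPGroup 2 _) :
      IsPGroup 2 ((pPrimePCore 2 L).map π))
    obtain ⟨i, -, hi⟩ := (Nat.dvd_prime_pow Nat.prime_two).mp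
      (hm ▸ Subgroup.relIndex_dvd_card (EL.map π) ((pPrimePCore 2 L).map π))
    rcases Nat.eq_zero_or_pos i with rfl | hi0
    · exact hi.trans (pow_zero 2)
    · exfalso
      exact hrel ((dvd_pow_self 2 hi0.ne').trans (hi ▸ PSolvable.relIndex_map_dvd π _ _))
  set T := (St.subgroupOf L).map π with hT
  have hTn : T.Normal := by
    refine ⟨?_⟩
    rintro _ ⟨s, hs, rfl⟩ x
    obtain ⟨l, rfl⟩ := QuotientGroup.mk'_surjective O x
    have hl : (l : Γ) ∈ NE ⊔ K := hfr ▸ Subgroup.mem_top _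
    obtain ⟨n, hn, kk, hkk, hnk⟩ := Subgroup.mem_sup_of_normal_right.mp hl
    obtain ⟨k', hk', rfl⟩ := hkk
    have hk2 : π k' ∈ EL.map π := hcore hk'
    obtain ⟨e, he, hek⟩ := hk2
    have hnL : n ∈ L := by
      rw [← mul_inv_cancel_right n ((k' : L) : Γ)]
      exact mul_mem (hnk ▸ l.2) (inv_mem k'.2)
    set g : L := ⟨n, hnL⟩ * e with hg
    have hgl : π g = π l := by
      rw [hg, map_mul, hek, ← map_mul]
      exact congrArg π (Subtype.ext hnk)
    refine ⟨g * s * g⁻¹, hSt _ (mul_mem hn ?_) _ hs, ?_⟩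
    · rw [hNE]; exact Subgroup.le_normalizer he
    · rw [map_mul, map_mul, map_inv, hgl]
  have hTp : IsPGroup 2 T := by
    rintro ⟨_, s, hs, rfl⟩
    obtain ⟨a, n, hn, han⟩ := Nat.exists_eq_pow_mul_and_not_dvd (orderOf_pos s).ne' 2 (by norm_num)
    refine ⟨a, Subtype.ext ?_⟩
    change π s ^ 2 ^ a = 1
    rw [← map_pow]
    set h := s ^ 2 ^ a with hh
    have hhn : h ^ n = 1 := by rw [hh, ← pow_mul, ← han, pow_orderOf_eq_one]
    have hnodd : Odd n := Nat.odd_iff.mpr (by omega)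
    have hcentr : π h ∈ Subgroup.centralizer (pCore 2 (L ⧸ O) : Set (L ⧸ O)) := by
      rw [Subgroup.mem_centralizer_iff]
      intro x hx
      obtain ⟨e, he, rfl⟩ := hcore hx
      rw [← map_mul, ← map_mul]
      exact congrArg π (Subtype.ext (hodd _ (pow_mem hs _) n hnodd
        (congrArg Subtype.val hhn) _ he).symm)
    obtain ⟨b, hb⟩ := PSolvable.isPGroup_pCore ⟨_, hHH hcentr⟩
    exact InvolutionConj.eq_one_of_two_pow (congrArg Subtype.val hb)
      (by rw [← map_pow, hhn, map_one]) hnodd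
  exact PSolvable.le_pCore hTn hTp ⟨⟨y ^ 2, hy⟩, hy2St, rfl⟩

end Cfsg.Agent.Lib.FpfHeight.PlaneSquare
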